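import Cfsg.Agent.Lib.Spor.HeldOut.Data
import Cfsg.Agent.Lib.Spor.HeldOut.ChainZ
import Cfsg.Agent.Lib.Spor.Held.ActH.Data
import Cfsg.Agent.Lib.Spor.Held.Rels

/-!
The checks on the pair.
-/

set_option autoImplicit false
set_option maxRecDepth 100000
set_option maxHeartbeats 0

namespace CfsgLib.Spor.HeldOut

open CfsgLib.Spor.TC CfsgLib.Spor.ActCert

theorem elts_ok : dat.eltsOK CfsgLib.Spor.Held.ActH.act CfsgLib.Spor.Held.relsG levZ = true := by decide +kernel

end CfsgLib.Spor.HeldOut
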