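import Cfsg.Agent.Lib.Spor.ActCert.Search

/-!
Branches of a search.
-/

set_option autoImplicit false
set_option maxRecDepth 100000
set_option maxHeartbeats 0

namespace CfsgLib.Spor.HeldOut

open CfsgLib.Spor.TC CfsgLib.Spor.ActCert

/-- Branches. -/
def kidsXPart1 : List Branch := [
  .sub [] [.sub [] [.sub [] [.done 0]]],
  .sub [1] [.sub [1, 13, 1, 22, 28, 1, 13, 1, 1, 13, 1] [.sub [22, 28, 0, 4, 2, 3, 5, 0, 2, 4, 3, 4, 5, 4, 6, 5, 1, 2, 3, 5, 6, 2, 3, 1, 2, 3, 5, 2, 3, 2, 3, 5, 3, 2, 3, 0, 4, 2, 3, 5, 0, 2, 4, 3, 4, 5, 4, 6, 5, 1, 2, 3, 5, 6, 2, 3, 1, 2, 3, 5, 2, 3, 2, 3, 5, 3, 2, 3, 22, 28, 5, 6, 5, 1, 6, 2, 1, 0, 3, 1, 2, 3, 1, 2, 3, 1, 4, 2, 1, 3, 2, 3, 1, 2, 3, 4, 1, 2, 3, 5, 2, 0] [.out 1106]]],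
  .sub [6] [.sub [1, 13, 1, 28, 23, 1, 13, 1, 23, 23] [.sub [0, 4, 2, 3, 5, 0, 2, 4, 3, 4, 5, 4, 6, 5, 1, 2, 3, 5, 6, 2, 3, 1, 2, 3, 5, 2, 3, 2, 3, 5, 3, 2, 3, 5, 6, 5, 1, 6, 2, 1, 0, 3, 1, 2, 3, 1, 2, 3, 1, 4, 2, 1, 3, 2, 3, 1, 2, 3, 4, 1, 2, 3, 5, 2, 0, 5, 1, 0, 1, 0, 4, 2, 3, 5, 0, 2, 4, 3, 4, 5, 4, 6, 5, 1, 2, 3, 5, 6, 2, 3, 1, 2, 3, 5, 2, 3, 2, 3, 5, 3, 2, 3, 5, 1, 0, 1, 5, 6, 5, 1, 6, 2, 1, 0, 3, 1, 2, 3, 1, 2, 3, 1, 4, 2, 1, 3, 2, 3, 1, 2, 3, 4, 1, 2, 3, 5, 2, 0, 0, 4, 2, 3, 5, 0, 2, 4, 3, 4, 5, 4, 6, 5, 1, 2, 3, 5, 6, 2, 3, 1, 2, 3, 5, 2, 3, 2, 3, 5, 3, 2, 3] [.out 720]]],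
  .sub [9] [.out 831],
  .sub [10] [.out 472],
  .sub [2, 1] [.out 0],
  .sub [6, 1] [.sub [1, 13, 1, 28, 23, 28, 23] [.sub [5, 1, 0, 1, 22, 28, 0, 4, 2, 3, 5, 0, 2, 4, 3, 4, 5, 4, 6, 5, 1, 2, 3, 5, 6, 2, 3, 1, 2, 3, 5, 2, 3, 2, 3, 5, 3, 2, 3, 22, 28, 0, 4, 2, 3, 5, 0, 2, 4, 3, 4, 5, 4, 6, 5, 1, 2, 3, 5, 6, 2, 3, 1, 2, 3, 5, 2, 3, 2, 3, 5, 3, 2, 3] [.out 662]]],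
  .sub [9, 1] [.out 1724],
  .sub [10, 1] [.out 1724],
  .sub [14, 1] [.out 490],
  .sub [15, 1] [.out 1245],
  .sub [17, 1] [.out 119],
  .sub [20, 1] [.out 1807],
  .sub [21, 1] [.out 1371],
  .sub [23, 1] [.out 1326],
  .sub [25, 1] [.out 100],
  .sub [3, 6] [.out 70],
  .sub [8, 6] [.sub [23, 1, 13, 1, 28, 28, 23, 28, 23] [.sub [0, 4, 2, 3, 5, 0, 2, 4, 3, 4, 5, 4, 6, 5, 1, 2, 3, 5, 6, 2, 3, 1, 2, 3, 5, 2, 3, 2, 3, 5, 3, 2, 3, 5, 1, 0, 1, 0, 4, 2, 3, 5, 0, 2, 4, 3, 4, 5, 4, 6, 5, 1, 2, 3, 5, 6, 2, 3, 1, 2, 3, 5, 2, 3, 2, 3, 5, 3, 2, 3, 22, 28, 0, 4, 2, 3, 5, 0, 2, 4, 3, 4, 5, 4, 6, 5, 1, 2, 3, 5, 6, 2, 3, 1, 2, 3, 5, 2, 3, 2, 3, 5, 3, 2, 3, 5, 6, 5, 1, 6, 2, 1, 0, 3, 1, 2, 3, 1, 2, 3, 1, 4, 2, 1, 3, 2,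 3, 1, 2, 3, 4, 1, 2, 3, 5, 2, 0] [.out 1262]]],
  .sub [11, 6] [.sub [1, 13, 1, 28, 23, 28, 23] [.sub [] [.done 16]]],
  .sub [12, 6] [.out 1084],
  .sub [14, 6] [.out 625],
  .sub [15, 6] [.out 1791],
  .sub [20, 6] [.out 302],
  .sub [23, 6] [.out 64],
  .sub [8, 9] [.out 22],
  .sub [9, 9] [.out 182],
  .sub [11, 9] [.out 307],
  .sub [14, 9] [.out 1680],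
  .sub [15, 9] [.sub [23, 1, 13, 1, 23, 23] [.sub [0, 4, 2, 3, 5, 0, 2, 4, 3, 4, 5, 4, 6, 5, 1, 2, 3, 5, 6, 2, 3, 1, 2, 3, 5, 2, 3, 2, 3, 5, 3, 2, 3, 5, 1, 0, 1, 5, 6, 5, 1, 6, 2, 1, 0, 3, 1, 2, 3, 1, 2, 3, 1, 4, 2, 1, 3, 2, 3, 1, 2, 3, 4, 1, 2, 3, 5, 2, 0, 0, 4, 2, 3, 5, 0, 2, 4, 3, 4, 5, 4, 6, 5, 1, 2, 3, 5, 6, 2, 3, 1, 2, 3, 5, 2, 3, 2, 3, 5, 3, 2, 3, 5, 1, 0, 1] [.out 465]]],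
  .sub [16, 9] [.out 391],
  .sub [17, 9] [.out 1302],
  .sub [23, 9] [.sub [1, 13, 1, 23, 23, 23, 23] [.sub [5, 1, 0, 1, 22, 28, 0, 4, 2, 3, 5, 0, 2, 4, 3, 4, 5, 4, 6, 5, 1, 2, 3, 5, 6, 2, 3, 1, 2, 3, 5, 2, 3, 2, 3, 5, 3, 2, 3, 0, 4, 2, 3, 5, 0, 2, 4, 3, 4, 5, 4, 6, 5, 1, 2, 3, 5, 6, 2, 3, 1, 2, 3, 5, 2, 3, 2, 3, 5, 3, 2, 3] [.out 1137]]],
  .sub [25, 9] [.out 34],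
  .sub [27, 9] [.out 844],
  .sub [8, 10] [.out 930],
  .sub [9, 10] [.out 1217],
  .sub [11, 10] [.sub [28, 22, 1, 13, 1, 1, 13, 1] [.out 188]],
  .sub [14, 10] [.out 1956],
  .sub [15, 10] [.out 1494],
  .sub [16, 10] [.out 1483],
  .sub [18, 10] [.out 1033],
  .sub [27, 10] [.out 1555],
  .sub [6, 2, 1] [.out 1655],
  .sub [11, 2, 1] [.sub [23, 23, 23, 28] [.sub [0, 4, 2, 3, 5, 0, 2, 4, 3, 4, 5, 4, 6, 5, 1, 2, 3, 5, 6, 2, 3, 1, 2, 3, 5, 2, 3, 2, 3, 5, 3, 2, 3, 0, 4, 2, 3, 5, 0, 2, 4, 3, 4, 5, 4, 6, 5, 1, 2, 3, 5, 6, 2, 3, 1, 2, 3, 5, 2, 3, 2, 3, 5, 3, 2, 3, 5, 1, 0, 1, 22, 28, 0, 4, 2, 3, 5, 0, 2, 4, 3, 4, 5, 4, 6, 5, 1, 2, 3, 5, 6, 2, 3, 1, 2, 3, 5, 2, 3, 2, 3, 5, 3, 2, 3, 0, 4, 2, 3, 5, 0, 2, 4, 3, 4,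 5, 4, 6, 5, 1, 2, 3, 5, 6, 2, 3, 1, 2, 3, 5, 2, 3, 2, 3, 5, 3, 2, 3] [.out 606]]],
  .sub [14, 2, 1] [.out 1382],
  .sub [15, 2, 1] [.out 1406],
  .sub [3, 6, 1] [.out 821],
  .sub [8, 6, 1] [.out 64],
  .sub [11, 6, 1] [.out 306],
  .sub [12, 6, 1] [.out 433],
  .sub [8, 9, 1] [.out 722],
  .sub [9, 9, 1] [.out 1756],
  .sub [10, 9, 1] [.out 227],
  .sub [11, 9, 1] [.out 1224],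
  .sub [14, 9, 1] [.sub [1, 13, 1, 23, 23, 23, 23] [.sub [5, 6, 5, 1, 6, 2, 1, 0, 3, 1, 2, 3, 1, 2, 3, 1, 4, 2, 1, 3, 2, 3, 1, 2, 3, 4, 1, 2, 3, 5, 2, 0, 0, 4, 2, 3, 5, 0, 2, 4, 3, 4, 5, 4, 6, 5, 1, 2, 3, 5, 6, 2, 3, 1, 2, 3, 5, 2, 3, 2, 3, 5, 3, 2, 3, 22, 28, 5, 6, 5, 1, 6, 2, 1, 0, 3, 1, 2, 3, 1, 2, 3, 1, 4, 2, 1, 3, 2, 3, 1, 2, 3, 4, 1, 2, 3, 5, 2, 0] [.out 505]]],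
  .sub [16, 9, 1] [.out 1708],
  .sub [17, 9, 1] [.out 519],
  .sub [20, 9, 1] [.out 37],
  .sub [21, 9, 1] [.out 1148],
  .sub [23, 9, 1] [.out 1822],
  .sub [25, 9, 1] [.out 1990],
  .sub [27, 9, 1] [.out 769],
  .sub [8, 10, 1] [.out 493],
  .sub [11, 10, 1] [.out 1136],
  .sub [13, 10, 1] [.out 772],
  .sub [15, 10, 1] [.out 605],
  .sub [16, 10, 1] [.out 471],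
  .sub [18, 10, 1] [.out 1746],
  .sub [25, 10, 1] [.sub [22, 23, 1, 13, 1, 28, 28] [.sub [0, 4, 2, 3, 5, 0, 2, 4, 3, 4, 5, 4, 6, 5, 1, 2, 3, 5, 6, 2, 3, 1, 2, 3, 5, 2, 3, 2, 3, 5, 3, 2, 3, 5, 1, 0, 1, 5, 6, 5, 1, 6, 2, 1, 0, 3, 1, 2, 3, 1, 2, 3, 1, 4, 2, 1, 3, 2, 3, 1, 2, 3, 4, 1, 2, 3, 5, 2, 0] [.out 699]]],
  .sub [27, 10, 1] [.out 514],
  .sub [0, 14, 1] [.out 496],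
  .sub [3, 14, 1] [.out 773],
  .sub [8, 14, 1] [.out 810],
  .sub [9, 14, 1] [.out 296],
  .sub [10, 14, 1] [.out 1755],
  .sub [11, 14, 1] [.sub [1, 13, 1, 1, 13, 1, 23, 23] [.sub [0, 4, 2, 3, 5, 0, 2, 4, 3, 4, 5, 4, 6, 5, 1, 2, 3, 5, 6, 2, 3, 1, 2, 3, 5, 2, 3, 2, 3, 5, 3, 2, 3] [.out 852]]],
  .sub [12, 14, 1] [.out 552],
  .sub [17, 14, 1] [.sub [1, 13, 1, 23, 1, 13, 1, 23, 23, 28] [.out 729]],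
  .sub [20, 14, 1] [.out 1979],
  .sub [21, 14, 1] [.out 580],
  .sub [23, 14, 1] [.sub [1, 13, 1, 23, 28, 23] [.out 2027]],
  .sub [25, 14, 1] [.out 355],
  .sub [27, 14, 1] [.sub [1, 13, 1, 1, 13, 1, 1, 13, 1, 28, 23] [.sub [0, 4, 2, 3, 5, 0, 2, 4, 3, 4, 5, 4, 6, 5, 1, 2, 3, 5, 6, 2, 3, 1, 2, 3, 5, 2, 3, 2, 3, 5, 3, 2, 3, 0, 4, 2, 3, 5, 0, 2, 4, 3, 4, 5, 4, 6, 5, 1, 2, 3, 5, 6, 2, 3, 1, 2, 3, 5, 2, 3, 2, 3, 5, 3, 2, 3, 22, 28, 0, 4, 2, 3, 5, 0, 2, 4, 3, 4, 5, 4, 6, 5, 1, 2, 3, 5, 6, 2, 3, 1, 2, 3, 5, 2, 3, 2, 3, 5, 3, 2, 3] [.out 669]]],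
  .sub [10, 15, 1] [.out 1062],
  .sub [17, 15, 1] [.out 1246],
  .sub [20, 15, 1] [.out 744],
  .sub [21, 15, 1] [.out 1313],
  .sub [23, 15, 1] [.out 1460],
  .sub [25, 15, 1] [.out 1875],
  .sub [4, 17, 1] [.out 1677],
  .sub [5, 17, 1] [.out 1375],
  .sub [13, 17, 1] [.out 927],
  .sub [14, 17, 1] [.out 302],
  .sub [15, 17, 1] [.out 98],
  .sub [17, 17, 1] [.out 1374],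
  .sub [18, 17, 1] [.out 1536],
  .sub [20, 17, 1] [.sub [28, 1, 13, 1, 1, 13, 1, 22, 1, 13, 1] [.sub [5, 6, 5, 1, 6, 2, 1, 0, 3, 1, 2, 3, 1, 2, 3, 1, 4, 2, 1, 3, 2, 3, 1, 2, 3, 4, 1, 2, 3, 5, 2, 0, 0, 4, 2, 3, 5, 0, 2, 4, 3, 4, 5, 4, 6, 5, 1, 2, 3, 5, 6, 2, 3, 1, 2, 3, 5, 2, 3, 2, 3, 5, 3, 2, 3, 22, 28, 5, 6, 5, 1, 6, 2, 1, 0, 3, 1, 2, 3, 1, 2, 3, 1, 4, 2, 1, 3, 2, 3, 1, 2, 3, 4, 1, 2, 3, 5, 2, 0, 0, 4, 2, 3, 5, 0, 2, 4, 3, 4, 5, 4, 6, 5, 1, 2, 3, 5, 6, 2, 3, 1, 2, 3, 5, 2, 3, 2, 3, 5, 3, 2, 3, 22, 28] [.out 1609]]],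
  .sub [21, 17, 1] [.sub [28, 1, 13, 1, 22, 1, 13, 1] [.out 1085]],
  .sub [25, 17, 1] [.out 1463],
  .sub [27, 17, 1] [.out 1148],
  .sub [1, 20, 1] [.out 1952],
  .sub [9, 20, 1] [.out 615],
  .sub [10, 20, 1] [.out 1072],
  .sub [11, 20, 1] [.out 1940],
  .sub [14, 20, 1] [.sub [1, 13, 1, 23, 23, 23, 23] [.out 1158]],
  .sub [15, 20, 1] [.out 2025],
  .sub [16, 20, 1] [.out 1183],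
  .sub [18, 20, 1] [.out 766],
  .sub [23, 20, 1] [.out 2043],
  .sub [27, 20, 1] [.out 1695],
  .sub [9, 21, 1] [.out 959],
  .sub [10, 21, 1] [.out 514],
  .sub [11, 21, 1] [.out 1029],
  .sub [13, 21, 1] [.sub [22, 23, 28, 23] [.sub [5, 6, 5, 1, 6, 2, 1, 0, 3, 1, 2, 3, 1, 2, 3, 1, 4, 2, 1, 3, 2, 3, 1, 2, 3, 4, 1, 2, 3, 5, 2, 0, 0, 4, 2, 3, 5, 0, 2, 4, 3, 4, 5, 4, 6, 5, 1, 2, 3, 5, 6, 2, 3, 1, 2, 3, 5, 2, 3, 2, 3, 5, 3, 2, 3, 5, 1, 0, 1, 5, 6, 5, 1, 6, 2, 1, 0, 3, 1, 2, 3, 1, 2, 3, 1, 4, 2, 1, 3, 2, 3, 1, 2, 3, 4, 1, 2, 3, 5, 2, 0, 0, 4, 2, 3, 5, 0, 2, 4, 3, 4, 5, 4, 6, 5, 1, 2, 3, 5, 6, 2, 3, 1, 2, 3, 5, 2, 3, 2, 3, 5, 3, 2, 3] [.out 512]]],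
  .sub [14, 21, 1] [.out 1554],
  .sub [15, 21, 1] [.sub [23, 28, 23, 1, 13, 1, 1, 13, 1] [.sub [5, 6, 5, 1, 6, 2, 1, 0, 3, 1, 2, 3, 1, 2, 3, 1, 4, 2, 1, 3, 2, 3, 1, 2, 3, 4, 1, 2, 3, 5, 2, 0, 5, 1, 0, 1, 0, 4, 2, 3, 5, 0, 2, 4, 3, 4, 5, 4, 6, 5, 1, 2, 3, 5, 6, 2, 3, 1, 2, 3, 5, 2, 3, 2, 3, 5, 3, 2, 3, 22, 28] [.out 1084]]],
  .sub [27, 21, 1] [.out 1954],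
  .sub [11, 23, 1] [.out 1375],
  .sub [12, 23, 1] [.out 1654],
  .sub [14, 23, 1] [.sub [22, 1, 13, 1, 23, 23, 1, 13, 1] [.sub [5, 1, 0, 1, 0, 4, 2, 3, 5, 0, 2, 4, 3, 4, 5, 4, 6, 5, 1, 2, 3, 5, 6, 2, 3, 1, 2, 3, 5, 2, 3, 2, 3, 5, 3, 2, 3, 5, 1, 0, 1, 0, 4, 2, 3, 5, 0, 2, 4, 3, 4, 5, 4, 6, 5, 1, 2, 3, 5, 6, 2, 3, 1, 2, 3, 5, 2, 3, 2, 3, 5, 3, 2, 3, 5, 6, 5, 1, 6, 2, 1, 0, 3, 1, 2, 3, 1, 2, 3, 1, 4, 2, 1, 3, 2, 3, 1, 2, 3, 4, 1, 2, 3, 5, 2, 0] [.out 186]]],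
  .sub [15, 23, 1] [.sub [23, 1, 13, 1, 23, 23, 28] [.out 300]],
  .sub [16, 23, 1] [.out 1770],
  .sub [10, 25, 1] [.out 1454],
  .sub [11, 25, 1] [.out 2047],
  .sub [14, 25, 1] [.out 107],
  .sub [15, 25, 1] [.sub [23, 28, 23, 28] [.out 477]],
  .sub [14, 3, 6] [.out 697],
  .sub [15, 3, 6] [.out 1042],
  .sub [20, 3, 6] [.sub [23, 28, 23, 28, 23, 28] [.sub [5, 1, 0, 1, 22, 28, 0, 4, 2, 3, 5, 0, 2, 4, 3, 4, 5, 4, 6, 5, 1, 2, 3, 5, 6, 2, 3, 1, 2, 3, 5, 2, 3, 2, 3, 5, 3, 2, 3, 22, 28, 0, 4, 2, 3, 5, 0, 2, 4, 3, 4, 5, 4, 6, 5, 1, 2, 3, 5, 6, 2, 3, 1, 2, 3, 5, 2, 3, 2, 3, 5, 3, 2, 3, 5, 1, 0, 1, 22, 28] [.out 1358]]],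
  .sub [21, 3, 6] [.out 1304],
  .sub [0, 8, 6] [.out 1861],
  .sub [3, 8, 6] [.out 2033],
  .sub [9, 8, 6] [.out 1380],
  .sub [10, 8, 6] [.out 1294],
  .sub [11, 8, 6] [.sub [1, 13, 1, 22, 23, 1, 13, 1] [.out 588]],
  .sub [12, 8, 6] [.out 1988],
  .sub [13, 8, 6] [.out 518],
  .sub [14, 8, 6] [.sub [28, 22, 1, 13, 1, 28, 23] [.out 762]],
  .sub [17, 8, 6] [.out 194],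
  .sub [20, 8, 6] [.out 1278],
  .sub [23, 8, 6] [.out 614],
  .sub [25, 8, 6] [.out 1374],
  .sub [27, 8, 6] [.out 793],
  .sub [8, 11, 6] [.out 66],
  .sub [14, 11, 6] [.out 1505],
  .sub [15, 11, 6] [.out 1100],
  .sub [27, 11, 6] [.out 1673],
  .sub [8, 12, 6] [.out 1864],
  .sub [14, 12, 6] [.sub [23, 28, 23, 1, 13, 1] [.out 1232]],
  .sub [15, 12, 6] [.out 1606],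
  .sub [3, 14, 6] [.sub [1, 13, 1, 28, 1, 13, 1, 28] [.out 38]],
  .sub [9, 14, 6] [.out 1988],
  .sub [10, 14, 6] [.out 1621],
  .sub [11, 14, 6] [.out 100],
  .sub [12, 14, 6] [.out 1493],
  .sub [13, 14, 6] [.out 1648],
  .sub [20, 14, 6] [.out 629],
  .sub [21, 14, 6] [.out 1357],
  .sub [23, 14, 6] [.out 1853],
  .sub [25, 14, 6] [.out 1191],
  .sub [27, 14, 6] [.sub [1, 13, 1, 23, 23, 23, 28] [.sub [0, 4, 2, 3, 5, 0, 2, 4, 3, 4, 5, 4, 6, 5, 1, 2, 3, 5, 6, 2, 3, 1, 2, 3, 5, 2, 3, 2, 3, 5, 3, 2, 3, 5, 6, 5, 1, 6, 2, 1, 0, 3, 1, 2, 3, 1, 2, 3, 1, 4, 2, 1, 3, 2, 3, 1, 2, 3, 4, 1, 2, 3, 5, 2, 0, 5, 1, 0, 1, 0, 4, 2, 3, 5, 0, 2, 4, 3, 4, 5, 4, 6, 5, 1, 2, 3, 5, 6, 2, 3, 1, 2, 3, 5, 2, 3, 2, 3, 5, 3, 2, 3,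 5, 1, 0, 1, 5, 6, 5, 1, 6, 2, 1, 0, 3, 1, 2, 3, 1, 2, 3, 1, 4, 2, 1, 3, 2, 3, 1, 2, 3, 4, 1, 2, 3, 5, 2, 0, 0, 4, 2, 3, 5, 0, 2, 4, 3, 4, 5, 4, 6, 5, 1, 2, 3, 5, 6, 2, 3, 1, 2, 3, 5, 2, 3, 2, 3, 5, 3, 2, 3] [.done 1]]],
  .sub [10, 15, 6] [.out 1585],
  .sub [11, 15, 6] [.out 1710],
  .sub [17, 15, 6] [.out 744],
  .sub [20, 15, 6] [.out 1336],
  .sub [23, 15, 6] [.out 352],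
  .sub [25, 15, 6] [.out 2046],
  .sub [11, 20, 6] [.sub [28, 23, 1, 13, 1, 1, 13, 1, 28, 28] [.out 129]],
  .sub [14, 20, 6] [.sub [22, 23, 23, 1, 13, 1, 28] [.sub [22, 28, 5, 6, 5, 1, 6, 2, 1, 0, 3, 1, 2, 3, 1, 2, 3, 1, 4, 2, 1, 3, 2, 3, 1, 2, 3, 4, 1, 2, 3, 5, 2, 0, 0, 4, 2, 3, 5, 0, 2, 4, 3, 4, 5, 4, 6, 5, 1, 2, 3, 5, 6, 2, 3, 1, 2, 3, 5, 2, 3, 2, 3, 5, 3, 2, 3, 5, 1, 0, 1, 5, 6, 5, 1, 6, 2, 1, 0, 3, 1, 2, 3, 1, 2, 3, 1, 4, 2, 1, 3, 2, 3, 1, 2, 3, 4, 1, 2, 3, 5, 2, 0] [.out 158]]],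
  .sub [15, 20, 6] [.out 357],
  .sub [14, 23, 6] [.sub [22, 1, 13, 1, 23, 1, 13, 1, 1, 13, 1, 23] [.sub [0, 4, 2, 3, 5, 0, 2, 4, 3, 4, 5, 4, 6, 5, 1, 2, 3, 5, 6, 2, 3, 1, 2, 3, 5, 2, 3, 2, 3, 5, 3, 2, 3, 0, 4, 2, 3, 5, 0, 2, 4, 3, 4, 5, 4, 6, 5, 1, 2, 3, 5, 6, 2, 3, 1, 2, 3, 5, 2, 3, 2, 3, 5, 3, 2, 3, 5, 6, 5, 1, 6, 2, 1, 0, 3, 1, 2, 3, 1, 2, 3, 1, 4, 2, 1, 3, 2, 3, 1, 2, 3, 4, 1, 2, 3, 5, 2, 0, 5, 6, 5, 1, 6, 2, 1, 0, 3, 1, 2, 3, 1, 2, 3, 1, 4, 2, 1, 3, 2, 3, 1, 2, 3, 4, 1, 2, 3, 5, 2, 0] [.out 387]]],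
  .sub [15, 23, 6] [.sub [1, 13, 1, 28] [.sub [5, 1, 0, 1, 0, 4, 2, 3, 5, 0, 2, 4, 3, 4, 5, 4, 6, 5, 1, 2, 3, 5, 6, 2, 3, 1, 2, 3, 5, 2, 3, 2, 3, 5, 3, 2, 3, 5, 1, 0, 1, 5, 6, 5, 1, 6, 2, 1, 0, 3, 1, 2, 3, 1, 2, 3, 1, 4, 2, 1, 3, 2, 3, 1, 2, 3, 4, 1, 2, 3, 5, 2, 0, 0, 4, 2, 3, 5, 0, 2, 4, 3, 4, 5, 4, 6, 5, 1, 2, 3, 5, 6, 2, 3, 1, 2, 3, 5, 2, 3, 2, 3, 5, 3, 2, 3, 0, 4, 2, 3, 5, 0, 2, 4, 3, 4, 5, 4, 6, 5, 1, 2, 3, 5, 6, 2, 3, 1, 2, 3, 5, 2, 3, 2, 3, 5, 3, 2, 3, 22, 28] [.out 846]]],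
  .sub [0, 8, 9] [.out 1526],
  .sub [4, 8, 9] [.out 318],
  .sub [5, 8, 9] [.out 1165],
  .sub [6, 8, 9] [.out 81],
  .sub [11, 8, 9] [.out 881],
  .sub [12, 8, 9] [.out 1999],
  .sub [13, 8, 9] [.out 1774],
  .sub [14, 8, 9] [.out 2031],
  .sub [15, 8, 9] [.out 300],
  .sub [17, 8, 9] [.out 1146],
  .sub [23, 8, 9] [.sub [1, 13, 1, 23, 28, 23, 23] [.out 477]],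
  .sub [25, 8, 9] [.out 459],
  .sub [27, 8, 9] [.sub [23, 23, 23] [.sub [5, 6, 5, 1, 6, 2, 1, 0, 3, 1, 2, 3, 1, 2, 3, 1, 4, 2, 1, 3, 2, 3, 1, 2, 3, 4, 1, 2, 3, 5, 2, 0, 5, 1, 0, 1, 22, 28, 0, 4, 2, 3, 5, 0, 2, 4, 3, 4, 5, 4, 6, 5, 1, 2, 3, 5, 6, 2, 3, 1, 2, 3, 5, 2, 3, 2, 3, 5, 3, 2, 3] [.out 1745]]],
  .sub [8, 9, 9] [.out 1145],
  .sub [14, 9, 9] [.sub [1, 13, 1, 1, 13, 1, 22, 1, 13, 1] [.sub [22, 28, 0, 4, 2, 3, 5, 0, 2, 4, 3, 4, 5, 4, 6, 5, 1, 2, 3, 5, 6, 2, 3, 1, 2, 3, 5, 2, 3, 2, 3, 5, 3, 2, 3, 5, 1, 0, 1, 5, 6, 5, 1, 6, 2, 1, 0, 3, 1, 2, 3, 1, 2, 3, 1, 4, 2, 1, 3, 2, 3, 1, 2, 3, 4, 1, 2, 3, 5, 2, 0, 0, 4, 2, 3, 5, 0, 2, 4, 3, 4, 5, 4, 6, 5, 1, 2, 3, 5, 6, 2, 3, 1, 2, 3, 5, 2, 3, 2, 3, 5, 3, 2, 3] [.out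 1903]]],
  .sub [14, 11, 9] [.out 1060],
  .sub [15, 11, 9] [.out 636],
  .sub [0, 14, 9] [.out 1189],
  .sub [1, 14, 9] [.out 1717],
  .sub [3, 14, 9] [.out 534]]

/-- Branches. -/
def kidsXPart2 : List Branch := [
  .sub [4, 14, 9] [.out 2022],
  .sub [6, 14, 9] [.sub [1, 13, 1, 23, 1, 13, 1, 28, 28] [.sub [0, 4, 2, 3, 5, 0, 2, 4, 3, 4, 5, 4, 6, 5, 1, 2, 3, 5, 6, 2, 3, 1, 2, 3, 5, 2, 3, 2, 3, 5, 3, 2, 3, 5, 1, 0, 1, 5, 6, 5, 1, 6, 2, 1, 0, 3, 1, 2, 3, 1, 2, 3, 1, 4, 2, 1, 3, 2, 3, 1, 2, 3, 4, 1, 2, 3, 5, 2, 0, 0, 4, 2, 3, 5, 0, 2, 4, 3, 4, 5, 4, 6, 5, 1, 2, 3, 5, 6, 2, 3, 1, 2, 3, 5, 2, 3, 2, 3, 5, 3, 2, 3, 5, 1, 0, 1] [.done 7]]],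
  .sub [8, 14, 9] [.out 1445],
  .sub [9, 14, 9] [.out 790],
  .sub [10, 14, 9] [.out 1906],
  .sub [12, 14, 9] [.sub [22, 1, 13, 1, 23, 1, 13, 1, 1, 13, 1, 23] [.out 133]],
  .sub [13, 14, 9] [.sub [28, 1, 13, 1, 22, 23, 1, 13, 1, 28] [.out 1787]],
  .sub [14, 14, 9] [.sub [1, 13, 1, 23, 1, 13, 1, 23, 28] [.out 72]],
  .sub [16, 14, 9] [.sub [28, 23, 23, 1, 13, 1, 28, 28] [.sub [5, 1, 0, 1, 0, 4, 2, 3, 5, 0, 2, 4, 3, 4, 5, 4, 6, 5, 1, 2, 3, 5, 6, 2, 3, 1, 2, 3, 5, 2, 3, 2, 3, 5, 3, 2, 3, 5, 6, 5, 1, 6, 2, 1, 0, 3, 1, 2, 3, 1, 2, 3, 1, 4, 2, 1, 3, 2, 3, 1, 2, 3, 4, 1, 2, 3, 5, 2, 0, 5, 6, 5, 1, 6, 2, 1, 0, 3, 1, 2, 3, 1, 2, 3, 1, 4, 2, 1, 3, 2, 3, 1, 2, 3, 4, 1, 2, 3, 5, 2, 0] [.out 1060]]],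
  .sub [20, 14, 9] [.sub [1, 13, 1, 28, 1, 13, 1, 1, 13, 1, 28] [.sub [0, 4, 2, 3, 5, 0, 2, 4, 3, 4, 5, 4, 6, 5, 1, 2, 3, 5, 6, 2, 3, 1, 2, 3, 5, 2, 3, 2, 3, 5, 3, 2, 3, 0, 4, 2, 3, 5, 0, 2, 4, 3, 4, 5, 4, 6, 5, 1, 2, 3, 5, 6, 2, 3, 1, 2, 3, 5, 2, 3, 2, 3, 5, 3, 2, 3, 22, 28, 0, 4, 2, 3, 5, 0, 2, 4, 3, 4, 5, 4, 6, 5, 1, 2, 3, 5, 6, 2, 3, 1, 2, 3, 5, 2, 3, 2, 3, 5, 3, 2, 3, 22, 28, 5, 6, 5, 1, 6, 2, 1, 0, 3, 1, 2, 3, 1, 2, 3, 1, 4, 2, 1, 3, 2, 3, 1, 2, 3, 4, 1, 2, 3, 5, 2, 0] [.out 698]]],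
  .sub [21, 14, 9] [.out 1021],
  .sub [4, 15, 9] [.out 1924],
  .sub [8, 15, 9] [.out 1030],
  .sub [10, 15, 9] [.out 2045],
  .sub [13, 15, 9] [.out 1571],
  .sub [17, 15, 9] [.out 1023],
  .sub [20, 15, 9] [.out 1808],
  .sub [21, 15, 9] [.out 95],
  .sub [23, 15, 9] [.out 1601],
  .sub [25, 15, 9] [.out 929],
  .sub [27, 15, 9] [.out 1689],
  .sub [8, 16, 9] [.out 828],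
  .sub [9, 16, 9] [.out 1621],
  .sub [23, 16, 9] [.out 1863],
  .sub [8, 17, 9] [.out 118],
  .sub [10, 17, 9] [.sub [1, 13, 1, 22, 28, 23, 28, 23] [.out 1070]],
  .sub [14, 17, 9] [.out 897],
  .sub [15, 17, 9] [.out 1940],
  .sub [16, 17, 9] [.out 982],
  .sub [18, 17, 9] [.sub [1, 13, 1, 23, 1, 13, 1, 23, 23] [.out 131]],
  .sub [23, 17, 9] [.sub [1, 13, 1, 28, 28, 23, 23] [.out 735]],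
  .sub [1, 23, 9] [.sub [28, 1, 13, 1, 1, 13, 1, 23, 28] [.out 804]],
  .sub [8, 23, 9] [.out 509],
  .sub [14, 23, 9] [.out 615],
  .sub [15, 23, 9] [.out 1284],
  .sub [16, 23, 9] [.sub [1, 13, 1] [.sub [5, 1, 0, 1, 22, 28, 0, 4, 2, 3, 5, 0, 2, 4, 3, 4, 5, 4, 6, 5, 1, 2, 3, 5, 6, 2, 3, 1, 2, 3, 5, 2, 3, 2, 3, 5, 3, 2, 3, 0, 4, 2, 3, 5, 0, 2, 4, 3, 4, 5, 4, 6, 5, 1, 2, 3, 5, 6, 2, 3, 1, 2, 3, 5, 2, 3, 2, 3, 5, 3, 2, 3] [.out 1137]]],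
  .sub [27, 23, 9] [.out 1524],
  .sub [1, 25, 9] [.out 203],
  .sub [8, 25, 9] [.out 2008],
  .sub [14, 25, 9] [.out 1159],
  .sub [15, 25, 9] [.out 285],
  .sub [18, 25, 9] [.out 1313],
  .sub [27, 25, 9] [.out 1113],
  .sub [4, 27, 9] [.sub [28, 28, 23, 28, 28] [.out 314]],
  .sub [10, 27, 9] [.out 1693],
  .sub [13, 27, 9] [.sub [23, 23, 23, 23, 28] [.sub [0, 4, 2, 3, 5, 0, 2, 4, 3, 4, 5, 4, 6, 5, 1, 2, 3, 5, 6, 2, 3, 1, 2, 3, 5, 2, 3, 2, 3, 5, 3, 2, 3, 5, 6, 5, 1, 6, 2, 1, 0, 3, 1, 2, 3, 1, 2, 3, 1, 4, 2, 1, 3, 2, 3, 1, 2, 3, 4, 1, 2, 3, 5, 2, 0, 5, 6, 5, 1, 6, 2, 1, 0, 3, 1, 2, 3, 1, 2, 3, 1, 4, 2, 1, 3, 2, 3, 1, 2, 3, 4, 1, 2, 3, 5, 2, 0, 0, 4, 2, 3, 5, 0, 2, 4, 3, 4, 5, 4, 6, 5, 1, 2, 3, 5, 6, 2, 3,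 1, 2, 3, 5, 2, 3, 2, 3, 5, 3, 2, 3] [.out 864]]],
  .sub [14, 27, 9] [.out 1639],
  .sub [15, 27, 9] [.out 403],
  .sub [17, 27, 9] [.out 1749],
  .sub [23, 27, 9] [.sub [22, 1, 13, 1, 1, 13, 1, 28, 28, 23] [.sub [0, 4, 2, 3, 5, 0, 2, 4, 3, 4, 5, 4, 6, 5, 1, 2, 3, 5, 6, 2, 3, 1, 2, 3, 5, 2, 3, 2, 3, 5, 3, 2, 3, 0, 4, 2, 3, 5, 0, 2, 4, 3, 4, 5, 4, 6, 5, 1, 2, 3, 5, 6, 2, 3, 1, 2, 3, 5, 2, 3, 2, 3, 5, 3, 2, 3, 5, 1, 0, 1, 5, 6, 5, 1, 6, 2, 1, 0, 3, 1, 2, 3, 1, 2, 3, 1, 4, 2, 1, 3, 2, 3, 1, 2, 3, 4, 1, 2, 3, 5, 2, 0] [.out 1159]]],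
  .sub [25, 27, 9] [.out 2014],
  .sub [27, 27, 9] [.out 284],
  .sub [0, 8, 10] [.out 1185],
  .sub [3, 8, 10] [.sub [1, 13, 1, 23, 23, 23, 28] [.sub [0, 4, 2, 3, 5, 0, 2, 4, 3, 4, 5, 4, 6, 5, 1, 2, 3, 5, 6, 2, 3, 1, 2, 3, 5, 2, 3, 2, 3, 5, 3, 2, 3, 5, 6, 5, 1, 6, 2, 1, 0, 3, 1, 2, 3, 1, 2, 3, 1, 4, 2, 1, 3, 2, 3, 1, 2, 3, 4, 1, 2, 3, 5, 2, 0, 0, 4, 2, 3, 5, 0, 2, 4, 3, 4, 5, 4, 6, 5, 1, 2, 3, 5, 6, 2, 3, 1, 2, 3, 5, 2, 3, 2, 3, 5, 3, 2, 3, 5, 6, 5, 1, 6, 2, 1, 0, 3, 1, 2, 3, 1, 2, 3, 1, 4, 2, 1, 3, 2, 3, 1, 2, 3, 4, 1, 2, 3, 5, 2, 0, 5, 1, 0, 1, 22, 28] [.out 638]]],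
  .sub [4, 8, 10] [.out 1857],
  .sub [9, 8, 10] [.out 773],
  .sub [10, 8, 10] [.out 1024],
  .sub [11, 8, 10] [.sub [23, 28, 1, 13, 1, 1, 13, 1, 28] [.out 1027]],
  .sub [12, 8, 10] [.out 1083],
  .sub [13, 8, 10] [.out 1064],
  .sub [15, 8, 10] [.sub [23, 1, 13, 1, 23, 28, 23, 1, 13, 1] [.out 794]],
  .sub [16, 8, 10] [.out 352],
  .sub [17, 8, 10] [.sub [1, 13, 1, 22, 23, 28, 23] [.sub [5, 1, 0, 1, 0, 4, 2, 3, 5, 0, 2, 4, 3, 4, 5, 4, 6, 5, 1, 2, 3, 5, 6, 2, 3, 1, 2, 3, 5, 2, 3, 2, 3, 5, 3, 2, 3, 0, 4, 2, 3, 5, 0, 2, 4, 3, 4, 5, 4, 6, 5, 1, 2, 3, 5, 6, 2, 3, 1, 2, 3, 5, 2, 3, 2, 3, 5, 3, 2, 3, 22, 28, 5, 6, 5, 1, 6, 2, 1, 0, 3, 1, 2, 3, 1, 2, 3, 1, 4, 2, 1, 3, 2, 3, 1, 2, 3, 4, 1, 2, 3, 5, 2, 0] [.out 387]]],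
  .sub [23, 8, 10] [.out 953],
  .sub [27, 8, 10] [.out 1079],
  .sub [8, 9, 10] [.out 327],
  .sub [14, 9, 10] [.out 810],
  .sub [15, 9, 10] [.out 1165],
  .sub [18, 9, 10] [.out 835],
  .sub [8, 11, 10] [.out 1113],
  .sub [14, 11, 10] [.out 885],
  .sub [15, 11, 10] [.sub [1, 13, 1, 28, 28] [.out 429]],
  .sub [3, 14, 10] [.out 1435],
  .sub [8, 14, 10] [.out 1894],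
  .sub [9, 14, 10] [.out 1557],
  .sub [12, 14, 10] [.out 774],
  .sub [13, 14, 10] [.out 940],
  .sub [14, 14, 10] [.out 978],
  .sub [0, 15, 10] [.sub [22, 23, 1, 13, 1, 1, 13, 1, 28, 28] [.sub [0, 4, 2, 3, 5, 0, 2, 4, 3, 4, 5, 4, 6, 5, 1, 2, 3, 5, 6, 2, 3, 1, 2, 3, 5, 2, 3, 2, 3, 5, 3, 2, 3, 5, 6, 5, 1, 6, 2, 1, 0, 3, 1, 2, 3, 1, 2, 3, 1, 4, 2, 1, 3, 2, 3, 1, 2, 3, 4, 1, 2, 3, 5, 2, 0, 5, 1, 0, 1, 0, 4, 2, 3, 5, 0, 2, 4, 3, 4, 5, 4, 6, 5, 1, 2, 3, 5, 6, 2, 3, 1, 2, 3, 5, 2, 3, 2, 3, 5, 3, 2, 3, 5, 1, 0, 1, 5, 6, 5, 1, 6, 2, 1, 0, 3, 1, 2, 3, 1, 2, 3, 1, 4, 2, 1, 3, 2, 3, 1, 2, 3, 4, 1, 2, 3, 5, 2, 0, 0, 4, 2, 3, 5, 0, 2, 4, 3, 4, 5, 4, 6, 5, 1, 2, 3, 5, 6, 2, 3, 1, 2, 3, 5, 2, 3, 2, 3, 5, 3, 2, 3] [.out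 1175]]],
  .sub [1, 15, 10] [.sub [28, 1, 13, 1, 23, 1, 13, 1, 23] [.sub [0, 4, 2, 3, 5, 0, 2, 4, 3, 4, 5, 4, 6, 5, 1, 2, 3, 5, 6, 2, 3, 1, 2, 3, 5, 2, 3, 2, 3, 5, 3, 2, 3, 22, 28, 5, 1, 0, 1, 0, 4, 2, 3, 5, 0, 2, 4, 3, 4, 5, 4, 6, 5, 1, 2, 3, 5, 6, 2, 3, 1, 2, 3, 5, 2, 3, 2, 3, 5, 3, 2, 3, 5, 1, 0, 1] [.out 1346]]],
  .sub [6, 15, 10] [.out 1707],
  .sub [9, 15, 10] [.out 1773],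
  .sub [10, 15, 10] [.out 54],
  .sub [11, 15, 10] [.out 1773],
  .sub [13, 15, 10] [.out 1816],
  .sub [16, 15, 10] [.out 17],
  .sub [17, 15, 10] [.out 941],
  .sub [18, 15, 10] [.out 577],
  .sub [27, 15, 10] [.out 1730],
  .sub [11, 16, 10] [.out 1356],
  .sub [12, 16, 10] [.out 1365],
  .sub [21, 16, 10] [.sub [28, 1, 13, 1, 28] [.sub [0, 4, 2, 3, 5, 0, 2, 4, 3, 4, 5, 4, 6, 5, 1, 2, 3, 5, 6, 2, 3, 1, 2, 3, 5, 2, 3, 2, 3, 5, 3, 2, 3, 5, 1, 0, 1, 5, 6, 5, 1, 6, 2, 1, 0, 3, 1, 2, 3, 1, 2, 3, 1, 4, 2, 1, 3, 2, 3, 1, 2, 3, 4, 1, 2, 3, 5, 2, 0] [.out 540]]],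
  .sub [25, 16, 10] [.out 789],
  .sub [20, 18, 10] [.out 56],
  .sub [23, 18, 10] [.sub [23, 1, 13, 1, 28, 23, 1, 13, 1] [.sub [5, 1, 0, 1, 0, 4, 2, 3, 5, 0, 2, 4, 3, 4, 5, 4, 6, 5, 1, 2, 3, 5, 6, 2, 3, 1, 2, 3, 5, 2, 3, 2, 3, 5, 3, 2, 3, 5, 1, 0, 1, 22, 28] [.out 1875]]],
  .sub [0, 27, 10] [.out 275],
  .sub [1, 27, 10] [.out 1671],
  .sub [3, 27, 10] [.out 1159],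
  .sub [5, 27, 10] [.sub [1, 13, 1, 28, 23, 28, 1, 13, 1, 28] [.out 486]],
  .sub [6, 27, 10] [.out 1737],
  .sub [9, 27, 10] [.out 679],
  .sub [10, 27, 10] [.out 894],
  .sub [11, 27, 10] [.out 1845],
  .sub [13, 27, 10] [.out 568],
  .sub [15, 27, 10] [.sub [1, 13, 1, 1, 13, 1, 28, 28, 23, 28, 28] [.sub [5, 6, 5, 1, 6, 2, 1, 0, 3, 1, 2, 3, 1, 2, 3, 1, 4, 2, 1, 3, 2, 3, 1, 2, 3, 4, 1, 2, 3, 5, 2, 0, 0, 4, 2, 3, 5, 0, 2, 4, 3, 4, 5, 4, 6, 5, 1, 2, 3, 5, 6, 2, 3, 1, 2, 3, 5, 2, 3, 2, 3, 5, 3, 2, 3, 0, 4, 2, 3, 5, 0, 2, 4, 3, 4, 5, 4, 6, 5, 1, 2, 3, 5, 6, 2, 3, 1, 2, 3, 5, 2, 3, 2, 3, 5, 3, 2, 3, 5, 1, 0, 1, 5, 6, 5, 1, 6, 2, 1, 0, 3, 1, 2, 3, 1, 2, 3, 1, 4, 2, 1, 3, 2, 3, 1, 2, 3, 4, 1, 2, 3, 5, 2, 0, 0, 4,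 2, 3, 5, 0, 2, 4, 3, 4, 5, 4, 6, 5, 1, 2, 3, 5, 6, 2, 3, 1, 2, 3, 5, 2, 3, 2, 3, 5, 3, 2, 3] [.out 1935]]],
  .sub [16, 27, 10] [.out 1641],
  .sub [27, 27, 10] [.out 225],
  .sub [8, 6, 2, 1] [.sub [28, 1, 13, 1, 28, 1, 13, 1, 1, 13, 1, 28] [.sub [0, 4, 2, 3, 5, 0, 2, 4, 3, 4, 5, 4, 6, 5, 1, 2, 3, 5, 6, 2, 3, 1, 2, 3, 5, 2, 3, 2, 3, 5, 3, 2, 3, 22, 28, 0, 4, 2, 3, 5, 0, 2, 4, 3, 4, 5, 4, 6, 5, 1, 2, 3, 5, 6, 2, 3, 1, 2, 3, 5, 2, 3, 2, 3, 5, 3, 2, 3, 5, 6, 5, 1, 6, 2, 1, 0, 3, 1, 2, 3, 1, 2, 3, 1, 4, 2, 1, 3, 2, 3, 1, 2, 3, 4, 1, 2, 3, 5, 2, 0, 0, 4, 2, 3, 5, 0, 2, 4, 3, 4, 5, 4, 6, 5, 1, 2, 3, 5, 6, 2, 3, 1, 2, 3, 5, 2, 3, 2, 3, 5, 3, 2, 3] [.out 1084]]],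
  .sub [23, 6, 2, 1] [.out 512],
  .sub [8, 11, 2, 1] [.sub [22, 23, 28, 1, 13, 1, 1, 13, 1, 28, 28] [.sub [5, 1, 0, 1, 0, 4, 2, 3, 5, 0, 2, 4, 3, 4, 5, 4, 6, 5, 1, 2, 3, 5, 6, 2, 3, 1, 2, 3, 5, 2, 3, 2, 3, 5, 3, 2, 3, 0, 4, 2, 3, 5, 0, 2, 4, 3, 4, 5, 4, 6, 5, 1, 2, 3, 5, 6, 2, 3, 1, 2, 3, 5, 2, 3, 2, 3, 5, 3, 2, 3] [.bad [0, 5, 2, 4, 1, 0, 3, 4, 3, 0, 2, 3, 4, 6, 2, 6, 3, 2, 3, 0, 1, 2, 3, 2, 3, 1, 2, 3, 5, 2, 1] 1]]],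
  .sub [14, 11, 2, 1] [.out 894],
  .sub [15, 11, 2, 1] [.sub [1, 13, 1, 23, 23, 28, 28] [.out 872]],
  .sub [20, 11, 2, 1] [.out 1591],
  .sub [3, 14, 2, 1] [.out 1687],
  .sub [8, 14, 2, 1] [.out 979],
  .sub [9, 14, 2, 1] [.out 1867],
  .sub [11, 14, 2, 1] [.out 151],
  .sub [13, 14, 2, 1] [.out 1314],
  .sub [20, 14, 2, 1] [.out 1101],
  .sub [27, 14, 2, 1] [.out 207],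
  .sub [10, 15, 2, 1] [.out 1245],
  .sub [11, 15, 2, 1] [.out 542],
  .sub [20, 3, 6, 1] [.out 442],
  .sub [3, 8, 6, 1] [.out 763],
  .sub [9, 8, 6, 1] [.out 693],
  .sub [10, 8, 6, 1] [.sub [22, 23, 23, 1, 13, 1, 23] [.out 1721]],
  .sub [11, 8, 6, 1] [.out 1506],
  .sub [12, 8, 6, 1] [.out 1507],
  .sub [13, 8, 6, 1] [.sub [23, 23] [.out 1121]],
  .sub [14, 8, 6, 1] [.out 1865],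
  .sub [15, 8, 6, 1] [.sub [1, 13, 1, 28, 28, 23, 28, 23] [.sub [0, 4, 2, 3, 5, 0, 2, 4, 3, 4, 5, 4, 6, 5, 1, 2, 3, 5, 6, 2, 3, 1, 2, 3, 5, 2, 3, 2, 3, 5, 3, 2, 3, 5, 6, 5, 1, 6, 2, 1, 0, 3, 1, 2, 3, 1, 2, 3, 1, 4, 2, 1, 3, 2, 3, 1, 2, 3, 4, 1, 2, 3, 5, 2, 0, 0, 4, 2, 3, 5, 0, 2, 4, 3, 4, 5, 4, 6, 5, 1, 2, 3, 5, 6, 2, 3, 1, 2, 3, 5, 2, 3, 2, 3, 5, 3, 2, 3, 5, 6, 5, 1, 6, 2, 1, 0, 3, 1, 2, 3, 1, 2, 3, 1, 4, 2, 1, 3, 2, 3, 1, 2, 3, 4, 1, 2, 3, 5, 2, 0, 0, 4, 2, 3, 5, 0, 2, 4, 3, 4, 5, 4, 6, 5, 1, 2, 3, 5, 6, 2, 3, 1, 2, 3, 5, 2, 3, 2, 3, 5, 3, 2, 3, 5, 1, 0, 1, 22, 28] [.out 492]]],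
  .sub [23, 8, 6, 1] [.sub [28, 1, 13, 1, 23, 28, 28, 23] [.out 182]],
  .sub [25, 8, 6, 1] [.out 1130],
  .sub [8, 11, 6, 1] [.out 1276],
  .sub [25, 11, 6, 1] [.out 1729],
  .sub [27, 11, 6, 1] [.out 31],
  .sub [8, 12, 6, 1] [.sub [28, 23, 28, 1, 13, 1, 1, 13, 1, 28] [.sub [0, 4, 2, 3, 5, 0, 2, 4, 3, 4, 5, 4, 6, 5, 1, 2, 3, 5, 6, 2, 3, 1, 2, 3, 5, 2, 3, 2, 3, 5, 3, 2, 3, 5, 6, 5, 1, 6, 2, 1, 0, 3, 1, 2, 3, 1, 2, 3, 1, 4, 2, 1, 3, 2, 3, 1, 2, 3, 4, 1, 2, 3, 5, 2, 0, 0, 4, 2, 3, 5, 0, 2, 4, 3, 4, 5, 4, 6, 5, 1, 2, 3, 5, 6, 2, 3, 1, 2, 3, 5, 2, 3, 2, 3, 5, 3, 2, 3] [.out 1262]]],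
  .sub [9, 12, 6, 1] [.out 70],
  .sub [10, 12, 6, 1] [.out 811],
  .sub [18, 12, 6, 1] [.out 836],
  .sub [27, 12, 6, 1] [.out 298],
  .sub [0, 8, 9, 1] [.out 1782],
  .sub [4, 8, 9, 1] [.out 1474],
  .sub [5, 8, 9, 1] [.out 158],
  .sub [11, 8, 9, 1] [.out 1534],
  .sub [12, 8, 9, 1] [.out 1183],
  .sub [13, 8, 9, 1] [.out 1605],
  .sub [14, 8, 9, 1] [.out 1595],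
  .sub [15, 8, 9, 1] [.out 1672],
  .sub [17, 8, 9, 1] [.out 1428],
  .sub [20, 8, 9, 1] [.out 1186],
  .sub [21, 8, 9, 1] [.out 757],
  .sub [23, 8, 9, 1] [.out 1014],
  .sub [25, 8, 9, 1] [.out 1161],
  .sub [27, 8, 9, 1] [.out 1648],
  .sub [8, 9, 9, 1] [.out 1144],
  .sub [17, 9, 9, 1] [.out 1826],
  .sub [20, 9, 9, 1] [.out 1900],
  .sub [21, 9, 9, 1] [.out 1282],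
  .sub [20, 11, 9, 1] [.out 1453],
  .sub [23, 11, 9, 1] [.out 612],
  .sub [25, 11, 9, 1] [.out 2012],
  .sub [8, 14, 9, 1] [.sub [22, 1, 13, 1, 23, 1, 13, 1, 1, 13, 1, 23] [.out 525]],
  .sub [9, 14, 9, 1] [.sub [22, 1, 13, 1, 23, 23, 1, 13, 1] [.out 1119]],
  .sub [10, 14, 9, 1] [.out 918],
  .sub [17, 14, 9, 1] [.out 1445],
  .sub [20, 14, 9, 1] [.sub [22, 1, 13, 1, 23, 23] [.out 703]],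
  .sub [21, 14, 9, 1] [.sub [22, 1, 13, 1, 23, 23] [.sub [0, 4, 2, 3, 5, 0, 2, 4, 3, 4, 5, 4, 6, 5, 1, 2, 3, 5, 6, 2, 3, 1, 2, 3, 5, 2, 3, 2, 3, 5, 3, 2, 3, 0, 4, 2, 3, 5, 0, 2, 4, 3, 4, 5, 4, 6, 5, 1, 2, 3, 5, 6, 2, 3, 1, 2, 3, 5, 2, 3, 2, 3, 5, 3, 2, 3, 5, 1, 0, 1, 5, 6, 5, 1, 6, 2, 1, 0, 3, 1, 2, 3, 1, 2, 3, 1, 4, 2, 1, 3, 2, 3, 1, 2, 3, 4, 1, 2, 3, 5, 2, 0, 0, 4, 2, 3, 5, 0, 2, 4, 3, 4, 5, 4, 6, 5, 1, 2, 3, 5, 6, 2, 3, 1, 2, 3, 5, 2, 3, 2, 3, 5, 3, 2, 3, 22, 28] [.out 73]]],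
  .sub [23, 14, 9, 1] [.out 1072],
  .sub [25, 14, 9, 1] [.sub [1, 13, 1, 28, 23, 1, 13, 1] [.sub [22, 28, 5, 6, 5, 1, 6, 2, 1, 0, 3, 1, 2, 3, 1, 2, 3, 1, 4, 2, 1, 3, 2, 3, 1, 2, 3, 4, 1, 2, 3, 5, 2, 0, 0, 4, 2, 3, 5, 0, 2, 4, 3, 4, 5, 4, 6, 5, 1, 2, 3, 5, 6, 2, 3, 1, 2, 3, 5, 2, 3, 2, 3, 5, 3, 2, 3, 22, 28] [.out 495]]],
  .sub [27, 14, 9, 1] [.sub [28, 22, 23, 23, 1, 13, 1] [.sub [22, 28, 0, 4, 2, 3, 5, 0, 2, 4, 3, 4, 5, 4, 6, 5, 1, 2, 3, 5, 6, 2, 3, 1, 2, 3, 5, 2, 3, 2, 3, 5, 3, 2, 3, 5, 1, 0, 1, 0, 4, 2, 3, 5, 0, 2, 4, 3, 4, 5, 4, 6, 5, 1, 2, 3, 5, 6, 2, 3, 1, 2, 3, 5, 2, 3, 2, 3, 5, 3, 2, 3, 0, 4, 2, 3, 5, 0, 2, 4, 3, 4, 5, 4, 6, 5, 1, 2, 3, 5, 6, 2, 3, 1, 2, 3, 5, 2, 3, 2, 3, 5, 3, 2, 3] [.out 78]]],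
  .sub [23, 16, 9, 1] [.out 1923],
  .sub [27, 16, 9, 1] [.out 1382],
  .sub [6, 17, 9, 1] [.out 323],
  .sub [8, 17, 9, 1] [.out 564],
  .sub [9, 17, 9, 1] [.out 580],
  .sub [10, 17, 9, 1] [.out 946],
  .sub [13, 17, 9, 1] [.sub [23, 28, 23, 1, 13, 1, 1, 13, 1] [.sub [5, 1, 0, 1, 0, 4, 2, 3, 5, 0, 2, 4, 3, 4, 5, 4, 6, 5, 1, 2, 3, 5, 6, 2, 3, 1, 2, 3, 5, 2, 3, 2, 3, 5, 3, 2, 3, 5, 1, 0, 1, 22, 28] [.out 1903]]],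
  .sub [15, 17, 9, 1] [.out 1369],
  .sub [16, 17, 9, 1] [.out 1458],
  .sub [18, 17, 9, 1] [.out 2034],
  .sub [25, 17, 9, 1] [.out 1800],
  .sub [27, 17, 9, 1] [.out 1710],
  .sub [14, 20, 9, 1] [.out 1615],
  .sub [15, 20, 9, 1] [.out 175],
  .sub [16, 20, 9, 1] [.out 325],
  .sub [17, 20, 9, 1] [.sub [22, 1, 13, 1, 28, 22, 1, 13, 1] [.sub [5, 6, 5, 1, 6, 2, 1, 0, 3, 1, 2, 3, 1, 2, 3, 1, 4, 2, 1, 3, 2, 3, 1, 2, 3, 4, 1, 2, 3, 5, 2, 0, 0, 4, 2, 3, 5, 0, 2, 4, 3, 4, 5, 4, 6, 5, 1, 2, 3, 5, 6, 2, 3, 1, 2, 3, 5, 2, 3, 2, 3, 5, 3, 2, 3, 5, 1, 0, 1, 5, 6, 5, 1, 6, 2, 1, 0, 3, 1, 2, 3, 1, 2, 3, 1, 4, 2, 1, 3, 2, 3, 1, 2, 3, 4, 1, 2, 3, 5, 2, 0] [.out 186]]],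
  .sub [18, 20, 9, 1] [.out 483],
  .sub [23, 20, 9, 1] [.out 492],
  .sub [27, 20, 9, 1] [.out 2029],
  .sub [11, 21, 9, 1] [.out 699],
  .sub [14, 21, 9, 1] [.sub [28, 1, 13, 1, 23, 1, 13, 1, 1, 13, 1] [.sub [5, 6, 5, 1, 6, 2, 1, 0, 3, 1, 2, 3, 1, 2, 3, 1, 4, 2, 1, 3, 2, 3, 1, 2, 3, 4, 1, 2, 3, 5, 2, 0, 0, 4, 2, 3, 5, 0, 2, 4, 3, 4, 5, 4, 6, 5, 1, 2, 3, 5, 6, 2, 3, 1, 2, 3, 5, 2, 3, 2, 3, 5, 3, 2, 3, 22, 28, 0, 4, 2, 3, 5, 0, 2, 4, 3, 4, 5, 4, 6, 5, 1, 2, 3, 5, 6, 2, 3, 1, 2, 3, 5, 2, 3, 2, 3, 5, 3, 2, 3, 5, 1, 0, 1, 22, 28] [.out 968]]]]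

/-- Branches. -/
def kidsXPart3 : List Branch := [
  .sub [15, 21, 9, 1] [.out 1436],
  .sub [16, 21, 9, 1] [.out 1407],
  .sub [25, 21, 9, 1] [.out 1426],
  .sub [27, 21, 9, 1] [.out 2055],
  .sub [1, 23, 9, 1] [.out 1902],
  .sub [6, 23, 9, 1] [.out 2002],
  .sub [9, 23, 9, 1] [.out 1445],
  .sub [10, 23, 9, 1] [.out 781],
  .sub [14, 23, 9, 1] [.out 1598],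
  .sub [16, 23, 9, 1] [.sub [28, 1, 13, 1, 23, 1, 13, 1, 23] [.sub [0, 4, 2, 3, 5, 0, 2, 4, 3, 4, 5, 4, 6, 5, 1, 2, 3, 5, 6, 2, 3, 1, 2, 3, 5, 2, 3, 2, 3, 5, 3, 2, 3, 5, 1, 0, 1, 5, 6, 5, 1, 6, 2, 1, 0, 3, 1, 2, 3, 1, 2, 3, 1, 4, 2, 1, 3, 2, 3, 1, 2, 3, 4, 1, 2, 3, 5, 2, 0, 0, 4, 2, 3, 5, 0, 2, 4, 3, 4, 5, 4, 6, 5, 1, 2, 3, 5, 6, 2, 3, 1, 2, 3, 5, 2, 3, 2, 3, 5, 3, 2, 3] [.out 555]]],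
  .sub [6, 25, 9, 1] [.out 3],
  .sub [8, 25, 9, 1] [.out 357],
  .sub [10, 25, 9, 1] [.out 365],
  .sub [11, 25, 9, 1] [.out 1447],
  .sub [14, 25, 9, 1] [.out 628],
  .sub [18, 25, 9, 1] [.out 1684],
  .sub [27, 25, 9, 1] [.out 940],
  .sub [4, 27, 9, 1] [.out 34],
  .sub [10, 27, 9, 1] [.out 1158],
  .sub [13, 27, 9, 1] [.out 309],
  .sub [14, 27, 9, 1] [.out 290],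
  .sub [15, 27, 9, 1] [.out 1936],
  .sub [17, 27, 9, 1] [.out 111],
  .sub [23, 27, 9, 1] [.out 666],
  .sub [25, 27, 9, 1] [.sub [28, 23, 1, 13, 1, 23] [.out 2046]],
  .sub [27, 27, 9, 1] [.out 1993],
  .sub [0, 8, 10, 1] [.out 491],
  .sub [3, 8, 10, 1] [.out 563],
  .sub [4, 8, 10, 1] [.out 300],
  .sub [9, 8, 10, 1] [.out 1351],
  .sub [11, 8, 10, 1] [.out 1876],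
  .sub [12, 8, 10, 1] [.out 909],
  .sub [13, 8, 10, 1] [.out 364],
  .sub [14, 8, 10, 1] [.out 801],
  .sub [16, 8, 10, 1] [.sub [1, 13, 1, 22, 1, 13, 1, 1, 13, 1, 23] [.out 15]],
  .sub [17, 8, 10, 1] [.out 1659],
  .sub [23, 8, 10, 1] [.sub [22, 28, 23, 28, 23] [.sub [0, 4, 2, 3, 5, 0, 2, 4, 3, 4, 5, 4, 6, 5, 1, 2, 3, 5, 6, 2, 3, 1, 2, 3, 5, 2, 3, 2, 3, 5, 3, 2, 3, 5, 1, 0, 1, 0, 4, 2, 3, 5, 0, 2, 4, 3, 4, 5, 4, 6, 5, 1, 2, 3, 5, 6, 2, 3, 1, 2, 3, 5, 2, 3, 2, 3, 5, 3, 2, 3, 5, 1, 0, 1, 22, 28] [.out 739]]],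
  .sub [27, 8, 10, 1] [.out 1788],
  .sub [8, 11, 10, 1] [.out 915],
  .sub [9, 11, 10, 1] [.out 382],
  .sub [14, 11, 10, 1] [.out 1967],
  .sub [20, 11, 10, 1] [.out 291],
  .sub [27, 11, 10, 1] [.out 1897],
  .sub [8, 13, 10, 1] [.out 66],
  .sub [14, 13, 10, 1] [.out 1614],
  .sub [15, 13, 10, 1] [.sub [28, 28, 23, 23] [.sub [5, 6, 5, 1, 6, 2, 1, 0, 3, 1, 2, 3, 1, 2, 3, 1, 4, 2, 1, 3, 2, 3, 1, 2, 3, 4, 1, 2, 3, 5, 2, 0, 0, 4, 2, 3, 5, 0, 2, 4, 3, 4, 5, 4, 6, 5, 1, 2, 3, 5, 6, 2, 3, 1, 2, 3, 5, 2, 3, 2, 3, 5, 3, 2, 3, 0, 4, 2, 3, 5, 0, 2, 4, 3, 4, 5, 4, 6, 5, 1, 2, 3, 5, 6, 2, 3, 1, 2, 3, 5, 2, 3, 2, 3, 5, 3, 2, 3, 5, 1, 0, 1, 5, 6, 5, 1, 6, 2, 1, 0, 3, 1, 2, 3, 1, 2, 3, 1, 4, 2, 1, 3, 2, 3, 1, 2, 3, 4,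 1, 2, 3, 5, 2, 0] [.out 2006]]],
  .sub [16, 13, 10, 1] [.out 613],
  .sub [20, 13, 10, 1] [.out 1800],
  .sub [27, 13, 10, 1] [.sub [28, 23, 1, 13, 1, 1, 13, 1, 28, 28] [.out 659]],
  .sub [1, 15, 10, 1] [.out 463],
  .sub [3, 15, 10, 1] [.out 1104],
  .sub [8, 15, 10, 1] [.out 1714],
  .sub [9, 15, 10, 1] [.out 1548],
  .sub [10, 15, 10, 1] [.out 117],
  .sub [11, 15, 10, 1] [.out 1512],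
  .sub [13, 15, 10, 1] [.out 1358],
  .sub [16, 15, 10, 1] [.sub [28, 23, 1, 13, 1, 1, 13, 1, 28, 28] [.sub [0, 4, 2, 3, 5, 0, 2, 4, 3, 4, 5, 4, 6, 5, 1, 2, 3, 5, 6, 2, 3, 1, 2, 3, 5, 2, 3, 2, 3, 5, 3, 2, 3, 5, 6, 5, 1, 6, 2, 1, 0, 3, 1, 2, 3, 1, 2, 3, 1, 4, 2, 1, 3, 2, 3, 1, 2, 3, 4, 1, 2, 3, 5, 2, 0, 0, 4, 2, 3, 5, 0, 2, 4, 3, 4, 5, 4, 6, 5, 1, 2, 3, 5, 6, 2, 3, 1, 2, 3, 5, 2, 3, 2, 3, 5, 3, 2, 3, 5, 6, 5, 1, 6, 2, 1, 0, 3, 1, 2, 3, 1, 2, 3, 1, 4, 2, 1, 3, 2, 3, 1, 2, 3, 4, 1, 2, 3, 5, 2, 0, 5, 1, 0, 1, 22, 28] [.out 511]]],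
  .sub [27, 15, 10, 1] [.out 1278],
  .sub [11, 16, 10, 1] [.sub [22, 23, 28, 1, 13, 1, 1, 13, 1, 28, 28] [.out 695]],
  .sub [21, 16, 10, 1] [.out 508],
  .sub [25, 16, 10, 1] [.out 1416],
  .sub [14, 18, 10, 1] [.out 1038],
  .sub [20, 18, 10, 1] [.out 1928],
  .sub [23, 18, 10, 1] [.sub [1, 13, 1, 28, 22, 1, 13, 1, 28, 23] [.out 333]],
  .sub [8, 25, 10, 1] [.out 446],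
  .sub [9, 25, 10, 1] [.sub [28, 23, 23, 1, 13, 1, 23, 1, 13, 1, 28] [.out 1429]],
  .sub [0, 27, 10, 1] [.out 1225],
  .sub [1, 27, 10, 1] [.out 62],
  .sub [3, 27, 10, 1] [.out 152],
  .sub [4, 27, 10, 1] [.sub [28, 1, 13, 1, 28, 23, 28, 23] [.sub [22, 28, 0, 4, 2, 3, 5, 0, 2, 4, 3, 4, 5, 4, 6, 5, 1, 2, 3, 5, 6, 2, 3, 1, 2, 3, 5, 2, 3, 2, 3, 5, 3, 2, 3, 0, 4, 2, 3, 5, 0, 2, 4, 3, 4, 5, 4, 6, 5, 1, 2, 3, 5, 6, 2, 3, 1, 2, 3, 5, 2, 3, 2, 3, 5, 3, 2, 3, 5, 1, 0, 1, 5, 6, 5, 1, 6, 2, 1, 0, 3, 1, 2, 3, 1, 2, 3, 1, 4, 2, 1, 3, 2, 3, 1, 2, 3, 4, 1, 2, 3, 5, 2, 0, 0, 4, 2, 3, 5, 0, 2, 4, 3, 4, 5, 4, 6, 5, 1, 2, 3, 5, 6, 2, 3, 1, 2, 3, 5, 2, 3, 2, 3, 5, 3, 2, 3, 22, 28] [.bad [5, 1, 5, 2, 4, 3, 4, 0, 6, 2, 1, 6,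 4, 3, 2, 3, 4, 2, 3, 1, 2, 3, 4, 2, 0, 1] 1]]],
  .sub [5, 27, 10, 1] [.out 432],
  .sub [11, 27, 10, 1] [.out 900],
  .sub [12, 27, 10, 1] [.out 1315],
  .sub [13, 27, 10, 1] [.sub [22, 28, 23, 1, 13, 1, 28] [.sub [0, 4, 2, 3, 5, 0, 2, 4, 3, 4, 5, 4, 6, 5, 1, 2, 3, 5, 6, 2, 3, 1, 2, 3, 5, 2, 3, 2, 3, 5, 3, 2, 3, 0, 4, 2, 3, 5, 0, 2, 4, 3, 4, 5, 4, 6, 5, 1, 2, 3, 5, 6, 2, 3, 1, 2, 3, 5, 2, 3, 2, 3, 5, 3, 2, 3] [.out 846]]],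
  .sub [14, 27, 10, 1] [.out 1611],
  .sub [15, 27, 10, 1] [.out 596],
  .sub [16, 27, 10, 1] [.out 201],
  .sub [18, 27, 10, 1] [.out 578],
  .sub [25, 27, 10, 1] [.sub [23, 1, 13, 1, 23, 28, 23, 1, 13, 1] [.sub [0, 4, 2, 3, 5, 0, 2, 4, 3, 4, 5, 4, 6, 5, 1, 2, 3, 5, 6, 2, 3, 1, 2, 3, 5, 2, 3, 2, 3, 5, 3, 2, 3, 0, 4, 2, 3, 5, 0, 2, 4, 3, 4, 5, 4, 6, 5, 1, 2, 3, 5, 6, 2, 3, 1, 2, 3, 5, 2, 3, 2, 3, 5, 3, 2, 3, 5, 6, 5, 1, 6, 2, 1, 0, 3, 1, 2, 3, 1, 2, 3, 1, 4, 2, 1, 3, 2, 3, 1, 2, 3, 4, 1, 2, 3, 5, 2, 0, 0, 4, 2, 3, 5, 0, 2, 4, 3, 4, 5, 4, 6, 5, 1, 2, 3, 5, 6, 2, 3, 1, 2, 3, 5, 2, 3, 2, 3, 5, 3, 2, 3, 5, 1, 0, 1, 22, 28] [.out 1818]]],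
  .sub [27, 27, 10, 1] [.sub [28, 1, 13, 1, 1, 13, 1, 23] [.sub [5, 1, 0, 1, 22, 28, 0, 4, 2, 3, 5, 0, 2, 4, 3, 4, 5, 4, 6, 5, 1, 2, 3, 5, 6, 2, 3, 1, 2, 3, 5, 2, 3, 2, 3, 5, 3, 2, 3, 5, 1, 0, 1, 0, 4, 2, 3, 5, 0, 2, 4, 3, 4, 5, 4, 6, 5, 1, 2, 3, 5, 6, 2, 3, 1, 2, 3, 5, 2, 3, 2, 3, 5, 3, 2, 3, 5, 6, 5, 1, 6, 2, 1, 0, 3, 1, 2, 3, 1, 2, 3, 1, 4, 2, 1, 3, 2, 3, 1, 2, 3, 4, 1, 2, 3, 5, 2, 0, 5, 6, 5, 1, 6, 2, 1, 0, 3, 1, 2, 3, 1, 2, 3, 1, 4, 2, 1, 3, 2, 3, 1, 2, 3, 4, 1, 2, 3, 5, 2, 0] [.out 698]]],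
  .sub [20, 0, 14, 1] [.out 1953],
  .sub [6, 3, 14, 1] [.out 1238],
  .sub [8, 3, 14, 1] [.sub [28, 28, 23, 23] [.out 198]],
  .sub [10, 3, 14, 1] [.out 1204],
  .sub [20, 3, 14, 1] [.sub [1, 13, 1, 1, 13, 1, 1, 13, 1, 23] [.out 1665]],
  .sub [21, 3, 14, 1] [.sub [28, 28, 1, 13, 1, 28, 23] [.out 312]],
  .sub [23, 3, 14, 1] [.sub [28, 22, 1, 13, 1, 28, 1, 13, 1, 28] [.sub [22, 28, 0, 4, 2, 3, 5, 0, 2, 4, 3, 4, 5, 4, 6, 5, 1, 2, 3, 5, 6, 2, 3, 1, 2, 3, 5, 2, 3, 2, 3, 5, 3, 2, 3, 0, 4, 2, 3, 5, 0, 2, 4, 3, 4, 5, 4, 6, 5, 1, 2, 3, 5, 6, 2, 3, 1, 2, 3, 5, 2, 3, 2, 3, 5, 3, 2, 3] [.out 638]]],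
  .sub [25, 3, 14, 1] [.out 502],
  .sub [27, 3, 14, 1] [.sub [1, 13, 1, 1, 13, 1, 28, 28, 23] [.sub [5, 1, 0, 1, 0, 4, 2, 3, 5, 0, 2, 4, 3, 4, 5, 4, 6, 5, 1, 2, 3, 5, 6, 2, 3, 1, 2, 3, 5, 2, 3, 2, 3, 5, 3, 2, 3, 5, 1, 0, 1, 5, 6, 5, 1, 6, 2, 1, 0, 3, 1, 2, 3, 1, 2, 3, 1, 4, 2, 1, 3, 2, 3, 1, 2, 3, 4, 1, 2, 3, 5, 2, 0, 0, 4, 2, 3, 5, 0, 2, 4, 3, 4, 5, 4, 6, 5, 1, 2, 3, 5, 6, 2, 3, 1, 2, 3, 5, 2, 3, 2, 3, 5, 3, 2, 3, 0, 4, 2, 3, 5, 0, 2, 4, 3, 4, 5, 4, 6, 5, 1, 2, 3, 5, 6, 2, 3, 1, 2, 3, 5, 2, 3, 2, 3, 5, 3, 2, 3, 22, 28] [.out 638]]],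
  .sub [0, 8, 14, 1] [.out 477],
  .sub [3, 8, 14, 1] [.out 837],
  .sub [8, 8, 14, 1] [.out 1389],
  .sub [9, 8, 14, 1] [.sub [1, 13, 1, 1, 13, 1, 28] [.out 338]],
  .sub [10, 8, 14, 1] [.out 840],
  .sub [11, 8, 14, 1] [.out 844],
  .sub [12, 8, 14, 1] [.out 924],
  .sub [14, 8, 14, 1] [.out 1372],
  .sub [17, 8, 14, 1] [.out 627],
  .sub [20, 8, 14, 1] [.out 1559],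
  .sub [21, 8, 14, 1] [.sub [1, 13, 1, 23, 23, 1, 13, 1] [.out 1200]],
  .sub [23, 8, 14, 1] [.out 1381],
  .sub [25, 8, 14, 1] [.out 1044],
  .sub [27, 8, 14, 1] [.out 2006],
  .sub [6, 9, 14, 1] [.out 1981],
  .sub [10, 9, 14, 1] [.out 1432],
  .sub [17, 9, 14, 1] [.out 1433],
  .sub [20, 9, 14, 1] [.out 80],
  .sub [21, 9, 14, 1] [.out 502],
  .sub [23, 9, 14, 1] [.out 126],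
  .sub [25, 9, 14, 1] [.sub [28, 1, 13, 1, 28, 23] [.out 1722]],
  .sub [9, 10, 14, 1] [.out 193],
  .sub [11, 10, 14, 1] [.out 1732],
  .sub [9, 11, 14, 1] [.sub [28, 1, 13, 1, 23, 1, 13, 1, 23] [.out 1292]],
  .sub [10, 11, 14, 1] [.out 174],
  .sub [20, 11, 14, 1] [.sub [1, 13, 1, 23, 28, 28, 23] [.out 1787]],
  .sub [21, 11, 14, 1] [.sub [1, 13, 1, 28, 23, 28, 23, 28] [.sub [5, 6, 5, 1, 6, 2, 1, 0, 3, 1, 2, 3, 1, 2, 3, 1, 4, 2, 1, 3, 2, 3, 1, 2, 3, 4, 1, 2, 3, 5, 2, 0, 5, 1, 0, 1, 0, 4, 2, 3, 5, 0, 2, 4, 3, 4, 5, 4, 6, 5, 1, 2, 3, 5, 6, 2, 3, 1, 2, 3, 5, 2, 3, 2, 3, 5, 3, 2, 3, 22, 28, 0, 4, 2, 3, 5, 0, 2, 4, 3, 4, 5, 4, 6, 5, 1, 2, 3, 5, 6, 2, 3, 1, 2, 3, 5, 2, 3, 2, 3, 5, 3, 2, 3, 5, 6, 5, 1, 6, 2, 1,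 0, 3, 1, 2, 3, 1, 2, 3, 1, 4, 2, 1, 3, 2, 3, 1, 2, 3, 4, 1, 2, 3, 5, 2, 0] [.out 1886]]],
  .sub [9, 12, 14, 1] [.out 1566],
  .sub [10, 12, 14, 1] [.out 1531],
  .sub [11, 12, 14, 1] [.out 1126],
  .sub [4, 17, 14, 1] [.out 83],
  .sub [8, 17, 14, 1] [.out 1689],
  .sub [10, 17, 14, 1] [.out 289],
  .sub [13, 17, 14, 1] [.out 1282],
  .sub [15, 17, 14, 1] [.sub [1, 13, 1, 23, 23] [.out 129]],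
  .sub [17, 17, 14, 1] [.out 1606],
  .sub [20, 17, 14, 1] [.out 437],
  .sub [21, 17, 14, 1] [.out 1506],
  .sub [23, 17, 14, 1] [.sub [28, 22, 23, 28, 23, 1, 13, 1] [.sub [5, 1, 0, 1, 22, 28, 0, 4, 2, 3, 5, 0, 2, 4, 3, 4, 5, 4, 6, 5, 1, 2, 3, 5, 6, 2, 3, 1, 2, 3, 5, 2, 3, 2, 3, 5, 3, 2, 3] [.out 1609]]],
  .sub [25, 17, 14, 1] [.out 1344],
  .sub [27, 17, 14, 1] [.sub [28, 22, 1, 13, 1, 1, 13, 1] [.sub [22, 28, 0, 4, 2, 3, 5, 0, 2, 4, 3, 4, 5, 4, 6, 5, 1, 2, 3, 5, 6, 2, 3, 1, 2, 3, 5, 2, 3, 2, 3, 5, 3, 2, 3, 5, 1, 0, 1, 5, 6, 5, 1, 6, 2, 1, 0, 3, 1, 2, 3, 1, 2, 3, 1, 4, 2, 1, 3, 2, 3, 1, 2, 3, 4, 1, 2, 3, 5, 2, 0, 0, 4, 2, 3, 5, 0, 2, 4, 3, 4, 5, 4, 6, 5, 1, 2, 3, 5, 6, 2, 3, 1, 2, 3, 5, 2, 3, 2, 3, 5, 3,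 2, 3, 5, 6, 5, 1, 6, 2, 1, 0, 3, 1, 2, 3, 1, 2, 3, 1, 4, 2, 1, 3, 2, 3, 1, 2, 3, 4, 1, 2, 3, 5, 2, 0] [.out 1372]]],
  .sub [3, 20, 14, 1] [.out 1982],
  .sub [9, 20, 14, 1] [.out 2050],
  .sub [10, 20, 14, 1] [.sub [23, 23, 23] [.sub [5, 6, 5, 1, 6, 2, 1, 0, 3, 1, 2, 3, 1, 2, 3, 1, 4, 2, 1, 3, 2, 3, 1, 2, 3, 4, 1, 2, 3, 5, 2, 0, 5, 1, 0, 1, 0, 4, 2, 3, 5, 0, 2, 4, 3, 4, 5, 4, 6, 5, 1, 2, 3, 5, 6, 2, 3, 1, 2, 3, 5, 2, 3, 2, 3, 5, 3, 2, 3, 0, 4, 2, 3, 5, 0, 2, 4, 3, 4, 5, 4, 6, 5, 1, 2, 3, 5, 6, 2, 3, 1, 2, 3, 5, 2, 3, 2, 3, 5, 3, 2, 3] [.out 2049]]],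
  .sub [11, 20, 14, 1] [.out 880],
  .sub [12, 20, 14, 1] [.out 1236],
  .sub [23, 20, 14, 1] [.sub [1, 13, 1, 23, 28, 23] [.out 1160]],
  .sub [27, 20, 14, 1] [.out 1279],
  .sub [3, 21, 14, 1] [.out 1448],
  .sub [9, 21, 14, 1] [.out 809],
  .sub [10, 21, 14, 1] [.sub [28, 1, 13, 1, 28, 1, 13, 1, 28, 1, 13, 1, 28] [.sub [22, 28, 5, 1, 0, 1, 0, 4, 2, 3, 5, 0, 2, 4, 3, 4, 5, 4, 6, 5, 1, 2, 3, 5, 6, 2, 3, 1, 2, 3, 5, 2, 3, 2, 3, 5, 3, 2, 3, 5, 1, 0, 1, 0, 4, 2, 3, 5, 0, 2, 4, 3, 4, 5, 4, 6, 5, 1, 2, 3, 5, 6, 2, 3, 1, 2, 3, 5, 2, 3, 2, 3, 5, 3, 2, 3] [.bad [0, 2, 6, 4, 3, 6, 4, 5, 3, 2, 1, 0, 5, 3, 6, 3, 5, 3, 2, 3, 6, 1, 2, 3, 5, 0, 1, 2, 3, 5, 1, 5, 2, 4, 3, 4, 0, 6, 2, 1, 6, 4, 3, 2, 3, 4, 2, 3, 1, 2, 3,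 4, 2, 0, 1] 1]]],
  .sub [11, 21, 14, 1] [.out 514],
  .sub [12, 21, 14, 1] [.out 1686],
  .sub [13, 21, 14, 1] [.sub [1, 13, 1, 1, 13, 1, 28, 1, 13, 1, 1, 13, 1, 28] [.out 1497]],
  .sub [16, 21, 14, 1] [.out 1901],
  .sub [25, 21, 14, 1] [.sub [23, 23, 1, 13, 1, 28, 23] [.sub [0, 4, 2, 3, 5, 0, 2, 4, 3, 4, 5, 4, 6, 5, 1, 2, 3, 5, 6, 2, 3, 1, 2, 3, 5, 2, 3, 2, 3, 5, 3, 2, 3, 5, 6, 5, 1, 6, 2, 1, 0, 3, 1, 2, 3, 1, 2, 3, 1, 4, 2, 1, 3, 2, 3, 1, 2, 3, 4, 1, 2, 3, 5, 2, 0, 5, 1, 0, 1, 0, 4, 2, 3, 5, 0, 2, 4, 3, 4, 5, 4, 6, 5, 1, 2, 3, 5, 6, 2, 3, 1, 2, 3, 5, 2, 3, 2, 3, 5, 3, 2, 3, 5, 6, 5, 1, 6, 2, 1, 0, 3, 1, 2, 3, 1, 2, 3, 1, 4, 2, 1, 3, 2, 3, 1, 2, 3, 4, 1, 2, 3, 5, 2, 0, 0, 4, 2, 3, 5, 0, 2, 4, 3, 4, 5,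 4, 6, 5, 1, 2, 3, 5, 6, 2, 3, 1, 2, 3, 5, 2, 3, 2, 3, 5, 3, 2, 3, 5, 6, 5, 1, 6, 2, 1, 0, 3, 1, 2, 3, 1, 2, 3, 1, 4, 2, 1, 3, 2, 3, 1, 2, 3, 4, 1, 2, 3, 5, 2, 0] [.out 991]]],
  .sub [27, 21, 14, 1] [.sub [28, 1, 13, 1, 22, 1, 13, 1, 28, 28] [.sub [0, 4, 2, 3, 5, 0, 2, 4, 3, 4, 5, 4, 6, 5, 1, 2, 3, 5, 6, 2, 3, 1, 2, 3, 5, 2, 3, 2, 3, 5, 3, 2, 3, 5, 1, 0, 1, 0, 4, 2, 3, 5, 0, 2, 4, 3, 4, 5, 4, 6, 5, 1, 2, 3, 5, 6, 2, 3, 1, 2, 3, 5, 2, 3, 2, 3, 5, 3, 2, 3, 22, 28] [.out 1372]]],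
  .sub [3, 23, 14, 1] [.sub [1, 13, 1, 1, 13, 1, 1, 13, 1, 23, 1, 13, 1, 28] [.sub [5, 1, 0, 1, 0, 4, 2, 3, 5, 0, 2, 4, 3, 4, 5, 4, 6, 5, 1, 2, 3, 5, 6, 2, 3, 1, 2, 3, 5, 2, 3, 2, 3, 5, 3, 2, 3, 5, 1, 0, 1, 5, 6, 5, 1, 6, 2, 1, 0, 3, 1, 2, 3, 1, 2, 3, 1, 4, 2, 1, 3, 2, 3, 1, 2, 3, 4, 1, 2, 3, 5, 2, 0, 0, 4, 2, 3, 5, 0, 2, 4, 3, 4, 5, 4, 6, 5, 1, 2, 3, 5, 6, 2, 3, 1, 2, 3, 5, 2, 3, 2, 3, 5, 3, 2, 3] [.out 964]]],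
  .sub [8, 23, 14, 1] [.out 1396],
  .sub [9, 23, 14, 1] [.out 1158],
  .sub [10, 23, 14, 1] [.out 1788],
  .sub [11, 23, 14, 1] [.out 1308],
  .sub [12, 23, 14, 1] [.out 835],
  .sub [13, 23, 14, 1] [.out 1209],
  .sub [14, 23, 14, 1] [.out 1981],
  .sub [27, 23, 14, 1] [.out 1790],
  .sub [8, 25, 14, 1] [.out 400],
  .sub [9, 25, 14, 1] [.out 431],
  .sub [11, 25, 14, 1] [.out 321],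
  .sub [13, 25, 14, 1] [.sub [1, 13, 1, 23, 1, 13, 1, 23, 28] [.sub [5, 6, 5, 1, 6, 2, 1, 0, 3, 1, 2, 3, 1, 2, 3, 1, 4, 2, 1, 3, 2, 3, 1, 2, 3, 4, 1, 2, 3, 5, 2, 0, 5, 1, 0, 1, 0, 4, 2, 3, 5, 0, 2, 4, 3, 4, 5, 4, 6, 5, 1, 2, 3, 5, 6, 2, 3, 1, 2, 3, 5, 2, 3, 2, 3, 5, 3, 2, 3, 5, 1, 0, 1, 5, 6, 5, 1, 6, 2, 1, 0, 3, 1, 2, 3, 1, 2, 3, 1, 4, 2, 1, 3, 2, 3, 1, 2, 3, 4, 1, 2, 3, 5, 2, 0, 0, 4, 2, 3, 5, 0, 2, 4, 3, 4, 5, 4, 6, 5, 1, 2, 3, 5, 6, 2, 3, 1, 2, 3, 5, 2, 3, 2, 3, 5, 3, 2, 3] [.bad [0, 2, 6, 4, 3, 6, 4, 5, 3, 2, 1, 0, 5, 3, 6, 3, 5, 3, 2, 3, 6, 1, 2, 3, 5, 0, 1, 2, 3] 1]]],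
  .sub [14, 25, 14, 1] [.sub [23, 28, 23, 1, 13, 1, 1, 13, 1] [.sub [5, 6, 5, 1, 6, 2, 1, 0, 3, 1, 2, 3, 1, 2, 3, 1, 4, 2, 1, 3, 2, 3, 1, 2, 3, 4, 1, 2, 3, 5, 2, 0, 5, 6, 5, 1, 6, 2, 1, 0, 3, 1, 2, 3, 1, 2, 3, 1, 4, 2, 1, 3, 2, 3, 1, 2, 3, 4, 1, 2, 3, 5, 2, 0, 0, 4, 2, 3, 5, 0, 2, 4, 3, 4, 5, 4, 6, 5, 1, 2, 3, 5, 6, 2, 3, 1, 2, 3, 5, 2, 3, 2, 3, 5, 3, 2, 3, 5, 1, 0, 1, 5, 6, 5, 1, 6, 2, 1, 0, 3, 1, 2, 3, 1, 2, 3, 1, 4, 2, 1, 3, 2, 3, 1, 2, 3, 4, 1, 2, 3, 5, 2, 0, 0, 4, 2, 3, 5, 0, 2, 4, 3, 4, 5, 4, 6, 5, 1, 2, 3, 5, 6, 2, 3, 1, 2, 3, 5, 2, 3, 2, 3, 5, 3, 2, 3] [.out 148]]],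
  .sub [27, 25, 14, 1] [.out 1162],
  .sub [6, 27, 14, 1] [.out 1269],
  .sub [9, 27, 14, 1] [.out 190],
  .sub [10, 27, 14, 1] [.out 774],
  .sub [12, 27, 14, 1] [.out 1862],
  .sub [13, 27, 14, 1] [.out 1004],
  .sub [14, 27, 14, 1] [.out 1901],
  .sub [15, 27, 14, 1] [.out 264],
  .sub [17, 27, 14, 1] [.out 1681],
  .sub [23, 27, 14, 1] [.sub [1, 13, 1, 22, 23, 1, 13, 1, 1, 13, 1, 28] [.out 794]],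
  .sub [25, 27, 14, 1] [.out 492],
  .sub [27, 27, 14, 1] [.out 1335],
  .sub [1, 10, 15, 1] [.out 109],
  .sub [8, 10, 15, 1] [.sub [23, 1, 13, 1, 1, 13, 1, 1, 13, 1, 23] [.out 398]],
  .sub [9, 10, 15, 1] [.out 1578],
  .sub [10, 10, 15, 1] [.out 2038],
  .sub [11, 10, 15, 1] [.out 141],
  .sub [27, 10, 15, 1] [.out 1084],
  .sub [8, 17, 15, 1] [.out 1260],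
  .sub [15, 17, 15, 1] [.sub [1, 13, 1, 23, 23, 28, 28] [.sub [0, 4, 2, 3, 5, 0, 2, 4, 3, 4, 5, 4, 6, 5, 1, 2, 3, 5, 6, 2, 3, 1, 2, 3, 5, 2, 3, 2, 3, 5, 3, 2, 3, 0, 4, 2, 3, 5, 0, 2, 4, 3, 4, 5, 4, 6, 5, 1, 2, 3, 5, 6, 2, 3, 1, 2, 3, 5, 2, 3, 2, 3, 5, 3, 2, 3, 5, 6, 5, 1, 6, 2, 1, 0, 3, 1, 2, 3, 1, 2, 3, 1, 4, 2, 1, 3, 2, 3, 1, 2, 3, 4, 1, 2, 3, 5, 2, 0, 5, 6, 5, 1, 6, 2, 1, 0, 3, 1, 2, 3, 1, 2, 3, 1, 4, 2, 1, 3, 2, 3, 1, 2, 3, 4, 1, 2, 3, 5, 2, 0] [.bad [0, 2, 6, 4, 3, 6, 4, 5, 3, 2, 1, 0, 5, 3, 6, 3, 5, 3, 2, 3, 6, 1, 2, 3, 5, 0, 1, 2, 3, 5, 1, 5, 2, 4, 3, 4, 0, 6, 2, 1, 6, 4, 3, 2, 3, 4, 2, 3, 1, 2, 3, 4, 2, 0, 1] 1]]],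
  .sub [18, 17, 15, 1] [.out 1866],
  .sub [20, 17, 15, 1] [.out 1974],
  .sub [22, 17, 15, 1] [.out 1916],
  .sub [23, 17, 15, 1] [.sub [23, 28, 1, 13, 1, 28, 23, 23] [.sub [0, 4, 2, 3, 5, 0, 2, 4, 3, 4, 5, 4, 6, 5, 1, 2, 3, 5, 6, 2, 3, 1, 2, 3, 5, 2, 3, 2, 3, 5, 3, 2, 3, 22, 28, 0, 4, 2, 3, 5, 0, 2, 4, 3, 4, 5, 4, 6, 5, 1, 2, 3, 5, 6, 2, 3, 1, 2, 3, 5, 2, 3, 2, 3, 5, 3, 2, 3, 0, 4, 2, 3, 5, 0, 2, 4, 3, 4, 5, 4, 6, 5, 1, 2, 3, 5, 6, 2, 3, 1, 2, 3, 5, 2, 3, 2, 3, 5, 3, 2, 3, 5, 1, 0, 1, 5, 6, 5, 1, 6, 2, 1, 0, 3, 1, 2, 3, 1, 2, 3, 1, 4, 2, 1, 3, 2, 3, 1, 2, 3, 4, 1, 2, 3, 5, 2, 0] [.out 1448]]],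
  .sub [25, 17, 15, 1] [.out 1965],
  .sub [27, 17, 15, 1] [.out 1028],
  .sub [9, 20, 15, 1] [.out 269],
  .sub [10, 20, 15, 1] [.out 1307],
  .sub [11, 20, 15, 1] [.out 1228],
  .sub [12, 20, 15, 1] [.out 1991],
  .sub [15, 20, 15, 1] [.sub [22, 28, 23, 1, 13, 1, 28] [.out 114]],
  .sub [16, 20, 15, 1] [.out 1462]]

/-- Branches. -/
def kidsXPart4 : List Branch := [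
  .sub [18, 20, 15, 1] [.out 1304],
  .sub [9, 21, 15, 1] [.out 190],
  .sub [10, 21, 15, 1] [.sub [28, 1, 13, 1, 28, 1, 13, 1, 28, 1, 13, 1, 28] [.sub [5, 6, 5, 1, 6, 2, 1, 0, 3, 1, 2, 3, 1, 2, 3, 1, 4, 2, 1, 3, 2, 3, 1, 2, 3, 4, 1, 2, 3, 5, 2, 0, 0, 4, 2, 3, 5, 0, 2, 4, 3, 4, 5, 4, 6, 5, 1, 2, 3, 5, 6, 2, 3, 1, 2, 3, 5, 2, 3, 2, 3, 5, 3, 2, 3, 22, 28, 0, 4, 2, 3, 5, 0, 2, 4, 3, 4, 5, 4, 6, 5, 1, 2, 3, 5, 6, 2, 3, 1, 2, 3, 5, 2, 3, 2, 3, 5, 3, 2, 3, 5, 1, 0, 1, 22, 28] [.out 1346]]],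
  .sub [11, 21, 15, 1] [.out 1112],
  .sub [12, 21, 15, 1] [.out 2011],
  .sub [15, 21, 15, 1] [.out 243],
  .sub [10, 23, 15, 1] [.sub [28, 1, 13, 1, 28, 23, 1, 13, 1] [.sub [0, 4, 2, 3, 5, 0, 2, 4, 3, 4, 5, 4, 6, 5, 1, 2, 3, 5, 6, 2, 3, 1, 2, 3, 5, 2, 3, 2, 3, 5, 3, 2, 3, 5, 1, 0, 1] [.out 984]]],
  .sub [11, 23, 15, 1] [.out 894],
  .sub [12, 23, 15, 1] [.out 1974],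
  .sub [10, 25, 15, 1] [.out 1501],
  .sub [11, 25, 15, 1] [.out 21],
  .sub [15, 4, 17, 1] [.out 1089],
  .sub [14, 5, 17, 1] [.sub [1, 13, 1, 23, 1, 13, 1, 1, 13, 1, 1, 13, 1, 23] [.out 1497]],
  .sub [14, 13, 17, 1] [.sub [23, 23, 28, 28, 23] [.sub [5, 6, 5, 1, 6, 2, 1, 0, 3, 1, 2, 3, 1, 2, 3, 1, 4, 2, 1, 3, 2, 3, 1, 2, 3, 4, 1, 2, 3, 5, 2, 0, 5, 6, 5, 1, 6, 2, 1, 0, 3, 1, 2, 3, 1, 2, 3, 1, 4, 2, 1, 3, 2, 3, 1, 2, 3, 4, 1, 2, 3, 5, 2, 0, 0, 4, 2, 3, 5, 0, 2, 4, 3, 4, 5, 4, 6, 5, 1, 2, 3, 5, 6, 2, 3, 1, 2, 3, 5, 2, 3, 2, 3, 5, 3, 2, 3] [.out 1439]]],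
  .sub [17, 13, 17, 1] [.out 1453],
  .sub [20, 13, 17, 1] [.out 1860],
  .sub [21, 13, 17, 1] [.out 996],
  .sub [14, 14, 17, 1] [.out 1846],
  .sub [20, 14, 17, 1] [.out 1285],
  .sub [21, 14, 17, 1] [.sub [28, 1, 13, 1, 28, 23] [.sub [5, 1, 0, 1, 0, 4, 2, 3, 5, 0, 2, 4, 3, 4, 5, 4, 6, 5, 1, 2, 3, 5, 6, 2, 3, 1, 2, 3, 5, 2, 3, 2, 3, 5, 3, 2, 3, 0, 4, 2, 3, 5, 0, 2, 4, 3, 4, 5, 4, 6, 5, 1, 2, 3, 5, 6, 2, 3, 1, 2, 3, 5, 2, 3, 2, 3, 5, 3, 2, 3, 22, 28, 0, 4, 2, 3, 5, 0, 2, 4, 3, 4, 5, 4, 6, 5, 1, 2, 3, 5, 6, 2, 3, 1, 2, 3, 5, 2, 3, 2, 3, 5, 3, 2, 3] [.out 350]]],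
  .sub [23, 14, 17, 1] [.out 693],
  .sub [0, 15, 17, 1] [.out 1751],
  .sub [1, 15, 17, 1] [.out 810],
  .sub [4, 15, 17, 1] [.out 465],
  .sub [6, 15, 17, 1] [.out 1511],
  .sub [8, 15, 17, 1] [.out 807],
  .sub [11, 15, 17, 1] [.out 1412],
  .sub [17, 15, 17, 1] [.out 1773],
  .sub [20, 15, 17, 1] [.out 1749],
  .sub [21, 15, 17, 1] [.out 1749],
  .sub [23, 15, 17, 1] [.out 837],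
  .sub [25, 15, 17, 1] [.out 1140],
  .sub [10, 17, 17, 1] [.out 1239],
  .sub [13, 17, 17, 1] [.out 1938],
  .sub [14, 17, 17, 1] [.out 1770],
  .sub [6, 20, 17, 1] [.out 837],
  .sub [9, 20, 17, 1] [.sub [28, 23, 28, 23] [.sub [5, 6, 5, 1, 6, 2, 1, 0, 3, 1, 2, 3, 1, 2, 3, 1, 4, 2, 1, 3, 2, 3, 1, 2, 3, 4, 1, 2, 3, 5, 2, 0, 5, 6, 5, 1, 6, 2, 1, 0, 3, 1, 2, 3, 1, 2, 3, 1, 4, 2, 1, 3, 2, 3, 1, 2, 3, 4, 1, 2, 3, 5, 2, 0, 0, 4, 2, 3, 5, 0, 2, 4, 3, 4, 5, 4, 6, 5, 1, 2, 3, 5, 6, 2, 3, 1, 2, 3, 5, 2, 3, 2, 3, 5, 3, 2, 3, 22, 28, 5, 6, 5, 1, 6, 2, 1, 0, 3, 1, 2, 3, 1, 2, 3, 1, 4, 2, 1, 3, 2, 3, 1, 2, 3, 4, 1, 2, 3, 5, 2, 0] [.out 945]]],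
  .sub [10, 20, 17, 1] [.out 660],
  .sub [13, 20, 17, 1] [.out 1336],
  .sub [15, 20, 17, 1] [.out 1526],
  .sub [18, 20, 17, 1] [.out 1002],
  .sub [27, 20, 17, 1] [.out 1303],
  .sub [6, 21, 17, 1] [.out 204],
  .sub [9, 21, 17, 1] [.out 1371],
  .sub [10, 21, 17, 1] [.out 1152],
  .sub [13, 21, 17, 1] [.sub [23, 23, 23, 23, 23] [.sub [5, 6, 5, 1, 6, 2, 1, 0, 3, 1, 2, 3, 1, 2, 3, 1, 4, 2, 1, 3, 2, 3, 1, 2, 3, 4, 1, 2, 3, 5, 2, 0, 22, 28] [.out 505]]],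
  .sub [15, 21, 17, 1] [.sub [22, 1, 13, 1, 22, 28, 23] [.out 762]],
  .sub [16, 21, 17, 1] [.out 1322],
  .sub [27, 21, 17, 1] [.out 607],
  .sub [8, 25, 17, 1] [.out 76],
  .sub [13, 25, 17, 1] [.out 168],
  .sub [14, 25, 17, 1] [.out 1185],
  .sub [15, 25, 17, 1] [.sub [28, 1, 13, 1, 1, 13, 1, 1, 13, 1, 23] [.sub [5, 6, 5, 1, 6, 2, 1, 0, 3, 1, 2, 3, 1, 2, 3, 1, 4, 2, 1, 3, 2, 3, 1, 2, 3, 4, 1, 2, 3, 5, 2, 0, 0, 4, 2, 3, 5, 0, 2, 4, 3, 4, 5, 4, 6, 5, 1, 2, 3, 5, 6, 2, 3, 1, 2, 3, 5, 2, 3, 2, 3, 5, 3, 2, 3, 5, 6, 5, 1, 6, 2, 1, 0, 3, 1, 2, 3, 1, 2, 3, 1, 4, 2, 1, 3, 2, 3, 1, 2, 3, 4, 1, 2, 3, 5, 2, 0, 5, 1, 0, 1, 22, 28] [.out 1229]]],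
  .sub [27, 25, 17, 1] [.out 1532],
  .sub [6, 27, 17, 1] [.sub [1, 13, 1, 23, 23, 23] [.sub [5, 6, 5, 1, 6, 2, 1, 0, 3, 1, 2, 3, 1, 2, 3, 1, 4, 2, 1, 3, 2, 3, 1, 2, 3, 4, 1, 2, 3, 5, 2, 0, 5, 1, 0, 1] [.bad [0, 2, 6, 4, 3, 6, 4, 5, 3, 2, 1, 0, 5, 3, 6, 3, 5, 3, 2, 3, 6, 1, 2, 3, 5, 0, 1, 2, 3, 0, 2, 6, 4, 3, 6, 4, 5, 3, 2, 1, 0, 5, 3, 6, 3, 5, 3, 2, 3, 6, 1, 2, 3, 5, 0, 1, 2, 3] 1]]],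
  .sub [10, 27, 17, 1] [.out 1791],
  .sub [14, 27, 17, 1] [.out 1013],
  .sub [15, 27, 17, 1] [.sub [22, 23, 1, 13, 1, 28] [.out 105]],
  .sub [17, 27, 17, 1] [.out 1825],
  .sub [23, 27, 17, 1] [.out 450],
  .sub [25, 27, 17, 1] [.out 1969],
  .sub [11, 1, 20, 1] [.out 101],
  .sub [20, 1, 20, 1] [.out 1649],
  .sub [9, 9, 20, 1] [.out 1990],
  .sub [10, 9, 20, 1] [.sub [22, 1, 13, 1, 28, 23, 28] [.sub [5, 6, 5, 1, 6, 2, 1, 0, 3, 1, 2, 3, 1, 2, 3, 1, 4, 2, 1, 3, 2, 3, 1, 2, 3, 4, 1, 2, 3, 5, 2, 0, 5, 6, 5, 1, 6, 2, 1, 0, 3, 1, 2, 3, 1, 2, 3, 1, 4, 2, 1, 3, 2, 3, 1, 2, 3, 4, 1, 2, 3, 5, 2, 0, 0, 4, 2, 3, 5, 0, 2, 4, 3, 4, 5, 4, 6, 5, 1, 2, 3, 5, 6, 2, 3, 1, 2, 3, 5, 2, 3, 2, 3, 5, 3, 2, 3, 22, 28, 5, 6, 5,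 1, 6, 2, 1, 0, 3, 1, 2, 3, 1, 2, 3, 1, 4, 2, 1, 3, 2, 3, 1, 2, 3, 4, 1, 2, 3, 5, 2, 0] [.out 863]]],
  .sub [14, 9, 20, 1] [.out 1649],
  .sub [20, 9, 20, 1] [.out 1239],
  .sub [8, 10, 20, 1] [.out 551],
  .sub [15, 10, 20, 1] [.out 1051],
  .sub [16, 10, 20, 1] [.out 811],
  .sub [18, 10, 20, 1] [.out 324],
  .sub [27, 10, 20, 1] [.out 411],
  .sub [8, 11, 20, 1] [.out 1718],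
  .sub [9, 11, 20, 1] [.sub [1, 13, 1, 23, 28, 28] [.sub [0, 4, 2, 3, 5, 0, 2, 4, 3, 4, 5, 4, 6, 5, 1, 2, 3, 5, 6, 2, 3, 1, 2, 3, 5, 2, 3, 2, 3, 5, 3, 2, 3, 22, 28, 5, 1, 0, 1, 0, 4, 2, 3, 5, 0, 2, 4, 3, 4, 5, 4, 6, 5, 1, 2, 3, 5, 6, 2, 3, 1, 2, 3, 5, 2, 3, 2, 3, 5, 3, 2, 3, 5, 1, 0, 1] [.out 201]]],
  .sub [10, 11, 20, 1] [.out 1747],
  .sub [14, 11, 20, 1] [.out 1768],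
  .sub [15, 11, 20, 1] [.sub [1, 13, 1, 28, 23, 28, 23, 28, 28] [.sub [22, 28, 0, 4, 2, 3, 5, 0, 2, 4, 3, 4, 5, 4, 6, 5, 1, 2, 3, 5, 6, 2, 3, 1, 2, 3, 5, 2, 3, 2, 3, 5, 3, 2, 3, 5, 1, 0, 1, 5, 6, 5, 1, 6, 2, 1, 0, 3, 1, 2, 3, 1, 2, 3, 1, 4, 2, 1, 3, 2, 3, 1, 2, 3, 4, 1, 2, 3, 5, 2, 0, 0, 4, 2, 3, 5, 0, 2, 4, 3, 4, 5, 4, 6, 5, 1, 2, 3, 5, 6, 2, 3, 1, 2, 3, 5, 2, 3, 2, 3, 5, 3, 2, 3, 5, 6, 5, 1, 6, 2, 1, 0, 3, 1, 2, 3, 1, 2, 3, 1, 4, 2, 1, 3, 2, 3, 1, 2, 3, 4, 1, 2, 3, 5, 2, 0] [.out 1080]]],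
  .sub [9, 14, 20, 1] [.out 75],
  .sub [11, 14, 20, 1] [.out 1837],
  .sub [12, 14, 20, 1] [.sub [22, 28, 23, 1, 13, 1, 23, 23] [.out 736]],
  .sub [27, 14, 20, 1] [.out 1344],
  .sub [3, 15, 20, 1] [.out 14],
  .sub [8, 15, 20, 1] [.sub [28, 23] [.sub [5, 1, 0, 1, 0, 4, 2, 3, 5, 0, 2, 4, 3, 4, 5, 4, 6, 5, 1, 2, 3, 5, 6, 2, 3, 1, 2, 3, 5, 2, 3, 2, 3, 5, 3, 2, 3, 0, 4, 2, 3, 5, 0, 2, 4, 3, 4, 5, 4, 6, 5, 1, 2, 3, 5, 6, 2, 3, 1, 2, 3, 5, 2, 3, 2, 3, 5, 3, 2, 3, 22, 28, 0, 4, 2, 3, 5, 0, 2, 4, 3, 4, 5, 4, 6, 5, 1, 2, 3, 5, 6, 2, 3, 1, 2, 3, 5, 2, 3, 2, 3, 5, 3, 2, 3, 5, 6, 5, 1, 6, 2, 1, 0, 3, 1, 2, 3, 1, 2, 3, 1, 4, 2, 1, 3, 2, 3, 1, 2, 3, 4, 1, 2, 3, 5, 2, 0, 0, 4, 2, 3, 5, 0, 2, 4, 3, 4, 5, 4, 6, 5, 1, 2,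 3, 5, 6, 2, 3, 1, 2, 3, 5, 2, 3, 2, 3, 5, 3, 2, 3] [.out 489]]],
  .sub [9, 15, 20, 1] [.out 1507],
  .sub [11, 15, 20, 1] [.sub [28, 28, 23, 23, 1, 13, 1] [.sub [0, 4, 2, 3, 5, 0, 2, 4, 3, 4, 5, 4, 6, 5, 1, 2, 3, 5, 6, 2, 3, 1, 2, 3, 5, 2, 3, 2, 3, 5, 3, 2, 3, 5, 1, 0, 1, 0, 4, 2, 3, 5, 0, 2, 4, 3, 4, 5, 4, 6, 5, 1, 2, 3, 5, 6, 2, 3, 1, 2, 3, 5, 2, 3, 2, 3, 5, 3, 2, 3, 22, 28, 0, 4, 2, 3, 5, 0, 2, 4, 3, 4, 5, 4, 6, 5, 1, 2, 3, 5, 6, 2, 3, 1, 2, 3, 5, 2, 3, 2, 3, 5, 3, 2, 3, 5, 6, 5, 1, 6, 2, 1, 0, 3, 1, 2, 3, 1, 2, 3, 1, 4, 2, 1, 3, 2, 3, 1, 2, 3, 4, 1, 2, 3, 5, 2, 0] [.out 737]]],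
  .sub [13, 15, 20, 1] [.out 812],
  .sub [18, 15, 20, 1] [.sub [28, 1, 13, 1, 22, 1, 13, 1, 1, 13, 1] [.sub [5, 1, 0, 1, 0, 4, 2, 3, 5, 0, 2, 4, 3, 4, 5, 4, 6, 5, 1, 2, 3, 5, 6, 2, 3, 1, 2, 3, 5, 2, 3, 2, 3, 5, 3, 2, 3, 0, 4, 2, 3, 5, 0, 2, 4, 3, 4, 5, 4, 6, 5, 1, 2, 3, 5, 6, 2, 3, 1, 2, 3, 5, 2, 3, 2, 3, 5, 3, 2, 3, 22, 28, 5, 6, 5, 1, 6, 2, 1, 0, 3, 1, 2, 3, 1, 2, 3, 1, 4, 2, 1, 3, 2, 3, 1, 2, 3, 4, 1, 2, 3, 5, 2, 0] [.out 387]]],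
  .sub [20, 15, 20, 1] [.out 607],
  .sub [25, 15, 20, 1] [.sub [1, 13, 1, 28, 1, 13, 1, 23, 23, 1, 13, 1] [.sub [5, 1, 0, 1, 5, 6, 5, 1, 6, 2, 1, 0, 3, 1, 2, 3, 1, 2, 3, 1, 4, 2, 1, 3, 2, 3, 1, 2, 3, 4, 1, 2, 3, 5, 2, 0, 0, 4, 2, 3, 5, 0, 2, 4, 3, 4, 5, 4, 6, 5, 1, 2, 3, 5, 6, 2, 3, 1, 2, 3, 5, 2, 3, 2, 3, 5, 3, 2, 3, 22, 28, 0, 4, 2, 3, 5, 0, 2, 4, 3, 4, 5, 4, 6, 5, 1, 2, 3, 5, 6, 2, 3, 1, 2, 3, 5, 2, 3, 2, 3, 5, 3, 2, 3, 5, 1, 0, 1, 22, 28] [.out 1298]]],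
  .sub [27, 15, 20, 1] [.out 1407],
  .sub [11, 16, 20, 1] [.out 1589],
  .sub [3, 18, 20, 1] [.out 1126],
  .sub [12, 18, 20, 1] [.out 1456],
  .sub [15, 18, 20, 1] [.out 1987],
  .sub [9, 23, 20, 1] [.sub [28, 23, 1, 13, 1, 22, 23, 23, 1, 13, 1] [.sub [0, 4, 2, 3, 5, 0, 2, 4, 3, 4, 5, 4, 6, 5, 1, 2, 3, 5, 6, 2, 3, 1, 2, 3, 5, 2, 3, 2, 3, 5, 3, 2, 3, 0, 4, 2, 3, 5, 0, 2, 4, 3, 4, 5, 4, 6, 5, 1, 2, 3, 5, 6, 2, 3, 1, 2, 3, 5, 2, 3, 2, 3, 5, 3, 2, 3, 5, 6, 5, 1, 6, 2, 1, 0, 3, 1, 2, 3, 1, 2, 3, 1, 4, 2, 1, 3, 2, 3, 1, 2, 3, 4, 1, 2, 3, 5, 2, 0, 0, 4, 2, 3, 5, 0, 2, 4, 3, 4, 5, 4, 6, 5, 1, 2, 3, 5, 6, 2, 3, 1, 2, 3, 5, 2, 3, 2, 3, 5, 3, 2, 3, 5, 1, 0, 1, 0, 4, 2, 3, 5, 0, 2, 4, 3, 4, 5, 4, 6, 5, 1, 2, 3, 5, 6,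 2, 3, 1, 2, 3, 5, 2, 3, 2, 3, 5, 3, 2, 3, 22, 28] [.out 387]]],
  .sub [14, 23, 20, 1] [.out 544],
  .sub [6, 27, 20, 1] [.out 2004],
  .sub [9, 27, 20, 1] [.out 252],
  .sub [10, 27, 20, 1] [.sub [28, 28, 1, 13, 1, 1, 13, 1] [.sub [22, 28, 0, 4, 2, 3, 5, 0, 2, 4, 3, 4, 5, 4, 6, 5, 1, 2, 3, 5, 6, 2, 3, 1, 2, 3, 5, 2, 3, 2, 3, 5, 3, 2, 3, 0, 4, 2, 3, 5, 0, 2, 4, 3, 4, 5, 4, 6, 5, 1, 2, 3, 5, 6, 2, 3, 1, 2, 3, 5, 2, 3, 2, 3, 5, 3, 2, 3, 22, 28, 5, 6, 5, 1, 6, 2, 1, 0, 3, 1, 2, 3, 1, 2, 3, 1, 4, 2, 1, 3, 2, 3, 1, 2, 3, 4, 1, 2, 3, 5, 2, 0] [.out 1080]]],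
  .sub [11, 27, 20, 1] [.out 183],
  .sub [12, 27, 20, 1] [.out 919],
  .sub [15, 27, 20, 1] [.out 182],
  .sub [6, 9, 21, 1] [.sub [1, 13, 1, 28, 23, 28, 23] [.sub [0, 4, 2, 3, 5, 0, 2, 4, 3, 4, 5, 4, 6, 5, 1, 2, 3, 5, 6, 2, 3, 1, 2, 3, 5, 2, 3, 2, 3, 5, 3, 2, 3, 5, 1, 0, 1, 5, 6, 5, 1, 6, 2, 1, 0, 3, 1, 2, 3, 1, 2, 3, 1, 4, 2, 1, 3, 2, 3, 1, 2, 3, 4, 1, 2, 3, 5, 2, 0, 0, 4, 2, 3, 5, 0, 2, 4, 3, 4, 5, 4, 6, 5, 1, 2, 3, 5, 6, 2, 3, 1, 2, 3, 5, 2, 3, 2, 3, 5, 3, 2, 3, 22, 28, 0, 4, 2, 3, 5, 0, 2, 4, 3, 4, 5, 4, 6, 5, 1, 2, 3, 5, 6, 2, 3, 1, 2, 3, 5, 2, 3, 2, 3, 5, 3, 2, 3, 5, 1, 0, 1, 22, 28] [.out 1189]]],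
  .sub [10, 9, 21, 1] [.out 255],
  .sub [14, 9, 21, 1] [.sub [22, 23, 1, 13, 1, 1, 13, 1, 1, 13, 1, 23] [.sub [5, 1, 0, 1, 5, 6, 5, 1, 6, 2, 1, 0, 3, 1, 2, 3, 1, 2, 3, 1, 4, 2, 1, 3, 2, 3, 1, 2, 3, 4, 1, 2, 3, 5, 2, 0, 0, 4, 2, 3, 5, 0, 2, 4, 3, 4, 5, 4, 6, 5, 1, 2, 3, 5, 6, 2, 3, 1, 2, 3, 5, 2, 3, 2, 3, 5, 3, 2, 3, 22, 28, 0, 4, 2, 3, 5, 0, 2, 4, 3, 4, 5, 4, 6, 5, 1, 2, 3, 5, 6, 2, 3, 1, 2, 3, 5, 2, 3, 2, 3, 5, 3, 2, 3, 5, 1, 0, 1, 22, 28] [.out 662]]],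
  .sub [21, 9, 21, 1] [.out 1137],
  .sub [14, 10, 21, 1] [.out 444],
  .sub [16, 10, 21, 1] [.out 1454],
  .sub [18, 10, 21, 1] [.out 1203],
  .sub [8, 11, 21, 1] [.out 185],
  .sub [9, 11, 21, 1] [.out 1986],
  .sub [11, 11, 21, 1] [.sub [23, 1, 13, 1, 28, 23, 23, 1, 13, 1, 28] [.out 826]],
  .sub [14, 11, 21, 1] [.out 552],
  .sub [15, 11, 21, 1] [.out 1152],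
  .sub [14, 13, 21, 1] [.sub [1, 13, 1, 28, 28, 23, 23, 1, 13, 1] [.sub [5, 1, 0, 1, 22, 28, 0, 4, 2, 3, 5, 0, 2, 4, 3, 4, 5, 4, 6, 5, 1, 2, 3, 5, 6, 2, 3, 1, 2, 3, 5, 2, 3, 2, 3, 5, 3, 2, 3, 5, 6, 5, 1, 6, 2, 1, 0, 3, 1, 2, 3, 1, 2, 3, 1, 4, 2, 1, 3, 2, 3, 1, 2, 3, 4, 1, 2, 3, 5, 2, 0, 0, 4, 2, 3, 5, 0, 2, 4, 3, 4, 5, 4, 6, 5, 1, 2, 3, 5, 6, 2, 3, 1, 2, 3, 5, 2, 3, 2, 3, 5, 3, 2, 3, 5, 6, 5, 1, 6, 2, 1, 0, 3, 1, 2, 3, 1, 2, 3, 1, 4, 2, 1, 3, 2, 3, 1, 2, 3, 4, 1, 2, 3, 5, 2, 0] [.out 593]]],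
  .sub [3, 14, 21, 1] [.out 1581],
  .sub [8, 14, 21, 1] [.out 1620],
  .sub [9, 14, 21, 1] [.out 263],
  .sub [11, 14, 21, 1] [.out 984],
  .sub [12, 14, 21, 1] [.out 1076],
  .sub [27, 14, 21, 1] [.out 580],
  .sub [3, 15, 21, 1] [.out 1051],
  .sub [8, 15, 21, 1] [.out 358],
  .sub [10, 15, 21, 1] [.out 1574],
  .sub [13, 15, 21, 1] [.out 737],
  .sub [23, 15, 21, 1] [.sub [1, 13, 1, 1, 13, 1, 28, 23, 28, 1, 13, 1, 28] [.sub [5, 1, 0, 1, 0, 4, 2, 3, 5, 0, 2, 4, 3, 4, 5, 4, 6, 5, 1, 2, 3, 5, 6, 2, 3, 1, 2, 3, 5, 2, 3, 2, 3, 5, 3, 2, 3, 0, 4, 2, 3, 5, 0, 2, 4, 3, 4, 5, 4, 6, 5, 1, 2, 3, 5, 6, 2, 3, 1, 2, 3, 5, 2, 3, 2, 3, 5, 3, 2, 3, 22, 28] [.out 1084]]],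
  .sub [27, 15, 21, 1] [.sub [1, 13, 1, 22, 1, 13, 1, 23, 23] [.sub [0, 4, 2, 3, 5, 0, 2, 4, 3, 4, 5, 4, 6, 5, 1, 2, 3, 5, 6, 2, 3, 1, 2, 3, 5, 2, 3, 2, 3, 5, 3, 2, 3, 5, 6, 5, 1, 6, 2, 1, 0, 3, 1, 2, 3, 1, 2, 3, 1, 4, 2, 1, 3, 2, 3, 1, 2, 3, 4, 1, 2, 3, 5, 2, 0, 5, 1, 0, 1, 0, 4, 2, 3, 5, 0, 2, 4, 3, 4, 5, 4, 6, 5, 1, 2, 3, 5, 6, 2, 3, 1, 2, 3, 5, 2, 3, 2, 3, 5, 3, 2, 3, 5, 6, 5, 1, 6, 2, 1, 0, 3, 1, 2, 3, 1, 2, 3, 1, 4, 2, 1, 3, 2, 3, 1, 2, 3, 4, 1, 2, 3, 5, 2, 0] [.out 739]]],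
  .sub [3, 27, 21, 1] [.out 665],
  .sub [9, 27, 21, 1] [.sub [22, 23, 28, 23] [.out 477]],
  .sub [10, 27, 21, 1] [.out 778],
  .sub [11, 27, 21, 1] [.out 95],
  .sub [12, 27, 21, 1] [.out 1747],
  .sub [15, 27, 21, 1] [.out 796],
  .sub [8, 11, 23, 1] [.out 1282],
  .sub [15, 11, 23, 1] [.sub [1, 13, 1, 23, 23, 1, 13, 1, 23] [.out 2030]],
  .sub [27, 11, 23, 1] [.out 1761],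
  .sub [8, 12, 23, 1] [.sub [22, 1, 13, 1, 28, 23, 1, 13, 1] [.out 409]],
  .sub [15, 12, 23, 1] [.out 1092],
  .sub [27, 12, 23, 1] [.out 913],
  .sub [10, 14, 23, 1] [.out 885],
  .sub [11, 14, 23, 1] [.out 1389],
  .sub [12, 14, 23, 1] [.out 1402],
  .sub [16, 14, 23, 1] [.out 621],
  .sub [17, 15, 23, 1] [.sub [22, 23, 23, 1, 13, 1] [.out 488]],
  .sub [15, 10, 25, 1] [.out 1898],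
  .sub [8, 11, 25, 1] [.out 51],
  .sub [15, 11, 25, 1] [.out 1859],
  .sub [27, 11, 25, 1] [.out 470],
  .sub [10, 14, 25, 1] [.out 193],
  .sub [11, 14, 25, 1] [.out 639],
  .sub [12, 14, 25, 1] [.out 87],
  .sub [16, 14, 25, 1] [.out 1874],
  .sub [10, 15, 25, 1] [.out 1148],
  .sub [11, 15, 25, 1] [.out 1711],
  .sub [14, 14, 3, 6] [.out 364],
  .sub [20, 14, 3, 6] [.out 324],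
  .sub [21, 14, 3, 6] [.sub [1, 13, 1, 1, 13, 1, 23, 1, 13, 1] [.sub [0, 4, 2, 3, 5, 0, 2, 4, 3, 4, 5, 4, 6, 5, 1, 2, 3, 5, 6, 2, 3, 1, 2, 3, 5, 2, 3, 2, 3, 5, 3, 2, 3, 0, 4, 2, 3, 5, 0, 2, 4, 3, 4, 5, 4, 6, 5, 1, 2, 3, 5, 6, 2, 3, 1, 2, 3, 5, 2, 3, 2, 3, 5, 3, 2, 3, 5, 1, 0, 1, 22, 28] [.out 1907]]],
  .sub [23, 14, 3, 6] [.out 1496],
  .sub [25, 14, 3, 6] [.out 316],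
  .sub [23, 15, 3, 6] [.out 1564],
  .sub [14, 20, 3, 6] [.sub [1, 13, 1, 22, 23, 23, 1, 13, 1] [.sub [5, 1, 0, 1, 0, 4, 2, 3, 5, 0, 2, 4, 3, 4, 5, 4, 6, 5, 1, 2, 3, 5, 6, 2, 3, 1, 2, 3, 5, 2, 3, 2, 3, 5, 3, 2, 3, 0, 4, 2, 3, 5, 0, 2, 4, 3, 4, 5, 4, 6, 5, 1, 2, 3, 5, 6, 2, 3, 1, 2, 3, 5, 2, 3, 2, 3, 5, 3, 2, 3, 22, 28, 0, 4, 2, 3, 5, 0, 2, 4, 3, 4, 5, 4, 6, 5, 1, 2, 3, 5, 6, 2, 3, 1, 2, 3, 5, 2, 3, 2, 3, 5, 3, 2, 3, 5, 6, 5, 1, 6, 2, 1, 0, 3, 1, 2, 3, 1, 2, 3, 1, 4, 2, 1, 3, 2, 3, 1, 2, 3, 4, 1, 2, 3, 5, 2, 0, 0, 4, 2, 3, 5, 0, 2, 4, 3, 4, 5, 4, 6, 5, 1, 2, 3, 5, 6, 2, 3, 1, 2, 3, 5, 2, 3, 2, 3, 5, 3, 2, 3] [.out 1875]]],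
  .sub [14, 21, 3, 6] [.out 1574],
  .sub [15, 21, 3, 6] [.out 830],
  .sub [9, 0, 8, 6] [.out 1451],
  .sub [11, 0, 8, 6] [.out 1876],
  .sub [13, 3, 8, 6] [.out 1593],
  .sub [14, 3, 8, 6] [.out 945],
  .sub [15, 3, 8, 6] [.out 1790],
  .sub [17, 3, 8, 6] [.out 1479],
  .sub [20, 3, 8, 6] [.out 1366],
  .sub [21, 3, 8, 6] [.out 1144],
  .sub [25, 3, 8, 6] [.out 1158],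
  .sub [11, 9, 8, 6] [.sub [1, 13, 1, 1, 13, 1, 28, 23, 28, 1, 13, 1, 28] [.out 1701]],
  .sub [14, 9, 8, 6] [.out 698],
  .sub [15, 9, 8, 6] [.out 256],
  .sub [20, 9, 8, 6] [.out 1836],
  .sub [21, 9, 8, 6] [.out 860],
  .sub [23, 9, 8, 6] [.sub [1, 13, 1, 23, 1, 13, 1, 23, 23, 23] [.sub [5, 1, 0, 1, 0, 4, 2, 3, 5, 0, 2, 4, 3, 4, 5, 4, 6, 5, 1, 2, 3, 5, 6, 2, 3, 1, 2, 3, 5, 2, 3, 2, 3, 5, 3, 2, 3, 22, 28, 5, 6, 5, 1, 6, 2, 1, 0, 3, 1, 2, 3, 1, 2, 3, 1, 4, 2, 1, 3, 2, 3, 1, 2, 3, 4, 1, 2, 3, 5, 2, 0] [.out 1333]]],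
  .sub [1, 10, 8, 6] [.out 1922],
  .sub [6, 10, 8, 6] [.out 1916],
  .sub [9, 10, 8, 6] [.out 606],
  .sub [13, 10, 8, 6] [.sub [22, 1, 13, 1, 1, 13, 1, 23, 23] [.sub [22, 28, 5, 1, 0, 1] [.out 1818]]],
  .sub [15, 10, 8, 6] [.out 209],
  .sub [16, 10, 8, 6] [.out 718],
  .sub [25, 10, 8, 6] [.out 2005],
  .sub [14, 11, 8, 6] [.out 1478],
  .sub [17, 11, 8, 6] [.out 1697],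
  .sub [20, 11, 8, 6] [.out 305],
  .sub [23, 11, 8, 6] [.out 1884],
  .sub [9, 12, 8, 6] [.out 301],
  .sub [11, 12, 8, 6] [.out 819],
  .sub [14, 12, 8, 6] [.sub [23, 23, 23, 28, 28] [.sub [5, 1, 0, 1, 0, 4, 2, 3, 5, 0, 2, 4, 3, 4, 5, 4, 6, 5, 1, 2, 3, 5, 6, 2, 3, 1, 2, 3, 5, 2, 3, 2, 3, 5, 3, 2, 3, 22, 28, 0, 4, 2, 3, 5, 0, 2, 4, 3, 4, 5, 4, 6, 5, 1, 2, 3, 5, 6, 2, 3, 1, 2, 3, 5, 2, 3, 2, 3, 5, 3, 2, 3, 5, 6, 5, 1, 6, 2, 1, 0, 3, 1, 2, 3, 1, 2, 3, 1, 4, 2, 1, 3, 2, 3, 1, 2, 3, 4, 1, 2, 3, 5, 2, 0] [.out 299]]]]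

/-- Branches. -/
def kidsXPart5 : List Branch := [
  .sub [8, 13, 8, 6] [.sub [1, 13, 1, 1, 13, 1, 23, 1, 13, 1] [.sub [0, 4, 2, 3, 5, 0, 2, 4, 3, 4, 5, 4, 6, 5, 1, 2, 3, 5, 6, 2, 3, 1, 2, 3, 5, 2, 3, 2, 3, 5, 3, 2, 3, 5, 1, 0, 1, 0, 4, 2, 3, 5, 0, 2, 4, 3, 4, 5, 4, 6, 5, 1, 2, 3, 5, 6, 2, 3, 1, 2, 3, 5, 2, 3, 2, 3, 5, 3, 2, 3, 5, 1, 0, 1, 5, 6, 5, 1, 6, 2, 1, 0, 3, 1, 2, 3, 1, 2, 3, 1, 4, 2, 1, 3, 2, 3, 1, 2, 3, 4, 1, 2, 3, 5, 2, 0, 0, 4, 2, 3, 5, 0, 2, 4, 3, 4, 5, 4, 6, 5, 1, 2, 3, 5, 6, 2, 3, 1, 2, 3, 5, 2, 3, 2, 3, 5, 3, 2, 3] [.out 1813]]],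
  .sub [10, 13, 8, 6] [.sub [23, 1, 13, 1, 22, 23, 23, 1, 13, 1] [.out 146]],
  .sub [15, 13, 8, 6] [.out 136],
  .sub [17, 13, 8, 6] [.out 1445],
  .sub [20, 13, 8, 6] [.out 318],
  .sub [25, 13, 8, 6] [.out 1912],
  .sub [1, 14, 8, 6] [.sub [1, 13, 1, 28, 23, 28] [.sub [0, 4, 2, 3, 5, 0, 2, 4, 3, 4, 5, 4, 6, 5, 1, 2, 3, 5, 6, 2, 3, 1, 2, 3, 5, 2, 3, 2, 3, 5, 3, 2, 3, 5, 6, 5, 1, 6, 2, 1, 0, 3, 1, 2, 3, 1, 2, 3, 1, 4, 2, 1, 3, 2, 3, 1, 2, 3, 4, 1, 2, 3, 5, 2, 0, 0, 4, 2, 3, 5, 0, 2, 4, 3, 4, 5, 4, 6, 5, 1, 2, 3, 5, 6, 2, 3, 1, 2, 3, 5, 2, 3, 2, 3, 5, 3, 2, 3, 5, 6, 5, 1, 6, 2, 1, 0, 3, 1, 2, 3, 1, 2, 3, 1, 4, 2, 1, 3, 2, 3, 1, 2, 3, 4, 1, 2, 3, 5, 2, 0, 5, 6, 5, 1, 6, 2, 1, 0, 3, 1, 2, 3, 1, 2, 3, 1, 4, 2,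 1, 3, 2, 3, 1, 2, 3, 4, 1, 2, 3, 5, 2, 0] [.out 78]]],
  .sub [20, 14, 8, 6] [.out 1284],
  .sub [23, 14, 8, 6] [.out 939],
  .sub [15, 17, 8, 6] [.out 1306],
  .sub [18, 17, 8, 6] [.out 1449],
  .sub [23, 17, 8, 6] [.sub [23, 28, 22, 23, 1, 13, 1, 28] [.sub [0, 4, 2, 3, 5, 0, 2, 4, 3, 4, 5, 4, 6, 5, 1, 2, 3, 5, 6, 2, 3, 1, 2, 3, 5, 2, 3, 2, 3, 5, 3, 2, 3, 5, 1, 0, 1, 0, 4, 2, 3, 5, 0, 2, 4, 3, 4, 5, 4, 6, 5, 1, 2, 3, 5, 6, 2, 3, 1, 2, 3, 5, 2, 3, 2, 3, 5, 3, 2, 3, 22, 28, 0, 4, 2, 3, 5, 0, 2, 4, 3, 4, 5, 4, 6, 5, 1, 2, 3, 5, 6, 2, 3, 1, 2, 3, 5, 2, 3, 2, 3, 5, 3, 2, 3, 5, 1, 0, 1, 0, 4, 2, 3, 5, 0, 2, 4, 3, 4, 5, 4, 6, 5, 1, 2, 3, 5, 6, 2, 3, 1, 2, 3, 5, 2, 3, 2, 3, 5, 3, 2, 3, 22, 28] [.out 77]]],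
  .sub [25, 17, 8, 6] [.sub [1, 13, 1, 1, 13, 1, 23, 23, 28] [.out 1027]],
  .sub [10, 20, 8, 6] [.out 848],
  .sub [11, 20, 8, 6] [.sub [22, 23, 1, 13, 1, 1, 13, 1, 1, 13, 1, 23] [.sub [0, 4, 2, 3, 5, 0, 2, 4, 3, 4, 5, 4, 6, 5, 1, 2, 3, 5, 6, 2, 3, 1, 2, 3, 5, 2, 3, 2, 3, 5, 3, 2, 3, 5, 6, 5, 1, 6, 2, 1, 0, 3, 1, 2, 3, 1, 2, 3, 1, 4, 2, 1, 3, 2, 3, 1, 2, 3, 4, 1, 2, 3, 5, 2, 0, 5, 6, 5, 1, 6, 2, 1, 0, 3, 1, 2, 3, 1, 2, 3, 1, 4, 2, 1, 3, 2, 3, 1, 2, 3, 4, 1, 2, 3, 5, 2, 0] [.out 1545]]],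
  .sub [12, 20, 8, 6] [.out 2051],
  .sub [1, 23, 8, 6] [.out 226],
  .sub [9, 23, 8, 6] [.out 706],
  .sub [10, 23, 8, 6] [.sub [1, 13, 1, 23, 1, 13, 1, 23, 23, 28] [.sub [0, 4, 2, 3, 5, 0, 2, 4, 3, 4, 5, 4, 6, 5, 1, 2, 3, 5, 6, 2, 3, 1, 2, 3, 5, 2, 3, 2, 3, 5, 3, 2, 3, 5, 6, 5, 1, 6, 2, 1, 0, 3, 1, 2, 3, 1, 2, 3, 1, 4, 2, 1, 3, 2, 3, 1, 2, 3, 4, 1, 2, 3, 5, 2, 0, 5, 1, 0, 1, 22, 28, 0, 4, 2, 3, 5, 0, 2, 4, 3, 4, 5, 4, 6, 5, 1, 2, 3, 5, 6, 2, 3, 1, 2, 3, 5, 2, 3, 2, 3, 5, 3, 2, 3] [.out 1819]]],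
  .sub [11, 23, 8, 6] [.out 621],
  .sub [12, 23, 8, 6] [.sub [28, 1, 13, 1, 1, 13, 1, 23, 23] [.out 1297]],
  .sub [14, 23, 8, 6] [.sub [1, 13, 1, 28, 1, 13, 1, 1, 13, 1, 28, 28] [.sub [0, 4, 2, 3, 5, 0, 2, 4, 3, 4, 5, 4, 6, 5, 1, 2, 3, 5, 6, 2, 3, 1, 2, 3, 5, 2, 3, 2, 3, 5, 3, 2, 3, 22, 28, 0, 4, 2, 3, 5, 0, 2, 4, 3, 4, 5, 4, 6, 5, 1, 2, 3, 5, 6, 2, 3, 1, 2, 3, 5, 2, 3, 2, 3, 5, 3, 2, 3, 5, 1, 0, 1, 0, 4, 2, 3, 5, 0, 2, 4, 3, 4, 5, 4, 6, 5, 1, 2, 3, 5, 6, 2, 3, 1, 2, 3, 5, 2, 3, 2, 3, 5, 3, 2, 3, 22, 28] [.out 1343]]],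
  .sub [27, 23, 8, 6] [.out 1541],
  .sub [1, 25, 8, 6] [.out 1523],
  .sub [9, 25, 8, 6] [.out 2038],
  .sub [10, 25, 8, 6] [.out 467],
  .sub [11, 25, 8, 6] [.out 897],
  .sub [14, 25, 8, 6] [.out 1005],
  .sub [27, 25, 8, 6] [.sub [1, 13, 1, 22, 28, 23] [.sub [0, 4, 2, 3, 5, 0, 2, 4, 3, 4, 5, 4, 6, 5, 1, 2, 3, 5, 6, 2, 3, 1, 2, 3, 5, 2, 3, 2, 3, 5, 3, 2, 3, 0, 4, 2, 3, 5, 0, 2, 4, 3, 4, 5, 4, 6, 5, 1, 2, 3, 5, 6, 2, 3, 1, 2, 3, 5, 2, 3, 2, 3, 5, 3, 2, 3, 5, 6, 5, 1, 6, 2, 1, 0, 3, 1, 2, 3, 1, 2, 3, 1, 4, 2, 1, 3, 2, 3, 1, 2, 3, 4, 1, 2, 3, 5, 2, 0, 5, 1, 0, 1, 22, 28] [.out 964]]],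
  .sub [9, 27, 8, 6] [.out 43],
  .sub [3, 8, 11, 6] [.out 1957],
  .sub [15, 8, 11, 6] [.out 1573],
  .sub [17, 8, 11, 6] [.out 680],
  .sub [23, 8, 11, 6] [.out 1000],
  .sub [25, 8, 11, 6] [.out 1990],
  .sub [14, 14, 11, 6] [.sub [28, 22, 1, 13, 1, 28, 1, 13, 1, 28] [.sub [5, 6, 5, 1, 6, 2, 1, 0, 3, 1, 2, 3, 1, 2, 3, 1, 4, 2, 1, 3, 2, 3, 1, 2, 3, 4, 1, 2, 3, 5, 2, 0, 5, 1, 0, 1, 0, 4, 2, 3, 5, 0, 2, 4, 3, 4, 5, 4, 6, 5, 1, 2, 3, 5, 6, 2, 3, 1, 2, 3, 5, 2, 3, 2, 3, 5, 3, 2, 3, 5, 1, 0, 1, 5, 6, 5, 1, 6, 2, 1, 0, 3, 1, 2, 3, 1, 2, 3, 1, 4, 2, 1, 3, 2, 3, 1, 2, 3, 4, 1, 2, 3, 5, 2, 0, 0, 4, 2, 3, 5, 0, 2, 4, 3, 4, 5, 4, 6, 5, 1, 2, 3, 5, 6, 2, 3, 1, 2, 3, 5, 2, 3, 2, 3, 5, 3, 2, 3] [.out 462]]],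
  .sub [20, 14, 11, 6] [.out 1551],
  .sub [21, 14, 11, 6] [.out 1136],
  .sub [17, 15, 11, 6] [.out 1894],
  .sub [20, 15, 11, 6] [.out 420],
  .sub [21, 15, 11, 6] [.out 2036],
  .sub [25, 15, 11, 6] [.out 1507],
  .sub [27, 15, 11, 6] [.out 1674],
  .sub [14, 27, 11, 6] [.out 926],
  .sub [15, 27, 11, 6] [.sub [1, 13, 1, 28, 1, 13, 1, 1, 13, 1, 28] [.out 434]],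
  .sub [17, 27, 11, 6] [.out 1549],
  .sub [23, 27, 11, 6] [.sub [23, 28, 28, 23, 23, 1, 13, 1] [.sub [22, 28, 0, 4, 2, 3, 5, 0, 2, 4, 3, 4, 5, 4, 6, 5, 1, 2, 3, 5, 6, 2, 3, 1, 2, 3, 5, 2, 3, 2, 3, 5, 3, 2, 3, 5, 1, 0, 1, 5, 6, 5, 1, 6, 2, 1, 0, 3, 1, 2, 3, 1, 2, 3, 1, 4, 2, 1, 3, 2, 3, 1, 2, 3, 4, 1, 2, 3, 5, 2, 0, 0, 4, 2, 3, 5, 0, 2, 4, 3, 4, 5, 4, 6, 5, 1, 2, 3, 5, 6, 2, 3, 1, 2, 3, 5, 2, 3, 2, 3, 5, 3, 2, 3] [.out 1465]]],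
  .sub [25, 27, 11, 6] [.out 487],
  .sub [9, 8, 12, 6] [.sub [1, 13, 1, 1, 13, 1, 1, 13, 1, 23] [.out 2005]],
  .sub [10, 8, 12, 6] [.out 1440],
  .sub [13, 8, 12, 6] [.out 168],
  .sub [17, 8, 12, 6] [.sub [28, 1, 13, 1, 23, 23, 1, 13, 1] [.out 452]],
  .sub [3, 14, 12, 6] [.sub [23, 23, 28, 28, 23, 23] [.sub [22, 28, 5, 6, 5, 1, 6, 2, 1, 0, 3, 1, 2, 3, 1, 2, 3, 1, 4, 2, 1, 3, 2, 3, 1, 2, 3, 4, 1, 2, 3, 5, 2, 0, 0, 4, 2, 3, 5, 0, 2, 4, 3, 4, 5, 4, 6, 5, 1, 2, 3, 5, 6, 2, 3, 1, 2, 3, 5, 2, 3, 2, 3, 5, 3, 2, 3, 22, 28, 0, 4, 2, 3, 5, 0, 2, 4, 3, 4, 5, 4, 6, 5, 1, 2, 3, 5, 6, 2, 3, 1, 2, 3, 5, 2, 3, 2, 3, 5, 3, 2, 3, 5, 6, 5, 1, 6, 2, 1, 0, 3, 1, 2, 3, 1, 2, 3, 1, 4, 2, 1, 3, 2, 3, 1, 2, 3, 4, 1, 2, 3, 5, 2,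 0] [.out 352]]],
  .sub [8, 14, 12, 6] [.sub [22, 1, 13, 1, 23, 1, 13, 1, 1, 13, 1, 28] [.sub [0, 4, 2, 3, 5, 0, 2, 4, 3, 4, 5, 4, 6, 5, 1, 2, 3, 5, 6, 2, 3, 1, 2, 3, 5, 2, 3, 2, 3, 5, 3, 2, 3, 22, 28, 0, 4, 2, 3, 5, 0, 2, 4, 3, 4, 5, 4, 6, 5, 1, 2, 3, 5, 6, 2, 3, 1, 2, 3, 5, 2, 3, 2, 3, 5, 3, 2, 3] [.out 776]]],
  .sub [9, 14, 12, 6] [.out 915],
  .sub [10, 14, 12, 6] [.out 1957],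
  .sub [11, 14, 12, 6] [.out 1717],
  .sub [14, 14, 12, 6] [.sub [28, 1, 13, 1, 22, 1, 13, 1, 1, 13, 1] [.out 451]],
  .sub [3, 15, 12, 6] [.out 47],
  .sub [9, 15, 12, 6] [.out 1852],
  .sub [10, 15, 12, 6] [.out 1729],
  .sub [11, 15, 12, 6] [.out 831],
  .sub [25, 15, 12, 6] [.out 1261],
  .sub [27, 15, 12, 6] [.out 922],
  .sub [17, 3, 14, 6] [.out 1654],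
  .sub [23, 3, 14, 6] [.out 266],
  .sub [25, 3, 14, 6] [.sub [28, 1, 13, 1, 23, 1, 13, 1, 23, 23] [.sub [22, 28, 5, 1, 0, 1, 0, 4, 2, 3, 5, 0, 2, 4, 3, 4, 5, 4, 6, 5, 1, 2, 3, 5, 6, 2, 3, 1, 2, 3, 5, 2, 3, 2, 3, 5, 3, 2, 3, 22, 28, 0, 4, 2, 3, 5, 0, 2, 4, 3, 4, 5, 4, 6, 5, 1, 2, 3, 5, 6, 2, 3, 1, 2, 3, 5, 2, 3, 2, 3, 5, 3, 2, 3, 5, 1, 0, 1, 22, 28] [.out 148]]],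
  .sub [27, 3, 14, 6] [.out 1197],
  .sub [10, 10, 14, 6] [.sub [28, 23, 23, 1, 13, 1, 28, 28] [.out 314]],
  .sub [11, 10, 14, 6] [.sub [1, 13, 1, 23, 23, 23, 23] [.sub [5, 1, 0, 1, 0, 4, 2, 3, 5, 0, 2, 4, 3, 4, 5, 4, 6, 5, 1, 2, 3, 5, 6, 2, 3, 1, 2, 3, 5, 2, 3, 2, 3, 5, 3, 2, 3, 0, 4, 2, 3, 5, 0, 2, 4, 3, 4, 5, 4, 6, 5, 1, 2, 3, 5, 6, 2, 3, 1, 2, 3, 5, 2, 3, 2, 3, 5, 3, 2, 3, 22, 28, 0, 4, 2, 3, 5, 0, 2, 4, 3, 4, 5, 4, 6, 5, 1, 2, 3, 5, 6, 2, 3, 1, 2, 3, 5, 2, 3, 2, 3, 5, 3, 2, 3, 5, 6, 5, 1, 6, 2, 1, 0, 3, 1, 2, 3, 1, 2, 3, 1, 4, 2, 1, 3, 2, 3, 1, 2, 3, 4, 1, 2, 3, 5, 2, 0, 0, 4, 2, 3, 5, 0, 2, 4, 3, 4, 5, 4, 6, 5, 1, 2, 3, 5, 6, 2, 3, 1, 2, 3, 5, 2, 3, 2, 3, 5, 3, 2, 3] [.out 1358]]],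
  .sub [8, 11, 14, 6] [.out 1285],
  .sub [20, 11, 14, 6] [.out 266],
  .sub [8, 12, 14, 6] [.out 2035],
  .sub [10, 12, 14, 6] [.out 1407],
  .sub [23, 13, 14, 6] [.out 382],
  .sub [9, 20, 14, 6] [.out 490],
  .sub [27, 20, 14, 6] [.out 1559],
  .sub [9, 21, 14, 6] [.out 632],
  .sub [10, 21, 14, 6] [.out 25],
  .sub [27, 21, 14, 6] [.out 1728],
  .sub [9, 23, 14, 6] [.out 1395],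
  .sub [11, 23, 14, 6] [.sub [22, 28, 23, 23, 1, 13, 1] [.sub [5, 6, 5, 1, 6, 2, 1, 0, 3, 1, 2, 3, 1, 2, 3, 1, 4, 2, 1, 3, 2, 3, 1, 2, 3, 4, 1, 2, 3, 5, 2, 0, 5, 1, 0, 1, 0, 4, 2, 3, 5, 0, 2, 4, 3, 4, 5, 4, 6, 5, 1, 2, 3, 5, 6, 2, 3, 1, 2, 3, 5, 2, 3, 2, 3, 5, 3, 2, 3] [.out 698]]],
  .sub [8, 25, 14, 6] [.out 496],
  .sub [11, 25, 14, 6] [.out 201],
  .sub [27, 25, 14, 6] [.out 1810],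
  .sub [23, 27, 14, 6] [.sub [28, 28, 23, 28, 23, 28] [.sub [5, 6, 5, 1, 6, 2, 1, 0, 3, 1, 2, 3, 1, 2, 3, 1, 4, 2, 1, 3, 2, 3, 1, 2, 3, 4, 1, 2, 3, 5, 2, 0, 5, 6, 5, 1, 6, 2, 1, 0, 3, 1, 2, 3, 1, 2, 3, 1, 4, 2, 1, 3, 2, 3, 1, 2, 3, 4, 1, 2, 3, 5, 2, 0, 0, 4, 2, 3, 5, 0, 2, 4, 3, 4, 5, 4, 6, 5, 1, 2, 3, 5, 6, 2, 3, 1, 2, 3, 5, 2, 3, 2, 3, 5, 3, 2, 3, 5, 1, 0, 1, 5, 6, 5, 1, 6, 2, 1, 0, 3, 1, 2, 3, 1, 2, 3, 1, 4, 2, 1, 3, 2, 3, 1, 2, 3, 4, 1, 2, 3, 5, 2, 0, 0, 4, 2, 3, 5, 0, 2, 4, 3, 4, 5, 4, 6, 5, 1, 2, 3, 5, 6, 2, 3, 1, 2, 3, 5, 2, 3, 2, 3, 5, 3, 2, 3] [.out 218]]],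
  .sub [9, 10, 15, 6] [.out 2026],
  .sub [13, 10, 15, 6] [.out 1636],
  .sub [27, 10, 15, 6] [.out 1761],
  .sub [8, 11, 15, 6] [.out 319],
  .sub [20, 11, 15, 6] [.sub [28, 1, 13, 1, 28, 1, 13, 1, 1, 13, 1] [.sub [5, 1, 0, 1, 5, 6, 5, 1, 6, 2, 1, 0, 3, 1, 2, 3, 1, 2, 3, 1, 4, 2, 1, 3, 2, 3, 1, 2, 3, 4, 1, 2, 3, 5, 2, 0, 0, 4, 2, 3, 5, 0, 2, 4, 3, 4, 5, 4, 6, 5, 1, 2, 3, 5, 6, 2, 3, 1, 2, 3, 5, 2, 3, 2, 3, 5, 3, 2, 3, 5, 1, 0, 1, 22, 28] [.out 1137]]],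
  .sub [27, 17, 15, 6] [.sub [1, 13, 1, 1, 13, 1, 23, 28, 23, 28] [.sub [0, 4, 2, 3, 5, 0, 2, 4, 3, 4, 5, 4, 6, 5, 1, 2, 3, 5, 6, 2, 3, 1, 2, 3, 5, 2, 3, 2, 3, 5, 3, 2, 3, 0, 4, 2, 3, 5, 0, 2, 4, 3, 4, 5, 4, 6, 5, 1, 2, 3, 5, 6, 2, 3, 1, 2, 3, 5, 2, 3, 2, 3, 5, 3, 2, 3, 5, 6, 5, 1, 6, 2, 1, 0, 3, 1, 2, 3, 1, 2, 3, 1, 4, 2, 1, 3, 2, 3, 1, 2, 3, 4, 1, 2, 3, 5, 2, 0, 5, 1, 0, 1, 22, 28] [.out 1818]]],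
  .sub [10, 20, 15, 6] [.out 803],
  .sub [12, 20, 15, 6] [.out 843],
  .sub [10, 23, 15, 6] [.out 1005],
  .sub [11, 23, 15, 6] [.out 191],
  .sub [10, 25, 15, 6] [.out 2021],
  .sub [11, 25, 15, 6] [.out 752],
  .sub [8, 11, 20, 6] [.out 1014],
  .sub [15, 11, 20, 6] [.out 901],
  .sub [9, 14, 20, 6] [.out 2031],
  .sub [12, 14, 20, 6] [.sub [28, 23, 28, 23, 28] [.sub [5, 1, 0, 1, 0, 4, 2, 3, 5, 0, 2, 4, 3, 4, 5, 4, 6, 5, 1, 2, 3, 5, 6, 2, 3, 1, 2, 3, 5, 2, 3, 2, 3, 5, 3, 2, 3, 5, 6, 5, 1, 6, 2, 1, 0, 3, 1, 2, 3, 1, 2, 3, 1, 4, 2, 1, 3, 2, 3, 1, 2, 3, 4, 1, 2, 3, 5, 2, 0] [.out 218]]],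
  .sub [10, 15, 20, 6] [.out 1388],
  .sub [9, 14, 23, 6] [.out 1538],
  .sub [10, 14, 23, 6] [.out 996],
  .sub [11, 14, 23, 6] [.out 1349],
  .sub [11, 15, 23, 6] [.out 1154],
  .sub [23, 0, 8, 9] [.out 1359],
  .sub [25, 0, 8, 9] [.out 847],
  .sub [15, 4, 8, 9] [.out 1011],
  .sub [23, 4, 8, 9] [.out 20],
  .sub [25, 4, 8, 9] [.out 1167],
  .sub [14, 6, 8, 9] [.out 1269],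
  .sub [15, 6, 8, 9] [.sub [1, 13, 1, 22, 1, 13, 1, 28, 28, 23] [.sub [0, 4, 2, 3, 5, 0, 2, 4, 3, 4, 5, 4, 6, 5, 1, 2, 3, 5, 6, 2, 3, 1, 2, 3, 5, 2, 3, 2, 3, 5, 3, 2, 3, 5, 6, 5, 1, 6, 2, 1, 0, 3, 1, 2, 3, 1, 2, 3, 1, 4, 2, 1, 3, 2, 3, 1, 2, 3, 4, 1, 2, 3, 5, 2, 0] [.out 903]]],
  .sub [17, 6, 8, 9] [.out 742],
  .sub [21, 6, 8, 9] [.out 1906],
  .sub [23, 6, 8, 9] [.sub [22, 1, 13, 1, 28, 28, 23, 28, 28] [.sub [0, 4, 2, 3, 5, 0, 2, 4, 3, 4, 5, 4, 6, 5, 1, 2, 3, 5, 6, 2, 3, 1, 2, 3, 5, 2, 3, 2, 3, 5, 3, 2, 3, 0, 4, 2, 3, 5, 0, 2, 4, 3, 4, 5, 4, 6, 5, 1, 2, 3, 5, 6, 2, 3, 1, 2, 3, 5, 2, 3, 2, 3, 5, 3, 2, 3, 22, 28, 0, 4, 2, 3, 5, 0, 2, 4, 3, 4, 5, 4, 6, 5, 1, 2, 3, 5, 6, 2, 3, 1, 2, 3, 5, 2, 3, 2, 3, 5, 3,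 2, 3, 5, 6, 5, 1, 6, 2, 1, 0, 3, 1, 2, 3, 1, 2, 3, 1, 4, 2, 1, 3, 2, 3, 1, 2, 3, 4, 1, 2, 3, 5, 2, 0, 0, 4, 2, 3, 5, 0, 2, 4, 3, 4, 5, 4, 6, 5, 1, 2, 3, 5, 6, 2, 3, 1, 2, 3, 5, 2, 3, 2, 3, 5, 3, 2, 3] [.out 1060]]],
  .sub [25, 6, 8, 9] [.out 708],
  .sub [9, 12, 8, 9] [.out 363],
  .sub [11, 12, 8, 9] [.sub [1, 13, 1, 23, 23, 23, 28] [.sub [5, 6, 5, 1, 6, 2, 1, 0, 3, 1, 2, 3, 1, 2, 3, 1, 4, 2, 1, 3, 2, 3, 1, 2, 3, 4, 1, 2, 3, 5, 2, 0, 5, 1, 0, 1, 0, 4, 2, 3, 5, 0, 2, 4, 3, 4, 5, 4, 6, 5, 1, 2, 3, 5, 6, 2, 3, 1, 2, 3, 5, 2, 3, 2, 3, 5, 3, 2, 3, 5, 6, 5, 1, 6, 2, 1, 0, 3, 1, 2, 3, 1, 2, 3, 1, 4, 2, 1, 3, 2, 3, 1, 2, 3, 4, 1, 2, 3, 5, 2, 0, 0, 4, 2, 3, 5, 0, 2, 4, 3, 4, 5, 4, 6, 5, 1, 2, 3, 5, 6, 2, 3, 1, 2,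 3, 5, 2, 3, 2, 3, 5, 3, 2, 3, 5, 6, 5, 1, 6, 2, 1, 0, 3, 1, 2, 3, 1, 2, 3, 1, 4, 2, 1, 3, 2, 3, 1, 2, 3, 4, 1, 2, 3, 5, 2, 0] [.out 662]]],
  .sub [14, 12, 8, 9] [.out 947],
  .sub [10, 14, 8, 9] [.sub [1, 13, 1, 23, 28, 23, 23] [.sub [5, 1, 0, 1, 0, 4, 2, 3, 5, 0, 2, 4, 3, 4, 5, 4, 6, 5, 1, 2, 3, 5, 6, 2, 3, 1, 2, 3, 5, 2, 3, 2, 3, 5, 3, 2, 3, 5, 6, 5, 1, 6, 2, 1, 0, 3, 1, 2, 3, 1, 2, 3, 1, 4, 2, 1, 3, 2, 3, 1, 2, 3, 4, 1, 2, 3, 5, 2, 0, 22, 28] [.bad [5, 1, 5, 2, 4, 3, 4, 0, 6, 2, 1, 6, 4, 3, 2, 3, 4, 2, 3, 1, 2, 3, 4, 2, 0, 1, 5, 1, 5, 2, 4, 3, 4, 0, 6, 2, 1, 6, 4, 3, 2, 3, 4, 2, 3, 1, 2, 3, 4, 2, 0, 1] 1]]],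
  .sub [8, 15, 8, 9] [.sub [22, 28, 23, 1, 13, 1, 28] [.out 1701]],
  .sub [10, 15, 8, 9] [.out 509],
  .sub [17, 15, 8, 9] [.out 1626],
  .sub [21, 15, 8, 9] [.out 1884],
  .sub [23, 15, 8, 9] [.out 1857],
  .sub [1, 17, 8, 9] [.out 1914],
  .sub [4, 17, 8, 9] [.out 619],
  .sub [6, 17, 8, 9] [.out 665],
  .sub [9, 17, 8, 9] [.out 1696],
  .sub [10, 17, 8, 9] [.out 1422],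
  .sub [13, 17, 8, 9] [.out 788],
  .sub [16, 17, 8, 9] [.sub [22, 28, 23, 23, 1, 13, 1] [.sub [0, 4, 2, 3, 5, 0, 2, 4, 3, 4, 5, 4, 6, 5, 1, 2, 3, 5, 6, 2, 3, 1, 2, 3, 5, 2, 3, 2, 3, 5, 3, 2, 3, 22, 28, 0, 4, 2, 3, 5, 0, 2, 4, 3, 4, 5, 4, 6, 5, 1, 2, 3, 5, 6, 2, 3, 1, 2, 3, 5, 2, 3, 2, 3, 5, 3, 2, 3, 22, 28, 5, 6, 5, 1, 6, 2, 1, 0, 3, 1, 2, 3, 1, 2, 3, 1, 4, 2, 1, 3, 2, 3, 1, 2, 3, 4, 1, 2, 3, 5, 2, 0] [.out 512]]],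
  .sub [17, 17, 8, 9] [.out 541],
  .sub [18, 17, 8, 9] [.out 1923],
  .sub [22, 17, 8, 9] [.out 981],
  .sub [23, 17, 8, 9] [.out 1435],
  .sub [1, 23, 8, 9] [.out 1465],
  .sub [3, 23, 8, 9] [.out 1966],
  .sub [6, 23, 8, 9] [.out 291],
  .sub [9, 23, 8, 9] [.out 330],
  .sub [10, 23, 8, 9] [.sub [28, 23, 1, 13, 1, 22, 23, 23, 1, 13, 1] [.out 15]],
  .sub [14, 23, 8, 9] [.out 1306],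
  .sub [15, 23, 8, 9] [.out 136],
  .sub [16, 23, 8, 9] [.out 1453],
  .sub [1, 25, 8, 9] [.out 237],
  .sub [3, 25, 8, 9] [.out 1797],
  .sub [6, 25, 8, 9] [.out 637],
  .sub [9, 25, 8, 9] [.out 1097],
  .sub [10, 25, 8, 9] [.out 778],
  .sub [12, 25, 8, 9] [.out 1584],
  .sub [13, 25, 8, 9] [.out 1281],
  .sub [14, 25, 8, 9] [.out 1281],
  .sub [18, 25, 8, 9] [.out 347],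
  .sub [6, 27, 8, 9] [.sub [28, 28, 23, 1, 13, 1, 28] [.sub [22, 28, 5, 1, 0, 1, 0, 4, 2, 3, 5, 0, 2, 4, 3, 4, 5, 4, 6, 5, 1, 2, 3, 5, 6, 2, 3, 1, 2, 3, 5, 2, 3, 2, 3, 5, 3, 2, 3, 22, 28, 0, 4, 2, 3, 5, 0, 2, 4, 3, 4, 5, 4, 6, 5, 1, 2, 3, 5, 6, 2, 3, 1, 2, 3, 5, 2, 3, 2, 3, 5, 3, 2, 3, 5, 1, 0, 1, 22, 28] [.out 1517]]],
  .sub [9, 27, 8, 9] [.out 350],
  .sub [10, 27, 8, 9] [.out 614],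
  .sub [6, 8, 9, 9] [.out 1691],
  .sub [9, 8, 9, 9] [.out 640],
  .sub [10, 8, 9, 9] [.sub [28, 23, 1, 13, 1, 22, 1, 13, 1] [.out 694]],
  .sub [1, 14, 9, 9] [.out 1144],
  .sub [6, 14, 9, 9] [.out 1456],
  .sub [9, 14, 9, 9] [.out 1925],
  .sub [10, 14, 9, 9] [.sub [23, 28, 1, 13, 1, 1, 13, 1, 28] [.sub [5, 6, 5, 1, 6, 2, 1, 0, 3, 1, 2, 3, 1, 2, 3, 1, 4, 2, 1, 3, 2, 3, 1, 2, 3, 4, 1, 2, 3, 5, 2, 0, 5, 1, 0, 1, 0, 4, 2, 3, 5, 0, 2, 4, 3, 4, 5, 4, 6, 5, 1, 2, 3, 5, 6, 2, 3, 1, 2, 3, 5, 2, 3, 2, 3, 5, 3, 2, 3] [.out 1982]]],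
  .sub [23, 14, 11, 9] [.out 1940],
  .sub [23, 15, 11, 9] [.sub [28, 28, 1, 13, 1, 1, 13, 1, 28, 28] [.sub [22, 28, 0, 4, 2, 3, 5, 0, 2, 4, 3, 4, 5, 4, 6, 5, 1, 2, 3, 5, 6, 2, 3, 1, 2, 3, 5, 2, 3, 2, 3, 5, 3, 2, 3, 5, 1, 0, 1, 0, 4, 2, 3, 5, 0, 2, 4, 3, 4, 5, 4, 6, 5, 1, 2, 3, 5, 6, 2, 3, 1, 2, 3, 5, 2, 3, 2, 3, 5, 3, 2, 3, 5, 1, 0, 1] [.out 718]]],
  .sub [8, 0, 14, 9] [.sub [28, 1, 13, 1, 28, 23, 1, 13, 1] [.sub [0, 4, 2, 3, 5, 0, 2, 4, 3, 4, 5, 4, 6, 5, 1, 2, 3, 5, 6, 2, 3, 1, 2, 3, 5, 2, 3, 2, 3, 5, 3, 2, 3, 5, 6, 5, 1, 6, 2, 1, 0, 3, 1, 2, 3, 1, 2, 3, 1, 4, 2, 1, 3, 2, 3, 1, 2, 3, 4, 1, 2, 3, 5, 2, 0, 5, 1, 0, 1, 0, 4, 2, 3, 5, 0, 2, 4, 3, 4, 5, 4, 6, 5, 1, 2, 3, 5, 6, 2, 3, 1, 2, 3, 5, 2, 3, 2, 3, 5,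 3, 2, 3] [.out 739]]],
  .sub [2, 1, 14, 9] [.out 1632],
  .sub [8, 1, 14, 9] [.sub [1, 13, 1, 23, 1, 13, 1, 1, 13, 1, 28] [.sub [22, 28, 0, 4, 2, 3, 5, 0, 2, 4, 3, 4, 5, 4, 6, 5, 1, 2, 3, 5, 6, 2, 3, 1, 2, 3, 5, 2, 3, 2, 3, 5, 3, 2, 3] [.out 318]]],
  .sub [15, 1, 14, 9] [.sub [22, 1, 13, 1, 1, 13, 1, 28, 1, 13, 1, 28] [.sub [5, 1, 0, 1, 0, 4, 2, 3, 5, 0, 2, 4, 3, 4, 5, 4, 6, 5, 1, 2, 3, 5, 6, 2, 3, 1, 2, 3, 5, 2, 3, 2, 3, 5, 3, 2, 3] [.out 90]]],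
  .sub [16, 1, 14, 9] [.sub [22, 23, 1, 13, 1, 1, 13, 1, 1, 13, 1, 23] [.sub [0, 4, 2, 3, 5, 0, 2, 4, 3, 4, 5, 4, 6, 5, 1, 2, 3, 5, 6, 2, 3, 1, 2, 3, 5, 2, 3, 2, 3, 5, 3, 2, 3, 0, 4, 2, 3, 5, 0, 2, 4, 3, 4, 5, 4, 6, 5, 1, 2, 3, 5, 6, 2, 3, 1, 2, 3, 5, 2, 3, 2, 3, 5, 3, 2, 3, 5, 6, 5, 1, 6, 2, 1, 0, 3, 1, 2, 3, 1, 2, 3, 1, 4, 2, 1, 3, 2, 3, 1, 2, 3, 4, 1, 2, 3, 5, 2, 0, 5, 1, 0, 1, 0, 4, 2, 3, 5, 0, 2, 4, 3, 4, 5, 4, 6, 5, 1, 2, 3, 5, 6, 2, 3, 1, 2, 3, 5, 2, 3, 2, 3, 5, 3, 2, 3, 22, 28] [.out 1189]]],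
  .sub [18, 1, 14, 9] [.out 1356],
  .sub [23, 1, 14, 9] [.sub [1, 13, 1, 22, 23, 1, 13, 1, 1, 13, 1, 28] [.out 1174]],
  .sub [8, 6, 14, 9] [.out 1745],
  .sub [17, 6, 14, 9] [.sub [23, 28, 23, 28, 23, 28] [.out 1778]],
  .sub [20, 6, 14, 9] [.out 971],
  .sub [21, 6, 14, 9] [.out 1284],
  .sub [23, 6, 14, 9] [.sub [28, 23, 23, 28, 28] [.sub [22, 28, 5, 6, 5, 1, 6, 2, 1, 0, 3, 1, 2, 3, 1, 2, 3, 1, 4, 2, 1, 3, 2, 3, 1, 2, 3, 4, 1, 2, 3, 5, 2, 0] [.done 8]]],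
  .sub [25, 6, 14, 9] [.out 822],
  .sub [27, 6, 14, 9] [.out 544],
  .sub [4, 8, 14, 9] [.out 1693],
  .sub [9, 8, 14, 9] [.sub [23, 23, 1, 13, 1, 23, 1, 13, 1] [.out 1158]],
  .sub [10, 8, 14, 9] [.out 944],
  .sub [14, 8, 14, 9] [.out 1379],
  .sub [15, 8, 14, 9] [.out 212],
  .sub [20, 8, 14, 9] [.out 1544],
  .sub [22, 8, 14, 9] [.sub [1, 13, 1, 23, 23, 23] [.sub [5, 6, 5, 1, 6, 2, 1, 0, 3, 1, 2, 3, 1, 2, 3, 1, 4, 2, 1, 3, 2, 3, 1, 2, 3, 4, 1, 2, 3, 5, 2, 0, 5, 1, 0, 1, 0, 4, 2, 3, 5, 0, 2, 4, 3, 4, 5, 4, 6, 5, 1, 2, 3, 5, 6, 2, 3, 1, 2, 3, 5, 2, 3, 2, 3, 5, 3, 2, 3, 5, 1, 0, 1, 22, 28] [.bad [5, 1, 5, 2, 4, 3, 4, 0, 6, 2, 1, 6, 4, 3, 2, 3, 4, 2, 3, 1, 2, 3, 4, 2, 0, 1] 1]]],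
  .sub [8, 9, 14, 9] [.out 723],
  .sub [20, 9, 14, 9] [.sub [23, 28, 28, 1, 13, 1, 23, 1, 13, 1, 28] [.sub [0, 4, 2, 3, 5, 0, 2, 4, 3, 4, 5, 4, 6, 5, 1, 2, 3, 5, 6, 2, 3, 1, 2, 3, 5, 2, 3, 2, 3, 5, 3, 2, 3, 0, 4, 2, 3, 5, 0, 2, 4, 3, 4, 5, 4, 6, 5, 1, 2, 3, 5, 6, 2, 3, 1, 2, 3, 5, 2, 3, 2, 3, 5, 3, 2, 3, 5, 1, 0, 1, 0, 4, 2, 3, 5, 0, 2, 4, 3, 4, 5, 4, 6, 5, 1, 2, 3, 5, 6, 2, 3, 1, 2, 3, 5, 2, 3, 2, 3, 5, 3, 2, 3, 22, 28, 0, 4, 2, 3, 5, 0, 2, 4, 3, 4, 5, 4, 6, 5, 1, 2, 3, 5, 6, 2, 3, 1, 2, 3, 5, 2, 3, 2, 3, 5, 3, 2, 3, 5, 6, 5, 1, 6, 2, 1, 0, 3, 1, 2, 3, 1, 2, 3, 1, 4, 2, 1, 3, 2, 3, 1, 2, 3, 4, 1, 2, 3, 5, 2, 0] [.out 95]]],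
  .sub [21, 9, 14, 9] [.sub [1, 13, 1, 22, 1, 13, 1, 1, 13, 1, 23, 23] [.sub [5, 6, 5, 1, 6, 2, 1, 0, 3, 1, 2, 3, 1, 2, 3, 1, 4, 2, 1, 3, 2, 3, 1, 2, 3, 4, 1, 2, 3, 5, 2, 0, 5, 1, 0, 1, 0, 4, 2, 3, 5, 0, 2, 4, 3, 4, 5, 4, 6, 5, 1, 2, 3, 5, 6, 2, 3, 1, 2, 3, 5, 2, 3, 2, 3, 5, 3, 2, 3, 22, 28] [.out 720]]],
  .sub [23, 9, 14, 9] [.out 85]]

/-- Branches. -/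
def kidsXPart6 : List Branch := [
  .sub [27, 9, 14, 9] [.out 1858],
  .sub [1, 10, 14, 9] [.out 1312],
  .sub [3, 10, 14, 9] [.out 987],
  .sub [6, 10, 14, 9] [.sub [23, 28, 23, 28, 23, 28] [.out 179]],
  .sub [9, 10, 14, 9] [.out 1515],
  .sub [10, 10, 14, 9] [.out 336],
  .sub [11, 10, 14, 9] [.out 565],
  .sub [12, 10, 14, 9] [.sub [1, 13, 1, 22, 1, 13, 1] [.out 826]],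
  .sub [13, 10, 14, 9] [.out 1095],
  .sub [18, 10, 14, 9] [.out 31],
  .sub [27, 10, 14, 9] [.out 2016],
  .sub [6, 13, 14, 9] [.sub [28, 1, 13, 1, 22, 1, 13, 1, 28] [.sub [5, 6, 5, 1, 6, 2, 1, 0, 3, 1, 2, 3, 1, 2, 3, 1, 4, 2, 1, 3, 2, 3, 1, 2, 3, 4, 1, 2, 3, 5, 2, 0, 5, 6, 5, 1, 6, 2, 1, 0, 3, 1, 2, 3, 1, 2, 3, 1, 4, 2, 1, 3, 2, 3, 1, 2, 3, 4, 1, 2, 3, 5, 2, 0, 0, 4, 2, 3, 5, 0, 2, 4, 3, 4, 5, 4, 6, 5, 1, 2, 3, 5, 6, 2, 3, 1, 2, 3, 5, 2, 3, 2, 3, 5, 3, 2, 3, 5, 1, 0, 1, 5, 6, 5, 1, 6, 2, 1, 0, 3, 1, 2, 3, 1, 2, 3, 1, 4, 2, 1, 3, 2, 3, 1, 2, 3, 4, 1, 2, 3, 5, 2, 0, 0, 4, 2, 3, 5, 0, 2, 4, 3, 4, 5, 4, 6, 5, 1, 2, 3, 5, 6, 2, 3, 1, 2, 3, 5, 2, 3, 2, 3, 5, 3, 2, 3] [.out 991]]],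
  .sub [9, 13, 14, 9] [.sub [23, 23] [.sub [0, 4, 2, 3, 5, 0, 2, 4, 3, 4, 5, 4, 6, 5, 1, 2, 3, 5, 6, 2, 3, 1, 2, 3, 5, 2, 3, 2, 3, 5, 3, 2, 3, 5, 6, 5, 1, 6, 2, 1, 0, 3, 1, 2, 3, 1, 2, 3, 1, 4, 2, 1, 3, 2, 3, 1, 2, 3, 4, 1, 2, 3, 5, 2, 0, 0, 4, 2, 3, 5, 0, 2, 4, 3, 4, 5, 4, 6, 5, 1, 2, 3, 5, 6, 2, 3, 1, 2, 3, 5, 2, 3, 2, 3, 5, 3, 2, 3, 5, 1, 0, 1, 0, 4, 2, 3, 5, 0, 2, 4, 3, 4, 5, 4, 6, 5, 1, 2, 3, 5, 6, 2, 3, 1, 2, 3, 5, 2, 3, 2, 3, 5, 3, 2, 3, 5, 6, 5, 1, 6, 2, 1, 0, 3, 1, 2, 3, 1, 2, 3, 1, 4, 2, 1, 3, 2, 3, 1, 2, 3, 4, 1, 2, 3, 5, 2, 0, 5, 6, 5, 1, 6, 2, 1, 0, 3, 1, 2, 3, 1, 2, 3, 1, 4, 2, 1, 3, 2, 3, 1, 2, 3, 4, 1, 2, 3, 5, 2, 0] [.out 1935]]],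
  .sub [6, 14, 14, 9] [.out 836],
  .sub [8, 14, 14, 9] [.sub [22, 1, 13, 1, 28, 23, 1, 13, 1, 28] [.out 197]],
  .sub [9, 14, 14, 9] [.out 1657],
  .sub [10, 14, 14, 9] [.out 1212],
  .sub [21, 14, 14, 9] [.sub [28, 1, 13, 1, 22, 23, 1, 13, 1, 28] [.sub [0, 4, 2, 3, 5, 0, 2, 4, 3, 4, 5, 4, 6, 5, 1, 2, 3, 5, 6, 2, 3, 1, 2, 3, 5, 2, 3, 2, 3, 5, 3, 2, 3, 5, 6, 5, 1, 6, 2, 1, 0, 3, 1, 2, 3, 1, 2, 3, 1, 4, 2, 1, 3, 2, 3, 1, 2, 3, 4, 1, 2, 3, 5, 2, 0, 0, 4, 2, 3, 5, 0, 2, 4, 3, 4, 5, 4, 6, 5, 1, 2, 3, 5, 6, 2, 3, 1, 2, 3, 5, 2, 3, 2, 3, 5, 3, 2, 3, 22, 28, 5, 6, 5, 1, 6, 2, 1, 0, 3, 1, 2, 3, 1, 2, 3, 1, 4, 2, 1, 3, 2, 3, 1, 2, 3, 4, 1, 2, 3, 5, 2, 0] [.out 852]]],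
  .sub [27, 14, 14, 9] [.out 368],
  .sub [27, 16, 14, 9] [.out 900],
  .sub [1, 20, 14, 9] [.out 219],
  .sub [2, 20, 14, 9] [.out 1520],
  .sub [6, 20, 14, 9] [.out 46],
  .sub [9, 20, 14, 9] [.out 1509],
  .sub [10, 20, 14, 9] [.out 2036],
  .sub [16, 20, 14, 9] [.sub [1, 13, 1, 28, 1, 13, 1, 1, 13, 1, 28] [.sub [0, 4, 2, 3, 5, 0, 2, 4, 3, 4, 5, 4, 6, 5, 1, 2, 3, 5, 6, 2, 3, 1, 2, 3, 5, 2, 3, 2, 3, 5, 3, 2, 3, 0, 4, 2, 3, 5, 0, 2, 4, 3, 4, 5, 4, 6, 5, 1, 2, 3, 5, 6, 2, 3, 1, 2, 3, 5, 2, 3, 2, 3, 5, 3, 2, 3, 22, 28, 0, 4, 2, 3, 5, 0, 2, 4, 3, 4, 5, 4, 6, 5, 1, 2, 3, 5, 6, 2, 3, 1, 2, 3, 5, 2, 3, 2, 3, 5, 3, 2, 3, 5, 1, 0, 1, 22, 28] [.bad [0, 2, 6, 4, 3, 6, 4, 5, 3, 2, 1, 0, 5, 3, 6, 3, 5, 3, 2, 3, 6, 1,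 2, 3, 5, 0, 1, 2, 3, 5, 1, 5, 2, 4, 3, 4, 0, 6, 2, 1, 6, 4, 3, 2, 3, 4, 2, 3, 1, 2, 3, 4, 2, 0, 1] 1]]],
  .sub [1, 21, 14, 9] [.out 942],
  .sub [6, 21, 14, 9] [.out 1216],
  .sub [9, 21, 14, 9] [.out 1346],
  .sub [18, 21, 14, 9] [.sub [1, 13, 1, 1, 13, 1, 1, 13, 1, 23, 23] [.sub [0, 4, 2, 3, 5, 0, 2, 4, 3, 4, 5, 4, 6, 5, 1, 2, 3, 5, 6, 2, 3, 1, 2, 3, 5, 2, 3, 2, 3, 5, 3, 2, 3, 0, 4, 2, 3, 5, 0, 2, 4, 3, 4, 5, 4, 6, 5, 1, 2, 3, 5, 6, 2, 3, 1, 2, 3, 5, 2, 3, 2, 3, 5, 3, 2, 3, 22, 28, 0, 4, 2, 3, 5, 0, 2, 4, 3, 4, 5, 4, 6, 5, 1, 2, 3, 5, 6, 2, 3, 1, 2, 3, 5, 2, 3, 2, 3, 5, 3, 2, 3, 5, 6, 5, 1, 6, 2, 1, 0, 3, 1, 2, 3, 1, 2, 3, 1, 4, 2, 1, 3, 2, 3, 1, 2, 3, 4, 1, 2, 3, 5, 2, 0, 0, 4, 2, 3, 5, 0, 2, 4, 3, 4,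 5, 4, 6, 5, 1, 2, 3, 5, 6, 2, 3, 1, 2, 3, 5, 2, 3, 2, 3, 5, 3, 2, 3] [.out 1819]]],
  .sub [23, 4, 15, 9] [.out 835],
  .sub [6, 8, 15, 9] [.out 1898],
  .sub [9, 8, 15, 9] [.out 1303],
  .sub [10, 8, 15, 9] [.out 1967],
  .sub [17, 8, 15, 9] [.out 1719],
  .sub [23, 8, 15, 9] [.out 1022],
  .sub [1, 10, 15, 9] [.out 1992],
  .sub [9, 10, 15, 9] [.out 1713],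
  .sub [10, 10, 15, 9] [.out 1504],
  .sub [6, 13, 15, 9] [.out 1016],
  .sub [10, 13, 15, 9] [.out 1272],
  .sub [27, 13, 15, 9] [.out 1571],
  .sub [10, 17, 15, 9] [.sub [1, 13, 1, 23, 1, 13, 1, 23, 23, 28] [.out 1362]],
  .sub [18, 17, 15, 9] [.out 1335],
  .sub [20, 17, 15, 9] [.out 1725],
  .sub [22, 17, 15, 9] [.out 80],
  .sub [25, 17, 15, 9] [.out 894],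
  .sub [27, 17, 15, 9] [.out 1659],
  .sub [6, 20, 15, 9] [.out 1020],
  .sub [9, 20, 15, 9] [.out 1858],
  .sub [17, 20, 15, 9] [.out 981],
  .sub [1, 21, 15, 9] [.out 1948],
  .sub [6, 21, 15, 9] [.out 980],
  .sub [9, 21, 15, 9] [.out 2021],
  .sub [16, 23, 15, 9] [.out 1217],
  .sub [8, 25, 15, 9] [.out 1625],
  .sub [18, 25, 15, 9] [.out 1090],
  .sub [0, 27, 15, 9] [.out 927],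
  .sub [3, 27, 15, 9] [.out 1731],
  .sub [5, 27, 15, 9] [.sub [1, 13, 1, 23, 1, 13, 1, 1, 13, 1] [.sub [5, 6, 5, 1, 6, 2, 1, 0, 3, 1, 2, 3, 1, 2, 3, 1, 4, 2, 1, 3, 2, 3, 1, 2, 3, 4, 1, 2, 3, 5, 2, 0, 0, 4, 2, 3, 5, 0, 2, 4, 3, 4, 5, 4, 6, 5, 1, 2, 3, 5, 6, 2, 3, 1, 2, 3, 5, 2, 3, 2, 3, 5, 3, 2, 3, 22, 28, 0, 4, 2, 3, 5, 0, 2, 4, 3, 4, 5, 4, 6, 5, 1, 2, 3, 5, 6, 2, 3, 1, 2, 3, 5, 2, 3, 2, 3, 5, 3, 2, 3, 5, 1, 0, 1, 0, 4, 2, 3, 5, 0, 2, 4, 3, 4, 5, 4, 6, 5, 1, 2, 3, 5, 6, 2, 3, 1, 2, 3, 5, 2, 3, 2, 3, 5, 3, 2, 3, 22, 28] [.out 1448]]],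
  .sub [14, 27, 15, 9] [.out 1155],
  .sub [25, 27, 15, 9] [.out 1960],
  .sub [10, 8, 16, 9] [.sub [1, 13, 1, 28] [.out 1297]],
  .sub [20, 9, 16, 9] [.out 1493],
  .sub [9, 23, 16, 9] [.out 876],
  .sub [10, 23, 16, 9] [.out 1469],
  .sub [6, 8, 17, 9] [.out 1357],
  .sub [9, 8, 17, 9] [.out 1648],
  .sub [10, 8, 17, 9] [.sub [28, 1, 13, 1, 23, 1, 13, 1, 28, 28] [.sub [0, 4, 2, 3, 5, 0, 2, 4, 3, 4, 5, 4, 6, 5, 1, 2, 3, 5, 6, 2, 3, 1, 2, 3, 5, 2, 3, 2, 3, 5, 3, 2, 3, 0, 4, 2, 3, 5, 0, 2, 4, 3, 4, 5, 4, 6, 5, 1, 2, 3, 5, 6, 2, 3, 1, 2, 3, 5, 2, 3, 2, 3, 5, 3, 2, 3, 5, 6, 5, 1, 6, 2, 1, 0, 3, 1, 2, 3, 1, 2, 3, 1, 4, 2, 1, 3, 2, 3, 1, 2, 3, 4, 1, 2, 3, 5, 2, 0, 0, 4, 2, 3, 5, 0, 2, 4, 3, 4, 5, 4, 6, 5, 1, 2,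 3, 5, 6, 2, 3, 1, 2, 3, 5, 2, 3, 2, 3, 5, 3, 2, 3, 22, 28, 5, 6, 5, 1, 6, 2, 1, 0, 3, 1, 2, 3, 1, 2, 3, 1, 4, 2, 1, 3, 2, 3, 1, 2, 3, 4, 1, 2, 3, 5, 2, 0] [.done 4]]],
  .sub [13, 8, 17, 9] [.out 2050],
  .sub [6, 14, 17, 9] [.sub [28, 1, 13, 1, 28, 23] [.out 374]],
  .sub [9, 14, 17, 9] [.out 1912],
  .sub [10, 14, 17, 9] [.sub [28, 1, 13, 1, 1, 13, 1, 1, 13, 1] [.sub [5, 6, 5, 1, 6, 2, 1, 0, 3, 1, 2, 3, 1, 2, 3, 1, 4, 2, 1, 3, 2, 3, 1, 2, 3, 4, 1, 2, 3, 5, 2, 0, 0, 4, 2, 3, 5, 0, 2, 4, 3, 4, 5, 4, 6, 5, 1, 2, 3, 5, 6, 2, 3, 1, 2, 3, 5, 2, 3, 2, 3, 5, 3, 2, 3, 5, 6, 5, 1, 6, 2, 1, 0, 3, 1, 2, 3, 1, 2, 3, 1, 4, 2, 1, 3, 2, 3, 1, 2, 3, 4, 1, 2, 3, 5, 2, 0] [.out 235]]],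
  .sub [6, 15, 17, 9] [.out 250],
  .sub [9, 15, 17, 9] [.out 1554],
  .sub [10, 15, 17, 9] [.sub [23, 1, 13, 1, 23, 23, 28] [.sub [5, 1, 0, 1, 5, 6, 5, 1, 6, 2, 1, 0, 3, 1, 2, 3, 1, 2, 3, 1, 4, 2, 1, 3, 2, 3, 1, 2, 3, 4, 1, 2, 3, 5, 2, 0, 0, 4, 2, 3, 5, 0, 2, 4, 3, 4, 5, 4, 6, 5, 1, 2, 3, 5, 6, 2, 3, 1, 2, 3, 5, 2, 3, 2, 3, 5, 3, 2, 3, 22, 28] [.out 1439]]],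
  .sub [13, 16, 17, 9] [.out 286],
  .sub [1, 18, 17, 9] [.sub [1, 13, 1, 28, 23, 1, 13, 1, 23, 23] [.sub [0, 4, 2, 3, 5, 0, 2, 4, 3, 4, 5, 4, 6, 5, 1, 2, 3, 5, 6, 2, 3, 1, 2, 3, 5, 2, 3, 2, 3, 5, 3, 2, 3, 22, 28, 0, 4, 2, 3, 5, 0, 2, 4, 3, 4, 5, 4, 6, 5, 1, 2, 3, 5, 6, 2, 3, 1, 2, 3, 5, 2, 3, 2, 3, 5, 3, 2, 3, 5, 1, 0, 1, 0, 4, 2, 3, 5, 0, 2, 4, 3, 4, 5, 4, 6, 5, 1, 2, 3, 5, 6, 2, 3, 1, 2, 3, 5, 2, 3, 2, 3, 5, 3, 2, 3, 22, 28] [.out 638]]],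
  .sub [10, 18, 17, 9] [.out 1569],
  .sub [8, 1, 23, 9] [.sub [22, 23, 23, 1, 13, 1] [.out 726]],
  .sub [17, 1, 23, 9] [.out 435],
  .sub [20, 1, 23, 9] [.out 1771],
  .sub [23, 1, 23, 9] [.out 1531],
  .sub [25, 1, 23, 9] [.out 1242],
  .sub [27, 1, 23, 9] [.out 669],
  .sub [6, 8, 23, 9] [.out 864],
  .sub [9, 8, 23, 9] [.sub [1, 13, 1, 23, 28, 23, 28] [.sub [5, 1, 0, 1, 5, 6, 5, 1, 6, 2, 1, 0, 3, 1, 2, 3, 1, 2, 3, 1, 4, 2, 1, 3, 2, 3, 1, 2, 3, 4, 1, 2, 3, 5, 2, 0, 0, 4, 2, 3, 5, 0, 2, 4, 3, 4, 5, 4, 6, 5, 1, 2, 3, 5, 6, 2, 3, 1, 2, 3, 5, 2, 3, 2, 3, 5, 3, 2, 3, 5, 1, 0, 1] [.out 852]]],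
  .sub [10, 8, 23, 9] [.out 1449],
  .sub [1, 14, 23, 9] [.out 224],
  .sub [6, 14, 23, 9] [.out 1796],
  .sub [8, 14, 23, 9] [.out 1161],
  .sub [9, 14, 23, 9] [.out 1715],
  .sub [10, 14, 23, 9] [.out 753],
  .sub [1, 15, 23, 9] [.out 1595],
  .sub [6, 15, 23, 9] [.sub [1, 13, 1, 23, 1, 13, 1, 23, 28] [.out 872]],
  .sub [9, 15, 23, 9] [.out 445],
  .sub [17, 15, 23, 9] [.out 1248],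
  .sub [1, 27, 23, 9] [.out 190],
  .sub [6, 27, 23, 9] [.out 1959],
  .sub [9, 27, 23, 9] [.out 1900],
  .sub [10, 27, 23, 9] [.out 491],
  .sub [25, 27, 23, 9] [.out 1559],
  .sub [8, 1, 25, 9] [.out 640],
  .sub [17, 1, 25, 9] [.out 1817],
  .sub [20, 1, 25, 9] [.out 1394],
  .sub [23, 1, 25, 9] [.out 1995],
  .sub [25, 1, 25, 9] [.out 699],
  .sub [6, 8, 25, 9] [.out 2057],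
  .sub [9, 8, 25, 9] [.out 611],
  .sub [10, 8, 25, 9] [.out 400],
  .sub [1, 14, 25, 9] [.out 904],
  .sub [6, 14, 25, 9] [.out 592],
  .sub [10, 14, 25, 9] [.out 979],
  .sub [6, 15, 25, 9] [.sub [1, 13, 1, 1, 13, 1, 28, 1, 13, 1, 28] [.sub [5, 6, 5, 1, 6, 2, 1, 0, 3, 1, 2, 3, 1, 2, 3, 1, 4, 2, 1, 3, 2, 3, 1, 2, 3, 4, 1, 2, 3, 5, 2, 0, 5, 6, 5, 1, 6, 2, 1, 0, 3, 1, 2, 3, 1, 2, 3, 1, 4, 2, 1, 3, 2, 3, 1, 2, 3, 4, 1, 2, 3, 5, 2, 0, 0, 4, 2, 3, 5, 0, 2, 4, 3, 4, 5, 4, 6, 5, 1, 2, 3, 5, 6, 2, 3, 1, 2, 3, 5, 2, 3, 2, 3, 5, 3, 2, 3, 5, 1, 0, 1, 5, 6, 5, 1, 6, 2, 1, 0, 3, 1, 2, 3, 1, 2, 3, 1, 4, 2, 1, 3, 2, 3, 1, 2, 3, 4, 1, 2, 3, 5, 2, 0] [.out 1886]]],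
  .sub [9, 15, 25, 9] [.out 961],
  .sub [10, 15, 25, 9] [.sub [28, 22, 1, 13, 1] [.sub [0, 4, 2, 3, 5, 0, 2, 4, 3, 4, 5, 4, 6, 5, 1, 2, 3, 5, 6, 2, 3, 1, 2, 3, 5, 2, 3, 2, 3, 5, 3, 2, 3, 0, 4, 2, 3, 5, 0, 2, 4, 3, 4, 5, 4, 6, 5, 1, 2, 3, 5, 6, 2, 3, 1, 2, 3, 5, 2, 3, 2, 3, 5, 3, 2, 3, 5, 1, 0, 1, 22, 28, 0, 4, 2, 3, 5, 0, 2, 4, 3, 4, 5, 4, 6, 5, 1, 2, 3, 5, 6, 2, 3, 1, 2, 3, 5, 2, 3, 2, 3, 5, 3, 2, 3, 0, 4, 2, 3, 5, 0, 2, 4, 3, 4, 5, 4, 6, 5, 1, 2, 3, 5, 6, 2, 3, 1, 2, 3, 5, 2, 3, 2, 3, 5, 3, 2, 3] [.done 15]]],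
  .sub [25, 15, 25, 9] [.out 66],
  .sub [6, 27, 25, 9] [.out 1876],
  .sub [9, 27, 25, 9] [.out 915],
  .sub [14, 27, 25, 9] [.out 731],
  .sub [23, 27, 25, 9] [.out 1307],
  .sub [1, 10, 27, 9] [.out 2027],
  .sub [6, 10, 27, 9] [.out 1386],
  .sub [10, 10, 27, 9] [.out 1224],
  .sub [6, 13, 27, 9] [.out 803],
  .sub [9, 13, 27, 9] [.sub [22, 28, 23, 23, 1, 13, 1] [.sub [0, 4, 2, 3, 5, 0, 2, 4, 3, 4, 5, 4, 6, 5, 1, 2, 3, 5, 6, 2, 3, 1, 2, 3, 5, 2, 3, 2, 3, 5, 3, 2, 3, 0, 4, 2, 3, 5, 0, 2, 4, 3, 4, 5, 4, 6, 5, 1, 2, 3, 5, 6, 2, 3, 1, 2, 3, 5, 2, 3, 2, 3, 5, 3, 2, 3, 22, 28, 5, 1, 0, 1] [.out 959]]],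
  .sub [10, 13, 27, 9] [.sub [23, 1, 13, 1, 28, 23, 23, 1, 13, 1, 28] [.out 1200]],
  .sub [6, 14, 27, 9] [.out 1989],
  .sub [9, 14, 27, 9] [.out 1977],
  .sub [10, 14, 27, 9] [.out 1738],
  .sub [14, 14, 27, 9] [.out 1333],
  .sub [3, 15, 27, 9] [.out 363],
  .sub [8, 15, 27, 9] [.out 1356],
  .sub [9, 15, 27, 9] [.out 877],
  .sub [20, 15, 27, 9] [.out 1263],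
  .sub [25, 15, 27, 9] [.out 1598],
  .sub [4, 17, 27, 9] [.out 1907],
  .sub [6, 17, 27, 9] [.out 1648],
  .sub [9, 17, 27, 9] [.out 1522],
  .sub [10, 17, 27, 9] [.sub [1, 13, 1, 22, 1, 13, 1, 1, 13, 1, 23] [.out 452]],
  .sub [14, 17, 27, 9] [.sub [1, 13, 1, 23, 1, 13, 1, 28, 23] [.out 1292]],
  .sub [1, 23, 27, 9] [.out 499],
  .sub [6, 23, 27, 9] [.out 1963],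
  .sub [10, 23, 27, 9] [.out 500],
  .sub [13, 23, 27, 9] [.out 1310],
  .sub [1, 25, 27, 9] [.out 1104],
  .sub [10, 25, 27, 9] [.out 1266],
  .sub [9, 27, 27, 9] [.sub [22, 23, 28, 1, 13, 1, 1, 13, 1, 1, 13, 1] [.sub [0, 4, 2, 3, 5, 0, 2, 4, 3, 4, 5, 4, 6, 5, 1, 2, 3, 5, 6, 2, 3, 1, 2, 3, 5, 2, 3, 2, 3, 5, 3, 2, 3, 0, 4, 2, 3, 5, 0, 2, 4, 3, 4, 5, 4, 6, 5, 1, 2, 3, 5, 6, 2, 3, 1, 2, 3, 5, 2, 3, 2, 3, 5, 3, 2, 3, 22, 28, 5, 6, 5, 1, 6, 2, 1, 0, 3, 1, 2, 3, 1, 2, 3, 1, 4, 2, 1, 3, 2, 3, 1, 2, 3, 4, 1, 2, 3, 5, 2, 0, 0, 4, 2, 3, 5, 0, 2, 4, 3, 4, 5, 4, 6, 5, 1, 2, 3, 5, 6, 2, 3, 1, 2, 3, 5, 2, 3, 2, 3, 5, 3, 2, 3, 22, 28] [.out 776]]],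
  .sub [10, 0, 8, 10] [.out 795],
  .sub [6, 3, 8, 10] [.out 524],
  .sub [9, 3, 8, 10] [.out 1926],
  .sub [10, 3, 8, 10] [.sub [22, 23, 1, 13, 1, 1, 13, 1, 28] [.out 575]],
  .sub [6, 9, 8, 10] [.out 1928],
  .sub [9, 9, 8, 10] [.out 1642],
  .sub [10, 9, 8, 10] [.out 1549],
  .sub [1, 10, 8, 10] [.out 1269],
  .sub [15, 10, 8, 10] [.out 1888],
  .sub [19, 10, 8, 10] [.out 487],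
  .sub [1, 11, 8, 10] [.out 1042],
  .sub [6, 11, 8, 10] [.out 1943],
  .sub [9, 11, 8, 10] [.out 1428],
  .sub [1, 12, 8, 10] [.out 1937],
  .sub [6, 12, 8, 10] [.out 958],
  .sub [9, 12, 8, 10] [.out 1033],
  .sub [10, 12, 8, 10] [.sub [1, 13, 1, 23, 23, 23, 23, 28] [.sub [5, 6, 5, 1, 6, 2, 1, 0, 3, 1, 2, 3, 1, 2, 3, 1, 4, 2, 1, 3, 2, 3, 1, 2, 3, 4, 1, 2, 3, 5, 2, 0, 5, 1, 0, 1, 0, 4, 2, 3, 5, 0, 2, 4, 3, 4, 5, 4, 6, 5, 1, 2, 3, 5, 6, 2, 3, 1, 2, 3, 5, 2, 3, 2, 3, 5, 3, 2, 3, 5, 6, 5, 1, 6, 2, 1, 0, 3, 1, 2, 3, 1, 2, 3, 1, 4, 2, 1, 3, 2, 3, 1, 2, 3, 4, 1, 2, 3, 5, 2, 0, 0, 4, 2, 3, 5, 0, 2, 4, 3, 4, 5, 4, 6, 5, 1, 2, 3, 5, 6, 2, 3, 1, 2, 3, 5, 2, 3, 2, 3, 5, 3, 2, 3, 5, 6, 5, 1, 6, 2, 1, 0, 3, 1, 2, 3, 1,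 2, 3, 1, 4, 2, 1, 3, 2, 3, 1, 2, 3, 4, 1, 2, 3, 5, 2, 0] [.done 2]]],
  .sub [1, 13, 8, 10] [.out 2014],
  .sub [6, 13, 8, 10] [.out 868],
  .sub [14, 13, 8, 10] [.sub [28, 23, 1, 13, 1, 23, 23] [.out 656]],
  .sub [15, 13, 8, 10] [.sub [23, 23] [.out 692]],
  .sub [21, 13, 8, 10] [.out 48],
  .sub [23, 13, 8, 10] [.out 1158],
  .sub [8, 15, 8, 10] [.out 1087],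
  .sub [10, 15, 8, 10] [.out 364],
  .sub [12, 15, 8, 10] [.out 80],
  .sub [17, 15, 8, 10] [.out 1528],
  .sub [20, 17, 8, 10] [.sub [1, 13, 1, 28, 1, 13, 1, 23, 1, 13, 1, 28] [.out 246]],
  .sub [1, 23, 8, 10] [.out 325],
  .sub [9, 23, 8, 10] [.out 153],
  .sub [10, 23, 8, 10] [.out 1759],
  .sub [1, 27, 8, 10] [.out 1976],
  .sub [9, 27, 8, 10] [.out 1716],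
  .sub [10, 27, 8, 10] [.out 1874],
  .sub [6, 8, 9, 10] [.out 285],
  .sub [10, 8, 9, 10] [.out 1617],
  .sub [6, 14, 9, 10] [.out 1193],
  .sub [10, 14, 9, 10] [.sub [1, 13, 1, 1, 13, 1, 23, 1, 13, 1] [.sub [5, 6, 5, 1, 6, 2, 1, 0, 3, 1, 2, 3, 1, 2, 3, 1, 4, 2, 1, 3, 2, 3, 1, 2, 3, 4, 1, 2, 3, 5, 2, 0, 0, 4, 2, 3, 5, 0, 2, 4, 3, 4, 5, 4, 6, 5, 1, 2, 3, 5, 6, 2, 3, 1, 2, 3, 5, 2, 3, 2, 3, 5, 3, 2, 3, 0, 4, 2, 3, 5, 0, 2, 4, 3, 4, 5, 4, 6, 5, 1, 2, 3, 5, 6, 2, 3, 1, 2, 3, 5, 2, 3, 2, 3, 5, 3, 2, 3, 22, 28, 5, 1, 0, 1, 0, 4, 2, 3, 5, 0, 2, 4, 3, 4, 5, 4, 6, 5, 1, 2, 3, 5, 6, 2, 3, 1, 2, 3, 5, 2, 3, 2, 3, 5, 3, 2, 3, 5, 1, 0, 1] [.out 638]]],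
  .sub [6, 15, 9, 10] [.sub [23, 1, 13, 1, 28] [.sub [0, 4, 2, 3, 5, 0, 2, 4, 3, 4, 5, 4, 6, 5, 1, 2, 3, 5, 6, 2, 3, 1, 2, 3, 5, 2, 3, 2, 3, 5, 3, 2, 3, 0, 4, 2, 3, 5, 0, 2, 4, 3, 4, 5, 4, 6, 5, 1, 2, 3, 5, 6, 2, 3, 1, 2, 3, 5, 2, 3, 2, 3, 5, 3, 2, 3, 5, 6, 5, 1, 6, 2, 1, 0, 3, 1, 2, 3, 1, 2, 3, 1, 4, 2, 1, 3, 2, 3, 1, 2, 3, 4, 1, 2, 3, 5, 2, 0, 0, 4, 2, 3, 5, 0, 2, 4, 3, 4, 5, 4, 6, 5, 1, 2, 3, 5, 6, 2, 3, 1, 2, 3, 5, 2, 3, 2, 3, 5, 3, 2, 3] [.done 6]]],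
  .sub [9, 15, 9, 10] [.out 644],
  .sub [10, 15, 9, 10] [.out 1797],
  .sub [13, 15, 9, 10] [.out 1538],
  .sub [6, 8, 11, 10] [.out 1236],
  .sub [9, 8, 11, 10] [.out 3]]

/-- Branches. -/
def kidsXPart7 : List Branch := [
  .sub [6, 14, 11, 10] [.out 470],
  .sub [9, 14, 11, 10] [.out 1564],
  .sub [6, 15, 11, 10] [.out 470],
  .sub [9, 15, 11, 10] [.out 1090],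
  .sub [6, 3, 14, 10] [.out 444],
  .sub [10, 3, 14, 10] [.out 1858],
  .sub [25, 3, 14, 10] [.out 521],
  .sub [9, 8, 14, 10] [.out 1939],
  .sub [9, 9, 14, 10] [.out 290],
  .sub [10, 12, 14, 10] [.out 1804],
  .sub [6, 13, 14, 10] [.out 1383],
  .sub [9, 13, 14, 10] [.out 1963],
  .sub [10, 13, 14, 10] [.out 617],
  .sub [1, 14, 14, 10] [.out 272],
  .sub [6, 14, 14, 10] [.out 1282],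
  .sub [9, 14, 14, 10] [.out 224],
  .sub [10, 0, 15, 10] [.out 910],
  .sub [27, 0, 15, 10] [.sub [28, 1, 13, 1, 28, 23] [.out 1498]],
  .sub [9, 1, 15, 10] [.out 1127],
  .sub [3, 6, 15, 10] [.sub [22, 1, 13, 1, 1, 13, 1, 1, 13, 1] [.out 714]],
  .sub [8, 6, 15, 10] [.out 867],
  .sub [11, 6, 15, 10] [.sub [22, 23, 1, 13, 1, 22, 1, 13, 1] [.sub [5, 1, 0, 1, 5, 6, 5, 1, 6, 2, 1, 0, 3, 1, 2, 3, 1, 2, 3, 1, 4, 2, 1, 3, 2, 3, 1, 2, 3, 4, 1, 2, 3, 5, 2, 0] [.out 1060]]],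
  .sub [12, 6, 15, 10] [.out 125],
  .sub [13, 6, 15, 10] [.out 901],
  .sub [27, 6, 15, 10] [.sub [28, 1, 13, 1, 28, 23] [.sub [0, 4, 2, 3, 5, 0, 2, 4, 3, 4, 5, 4, 6, 5, 1, 2, 3, 5, 6, 2, 3, 1, 2, 3, 5, 2, 3, 2, 3, 5, 3, 2, 3, 0, 4, 2, 3, 5, 0, 2, 4, 3, 4, 5, 4, 6, 5, 1, 2, 3, 5, 6, 2, 3, 1, 2, 3, 5, 2, 3, 2, 3, 5, 3, 2, 3, 5, 6, 5, 1, 6, 2, 1, 0, 3, 1, 2, 3, 1, 2, 3, 1, 4, 2, 1, 3, 2, 3, 1, 2, 3, 4, 1, 2, 3, 5, 2, 0, 0, 4, 2, 3, 5, 0, 2, 4, 3, 4, 5, 4, 6, 5, 1, 2, 3, 5, 6, 2, 3, 1, 2, 3, 5, 2, 3, 2, 3, 5, 3, 2, 3] [.out 1517]]],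
  .sub [3, 9, 15, 10] [.out 1874],
  .sub [9, 9, 15, 10] [.out 1960],
  .sub [11, 9, 15, 10] [.sub [28, 23, 28, 23, 23] [.sub [22, 28, 0, 4, 2, 3, 5, 0, 2, 4, 3, 4, 5, 4, 6, 5, 1, 2, 3, 5, 6, 2, 3, 1, 2, 3, 5, 2, 3, 2, 3, 5, 3, 2, 3, 5, 6, 5, 1, 6, 2, 1, 0, 3, 1, 2, 3, 1, 2, 3, 1, 4, 2, 1, 3, 2, 3, 1, 2, 3, 4, 1, 2, 3, 5, 2, 0, 0, 4, 2, 3, 5, 0, 2, 4, 3, 4, 5, 4, 6, 5, 1, 2, 3, 5, 6, 2, 3, 1, 2, 3, 5, 2, 3, 2, 3, 5, 3, 2, 3] [.out 1229]]],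
  .sub [13, 9, 15, 10] [.out 1446],
  .sub [14, 9, 15, 10] [.out 52],
  .sub [18, 9, 15, 10] [.sub [1, 13, 1, 23, 1, 13, 1] [.out 826]],
  .sub [23, 9, 15, 10] [.out 1331],
  .sub [25, 9, 15, 10] [.out 1620],
  .sub [27, 9, 15, 10] [.out 125],
  .sub [1, 10, 15, 10] [.out 240],
  .sub [2, 10, 15, 10] [.out 1156],
  .sub [6, 10, 15, 10] [.out 1019],
  .sub [7, 10, 15, 10] [.out 1238],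
  .sub [8, 10, 15, 10] [.sub [1, 13, 1, 22, 28, 1, 13, 1, 1, 13, 1] [.sub [0, 4, 2, 3, 5, 0, 2, 4, 3, 4, 5, 4, 6, 5, 1, 2, 3, 5, 6, 2, 3, 1, 2, 3, 5, 2, 3, 2, 3, 5, 3, 2, 3, 0, 4, 2, 3, 5, 0, 2, 4, 3, 4, 5, 4, 6, 5, 1, 2, 3, 5, 6, 2, 3, 1, 2, 3, 5, 2, 3, 2, 3, 5, 3, 2, 3, 22, 28] [.out 1189]]],
  .sub [9, 10, 15, 10] [.sub [23, 28, 28, 23, 23] [.sub [22, 28, 0, 4, 2, 3, 5, 0, 2, 4, 3, 4, 5, 4, 6, 5, 1, 2, 3, 5, 6, 2, 3, 1, 2, 3, 5, 2, 3, 2, 3, 5, 3, 2, 3, 0, 4, 2, 3, 5, 0, 2, 4, 3, 4, 5, 4, 6, 5, 1, 2, 3, 5, 6, 2, 3, 1, 2, 3, 5, 2, 3, 2, 3, 5, 3, 2, 3, 5, 1, 0, 1, 5, 6, 5, 1, 6, 2, 1, 0, 3, 1, 2, 3, 1, 2, 3, 1, 4, 2, 1, 3, 2, 3, 1, 2, 3, 4, 1, 2, 3, 5, 2, 0] [.out 495]]],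
  .sub [10, 10, 15, 10] [.sub [22, 28, 1, 13, 1, 1, 13, 1, 1, 13, 1] [.out 412]],
  .sub [12, 10, 15, 10] [.out 1763],
  .sub [13, 10, 15, 10] [.out 1618],
  .sub [15, 10, 15, 10] [.out 94],
  .sub [18, 10, 15, 10] [.out 459],
  .sub [23, 10, 15, 10] [.sub [23, 28, 23, 1, 13, 1, 23, 23] [.sub [5, 6, 5, 1, 6, 2, 1, 0, 3, 1, 2, 3, 1, 2, 3, 1, 4, 2, 1, 3, 2, 3, 1, 2, 3, 4, 1, 2, 3, 5, 2, 0, 0, 4, 2, 3, 5, 0, 2, 4, 3, 4, 5, 4, 6, 5, 1, 2, 3, 5, 6, 2, 3, 1, 2, 3, 5, 2, 3, 2, 3, 5, 3, 2, 3, 5, 1, 0, 1, 0, 4, 2, 3, 5, 0, 2, 4, 3, 4, 5, 4, 6, 5, 1, 2, 3, 5, 6, 2, 3, 1, 2, 3, 5, 2, 3, 2, 3, 5, 3, 2, 3, 5, 6, 5, 1, 6, 2, 1, 0, 3, 1, 2, 3, 1, 2, 3, 1, 4, 2, 1, 3, 2, 3, 1, 2, 3, 4, 1, 2, 3, 5, 2, 0, 5, 6, 5, 1, 6, 2,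 1, 0, 3, 1, 2, 3, 1, 2, 3, 1, 4, 2, 1, 3, 2, 3, 1, 2, 3, 4, 1, 2, 3, 5, 2, 0] [.done 9]]],
  .sub [25, 10, 15, 10] [.sub [1, 13, 1, 23, 23, 1, 13, 1] [.out 345]],
  .sub [27, 10, 15, 10] [.out 453],
  .sub [9, 11, 15, 10] [.sub [23, 1, 13, 1, 23, 23, 28] [.sub [0, 4, 2, 3, 5, 0, 2, 4, 3, 4, 5, 4, 6, 5, 1, 2, 3, 5, 6, 2, 3, 1, 2, 3, 5, 2, 3, 2, 3, 5, 3, 2, 3, 0, 4, 2, 3, 5, 0, 2, 4, 3, 4, 5, 4, 6, 5, 1, 2, 3, 5, 6, 2, 3, 1, 2, 3, 5, 2, 3, 2, 3, 5, 3, 2, 3, 5, 1, 0, 1] [.out 1678]]],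
  .sub [6, 13, 15, 10] [.out 1120],
  .sub [8, 13, 15, 10] [.out 899],
  .sub [10, 13, 15, 10] [.sub [1, 13, 1, 22, 1, 13, 1, 28, 28, 23] [.sub [5, 1, 0, 1, 5, 6, 5, 1, 6, 2, 1, 0, 3, 1, 2, 3, 1, 2, 3, 1, 4, 2, 1, 3, 2, 3, 1, 2, 3, 4, 1, 2, 3, 5, 2, 0, 0, 4, 2, 3, 5, 0, 2, 4, 3, 4, 5, 4, 6, 5, 1, 2, 3, 5, 6, 2, 3, 1, 2, 3, 5, 2, 3, 2, 3, 5, 3, 2, 3, 22, 28] [.out 299]]],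
  .sub [20, 13, 15, 10] [.out 290],
  .sub [9, 11, 16, 10] [.out 1453],
  .sub [1, 12, 16, 10] [.out 1760],
  .sub [9, 12, 16, 10] [.out 201],
  .sub [10, 12, 16, 10] [.out 900],
  .sub [1, 21, 16, 10] [.out 1466],
  .sub [9, 21, 16, 10] [.out 1574],
  .sub [10, 21, 16, 10] [.out 781],
  .sub [1, 20, 18, 10] [.out 1949],
  .sub [9, 20, 18, 10] [.out 788],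
  .sub [10, 0, 27, 10] [.sub [1, 13, 1, 22, 28, 23, 28, 23] [.out 333]],
  .sub [5, 1, 27, 10] [.out 1791],
  .sub [6, 1, 27, 10] [.out 1670],
  .sub [9, 1, 27, 10] [.sub [1, 13, 1, 1, 13, 1, 1, 13, 1, 23, 1, 13, 1, 28] [.out 575]],
  .sub [10, 1, 27, 10] [.out 1974],
  .sub [13, 1, 27, 10] [.out 1842],
  .sub [15, 1, 27, 10] [.out 1987],
  .sub [17, 1, 27, 10] [.sub [23, 1, 13, 1, 1, 13, 1, 1, 13, 1, 28, 23] [.sub [5, 1, 0, 1, 0, 4, 2, 3, 5, 0, 2, 4, 3, 4, 5, 4, 6, 5, 1, 2, 3, 5, 6, 2, 3, 1, 2, 3, 5, 2, 3, 2, 3, 5, 3, 2, 3, 5, 1, 0, 1, 0, 4, 2, 3, 5, 0, 2, 4, 3, 4, 5, 4, 6, 5, 1, 2, 3, 5, 6, 2, 3, 1, 2, 3, 5, 2, 3, 2, 3, 5, 3, 2, 3, 5, 6, 5, 1, 6, 2, 1, 0, 3, 1, 2, 3, 1, 2, 3, 1, 4, 2, 1, 3, 2, 3, 1, 2, 3,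 4, 1, 2, 3, 5, 2, 0, 5, 6, 5, 1, 6, 2, 1, 0, 3, 1, 2, 3, 1, 2, 3, 1, 4, 2, 1, 3, 2, 3, 1, 2, 3, 4, 1, 2, 3, 5, 2, 0] [.out 1372]]],
  .sub [23, 1, 27, 10] [.out 106],
  .sub [25, 1, 27, 10] [.sub [1, 13, 1, 28, 23, 23, 1, 13, 1, 23] [.out 488]],
  .sub [10, 3, 27, 10] [.sub [1, 13, 1, 23, 1, 13, 1, 28, 28] [.out 1027]],
  .sub [3, 6, 27, 10] [.sub [23, 28, 1, 13, 1, 28] [.out 1928]],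
  .sub [12, 6, 27, 10] [.sub [22, 1, 13, 1, 28, 23, 1, 13, 1] [.out 826]],
  .sub [13, 6, 27, 10] [.out 91],
  .sub [14, 6, 27, 10] [.out 100],
  .sub [3, 9, 27, 10] [.out 21],
  .sub [8, 9, 27, 10] [.out 699],
  .sub [9, 9, 27, 10] [.out 167],
  .sub [11, 9, 27, 10] [.out 1282],
  .sub [15, 9, 27, 10] [.out 1000],
  .sub [17, 9, 27, 10] [.out 1758],
  .sub [23, 9, 27, 10] [.out 2057],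
  .sub [1, 10, 27, 10] [.sub [1, 13, 1, 28, 1, 13, 1, 22, 23, 1, 13, 1, 28] [.out 404]],
  .sub [2, 10, 27, 10] [.out 256],
  .sub [7, 10, 27, 10] [.sub [28, 23, 23, 1, 13, 1, 23, 1, 13, 1, 28] [.sub [0, 4, 2, 3, 5, 0, 2, 4, 3, 4, 5, 4, 6, 5, 1, 2, 3, 5, 6, 2, 3, 1, 2, 3, 5, 2, 3, 2, 3, 5, 3, 2, 3, 0, 4, 2, 3, 5, 0, 2, 4, 3, 4, 5, 4, 6, 5, 1, 2, 3, 5, 6, 2, 3, 1, 2, 3, 5, 2, 3, 2, 3, 5, 3, 2, 3, 5, 6, 5, 1, 6, 2, 1, 0, 3, 1, 2, 3, 1, 2, 3, 1, 4, 2, 1, 3, 2, 3, 1, 2, 3, 4, 1, 2, 3, 5, 2, 0, 0, 4, 2, 3, 5, 0, 2, 4, 3, 4, 5, 4, 6, 5, 1, 2, 3, 5, 6, 2, 3, 1, 2, 3, 5, 2, 3, 2, 3, 5, 3, 2, 3, 5, 1, 0, 1, 22, 28] [.out 1509]]],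
  .sub [9, 10, 27, 10] [.out 1946],
  .sub [11, 10, 27, 10] [.out 718],
  .sub [12, 10, 27, 10] [.out 155],
  .sub [14, 10, 27, 10] [.out 2027],
  .sub [15, 10, 27, 10] [.out 660],
  .sub [18, 10, 27, 10] [.sub [23, 1, 13, 1, 23, 28] [.sub [5, 6, 5, 1, 6, 2, 1, 0, 3, 1, 2, 3, 1, 2, 3, 1, 4, 2, 1, 3, 2, 3, 1, 2, 3, 4, 1, 2, 3, 5, 2, 0, 5, 1, 0, 1, 0, 4, 2, 3, 5, 0, 2, 4, 3, 4, 5, 4, 6, 5, 1, 2, 3, 5, 6, 2, 3, 1, 2, 3, 5, 2, 3, 2, 3, 5, 3, 2, 3, 5, 1, 0, 1, 22, 28] [.out 67]]],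
  .sub [19, 10, 27, 10] [.sub [22, 23, 23, 1, 13, 1, 28, 28] [.out 1787]],
  .sub [21, 10, 27, 10] [.out 1906],
  .sub [25, 10, 27, 10] [.out 1845],
  .sub [9, 11, 27, 10] [.out 75],
  .sub [14, 11, 27, 10] [.sub [1, 13, 1, 28, 1, 13, 1, 1, 13, 1, 28, 28] [.sub [0, 4, 2, 3, 5, 0, 2, 4, 3, 4, 5, 4, 6, 5, 1, 2, 3, 5, 6, 2, 3, 1, 2, 3, 5, 2, 3, 2, 3, 5, 3, 2, 3] [.bad [0, 5, 2, 4, 1, 0, 3, 4, 3, 0, 2, 3, 4, 6, 2, 6, 3, 2, 3, 0, 1, 2, 3, 2, 3, 1, 2, 3, 5, 2, 1, 5, 1, 5, 2, 4, 3, 4, 0, 6, 2, 1, 6, 4, 3, 2, 3, 4, 2, 3, 1, 2, 3, 4, 2, 0, 1] 1]]],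
  .sub [6, 13, 27, 10] [.out 1698],
  .sub [9, 13, 27, 10] [.out 1806],
  .sub [10, 13, 27, 10] [.out 787],
  .sub [1, 15, 27, 10] [.sub [1, 13, 1, 28, 22, 1, 13, 1, 28, 23] [.out 1091]],
  .sub [8, 15, 27, 10] [.out 652],
  .sub [1, 16, 27, 10] [.out 1167],
  .sub [9, 16, 27, 10] [.out 621],
  .sub [6, 27, 27, 10] [.sub [22, 23, 1, 13, 1, 1, 13, 1, 28] [.out 736]],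
  .sub [9, 27, 27, 10] [.out 802],
  .sub [6, 8, 11, 2, 1] [.sub [1, 13, 1, 1, 13, 1, 28, 23, 28, 1, 13, 1, 28] [.sub [0, 4, 2, 3, 5, 0, 2, 4, 3, 4, 5, 4, 6, 5, 1, 2, 3, 5, 6, 2, 3, 1, 2, 3, 5, 2, 3, 2, 3, 5, 3, 2, 3, 5, 1, 0, 1, 0, 4, 2, 3, 5, 0, 2, 4, 3, 4, 5, 4, 6, 5, 1, 2, 3, 5, 6, 2, 3, 1, 2, 3, 5, 2, 3, 2, 3, 5, 3, 2, 3, 5, 6, 5, 1, 6, 2, 1, 0, 3, 1, 2, 3, 1, 2, 3, 1, 4, 2, 1, 3, 2, 3, 1, 2, 3, 4, 1, 2, 3, 5, 2, 0, 5, 6, 5, 1, 6, 2, 1, 0, 3, 1, 2, 3, 1, 2, 3, 1, 4, 2, 1, 3, 2, 3, 1, 2, 3, 4, 1, 2, 3, 5, 2, 0] [.out 323]]],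
  .sub [14, 8, 11, 2, 1] [.out 90],
  .sub [23, 8, 11, 2, 1] [.out 1676],
  .sub [25, 8, 11, 2, 1] [.out 1547],
  .sub [23, 14, 11, 2, 1] [.out 1474],
  .sub [25, 14, 11, 2, 1] [.out 1983],
  .sub [27, 14, 11, 2, 1] [.out 1849],
  .sub [8, 15, 11, 2, 1] [.out 661],
  .sub [20, 15, 11, 2, 1] [.out 1090],
  .sub [11, 20, 11, 2, 1] [.out 1212],
  .sub [14, 20, 11, 2, 1] [.sub [23, 1, 13, 1, 28, 1, 13, 1, 28, 23] [.out 2030]],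
  .sub [15, 20, 11, 2, 1] [.sub [1, 13, 1, 23, 1, 13, 1, 1, 13, 1, 23] [.out 1158]],
  .sub [27, 3, 14, 2, 1] [.out 1643],
  .sub [9, 8, 14, 2, 1] [.out 2036],
  .sub [10, 8, 14, 2, 1] [.out 2055],
  .sub [17, 8, 14, 2, 1] [.out 1028],
  .sub [25, 8, 14, 2, 1] [.sub [22, 1, 13, 1, 1, 13, 1, 23, 23, 28] [.sub [5, 1, 0, 1, 0, 4, 2, 3, 5, 0, 2, 4, 3, 4, 5, 4, 6, 5, 1, 2, 3, 5, 6, 2, 3, 1, 2, 3, 5, 2, 3, 2, 3, 5, 3, 2, 3, 5, 6, 5, 1, 6, 2, 1, 0, 3, 1, 2, 3, 1, 2, 3, 1, 4, 2, 1, 3, 2, 3, 1, 2, 3, 4, 1, 2, 3, 5, 2, 0, 0, 4, 2, 3, 5, 0, 2, 4, 3, 4, 5, 4, 6, 5, 1, 2, 3, 5, 6, 2, 3, 1, 2, 3, 5, 2, 3, 2, 3, 5, 3, 2, 3] [.out 578]]],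
  .sub [27, 8, 14, 2, 1] [.out 867],
  .sub [23, 9, 14, 2, 1] [.out 1107],
  .sub [25, 9, 14, 2, 1] [.out 1348],
  .sub [23, 11, 14, 2, 1] [.out 1087],
  .sub [25, 11, 14, 2, 1] [.out 2027],
  .sub [8, 13, 14, 2, 1] [.out 493],
  .sub [9, 20, 14, 2, 1] [.out 1682],
  .sub [10, 20, 14, 2, 1] [.out 699],
  .sub [11, 20, 14, 2, 1] [.out 699],
  .sub [3, 27, 14, 2, 1] [.out 2051],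
  .sub [9, 27, 14, 2, 1] [.out 1061],
  .sub [10, 27, 14, 2, 1] [.out 1337],
  .sub [11, 27, 14, 2, 1] [.out 1194],
  .sub [12, 27, 14, 2, 1] [.out 1534],
  .sub [13, 27, 14, 2, 1] [.out 1755],
  .sub [17, 27, 14, 2, 1] [.out 1803],
  .sub [23, 27, 14, 2, 1] [.out 1382],
  .sub [25, 27, 14, 2, 1] [.out 1191],
  .sub [27, 27, 14, 2, 1] [.out 628],
  .sub [11, 10, 15, 2, 1] [.out 142],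
  .sub [27, 10, 15, 2, 1] [.out 670],
  .sub [27, 11, 15, 2, 1] [.out 1840],
  .sub [9, 20, 3, 6, 1] [.out 4],
  .sub [14, 3, 8, 6, 1] [.out 141],
  .sub [15, 3, 8, 6, 1] [.sub [23, 28, 28, 23, 28, 28] [.out 2026]],
  .sub [17, 3, 8, 6, 1] [.out 1756],
  .sub [20, 3, 8, 6, 1] [.out 479],
  .sub [23, 3, 8, 6, 1] [.out 1060],
  .sub [25, 3, 8, 6, 1] [.out 821],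
  .sub [14, 9, 8, 6, 1] [.out 1389],
  .sub [20, 9, 8, 6, 1] [.out 840],
  .sub [21, 9, 8, 6, 1] [.out 1715],
  .sub [23, 9, 8, 6, 1] [.out 1741],
  .sub [1, 10, 8, 6, 1] [.sub [28, 28, 1, 13, 1, 23, 1, 13, 1, 28] [.out 728]],
  .sub [11, 10, 8, 6, 1] [.out 1650],
  .sub [15, 10, 8, 6, 1] [.out 570],
  .sub [15, 11, 8, 6, 1] [.out 1678],
  .sub [20, 11, 8, 6, 1] [.out 831],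
  .sub [25, 11, 8, 6, 1] [.out 1994],
  .sub [9, 12, 8, 6, 1] [.out 2039],
  .sub [11, 12, 8, 6, 1] [.out 389],
  .sub [14, 12, 8, 6, 1] [.out 1878],
  .sub [15, 13, 8, 6, 1] [.out 1741],
  .sub [3, 14, 8, 6, 1] [.sub [1, 13, 1, 1, 13, 1, 28, 28, 23] [.sub [5, 6, 5, 1, 6, 2, 1, 0, 3, 1, 2, 3, 1, 2, 3, 1, 4, 2, 1, 3, 2, 3, 1, 2, 3, 4, 1, 2, 3, 5, 2, 0, 0, 4, 2, 3, 5, 0, 2, 4, 3, 4, 5, 4, 6, 5, 1, 2, 3, 5, 6, 2, 3, 1, 2, 3, 5, 2, 3, 2, 3, 5, 3, 2, 3, 0, 4, 2, 3, 5, 0, 2, 4, 3, 4, 5, 4, 6, 5, 1, 2, 3, 5, 6, 2, 3, 1, 2, 3, 5, 2, 3, 2, 3, 5, 3, 2, 3, 5, 1, 0, 1, 5, 6, 5, 1, 6, 2, 1, 0, 3, 1, 2, 3, 1, 2, 3, 1, 4, 2, 1, 3, 2, 3, 1, 2, 3, 4, 1, 2, 3, 5, 2, 0] [.done 13]]],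
  .sub [10, 14, 8, 6, 1] [.out 1727],
  .sub [11, 14, 8, 6, 1] [.out 1191],
  .sub [13, 14, 8, 6, 1] [.out 259],
  .sub [14, 14, 8, 6, 1] [.sub [23, 23, 28, 28, 23] [.out 1177]],
  .sub [20, 14, 8, 6, 1] [.out 713],
  .sub [21, 14, 8, 6, 1] [.out 1557],
  .sub [13, 15, 8, 6, 1] [.sub [28, 1, 13, 1, 1, 13, 1, 1, 13, 1, 23] [.out 554]],
  .sub [20, 15, 8, 6, 1] [.out 166],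
  .sub [21, 15, 8, 6, 1] [.out 1876],
  .sub [9, 23, 8, 6, 1] [.out 1613],
  .sub [10, 23, 8, 6, 1] [.sub [1, 13, 1, 28, 23, 28, 28] [.out 1063]],
  .sub [11, 23, 8, 6, 1] [.sub [23, 28] [.out 1535]],
  .sub [14, 23, 8, 6, 1] [.out 115],
  .sub [15, 23, 8, 6, 1] [.out 1016],
  .sub [9, 25, 8, 6, 1] [.out 1764],
  .sub [10, 25, 8, 6, 1] [.out 1448],
  .sub [11, 25, 8, 6, 1] [.out 1508],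
  .sub [14, 25, 8, 6, 1] [.sub [22, 23, 1, 13, 1, 1, 13, 1, 28] [.out 345]],
  .sub [15, 25, 8, 6, 1] [.out 355],
  .sub [14, 8, 11, 6, 1] [.out 2033],
  .sub [17, 8, 11, 6, 1] [.out 553],
  .sub [23, 8, 11, 6, 1] [.out 1044],
  .sub [25, 8, 11, 6, 1] [.out 984],
  .sub [8, 25, 11, 6, 1] [.out 1003]]

/-- Branches. -/
def kidsXPart8 : List Branch := [
  .sub [14, 27, 11, 6, 1] [.sub [1, 13, 1, 28, 1, 13, 1, 1, 13, 1] [.sub [5, 1, 0, 1, 0, 4, 2, 3, 5, 0, 2, 4, 3, 4, 5, 4, 6, 5, 1, 2, 3, 5, 6, 2, 3, 1, 2, 3, 5, 2, 3, 2, 3, 5, 3, 2, 3, 5, 1, 0, 1, 5, 6, 5, 1, 6, 2, 1, 0, 3, 1, 2, 3, 1, 2, 3, 1, 4, 2, 1, 3, 2, 3, 1, 2, 3, 4, 1, 2, 3, 5, 2, 0, 0, 4, 2, 3, 5, 0, 2, 4, 3, 4, 5, 4, 6, 5, 1, 2, 3, 5, 6, 2, 3, 1, 2,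 3, 5, 2, 3, 2, 3, 5, 3, 2, 3] [.out 1372]]],
  .sub [15, 27, 11, 6, 1] [.out 151],
  .sub [17, 27, 11, 6, 1] [.out 20],
  .sub [23, 27, 11, 6, 1] [.out 999],
  .sub [25, 27, 11, 6, 1] [.out 928],
  .sub [11, 8, 12, 6, 1] [.out 653],
  .sub [12, 8, 12, 6, 1] [.out 1624],
  .sub [13, 8, 12, 6, 1] [.out 922],
  .sub [14, 8, 12, 6, 1] [.out 83],
  .sub [9, 27, 12, 6, 1] [.out 468],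
  .sub [10, 27, 12, 6, 1] [.out 1923],
  .sub [12, 27, 12, 6, 1] [.out 1261],
  .sub [14, 27, 12, 6, 1] [.out 930],
  .sub [15, 27, 12, 6, 1] [.out 1195],
  .sub [23, 0, 8, 9, 1] [.out 1082],
  .sub [14, 4, 8, 9, 1] [.out 2055],
  .sub [20, 4, 8, 9, 1] [.out 1354],
  .sub [23, 4, 8, 9, 1] [.out 1439],
  .sub [15, 5, 8, 9, 1] [.sub [1, 13, 1, 28] [.sub [0, 4, 2, 3, 5, 0, 2, 4, 3, 4, 5, 4, 6, 5, 1, 2, 3, 5, 6, 2, 3, 1, 2, 3, 5, 2, 3, 2, 3, 5, 3, 2, 3, 22, 28, 0, 4, 2, 3, 5, 0, 2, 4, 3, 4, 5, 4, 6, 5, 1, 2, 3, 5, 6, 2, 3, 1, 2, 3, 5, 2, 3, 2, 3, 5, 3, 2, 3] [.out 984]]],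
  .sub [20, 5, 8, 9, 1] [.out 81],
  .sub [15, 11, 8, 9, 1] [.out 764],
  .sub [20, 11, 8, 9, 1] [.out 1488],
  .sub [11, 12, 8, 9, 1] [.out 802],
  .sub [15, 12, 8, 9, 1] [.out 185],
  .sub [15, 13, 8, 9, 1] [.out 1313],
  .sub [20, 13, 8, 9, 1] [.out 281],
  .sub [0, 14, 8, 9, 1] [.out 875],
  .sub [1, 14, 8, 9, 1] [.out 406],
  .sub [4, 14, 8, 9, 1] [.out 320],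
  .sub [7, 14, 8, 9, 1] [.sub [1, 13, 1, 28, 23, 1, 13, 1, 1, 13, 1, 23, 28] [.sub [5, 1, 0, 1, 0, 4, 2, 3, 5, 0, 2, 4, 3, 4, 5, 4, 6, 5, 1, 2, 3, 5, 6, 2, 3, 1, 2, 3, 5, 2, 3, 2, 3, 5, 3, 2, 3, 0, 4, 2, 3, 5, 0, 2, 4, 3, 4, 5, 4, 6, 5, 1, 2, 3, 5, 6, 2, 3, 1, 2, 3, 5, 2, 3, 2, 3, 5, 3, 2, 3] [.done 11]]],
  .sub [13, 14, 8, 9, 1] [.out 1196],
  .sub [14, 14, 8, 9, 1] [.out 1042],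
  .sub [16, 14, 8, 9, 1] [.out 710],
  .sub [17, 14, 8, 9, 1] [.out 143],
  .sub [20, 14, 8, 9, 1] [.out 1543],
  .sub [25, 14, 8, 9, 1] [.out 1606],
  .sub [27, 14, 8, 9, 1] [.out 880],
  .sub [4, 15, 8, 9, 1] [.sub [1, 13, 1, 23, 28, 23] [.out 700]],
  .sub [8, 15, 8, 9, 1] [.out 1715],
  .sub [20, 15, 8, 9, 1] [.out 1903],
  .sub [21, 15, 8, 9, 1] [.sub [22, 1, 13, 1, 28, 23] [.sub [5, 6, 5, 1, 6, 2, 1, 0, 3, 1, 2, 3, 1, 2, 3, 1, 4, 2, 1, 3, 2, 3, 1, 2, 3, 4, 1, 2, 3, 5, 2, 0, 0, 4, 2, 3, 5, 0, 2, 4, 3, 4, 5, 4, 6, 5, 1, 2, 3, 5, 6, 2, 3, 1, 2, 3, 5, 2, 3, 2, 3, 5, 3, 2, 3, 0, 4, 2, 3, 5, 0, 2, 4, 3, 4, 5, 4, 6, 5, 1, 2, 3, 5, 6, 2, 3, 1, 2, 3, 5, 2, 3, 2, 3, 5, 3, 2, 3, 22, 28, 5, 1, 0, 1, 0, 4, 2, 3,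 5, 0, 2, 4, 3, 4, 5, 4, 6, 5, 1, 2, 3, 5, 6, 2, 3, 1, 2, 3, 5, 2, 3, 2, 3, 5, 3, 2, 3, 5, 1, 0, 1] [.out 718]]],
  .sub [4, 17, 8, 9, 1] [.out 1664],
  .sub [13, 17, 8, 9, 1] [.sub [28, 23, 1, 13, 1] [.sub [5, 6, 5, 1, 6, 2, 1, 0, 3, 1, 2, 3, 1, 2, 3, 1, 4, 2, 1, 3, 2, 3, 1, 2, 3, 4, 1, 2, 3, 5, 2, 0, 0, 4, 2, 3, 5, 0, 2, 4, 3, 4, 5, 4, 6, 5, 1, 2, 3, 5, 6, 2, 3, 1, 2, 3, 5, 2, 3, 2, 3, 5, 3, 2, 3, 5, 6, 5, 1, 6, 2, 1, 0, 3, 1, 2, 3, 1, 2, 3, 1, 4, 2, 1, 3, 2, 3, 1, 2, 3, 4, 1, 2, 3, 5, 2, 0, 5, 1, 0, 1, 0, 4, 2, 3, 5, 0, 2, 4, 3, 4, 5, 4, 6, 5, 1, 2, 3, 5, 6, 2, 3, 1, 2, 3, 5, 2, 3, 2, 3, 5, 3, 2, 3, 5, 6, 5, 1, 6, 2, 1, 0, 3, 1, 2, 3, 1, 2, 3, 1, 4, 2, 1, 3, 2, 3, 1, 2, 3, 4, 1, 2, 3, 5, 2, 0] [.out 1628]]],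
  .sub [15, 17, 8, 9, 1] [.out 965],
  .sub [16, 17, 8, 9, 1] [.out 1615],
  .sub [17, 17, 8, 9, 1] [.out 899],
  .sub [20, 17, 8, 9, 1] [.out 396],
  .sub [22, 17, 8, 9, 1] [.out 1064],
  .sub [23, 17, 8, 9, 1] [.out 596],
  .sub [25, 17, 8, 9, 1] [.out 259],
  .sub [27, 17, 8, 9, 1] [.out 2007],
  .sub [3, 20, 8, 9, 1] [.out 1655],
  .sub [14, 20, 8, 9, 1] [.out 1365],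
  .sub [17, 20, 8, 9, 1] [.out 988],
  .sub [23, 20, 8, 9, 1] [.out 1718],
  .sub [27, 20, 8, 9, 1] [.out 742],
  .sub [3, 21, 8, 9, 1] [.out 2020],
  .sub [14, 21, 8, 9, 1] [.out 1171],
  .sub [15, 21, 8, 9, 1] [.out 365],
  .sub [18, 21, 8, 9, 1] [.sub [1, 13, 1, 23, 23, 28, 28] [.sub [5, 6, 5, 1, 6, 2, 1, 0, 3, 1, 2, 3, 1, 2, 3, 1, 4, 2, 1, 3, 2, 3, 1, 2, 3, 4, 1, 2, 3, 5, 2, 0] [.done 3]]],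
  .sub [23, 21, 8, 9, 1] [.out 405],
  .sub [27, 21, 8, 9, 1] [.out 1447],
  .sub [1, 23, 8, 9, 1] [.out 1351],
  .sub [2, 23, 8, 9, 1] [.out 1140],
  .sub [3, 23, 8, 9, 1] [.sub [1, 13, 1, 23, 1, 13, 1, 1, 13, 1, 22, 1, 13, 1] [.sub [0, 4, 2, 3, 5, 0, 2, 4, 3, 4, 5, 4, 6, 5, 1, 2, 3, 5, 6, 2, 3, 1, 2, 3, 5, 2, 3, 2, 3, 5, 3, 2, 3, 0, 4, 2, 3, 5, 0, 2, 4, 3, 4, 5, 4, 6, 5, 1, 2, 3, 5, 6, 2, 3, 1, 2, 3, 5, 2, 3, 2, 3, 5, 3, 2, 3, 22, 28, 5, 1, 0, 1, 0, 4, 2, 3, 5, 0, 2, 4, 3, 4, 5, 4, 6, 5, 1, 2, 3, 5, 6, 2, 3, 1, 2, 3, 5, 2, 3, 2, 3, 5, 3, 2, 3, 5, 1, 0, 1] [.out 1517]]],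
  .sub [8, 23, 8, 9, 1] [.out 2014],
  .sub [9, 23, 8, 9, 1] [.out 1848],
  .sub [11, 23, 8, 9, 1] [.out 1304],
  .sub [15, 23, 8, 9, 1] [.sub [22, 1, 13, 1, 1, 13, 1, 23, 1, 13, 1, 28] [.sub [0, 4, 2, 3, 5, 0, 2, 4, 3, 4, 5, 4, 6, 5, 1, 2, 3, 5, 6, 2, 3, 1, 2, 3, 5, 2, 3, 2, 3, 5, 3, 2, 3, 5, 1, 0, 1, 0, 4, 2, 3, 5, 0, 2, 4, 3, 4, 5, 4, 6, 5, 1, 2, 3, 5, 6, 2, 3, 1, 2, 3, 5, 2, 3, 2, 3, 5, 3, 2, 3, 0, 4, 2, 3, 5, 0, 2, 4, 3, 4, 5, 4, 6, 5, 1, 2, 3, 5, 6, 2, 3, 1, 2, 3, 5, 2, 3, 2, 3, 5, 3, 2, 3] [.out 178]]],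
  .sub [16, 23, 8, 9, 1] [.out 1712],
  .sub [17, 23, 8, 9, 1] [.out 923],
  .sub [1, 25, 8, 9, 1] [.out 2052],
  .sub [3, 25, 8, 9, 1] [.sub [1, 13, 1, 23, 23, 28, 28, 23] [.out 1119]],
  .sub [8, 25, 8, 9, 1] [.sub [23, 28, 22, 1, 13, 1] [.sub [5, 1, 0, 1, 0, 4, 2, 3, 5, 0, 2, 4, 3, 4, 5, 4, 6, 5, 1, 2, 3, 5, 6, 2, 3, 1, 2, 3, 5, 2, 3, 2, 3, 5, 3, 2, 3, 0, 4, 2, 3, 5, 0, 2, 4, 3, 4, 5, 4, 6, 5, 1, 2, 3, 5, 6, 2, 3, 1, 2, 3, 5, 2, 3, 2, 3, 5, 3, 2, 3, 22, 28, 0, 4, 2, 3, 5, 0, 2, 4, 3, 4, 5, 4, 6, 5, 1, 2, 3, 5, 6, 2, 3, 1, 2, 3, 5, 2, 3, 2, 3, 5, 3, 2, 3, 5, 6, 5, 1, 6, 2, 1, 0, 3, 1, 2, 3, 1, 2, 3, 1, 4, 2, 1, 3, 2, 3, 1, 2, 3, 4, 1, 2, 3, 5, 2, 0, 0, 4, 2, 3, 5, 0, 2, 4, 3, 4, 5, 4, 6, 5, 1, 2, 3, 5, 6,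 2, 3, 1, 2, 3, 5, 2, 3, 2, 3, 5, 3, 2, 3] [.out 1555]]],
  .sub [9, 25, 8, 9, 1] [.out 688],
  .sub [10, 25, 8, 9, 1] [.out 1334],
  .sub [12, 25, 8, 9, 1] [.out 1227],
  .sub [14, 25, 8, 9, 1] [.sub [1, 13, 1, 1, 13, 1, 28, 1, 13, 1, 22, 23, 1, 13, 1, 28] [.out 1497]],
  .sub [15, 25, 8, 9, 1] [.out 1455],
  .sub [18, 25, 8, 9, 1] [.out 355],
  .sub [27, 25, 8, 9, 1] [.out 1390],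
  .sub [6, 27, 8, 9, 1] [.out 1546],
  .sub [9, 27, 8, 9, 1] [.sub [23, 1, 13, 1, 23, 28, 23, 1, 13, 1] [.sub [0, 4, 2, 3, 5, 0, 2, 4, 3, 4, 5, 4, 6, 5, 1, 2, 3, 5, 6, 2, 3, 1, 2, 3, 5, 2, 3, 2, 3, 5, 3, 2, 3, 5, 6, 5, 1, 6, 2, 1, 0, 3, 1, 2, 3, 1, 2, 3, 1, 4, 2, 1, 3, 2, 3, 1, 2, 3, 4, 1, 2, 3, 5, 2, 0, 5, 6, 5, 1, 6, 2, 1, 0, 3, 1, 2, 3, 1, 2, 3, 1, 4, 2, 1, 3, 2, 3, 1, 2, 3, 4, 1, 2, 3, 5, 2, 0] [.out 1813]]],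
  .sub [10, 27, 8, 9, 1] [.out 226],
  .sub [23, 27, 8, 9, 1] [.out 275],
  .sub [25, 27, 8, 9, 1] [.out 1700],
  .sub [10, 8, 9, 9, 1] [.sub [1, 13, 1, 23, 23, 23, 23, 28] [.sub [22, 28, 0, 4, 2, 3, 5, 0, 2, 4, 3, 4, 5, 4, 6, 5, 1, 2, 3, 5, 6, 2, 3, 1, 2, 3, 5, 2, 3, 2, 3, 5, 3, 2, 3, 22, 28, 5, 6, 5, 1, 6, 2, 1, 0, 3, 1, 2, 3, 1, 2, 3, 1, 4, 2, 1, 3, 2, 3, 1, 2, 3, 4, 1, 2, 3, 5, 2, 0, 0, 4, 2, 3, 5, 0, 2, 4, 3, 4, 5, 4, 6, 5, 1, 2, 3, 5, 6, 2, 3, 1, 2, 3, 5, 2, 3, 2, 3, 5, 3, 2, 3, 22, 28] [.out 78]]],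
  .sub [17, 8, 9, 9, 1] [.out 2041],
  .sub [20, 8, 9, 9, 1] [.sub [28, 23, 28, 1, 13, 1, 1, 13, 1] [.sub [22, 28, 0, 4, 2, 3, 5, 0, 2, 4, 3, 4, 5, 4, 6, 5, 1, 2, 3, 5, 6, 2, 3, 1, 2, 3, 5, 2, 3, 2, 3, 5, 3, 2, 3, 5, 1, 0, 1, 5, 6, 5, 1, 6, 2, 1, 0, 3, 1, 2, 3, 1, 2, 3, 1, 4, 2, 1, 3, 2, 3, 1, 2, 3, 4, 1, 2, 3, 5, 2, 0] [.out 863]]],
  .sub [21, 8, 9, 9, 1] [.out 1465],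
  .sub [23, 8, 9, 9, 1] [.sub [22, 1, 13, 1, 1, 13, 1, 1, 13, 1] [.out 1498]],
  .sub [25, 8, 9, 9, 1] [.sub [28, 23, 28, 28] [.out 889]],
  .sub [18, 17, 9, 9, 1] [.out 1259],
  .sub [27, 17, 9, 9, 1] [.sub [22, 28, 23, 23] [.sub [5, 6, 5, 1, 6, 2, 1, 0, 3, 1, 2, 3, 1, 2, 3, 1, 4, 2, 1, 3, 2, 3, 1, 2, 3, 4, 1, 2, 3, 5, 2, 0, 5, 6, 5, 1, 6, 2, 1, 0, 3, 1, 2, 3, 1, 2, 3, 1, 4, 2, 1, 3, 2, 3, 1, 2, 3, 4, 1, 2, 3, 5, 2, 0] [.out 235]]],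
  .sub [15, 20, 11, 9, 1] [.out 66],
  .sub [14, 23, 11, 9, 1] [.out 1734],
  .sub [0, 8, 14, 9, 1] [.out 76],
  .sub [5, 8, 14, 9, 1] [.out 1371],
  .sub [8, 8, 14, 9, 1] [.sub [22, 1, 13, 1, 23, 1, 13, 1, 1, 13, 1, 23] [.out 1117]],
  .sub [9, 8, 14, 9, 1] [.out 1389],
  .sub [12, 8, 14, 9, 1] [.sub [1, 13, 1, 22, 23, 1, 13, 1] [.sub [5, 6, 5, 1, 6, 2, 1, 0, 3, 1, 2, 3, 1, 2, 3, 1, 4, 2, 1, 3, 2, 3, 1, 2, 3, 4, 1, 2, 3, 5, 2, 0, 0, 4, 2, 3, 5, 0, 2, 4, 3, 4, 5, 4, 6, 5, 1, 2, 3, 5, 6, 2, 3, 1, 2, 3, 5, 2, 3, 2, 3, 5, 3, 2, 3, 5, 1, 0, 1, 5, 6, 5, 1, 6, 2, 1, 0, 3, 1, 2, 3, 1, 2, 3, 1, 4, 2, 1, 3, 2, 3, 1, 2, 3, 4, 1, 2, 3, 5, 2, 0] [.out 1106]]],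
  .sub [14, 8, 14, 9, 1] [.out 2039],
  .sub [15, 8, 14, 9, 1] [.out 447],
  .sub [20, 8, 14, 9, 1] [.out 910],
  .sub [21, 8, 14, 9, 1] [.sub [28, 28, 23, 28, 23, 28] [.sub [22, 28, 5, 6, 5, 1, 6, 2, 1, 0, 3, 1, 2, 3, 1, 2, 3, 1, 4, 2, 1, 3, 2, 3, 1, 2, 3, 4, 1, 2, 3, 5, 2, 0, 0, 4, 2, 3, 5, 0, 2, 4, 3, 4, 5, 4, 6, 5, 1, 2, 3, 5, 6, 2, 3, 1, 2, 3, 5, 2, 3, 2, 3, 5, 3, 2, 3, 5, 1, 0, 1] [.out 373]]],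
  .sub [8, 10, 14, 9, 1] [.sub [1, 13, 1, 23, 28, 1, 13, 1, 1, 13, 1, 28] [.sub [22, 28, 5, 1, 0, 1, 0, 4, 2, 3, 5, 0, 2, 4, 3, 4, 5, 4, 6, 5, 1, 2, 3, 5, 6, 2, 3, 1, 2, 3, 5, 2, 3, 2, 3, 5, 3, 2, 3] [.out 1298]]],
  .sub [11, 10, 14, 9, 1] [.out 2005],
  .sub [18, 10, 14, 9, 1] [.out 1841],
  .sub [4, 17, 14, 9, 1] [.out 498],
  .sub [8, 17, 14, 9, 1] [.out 93],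
  .sub [13, 17, 14, 9, 1] [.sub [28, 23, 28, 28] [.sub [0, 4, 2, 3, 5, 0, 2, 4, 3, 4, 5, 4, 6, 5, 1, 2, 3, 5, 6, 2, 3, 1, 2, 3, 5, 2, 3, 2, 3, 5, 3, 2, 3, 0, 4, 2, 3, 5, 0, 2, 4, 3, 4, 5, 4, 6, 5, 1, 2, 3, 5, 6, 2, 3, 1, 2, 3, 5, 2, 3, 2, 3, 5, 3, 2, 3, 22, 28, 0, 4, 2, 3, 5, 0, 2, 4, 3, 4, 5, 4, 6, 5, 1, 2, 3, 5, 6, 2, 3, 1, 2, 3, 5, 2, 3, 2, 3, 5, 3, 2, 3, 5, 1, 0, 1, 0, 4, 2, 3, 5, 0, 2, 4, 3, 4, 5, 4, 6, 5, 1, 2, 3, 5, 6, 2, 3, 1, 2, 3, 5, 2, 3, 2, 3, 5, 3, 2, 3, 22, 28] [.out 77]]],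
  .sub [17, 17, 14, 9, 1] [.out 1465],
  .sub [18, 17, 14, 9, 1] [.out 352],
  .sub [20, 17, 14, 9, 1] [.sub [28, 23, 28, 23, 23] [.out 2046]],
  .sub [23, 17, 14, 9, 1] [.out 1026],
  .sub [1, 20, 14, 9, 1] [.out 540],
  .sub [6, 20, 14, 9, 1] [.sub [22, 28, 1, 13, 1, 28, 23] [.out 314]],
  .sub [11, 20, 14, 9, 1] [.out 1906],
  .sub [15, 20, 14, 9, 1] [.out 1583],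
  .sub [16, 20, 14, 9, 1] [.sub [22, 1, 13, 1, 28, 1, 13, 1, 28] [.sub [0, 4, 2, 3, 5, 0, 2, 4, 3, 4, 5, 4, 6, 5, 1, 2, 3, 5, 6, 2, 3, 1, 2, 3, 5, 2, 3, 2, 3, 5, 3, 2, 3, 5, 1, 0, 1, 0, 4, 2, 3, 5, 0, 2, 4, 3, 4, 5, 4, 6, 5, 1, 2, 3, 5, 6, 2, 3, 1, 2, 3, 5, 2, 3, 2, 3, 5, 3, 2, 3, 22, 28, 0, 4, 2, 3, 5, 0, 2, 4, 3, 4, 5, 4, 6, 5, 1, 2, 3, 5, 6, 2, 3, 1, 2, 3, 5, 2, 3, 2, 3, 5, 3, 2, 3, 5, 1, 0, 1, 0, 4, 2, 3, 5, 0, 2, 4, 3, 4, 5, 4, 6, 5, 1, 2, 3, 5, 6, 2, 3, 1, 2, 3, 5, 2, 3, 2, 3, 5, 3, 2, 3, 22, 28] [.out 235]]],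
  .sub [23, 20, 14, 9, 1] [.out 1407],
  .sub [27, 20, 14, 9, 1] [.out 41],
  .sub [3, 21, 14, 9, 1] [.out 49],
  .sub [11, 21, 14, 9, 1] [.out 1849],
  .sub [15, 21, 14, 9, 1] [.out 822],
  .sub [25, 21, 14, 9, 1] [.out 1161],
  .sub [3, 23, 14, 9, 1] [.out 1865],
  .sub [8, 23, 14, 9, 1] [.out 1842],
  .sub [11, 23, 14, 9, 1] [.out 394],
  .sub [12, 23, 14, 9, 1] [.out 1448],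
  .sub [27, 23, 14, 9, 1] [.sub [28, 28, 1, 13, 1, 28, 1, 13, 1, 28] [.out 659]],
  .sub [2, 25, 14, 9, 1] [.out 1949],
  .sub [10, 25, 14, 9, 1] [.out 442],
  .sub [11, 25, 14, 9, 1] [.out 1212],
  .sub [12, 25, 14, 9, 1] [.out 1401],
  .sub [5, 27, 14, 9, 1] [.sub [28, 1, 13, 1, 1, 13, 1, 1, 13, 1] [.sub [5, 6, 5, 1, 6, 2, 1, 0, 3, 1, 2, 3, 1, 2, 3, 1, 4, 2, 1, 3, 2, 3, 1, 2, 3, 4, 1, 2, 3, 5, 2, 0, 0, 4, 2, 3, 5, 0, 2, 4, 3, 4, 5, 4, 6, 5, 1, 2, 3, 5, 6, 2, 3, 1, 2, 3, 5, 2, 3, 2, 3, 5, 3, 2, 3, 5, 6, 5, 1, 6, 2, 1, 0, 3, 1, 2, 3, 1, 2, 3, 1, 4, 2, 1, 3, 2, 3, 1, 2, 3, 4, 1, 2, 3, 5, 2, 0, 5, 6, 5, 1, 6, 2, 1, 0, 3, 1, 2, 3, 1, 2, 3, 1, 4, 2, 1, 3, 2, 3, 1, 2, 3, 4, 1, 2, 3, 5, 2, 0] [.out 235]]],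
  .sub [9, 27, 14, 9, 1] [.sub [22, 23, 28, 23] [.out 704]],
  .sub [11, 27, 14, 9, 1] [.sub [1, 13, 1, 28, 1, 13, 1, 22, 1, 13, 1] [.sub [5, 1, 0, 1, 22, 28, 0, 4, 2, 3, 5, 0, 2, 4, 3, 4, 5, 4, 6, 5, 1, 2, 3, 5, 6, 2, 3, 1, 2, 3, 5, 2, 3, 2, 3, 5, 3, 2, 3, 22, 28, 0, 4, 2, 3, 5, 0, 2, 4, 3, 4, 5, 4, 6, 5, 1, 2, 3, 5, 6, 2, 3, 1, 2, 3, 5, 2, 3, 2, 3, 5, 3, 2, 3, 5, 1, 0, 1, 22, 28] [.out 1083]]],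
  .sub [12, 27, 14, 9, 1] [.out 979],
  .sub [17, 27, 14, 9, 1] [.out 1310],
  .sub [17, 27, 16, 9, 1] [.out 1205],
  .sub [23, 27, 16, 9, 1] [.sub [23, 28, 28, 23, 23, 1, 13, 1] [.out 1535]],
  .sub [8, 6, 17, 9, 1] [.sub [28, 1, 13, 1, 28, 23, 28, 23] [.out 197]],
  .sub [14, 6, 17, 9, 1] [.out 973],
  .sub [4, 8, 17, 9, 1] [.out 1617],
  .sub [14, 8, 17, 9, 1] [.out 1984],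
  .sub [15, 8, 17, 9, 1] [.sub [22, 1, 13, 1, 1, 13, 1, 23, 1, 13, 1, 28] [.sub [0, 4, 2, 3, 5, 0, 2, 4, 3, 4, 5, 4, 6, 5, 1, 2, 3, 5, 6, 2, 3, 1, 2, 3, 5, 2, 3, 2, 3, 5, 3, 2, 3, 5, 6, 5, 1, 6, 2, 1, 0, 3, 1, 2, 3, 1, 2, 3, 1, 4, 2, 1, 3, 2, 3, 1, 2, 3, 4, 1, 2, 3, 5, 2, 0, 5, 1, 0, 1, 0, 4, 2, 3, 5, 0, 2, 4, 3, 4, 5, 4, 6, 5, 1, 2, 3, 5, 6, 2, 3, 1, 2, 3, 5, 2, 3, 2, 3, 5, 3, 2, 3, 5, 1, 0, 1] [.bad [0, 2, 6, 4, 3, 6, 4, 5, 3, 2, 1, 0, 5, 3, 6, 3, 5, 3, 2, 3, 6, 1, 2, 3, 5, 0, 1, 2, 3, 5, 1, 5, 2, 4, 3, 4, 0, 6, 2, 1, 6, 4, 3, 2, 3, 4, 2, 3, 1, 2, 3, 4, 2, 0, 1, 0, 5, 2, 4, 1, 0, 3, 4, 3, 0, 2, 3, 4, 6, 2, 6, 3, 2, 3, 0, 1, 2, 3, 2, 3, 1, 2, 3, 5, 2, 1] 1]]],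
  .sub [16, 8, 17, 9, 1] [.out 1987],
  .sub [17, 8, 17, 9, 1] [.out 723],
  .sub [25, 8, 17, 9, 1] [.out 854],
  .sub [15, 9, 17, 9, 1] [.out 1559],
  .sub [16, 9, 17, 9, 1] [.out 1222],
  .sub [3, 10, 17, 9, 1] [.sub [28, 1, 13, 1, 22, 1, 13, 1] [.out 656]],
  .sub [11, 10, 17, 9, 1] [.sub [23, 28, 23, 1, 13, 1, 23] [.out 417]],
  .sub [12, 10, 17, 9, 1] [.sub [28, 1, 13, 1, 22, 1, 13, 1] [.sub [22, 28, 5, 6, 5, 1, 6, 2, 1, 0, 3, 1, 2, 3, 1, 2, 3, 1, 4, 2, 1, 3, 2, 3, 1, 2, 3, 4, 1, 2, 3, 5, 2, 0, 0, 4, 2, 3, 5, 0, 2, 4, 3, 4, 5, 4, 6, 5, 1, 2, 3, 5, 6, 2, 3, 1, 2, 3, 5, 2, 3, 2, 3, 5, 3, 2, 3, 5, 1, 0, 1, 5, 6, 5, 1, 6, 2, 1, 0, 3, 1, 2, 3, 1, 2, 3, 1, 4, 2, 1, 3, 2, 3, 1, 2, 3, 4, 1, 2, 3, 5, 2, 0] [.out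 178]]],
  .sub [14, 10, 17, 9, 1] [.out 1732],
  .sub [16, 10, 17, 9, 1] [.out 664],
  .sub [14, 13, 17, 9, 1] [.out 1489],
  .sub [15, 13, 17, 9, 1] [.out 1730],
  .sub [16, 13, 17, 9, 1] [.sub [22, 1, 13, 1, 1, 13, 1, 23, 23, 28] [.sub [5, 1, 0, 1, 0, 4, 2, 3, 5, 0, 2, 4, 3, 4, 5, 4, 6, 5, 1, 2, 3, 5, 6, 2, 3, 1, 2, 3, 5, 2, 3, 2, 3, 5, 3, 2, 3, 0, 4, 2, 3, 5, 0, 2, 4, 3, 4, 5, 4, 6, 5, 1, 2, 3, 5, 6, 2, 3, 1, 2, 3, 5, 2, 3, 2, 3, 5, 3, 2, 3, 22, 28, 0, 4, 2, 3, 5, 0, 2, 4, 3, 4, 5, 4, 6, 5, 1, 2, 3, 5, 6, 2, 3, 1, 2, 3, 5, 2, 3, 2, 3, 5, 3, 2, 3, 5, 6, 5, 1, 6, 2, 1, 0, 3, 1, 2, 3, 1, 2, 3, 1, 4, 2, 1, 3, 2, 3, 1, 2, 3, 4, 1, 2, 3, 5, 2, 0] [.out 1060]]],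
  .sub [1, 15, 17, 9, 1] [.out 626],
  .sub [6, 15, 17, 9, 1] [.out 1204],
  .sub [10, 15, 17, 9, 1] [.out 162],
  .sub [18, 15, 17, 9, 1] [.out 1963],
  .sub [9, 16, 17, 9, 1] [.out 1307],
  .sub [10, 16, 17, 9, 1] [.sub [1, 13, 1, 1, 13, 1] [.out 1429]],
  .sub [20, 16, 17, 9, 1] [.out 1763],
  .sub [21, 16, 17, 9, 1] [.out 1764],
  .sub [23, 16, 17, 9, 1] [.out 724],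
  .sub [25, 16, 17, 9, 1] [.out 1447],
  .sub [9, 18, 17, 9, 1] [.out 1087],
  .sub [10, 18, 17, 9, 1] [.out 945],
  .sub [12, 18, 17, 9, 1] [.sub [23, 1, 13, 1, 1, 13, 1, 1, 13, 1, 23] [.sub [5, 1, 0, 1, 0, 4, 2, 3, 5, 0, 2, 4, 3, 4, 5, 4, 6, 5, 1, 2, 3, 5, 6, 2, 3, 1, 2, 3, 5, 2, 3, 2, 3, 5, 3, 2, 3, 22, 28] [.bad [5, 1, 5, 2, 4, 3, 4, 0, 6, 2, 1, 6, 4, 3, 2, 3, 4, 2, 3, 1, 2, 3, 4, 2, 0, 1] 1]]],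
  .sub [20, 18, 17, 9, 1] [.out 1262],
  .sub [21, 18, 17, 9, 1] [.out 1931],
  .sub [27, 25, 17, 9, 1] [.out 1170],
  .sub [0, 27, 17, 9, 1] [.out 1407],
  .sub [3, 27, 17, 9, 1] [.out 766],
  .sub [4, 27, 17, 9, 1] [.out 1367],
  .sub [5, 27, 17, 9, 1] [.out 275],
  .sub [9, 27, 17, 9, 1] [.sub [23, 1, 13, 1, 23, 1, 13, 1, 28] [.sub [0, 4, 2, 3, 5, 0, 2, 4, 3, 4, 5, 4, 6, 5, 1, 2, 3, 5, 6, 2, 3, 1, 2, 3, 5, 2, 3, 2, 3, 5, 3, 2, 3, 5, 6, 5, 1, 6, 2, 1, 0, 3, 1, 2, 3, 1, 2, 3, 1, 4, 2, 1, 3, 2, 3, 1, 2, 3, 4, 1, 2, 3, 5, 2, 0, 0, 4, 2, 3, 5, 0, 2, 4, 3, 4, 5, 4, 6, 5, 1, 2, 3, 5, 6, 2, 3, 1, 2, 3, 5, 2, 3, 2, 3, 5, 3, 2, 3, 5, 1, 0, 1, 0, 4, 2, 3, 5, 0, 2, 4, 3, 4, 5, 4, 6, 5, 1, 2, 3, 5, 6, 2, 3, 1, 2, 3,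 5, 2, 3, 2, 3, 5, 3, 2, 3, 5, 6, 5, 1, 6, 2, 1, 0, 3, 1, 2, 3, 1, 2, 3, 1, 4, 2, 1, 3, 2, 3, 1, 2, 3, 4, 1, 2, 3, 5, 2, 0, 5, 6, 5, 1, 6, 2, 1, 0, 3, 1, 2, 3, 1, 2, 3, 1, 4, 2, 1, 3, 2, 3, 1, 2, 3, 4, 1, 2, 3, 5, 2, 0] [.out 669]]],
  .sub [10, 27, 17, 9, 1] [.out 1459],
  .sub [13, 27, 17, 9, 1] [.out 723],
  .sub [15, 27, 17, 9, 1] [.sub [1, 13, 1, 28, 23, 28, 28] [.out 1952]],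
  .sub [16, 27, 17, 9, 1] [.sub [28, 23, 28, 1, 13, 1, 1, 13, 1] [.sub [0, 4, 2, 3, 5, 0, 2, 4, 3, 4, 5, 4, 6, 5, 1, 2, 3, 5, 6, 2, 3, 1, 2, 3, 5, 2, 3, 2, 3, 5, 3, 2, 3, 0, 4, 2, 3, 5, 0, 2, 4, 3, 4, 5, 4, 6, 5, 1, 2, 3, 5, 6, 2, 3, 1, 2, 3, 5, 2, 3, 2, 3, 5, 3, 2, 3, 5, 6, 5, 1, 6, 2, 1, 0, 3, 1, 2, 3, 1, 2, 3, 1, 4, 2, 1, 3, 2, 3, 1, 2, 3, 4, 1, 2, 3, 5, 2, 0, 0, 4, 2, 3, 5, 0, 2, 4, 3, 4, 5, 4, 6, 5, 1, 2, 3, 5, 6, 2, 3, 1, 2, 3, 5, 2, 3, 2, 3, 5, 3, 2, 3, 5, 1, 0, 1, 0, 4, 2, 3, 5, 0, 2, 4, 3, 4, 5, 4, 6, 5, 1, 2, 3, 5, 6, 2, 3, 1, 2, 3, 5, 2, 3, 2, 3, 5, 3, 2, 3, 22, 28] [.out 593]]],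
  .sub [19, 27, 17, 9, 1] [.out 1746],
  .sub [22, 27, 17, 9, 1] [.out 1541],
  .sub [3, 14, 20, 9, 1] [.out 1766],
  .sub [11, 14, 20, 9, 1] [.out 1935],
  .sub [12, 14, 20, 9, 1] [.out 1036],
  .sub [4, 15, 20, 9, 1] [.out 635],
  .sub [8, 15, 20, 9, 1] [.out 1130]]

/-- Branches. -/
def kidsXPart9 : List Branch := [
  .sub [13, 15, 20, 9, 1] [.out 1939],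
  .sub [20, 15, 20, 9, 1] [.out 206],
  .sub [16, 17, 20, 9, 1] [.out 205],
  .sub [10, 18, 20, 9, 1] [.out 454],
  .sub [20, 18, 20, 9, 1] [.out 810],
  .sub [8, 23, 20, 9, 1] [.out 170],
  .sub [5, 27, 20, 9, 1] [.out 783],
  .sub [14, 27, 20, 9, 1] [.out 482],
  .sub [17, 27, 20, 9, 1] [.out 192],
  .sub [18, 27, 20, 9, 1] [.out 1116],
  .sub [27, 27, 20, 9, 1] [.out 916],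
  .sub [15, 11, 21, 9, 1] [.out 2031],
  .sub [3, 14, 21, 9, 1] [.out 1845],
  .sub [11, 14, 21, 9, 1] [.out 1740],
  .sub [8, 15, 21, 9, 1] [.out 380],
  .sub [13, 15, 21, 9, 1] [.out 1913],
  .sub [10, 16, 21, 9, 1] [.out 1973],
  .sub [15, 27, 21, 9, 1] [.sub [28, 28, 1, 13, 1, 23, 1, 13, 1, 28] [.sub [22, 28, 0, 4, 2, 3, 5, 0, 2, 4, 3, 4, 5, 4, 6, 5, 1, 2, 3, 5, 6, 2, 3, 1, 2, 3, 5, 2, 3, 2, 3, 5, 3, 2, 3, 0, 4, 2, 3, 5, 0, 2, 4, 3, 4, 5, 4, 6, 5, 1, 2, 3, 5, 6, 2, 3, 1, 2, 3, 5, 2, 3, 2, 3, 5, 3, 2, 3] [.out 968]]],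
  .sub [14, 6, 23, 9, 1] [.out 1109],
  .sub [15, 6, 23, 9, 1] [.sub [22, 1, 13, 1, 1, 13, 1, 28, 1, 13, 1, 28] [.out 1200]],
  .sub [16, 6, 23, 9, 1] [.out 1821],
  .sub [14, 9, 23, 9, 1] [.sub [1, 13, 1, 23, 1, 13, 1] [.out 404]],
  .sub [15, 9, 23, 9, 1] [.out 336],
  .sub [10, 14, 23, 9, 1] [.out 1030],
  .sub [13, 14, 23, 9, 1] [.out 436],
  .sub [10, 16, 23, 9, 1] [.out 1470],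
  .sub [20, 16, 23, 9, 1] [.out 476],
  .sub [25, 16, 23, 9, 1] [.out 2034],
  .sub [15, 6, 25, 9, 1] [.out 1088],
  .sub [3, 8, 25, 9, 1] [.out 1702],
  .sub [13, 8, 25, 9, 1] [.out 1134],
  .sub [17, 8, 25, 9, 1] [.out 262],
  .sub [23, 8, 25, 9, 1] [.out 1584],
  .sub [1, 14, 25, 9, 1] [.sub [23, 23, 28, 23, 1, 13, 1, 23] [.sub [0, 4, 2, 3, 5, 0, 2, 4, 3, 4, 5, 4, 6, 5, 1, 2, 3, 5, 6, 2, 3, 1, 2, 3, 5, 2, 3, 2, 3, 5, 3, 2, 3, 5, 1, 0, 1, 5, 6, 5, 1, 6, 2, 1, 0, 3, 1, 2, 3, 1, 2, 3, 1, 4, 2, 1, 3, 2, 3, 1, 2, 3, 4, 1, 2, 3, 5, 2, 0, 0, 4, 2, 3, 5, 0, 2, 4, 3, 4, 5, 4, 6, 5, 1, 2, 3, 5, 6, 2, 3, 1, 2, 3, 5, 2, 3, 2, 3, 5, 3, 2, 3, 22, 28, 0, 4, 2, 3, 5, 0, 2, 4, 3, 4, 5, 4, 6, 5, 1, 2, 3, 5, 6, 2, 3, 1, 2,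 3, 5, 2, 3, 2, 3, 5, 3, 2, 3, 5, 1, 0, 1, 22, 28] [.out 1209]]],
  .sub [6, 14, 25, 9, 1] [.sub [22, 23, 28, 23, 1, 13, 1] [.sub [0, 4, 2, 3, 5, 0, 2, 4, 3, 4, 5, 4, 6, 5, 1, 2, 3, 5, 6, 2, 3, 1, 2, 3, 5, 2, 3, 2, 3, 5, 3, 2, 3, 0, 4, 2, 3, 5, 0, 2, 4, 3, 4, 5, 4, 6, 5, 1, 2, 3, 5, 6, 2, 3, 1, 2, 3, 5, 2, 3, 2, 3, 5, 3, 2, 3, 22, 28, 0, 4, 2, 3, 5, 0, 2, 4, 3, 4, 5, 4, 6, 5, 1, 2, 3, 5, 6, 2, 3, 1, 2, 3, 5, 2, 3, 2, 3, 5, 3, 2, 3] [.out 1372]]],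
  .sub [8, 14, 25, 9, 1] [.sub [1, 13, 1, 28, 23, 23, 1, 13, 1, 28] [.sub [5, 1, 0, 1, 22, 28, 0, 4, 2, 3, 5, 0, 2, 4, 3, 4, 5, 4, 6, 5, 1, 2, 3, 5, 6, 2, 3, 1, 2, 3, 5, 2, 3, 2, 3, 5, 3, 2, 3, 22, 28, 0, 4, 2, 3, 5, 0, 2, 4, 3, 4, 5, 4, 6, 5, 1, 2, 3, 5, 6, 2, 3, 1, 2, 3, 5, 2, 3, 2, 3, 5, 3, 2, 3] [.out 1159]]],
  .sub [10, 14, 25, 9, 1] [.out 210],
  .sub [27, 14, 25, 9, 1] [.out 1425],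
  .sub [9, 18, 25, 9, 1] [.out 875],
  .sub [10, 18, 25, 9, 1] [.out 384],
  .sub [21, 18, 25, 9, 1] [.out 206],
  .sub [10, 27, 25, 9, 1] [.sub [23, 1, 13, 1, 23, 1, 13, 1, 28, 28] [.sub [5, 1, 0, 1, 0, 4, 2, 3, 5, 0, 2, 4, 3, 4, 5, 4, 6, 5, 1, 2, 3, 5, 6, 2, 3, 1, 2, 3, 5, 2, 3, 2, 3, 5, 3, 2, 3, 0, 4, 2, 3, 5, 0, 2, 4, 3, 4, 5, 4, 6, 5, 1, 2, 3, 5, 6, 2, 3, 1, 2, 3, 5, 2, 3, 2, 3, 5, 3, 2, 3, 22, 28] [.out 1372]]],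
  .sub [14, 27, 25, 9, 1] [.sub [1, 13, 1, 28, 23, 1, 13, 1, 1, 13, 1, 23, 28] [.sub [0, 4, 2, 3, 5, 0, 2, 4, 3, 4, 5, 4, 6, 5, 1, 2, 3, 5, 6, 2, 3, 1, 2, 3, 5, 2, 3, 2, 3, 5, 3, 2, 3, 5, 6, 5, 1, 6, 2, 1, 0, 3, 1, 2, 3, 1, 2, 3, 1, 4, 2, 1, 3, 2, 3, 1, 2, 3, 4, 1, 2, 3, 5, 2, 0, 22, 28] [.bad [0, 2, 6, 4, 3, 6, 4, 5, 3, 2, 1, 0, 5, 3, 6, 3, 5, 3, 2, 3, 6, 1, 2, 3, 5, 0, 1, 2, 3, 5, 1, 5, 2, 4, 3, 4, 0, 6, 2, 1, 6, 4, 3, 2, 3, 4, 2, 3, 1, 2, 3, 4, 2, 0, 1, 5, 1, 5, 2, 4, 3, 4, 0, 6, 2, 1, 6, 4, 3, 2, 3, 4, 2, 3, 1, 2, 3, 4, 2, 0, 1] 1]]],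
  .sub [15, 27, 25, 9, 1] [.out 1834],
  .sub [23, 27, 25, 9, 1] [.out 1486],
  .sub [23, 4, 27, 9, 1] [.out 1307],
  .sub [6, 10, 27, 9, 1] [.out 1968],
  .sub [9, 10, 27, 9, 1] [.out 640],
  .sub [12, 10, 27, 9, 1] [.out 1246],
  .sub [9, 13, 27, 9, 1] [.out 62],
  .sub [23, 13, 27, 9, 1] [.out 356],
  .sub [25, 13, 27, 9, 1] [.sub [1, 13, 1, 23, 28, 23, 28] [.out 1266]],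
  .sub [0, 14, 27, 9, 1] [.out 173],
  .sub [3, 14, 27, 9, 1] [.out 2022],
  .sub [4, 14, 27, 9, 1] [.sub [22, 1, 13, 1, 28, 23, 28] [.sub [5, 6, 5, 1, 6, 2, 1, 0, 3, 1, 2, 3, 1, 2, 3, 1, 4, 2, 1, 3, 2, 3, 1, 2, 3, 4, 1, 2, 3, 5, 2, 0, 0, 4, 2, 3, 5, 0, 2, 4, 3, 4, 5, 4, 6, 5, 1, 2, 3, 5, 6, 2, 3, 1, 2, 3, 5, 2, 3, 2, 3, 5, 3, 2, 3, 22, 28, 0, 4, 2, 3, 5, 0, 2, 4, 3, 4, 5, 4, 6, 5, 1, 2, 3, 5, 6, 2, 3, 1, 2, 3, 5, 2, 3, 2, 3, 5, 3, 2, 3] [.out 1804]]],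
  .sub [7, 14, 27, 9, 1] [.out 349],
  .sub [9, 14, 27, 9, 1] [.out 1021],
  .sub [10, 14, 27, 9, 1] [.sub [1, 13, 1, 23, 23, 28, 28, 23] [.out 1721]],
  .sub [11, 14, 27, 9, 1] [.out 1214],
  .sub [13, 14, 27, 9, 1] [.out 1299],
  .sub [14, 14, 27, 9, 1] [.out 145],
  .sub [20, 14, 27, 9, 1] [.out 1458],
  .sub [21, 14, 27, 9, 1] [.out 51],
  .sub [23, 14, 27, 9, 1] [.sub [1, 13, 1, 28, 23, 28] [.out 1133]],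
  .sub [0, 15, 27, 9, 1] [.out 1275],
  .sub [1, 15, 27, 9, 1] [.out 149],
  .sub [3, 15, 27, 9, 1] [.out 1923],
  .sub [11, 15, 27, 9, 1] [.out 825],
  .sub [4, 17, 27, 9, 1] [.sub [23, 1, 13, 1, 1, 13, 1, 28] [.out 1622]],
  .sub [6, 17, 27, 9, 1] [.sub [22, 1, 13, 1, 23] [.out 826]],
  .sub [10, 17, 27, 9, 1] [.out 1753],
  .sub [13, 17, 27, 9, 1] [.out 674],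
  .sub [18, 17, 27, 9, 1] [.out 1662],
  .sub [21, 17, 27, 9, 1] [.out 1434],
  .sub [25, 17, 27, 9, 1] [.out 787],
  .sub [27, 17, 27, 9, 1] [.out 1155],
  .sub [10, 23, 27, 9, 1] [.out 538],
  .sub [17, 23, 27, 9, 1] [.out 406],
  .sub [27, 23, 27, 9, 1] [.out 1951],
  .sub [10, 25, 27, 9, 1] [.out 909],
  .sub [13, 25, 27, 9, 1] [.out 261],
  .sub [14, 25, 27, 9, 1] [.out 1625],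
  .sub [27, 25, 27, 9, 1] [.out 1310],
  .sub [23, 27, 27, 9, 1] [.out 795],
  .sub [14, 0, 8, 10, 1] [.out 498],
  .sub [14, 3, 8, 10, 1] [.out 1636],
  .sub [15, 3, 8, 10, 1] [.out 1924],
  .sub [27, 3, 8, 10, 1] [.sub [28, 28, 23, 28, 23, 28] [.sub [0, 4, 2, 3, 5, 0, 2, 4, 3, 4, 5, 4, 6, 5, 1, 2, 3, 5, 6, 2, 3, 1, 2, 3, 5, 2, 3, 2, 3, 5, 3, 2, 3, 5, 1, 0, 1, 5, 6, 5, 1, 6, 2, 1, 0, 3, 1, 2, 3, 1, 2, 3, 1, 4, 2, 1, 3, 2, 3, 1, 2, 3, 4, 1, 2, 3, 5, 2, 0] [.done 14]]],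
  .sub [14, 9, 8, 10, 1] [.out 218],
  .sub [15, 9, 8, 10, 1] [.out 1909],
  .sub [20, 9, 8, 10, 1] [.out 1891],
  .sub [11, 11, 8, 10, 1] [.out 1315],
  .sub [12, 11, 8, 10, 1] [.out 980],
  .sub [1, 12, 8, 10, 1] [.out 1079],
  .sub [8, 12, 8, 10, 1] [.out 937],
  .sub [14, 12, 8, 10, 1] [.sub [28, 28, 23] [.out 526]],
  .sub [1, 13, 8, 10, 1] [.out 463],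
  .sub [4, 13, 8, 10, 1] [.out 1563],
  .sub [10, 13, 8, 10, 1] [.out 1042],
  .sub [15, 13, 8, 10, 1] [.out 1288],
  .sub [17, 13, 8, 10, 1] [.out 1446],
  .sub [20, 13, 8, 10, 1] [.out 1316],
  .sub [3, 14, 8, 10, 1] [.sub [28, 1, 13, 1, 28, 1, 13, 1, 1, 13, 1] [.out 2026]],
  .sub [12, 14, 8, 10, 1] [.out 1367],
  .sub [13, 14, 8, 10, 1] [.sub [23, 1, 13, 1, 1, 13, 1, 28] [.sub [5, 1, 0, 1, 5, 6, 5, 1, 6, 2, 1, 0, 3, 1, 2, 3, 1, 2, 3, 1, 4, 2, 1, 3, 2, 3, 1, 2, 3, 4, 1, 2, 3, 5, 2, 0, 0, 4, 2, 3, 5, 0, 2, 4, 3, 4, 5, 4, 6, 5, 1, 2, 3, 5, 6, 2, 3, 1, 2, 3, 5, 2, 3, 2, 3, 5, 3, 2, 3, 0, 4, 2, 3, 5, 0, 2, 4, 3, 4, 5, 4, 6, 5, 1, 2, 3, 5, 6, 2, 3, 1, 2, 3, 5, 2, 3, 2, 3, 5, 3, 2, 3, 22, 28] [.out 665]]],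
  .sub [11, 23, 8, 10, 1] [.out 212],
  .sub [15, 23, 8, 10, 1] [.out 727],
  .sub [9, 27, 8, 10, 1] [.sub [23, 23, 1, 13, 1, 1, 13, 1, 28, 28] [.out 1200]],
  .sub [11, 27, 8, 10, 1] [.out 263],
  .sub [10, 8, 11, 10, 1] [.out 885],
  .sub [13, 8, 11, 10, 1] [.out 744],
  .sub [17, 8, 11, 10, 1] [.out 1248],
  .sub [23, 8, 11, 10, 1] [.out 923],
  .sub [15, 9, 11, 10, 1] [.sub [22, 1, 13, 1, 28, 1, 13, 1, 28] [.out 787]],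
  .sub [20, 9, 11, 10, 1] [.sub [23, 28, 23, 28, 28] [.sub [0, 4, 2, 3, 5, 0, 2, 4, 3, 4, 5, 4, 6, 5, 1, 2, 3, 5, 6, 2, 3, 1, 2, 3, 5, 2, 3, 2, 3, 5, 3, 2, 3, 0, 4, 2, 3, 5, 0, 2, 4, 3, 4, 5, 4, 6, 5, 1, 2, 3, 5, 6, 2, 3, 1, 2, 3, 5, 2, 3, 2, 3, 5, 3, 2, 3, 22, 28, 0, 4, 2, 3, 5, 0, 2, 4, 3, 4, 5, 4, 6, 5, 1, 2, 3, 5, 6, 2, 3, 1, 2, 3, 5, 2, 3, 2, 3, 5, 3, 2, 3, 5, 1, 0, 1, 0, 4, 2, 3, 5, 0, 2, 4, 3, 4, 5, 4, 6, 5, 1, 2, 3, 5, 6, 2, 3, 1, 2, 3, 5, 2, 3, 2, 3, 5, 3, 2, 3, 22, 28] [.out 77]]],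
  .sub [1, 14, 11, 10, 1] [.sub [1, 13, 1] [.sub [5, 1, 0, 1, 5, 6, 5, 1, 6, 2, 1, 0, 3, 1, 2, 3, 1, 2, 3, 1, 4, 2, 1, 3, 2, 3, 1, 2, 3, 4, 1, 2, 3, 5, 2, 0, 0, 4, 2, 3, 5, 0, 2, 4, 3, 4, 5, 4, 6, 5, 1, 2, 3, 5, 6, 2, 3, 1, 2, 3, 5, 2, 3, 2, 3, 5, 3, 2, 3, 5, 6, 5, 1, 6, 2, 1, 0, 3, 1, 2, 3, 1, 2, 3, 1, 4, 2, 1, 3, 2, 3, 1, 2, 3, 4, 1, 2, 3, 5, 2, 0, 22, 28] [.out 1618]]],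
  .sub [6, 14, 11, 10, 1] [.out 153],
  .sub [9, 14, 11, 10, 1] [.out 607],
  .sub [1, 20, 11, 10, 1] [.out 1588],
  .sub [13, 27, 11, 10, 1] [.out 1248],
  .sub [14, 27, 11, 10, 1] [.out 1252],
  .sub [15, 27, 11, 10, 1] [.out 1647],
  .sub [25, 27, 11, 10, 1] [.out 1278],
  .sub [4, 8, 13, 10, 1] [.out 1092],
  .sub [13, 8, 13, 10, 1] [.out 2028],
  .sub [14, 8, 13, 10, 1] [.out 1649],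
  .sub [11, 14, 13, 10, 1] [.out 1687],
  .sub [25, 14, 13, 10, 1] [.out 1893],
  .sub [17, 15, 13, 10, 1] [.out 1810],
  .sub [23, 15, 13, 10, 1] [.out 749],
  .sub [20, 16, 13, 10, 1] [.out 1730],
  .sub [1, 20, 13, 10, 1] [.sub [22, 23, 1, 13, 1, 22, 1, 13, 1] [.sub [5, 6, 5, 1, 6, 2, 1, 0, 3, 1, 2, 3, 1, 2, 3, 1, 4, 2, 1, 3, 2, 3, 1, 2, 3, 4, 1, 2, 3, 5, 2, 0, 5, 1, 0, 1, 0, 4, 2, 3, 5, 0, 2, 4, 3, 4, 5, 4, 6, 5, 1, 2, 3, 5, 6, 2, 3, 1, 2, 3, 5, 2, 3, 2, 3, 5, 3, 2, 3, 22, 28, 0, 4, 2, 3, 5, 0, 2, 4, 3, 4, 5, 4, 6, 5, 1, 2, 3, 5, 6, 2, 3, 1, 2, 3, 5, 2, 3, 2, 3, 5, 3, 2, 3, 5, 6, 5, 1, 6, 2, 1, 0, 3, 1, 2, 3, 1, 2, 3, 1, 4, 2, 1, 3, 2, 3, 1, 2, 3, 4, 1, 2, 3, 5, 2, 0] [.out 148]]],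
  .sub [15, 20, 13, 10, 1] [.sub [1, 13, 1, 23, 1, 13, 1, 23, 23, 28] [.sub [5, 6, 5, 1, 6, 2, 1, 0, 3, 1, 2, 3, 1, 2, 3, 1, 4, 2, 1, 3, 2, 3, 1, 2, 3, 4, 1, 2, 3, 5, 2, 0, 0, 4, 2, 3, 5, 0, 2, 4, 3, 4, 5, 4, 6, 5, 1, 2, 3, 5, 6, 2, 3, 1, 2, 3, 5, 2, 3, 2, 3, 5, 3, 2, 3, 22, 28, 5, 6, 5, 1, 6, 2, 1, 0, 3, 1, 2, 3, 1, 2, 3, 1, 4, 2, 1, 3, 2, 3, 1, 2, 3, 4, 1, 2, 3, 5, 2, 0] [.out 1517]]],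
  .sub [4, 27, 13, 10, 1] [.out 1443],
  .sub [14, 27, 13, 10, 1] [.out 674],
  .sub [22, 27, 13, 10, 1] [.out 28],
  .sub [3, 1, 15, 10, 1] [.out 217],
  .sub [11, 1, 15, 10, 1] [.out 1465],
  .sub [12, 1, 15, 10, 1] [.out 2019],
  .sub [18, 3, 15, 10, 1] [.out 1450],
  .sub [27, 3, 15, 10, 1] [.sub [1, 13, 1, 28, 1, 13, 1, 22, 1, 13, 1] [.out 1429]],
  .sub [0, 8, 15, 10, 1] [.out 1102],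
  .sub [3, 8, 15, 10, 1] [.out 384],
  .sub [11, 8, 15, 10, 1] [.sub [22, 1, 13, 1, 28, 23, 23] [.out 1290]],
  .sub [12, 8, 15, 10, 1] [.out 5],
  .sub [13, 8, 15, 10, 1] [.out 665],
  .sub [2, 9, 15, 10, 1] [.out 1952],
  .sub [4, 9, 15, 10, 1] [.sub [23, 28, 22, 1, 13, 1] [.sub [5, 6, 5, 1, 6, 2, 1, 0, 3, 1, 2, 3, 1, 2, 3, 1, 4, 2, 1, 3, 2, 3, 1, 2, 3, 4, 1, 2, 3, 5, 2, 0, 0, 4, 2, 3, 5, 0, 2, 4, 3, 4, 5, 4, 6, 5, 1, 2, 3, 5, 6, 2, 3, 1, 2, 3, 5, 2, 3, 2, 3, 5, 3, 2, 3, 0, 4, 2, 3, 5, 0, 2, 4, 3, 4, 5, 4, 6, 5, 1, 2, 3, 5, 6, 2, 3, 1, 2, 3, 5, 2, 3, 2, 3, 5, 3, 2, 3, 22, 28, 5, 6, 5, 1, 6, 2, 1, 0, 3, 1, 2, 3, 1, 2, 3, 1, 4, 2, 1, 3, 2, 3, 1, 2, 3, 4, 1, 2, 3, 5, 2, 0] [.out 158]]],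
  .sub [9, 9, 15, 10, 1] [.out 444],
  .sub [10, 9, 15, 10, 1] [.out 1581],
  .sub [20, 9, 15, 10, 1] [.out 805],
  .sub [22, 9, 15, 10, 1] [.out 982],
  .sub [25, 9, 15, 10, 1] [.out 322],
  .sub [27, 9, 15, 10, 1] [.out 1926],
  .sub [7, 10, 15, 10, 1] [.out 142],
  .sub [9, 10, 15, 10, 1] [.out 227],
  .sub [12, 10, 15, 10, 1] [.out 1640],
  .sub [16, 10, 15, 10, 1] [.out 717],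
  .sub [19, 10, 15, 10, 1] [.sub [23, 1, 13, 1, 28] [.sub [22, 28, 0, 4, 2, 3, 5, 0, 2, 4, 3, 4, 5, 4, 6, 5, 1, 2, 3, 5, 6, 2, 3, 1, 2, 3, 5, 2, 3, 2, 3, 5, 3, 2, 3, 0, 4, 2, 3, 5, 0, 2, 4, 3, 4, 5, 4, 6, 5, 1, 2, 3, 5, 6, 2, 3, 1, 2, 3, 5, 2, 3, 2, 3, 5, 3, 2, 3, 5, 1, 0, 1, 5, 6, 5, 1, 6, 2, 1, 0, 3, 1, 2, 3, 1, 2, 3, 1, 4, 2, 1, 3, 2, 3, 1, 2, 3, 4, 1, 2, 3, 5, 2, 0, 0, 4, 2, 3, 5, 0, 2, 4, 3, 4, 5, 4, 6, 5, 1, 2, 3, 5, 6, 2, 3, 1, 2, 3, 5, 2, 3, 2, 3, 5, 3, 2, 3, 22, 28] [.out 1982]]],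
  .sub [18, 11, 15, 10, 1] [.out 1228],
  .sub [21, 11, 15, 10, 1] [.sub [23, 1, 13, 1, 23, 23, 28] [.sub [0, 4, 2, 3, 5, 0, 2, 4, 3, 4, 5, 4, 6, 5, 1, 2, 3, 5, 6, 2, 3, 1, 2, 3, 5, 2, 3, 2, 3, 5, 3, 2, 3, 5, 6, 5, 1, 6, 2, 1, 0, 3, 1, 2, 3, 1, 2, 3, 1, 4, 2, 1, 3, 2, 3, 1, 2, 3, 4, 1, 2, 3, 5, 2, 0, 5, 1, 0, 1, 0, 4, 2, 3, 5, 0, 2, 4, 3, 4, 5, 4, 6, 5, 1, 2, 3, 5, 6, 2, 3, 1, 2, 3, 5, 2, 3, 2, 3, 5, 3, 2, 3, 5, 1, 0, 1] [.done 12]]],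
  .sub [8, 13, 15, 10, 1] [.out 1330],
  .sub [9, 13, 15, 10, 1] [.sub [23, 23, 1, 13, 1, 23, 1, 13, 1] [.sub [5, 6, 5, 1, 6, 2, 1, 0, 3, 1, 2, 3, 1, 2, 3, 1, 4, 2, 1, 3, 2, 3, 1, 2, 3, 4, 1, 2, 3, 5, 2, 0, 5, 6, 5, 1, 6, 2, 1, 0, 3, 1, 2, 3, 1, 2, 3, 1, 4, 2, 1, 3, 2, 3, 1, 2, 3, 4, 1, 2, 3, 5, 2, 0, 0, 4, 2, 3, 5, 0, 2, 4, 3, 4, 5, 4, 6, 5, 1, 2, 3, 5, 6, 2, 3, 1, 2, 3, 5, 2, 3, 2, 3, 5, 3, 2, 3, 5, 1, 0, 1, 5, 6, 5, 1, 6, 2, 1, 0, 3, 1, 2, 3, 1, 2, 3, 1, 4, 2, 1, 3, 2, 3, 1, 2, 3, 4, 1, 2, 3, 5, 2, 0, 0, 4, 2, 3, 5, 0, 2, 4, 3, 4, 5, 4, 6, 5, 1, 2, 3, 5, 6, 2, 3, 1, 2, 3, 5, 2, 3, 2, 3, 5, 3, 2, 3] [.bad [0, 5, 2, 4, 1, 0, 3, 4, 3, 0, 2, 3, 4, 6, 2, 6, 3, 2, 3, 0, 1, 2, 3, 2, 3, 1, 2, 3, 5, 2, 1] 1]]],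
  .sub [16, 13, 15, 10, 1] [.out 1080],
  .sub [27, 13, 15, 10, 1] [.sub [1, 13, 1, 28, 1, 13, 1, 28] [.out 246]],
  .sub [9, 16, 15, 10, 1] [.sub [23, 28, 23, 23, 28, 28] [.out 712]],
  .sub [23, 16, 15, 10, 1] [.out 323],
  .sub [3, 27, 15, 10, 1] [.out 945],
  .sub [11, 27, 15, 10, 1] [.out 1656],
  .sub [12, 27, 15, 10, 1] [.out 1356],
  .sub [14, 27, 15, 10, 1] [.sub [1, 13, 1, 22, 1, 13, 1, 1, 13, 1, 23, 23] [.sub [0, 4, 2, 3, 5, 0, 2, 4, 3, 4, 5, 4, 6, 5, 1, 2, 3, 5, 6, 2, 3, 1, 2, 3, 5, 2, 3, 2, 3, 5, 3, 2, 3, 22, 28, 0, 4, 2, 3, 5, 0, 2, 4, 3, 4, 5, 4, 6, 5, 1, 2, 3, 5, 6, 2, 3, 1, 2, 3, 5, 2, 3, 2, 3, 5, 3, 2, 3, 0, 4, 2, 3, 5, 0, 2, 4, 3, 4, 5, 4, 6, 5, 1, 2, 3, 5, 6, 2, 3, 1, 2, 3, 5, 2, 3, 2,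 3, 5, 3, 2, 3, 5, 1, 0, 1, 5, 6, 5, 1, 6, 2, 1, 0, 3, 1, 2, 3, 1, 2, 3, 1, 4, 2, 1, 3, 2, 3, 1, 2, 3, 4, 1, 2, 3, 5, 2, 0] [.out 387]]],
  .sub [15, 27, 15, 10, 1] [.out 1826],
  .sub [23, 27, 15, 10, 1] [.out 551],
  .sub [11, 21, 16, 10, 1] [.out 64],
  .sub [15, 21, 16, 10, 1] [.out 17],
  .sub [11, 25, 16, 10, 1] [.out 1407],
  .sub [11, 20, 18, 10, 1] [.out 1780],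
  .sub [15, 20, 18, 10, 1] [.out 2001],
  .sub [11, 23, 18, 10, 1] [.sub [28, 1, 13, 1, 1, 13, 1, 23, 23, 28] [.sub [5, 1, 0, 1, 0, 4, 2, 3, 5, 0, 2, 4, 3, 4, 5, 4, 6, 5, 1, 2, 3, 5, 6, 2, 3, 1, 2, 3, 5, 2, 3, 2, 3, 5, 3, 2, 3, 22, 28, 0, 4, 2, 3, 5, 0, 2, 4, 3, 4, 5, 4, 6, 5, 1, 2, 3, 5, 6, 2, 3, 1, 2, 3, 5, 2, 3, 2, 3, 5, 3, 2, 3] [.out 1678]]],
  .sub [3, 8, 25, 10, 1] [.sub [23, 1, 13, 1, 1, 13, 1, 28, 28] [.sub [22, 28, 0, 4, 2, 3, 5, 0, 2, 4, 3, 4, 5, 4, 6, 5, 1, 2, 3, 5, 6, 2, 3, 1, 2, 3, 5, 2, 3, 2, 3, 5, 3, 2, 3, 5, 1, 0, 1, 0, 4, 2, 3, 5, 0, 2, 4, 3, 4, 5, 4, 6, 5, 1, 2, 3, 5, 6, 2, 3, 1, 2, 3, 5, 2, 3, 2, 3, 5, 3, 2, 3, 5, 1, 0, 1] [.out 1083]]],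
  .sub [11, 8, 25, 10, 1] [.out 916],
  .sub [14, 3, 27, 10, 1] [.out 1382],
  .sub [11, 5, 27, 10, 1] [.out 645],
  .sub [15, 5, 27, 10, 1] [.out 365],
  .sub [11, 11, 27, 10, 1] [.sub [22, 1, 13, 1, 23, 1, 13, 1, 23] [.sub [0, 4, 2, 3, 5, 0, 2, 4, 3, 4, 5, 4, 6, 5, 1, 2, 3, 5, 6, 2, 3, 1, 2, 3, 5, 2, 3, 2, 3, 5, 3, 2, 3, 5, 1, 0, 1, 0, 4, 2, 3, 5, 0, 2, 4, 3, 4, 5, 4, 6, 5, 1, 2, 3, 5, 6, 2, 3, 1, 2, 3, 5, 2, 3, 2, 3, 5, 3, 2, 3, 5, 1, 0, 1, 0, 4, 2, 3, 5, 0, 2, 4, 3, 4, 5, 4, 6, 5, 1, 2, 3, 5, 6, 2, 3, 1, 2, 3, 5, 2, 3, 2, 3, 5, 3, 2, 3] [.bad [0, 2, 6, 4, 3, 6, 4, 5, 3, 2, 1, 0, 5, 3, 6, 3, 5, 3, 2, 3, 6, 1, 2, 3, 5, 0, 1, 2, 3, 0, 2, 6, 4, 3, 6, 4, 5, 3, 2, 1, 0, 5, 3, 6, 3, 5, 3, 2, 3, 6, 1, 2, 3, 5,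 0, 1, 2, 3, 5, 1, 5, 2, 4, 3, 4, 0, 6, 2, 1, 6, 4, 3, 2, 3, 4, 2, 3, 1, 2, 3, 4, 2, 0, 1] 1]]],
  .sub [15, 11, 27, 10, 1] [.sub [22, 1, 13, 1, 28, 23, 1, 13, 1] [.out 749]],
  .sub [14, 13, 27, 10, 1] [.sub [23, 23, 1, 13, 1, 28, 1, 13, 1, 28] [.out 413]],
  .sub [16, 13, 27, 10, 1] [.out 1926],
  .sub [18, 13, 27, 10, 1] [.out 1978],
  .sub [21, 13, 27, 10, 1] [.out 89],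
  .sub [22, 13, 27, 10, 1] [.out 1966],
  .sub [0, 14, 27, 10, 1] [.out 1554]]

/-- Branches. -/
def kidsXPart10 : List Branch := [
  .sub [1, 14, 27, 10, 1] [.out 1398],
  .sub [9, 14, 27, 10, 1] [.out 727],
  .sub [11, 14, 27, 10, 1] [.out 1072],
  .sub [12, 14, 27, 10, 1] [.out 763],
  .sub [14, 14, 27, 10, 1] [.out 1044],
  .sub [1, 15, 27, 10, 1] [.out 1406],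
  .sub [3, 15, 27, 10, 1] [.out 1311],
  .sub [8, 15, 27, 10, 1] [.out 1640],
  .sub [11, 15, 27, 10, 1] [.out 1808],
  .sub [12, 15, 27, 10, 1] [.out 1274],
  .sub [6, 27, 27, 10, 1] [.sub [23, 1, 13, 1, 23, 23, 28, 28] [.out 729]],
  .sub [9, 27, 27, 10, 1] [.out 1509],
  .sub [10, 27, 27, 10, 1] [.out 638],
  .sub [11, 20, 0, 14, 1] [.sub [28, 23, 28, 1, 13, 1, 28] [.sub [22, 28, 5, 6, 5, 1, 6, 2, 1, 0, 3, 1, 2, 3, 1, 2, 3, 1, 4, 2, 1, 3, 2, 3, 1, 2, 3, 4, 1, 2, 3, 5, 2, 0, 0, 4, 2, 3, 5, 0, 2, 4, 3, 4, 5, 4, 6, 5, 1, 2, 3, 5, 6, 2, 3, 1, 2, 3, 5, 2, 3, 2, 3, 5, 3, 2, 3, 22, 28, 0, 4, 2, 3, 5, 0, 2, 4, 3, 4, 5, 4, 6, 5, 1, 2, 3, 5, 6, 2, 3, 1, 2, 3, 5, 2, 3, 2, 3, 5, 3, 2, 3, 5, 6, 5, 1, 6, 2, 1, 0, 3,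 1, 2, 3, 1, 2, 3, 1, 4, 2, 1, 3, 2, 3, 1, 2, 3, 4, 1, 2, 3, 5, 2, 0] [.out 158]]],
  .sub [5, 8, 3, 14, 1] [.out 1312],
  .sub [10, 8, 3, 14, 1] [.out 1366],
  .sub [13, 8, 3, 14, 1] [.out 753],
  .sub [14, 8, 3, 14, 1] [.out 1235],
  .sub [21, 8, 3, 14, 1] [.out 1143],
  .sub [25, 8, 3, 14, 1] [.sub [23, 23, 23, 23, 23, 28] [.sub [22, 28, 5, 6, 5, 1, 6, 2, 1, 0, 3, 1, 2, 3, 1, 2, 3, 1, 4, 2, 1, 3, 2, 3, 1, 2, 3, 4, 1, 2, 3, 5, 2, 0, 0, 4, 2, 3, 5, 0, 2, 4, 3, 4, 5, 4, 6, 5, 1, 2, 3, 5, 6, 2, 3, 1, 2, 3, 5, 2, 3, 2, 3, 5, 3, 2, 3, 5, 1, 0, 1] [.out 73]]],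
  .sub [15, 21, 3, 14, 1] [.out 825],
  .sub [27, 23, 3, 14, 1] [.out 81],
  .sub [1, 25, 3, 14, 1] [.sub [22, 1, 13, 1, 1, 13, 1, 28] [.out 896]],
  .sub [8, 25, 3, 14, 1] [.sub [23, 28, 1, 13, 1, 28] [.out 1297]],
  .sub [14, 27, 3, 14, 1] [.out 1636],
  .sub [12, 0, 8, 14, 1] [.out 191],
  .sub [10, 3, 8, 14, 1] [.out 1577],
  .sub [12, 8, 8, 14, 1] [.out 1780],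
  .sub [10, 9, 8, 14, 1] [.sub [23, 23, 28, 22, 23, 1, 13, 1] [.sub [22, 28, 0, 4, 2, 3, 5, 0, 2, 4, 3, 4, 5, 4, 6, 5, 1, 2, 3, 5, 6, 2, 3, 1, 2, 3, 5, 2, 3, 2, 3, 5, 3, 2, 3, 0, 4, 2, 3, 5, 0, 2, 4, 3, 4, 5, 4, 6, 5, 1, 2, 3, 5, 6, 2, 3, 1, 2, 3, 5, 2, 3, 2, 3, 5, 3, 2, 3, 22, 28] [.done 5]]],
  .sub [1, 10, 8, 14, 1] [.out 667],
  .sub [3, 10, 8, 14, 1] [.out 6],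
  .sub [11, 10, 8, 14, 1] [.out 1960],
  .sub [12, 10, 8, 14, 1] [.sub [28, 1, 13, 1, 28, 28, 23] [.out 2005]],
  .sub [2, 11, 8, 14, 1] [.out 1092],
  .sub [15, 11, 8, 14, 1] [.out 1399],
  .sub [11, 12, 8, 14, 1] [.out 254],
  .sub [9, 14, 8, 14, 1] [.sub [23, 28, 1, 13, 1, 1, 13, 1, 23] [.sub [5, 6, 5, 1, 6, 2, 1, 0, 3, 1, 2, 3, 1, 2, 3, 1, 4, 2, 1, 3, 2, 3, 1, 2, 3, 4, 1, 2, 3, 5, 2, 0, 0, 4, 2, 3, 5, 0, 2, 4, 3, 4, 5, 4, 6, 5, 1, 2, 3, 5, 6, 2, 3, 1, 2, 3, 5, 2, 3, 2, 3, 5, 3, 2, 3, 5, 6, 5, 1, 6, 2, 1, 0, 3, 1, 2, 3, 1, 2, 3, 1, 4, 2, 1, 3, 2, 3, 1, 2, 3, 4, 1, 2, 3, 5, 2, 0] [.out 34]]],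
  .sub [5, 17, 8, 14, 1] [.out 203],
  .sub [27, 17, 8, 14, 1] [.sub [28, 23, 23, 1, 13, 1, 28, 28] [.sub [0, 4, 2, 3, 5, 0, 2, 4, 3, 4, 5, 4, 6, 5, 1, 2, 3, 5, 6, 2, 3, 1, 2, 3, 5, 2, 3, 2, 3, 5, 3, 2, 3, 5, 1, 0, 1, 0, 4, 2, 3, 5, 0, 2, 4, 3, 4, 5, 4, 6, 5, 1, 2, 3, 5, 6, 2, 3, 1, 2, 3, 5, 2, 3, 2, 3, 5, 3, 2, 3, 5, 6, 5, 1, 6, 2, 1, 0, 3, 1, 2, 3, 1, 2, 3, 1, 4, 2, 1, 3, 2, 3, 1, 2, 3, 4, 1, 2, 3, 5, 2, 0, 0, 4, 2, 3, 5, 0, 2, 4, 3, 4, 5, 4, 6, 5, 1, 2, 3, 5, 6, 2, 3, 1, 2, 3, 5, 2, 3, 2, 3, 5, 3, 2, 3] [.out 1892]]],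
  .sub [11, 20, 8, 14, 1] [.out 1577],
  .sub [11, 21, 8, 14, 1] [.sub [23, 23, 23, 23, 28, 28] [.sub [0, 4, 2, 3, 5, 0, 2, 4, 3, 4, 5, 4, 6, 5, 1, 2, 3, 5, 6, 2, 3, 1, 2, 3, 5, 2, 3, 2, 3, 5, 3, 2, 3, 0, 4, 2, 3, 5, 0, 2, 4, 3, 4, 5, 4, 6, 5, 1, 2, 3, 5, 6, 2, 3, 1, 2, 3, 5, 2, 3, 2, 3, 5, 3, 2, 3, 22, 28, 0, 4, 2, 3, 5, 0, 2, 4, 3, 4, 5, 4, 6, 5, 1, 2, 3, 5, 6, 2, 3, 1, 2, 3, 5, 2, 3, 2, 3, 5, 3, 2, 3] [.out 1137]]],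
  .sub [12, 21, 8, 14, 1] [.out 984],
  .sub [1, 23, 8, 14, 1] [.out 927],
  .sub [11, 23, 8, 14, 1] [.out 1116],
  .sub [12, 23, 8, 14, 1] [.out 1821],
  .sub [13, 23, 8, 14, 1] [.out 1331],
  .sub [13, 25, 8, 14, 1] [.out 46],
  .sub [9, 27, 8, 14, 1] [.sub [1, 13, 1, 23, 23, 1, 13, 1, 28, 28] [.out 182]],
  .sub [10, 27, 8, 14, 1] [.sub [23, 28, 23, 28, 23, 28] [.sub [5, 1, 0, 1, 0, 4, 2, 3, 5, 0, 2, 4, 3, 4, 5, 4, 6, 5, 1, 2, 3, 5, 6, 2, 3, 1, 2, 3, 5, 2, 3, 2, 3, 5, 3, 2, 3, 5, 6, 5, 1, 6, 2, 1, 0, 3, 1, 2, 3, 1, 2, 3, 1, 4, 2, 1, 3, 2, 3, 1, 2, 3, 4, 1, 2, 3, 5, 2, 0, 0, 4, 2, 3, 5, 0, 2, 4, 3, 4, 5, 4, 6, 5, 1, 2, 3, 5, 6, 2, 3, 1, 2, 3, 5, 2, 3, 2, 3, 5, 3, 2, 3, 5, 6, 5, 1, 6, 2, 1, 0, 3, 1, 2, 3,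 1, 2, 3, 1, 4, 2, 1, 3, 2, 3, 1, 2, 3, 4, 1, 2, 3, 5, 2, 0] [.out 489]]],
  .sub [17, 6, 9, 14, 1] [.out 520],
  .sub [23, 6, 9, 14, 1] [.out 19],
  .sub [8, 17, 9, 14, 1] [.sub [23, 28, 28, 23] [.sub [22, 28, 0, 4, 2, 3, 5, 0, 2, 4, 3, 4, 5, 4, 6, 5, 1, 2, 3, 5, 6, 2, 3, 1, 2, 3, 5, 2, 3, 2, 3, 5, 3, 2, 3, 5, 6, 5, 1, 6, 2, 1, 0, 3, 1, 2, 3, 1, 2, 3, 1, 4, 2, 1, 3, 2, 3, 1, 2, 3, 4, 1, 2, 3, 5, 2, 0, 0, 4, 2, 3, 5, 0, 2, 4, 3, 4, 5, 4, 6, 5, 1, 2, 3, 5, 6, 2, 3, 1, 2, 3, 5, 2, 3, 2, 3, 5, 3, 2, 3, 5, 6, 5, 1, 6, 2, 1, 0, 3, 1, 2, 3, 1, 2, 3, 1, 4, 2, 1, 3, 2, 3, 1, 2, 3, 4, 1, 2, 3, 5, 2, 0] [.out 540]]],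
  .sub [1, 23, 9, 14, 1] [.sub [22, 23, 1, 13, 1, 28, 23] [.sub [5, 1, 0, 1, 0, 4, 2, 3, 5, 0, 2, 4, 3, 4, 5, 4, 6, 5, 1, 2, 3, 5, 6, 2, 3, 1, 2, 3, 5, 2, 3, 2, 3, 5, 3, 2, 3, 5, 1, 0, 1, 0, 4, 2, 3, 5, 0, 2, 4, 3, 4, 5, 4, 6, 5, 1, 2, 3, 5, 6, 2, 3, 1, 2, 3, 5, 2, 3, 2, 3, 5, 3, 2, 3] [.out 1886]]],
  .sub [1, 25, 9, 14, 1] [.out 819],
  .sub [20, 11, 10, 14, 1] [.sub [28, 22, 23, 1, 13, 1, 28] [.out 712]],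
  .sub [8, 10, 11, 14, 1] [.sub [22, 1, 13, 1, 28, 23, 1, 13, 1, 28] [.sub [5, 6, 5, 1, 6, 2, 1, 0, 3, 1, 2, 3, 1, 2, 3, 1, 4, 2, 1, 3, 2, 3, 1, 2, 3, 4, 1, 2, 3, 5, 2, 0, 5, 1, 0, 1, 0, 4, 2, 3, 5, 0, 2, 4, 3, 4, 5, 4, 6, 5, 1, 2, 3, 5, 6, 2, 3, 1, 2, 3, 5, 2, 3, 2, 3, 5, 3, 2, 3, 5, 1, 0, 1] [.bad [0, 5, 2, 4, 1, 0, 3, 4, 3, 0, 2, 3, 4, 6, 2, 6, 3, 2, 3, 0, 1, 2, 3, 2, 3, 1, 2, 3, 5, 2, 1, 5, 1, 5, 2, 4, 3, 4, 0, 6, 2, 1, 6, 4, 3, 2, 3, 4, 2, 3, 1, 2, 3, 4, 2, 0, 1] 1]]],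
  .sub [9, 9, 12, 14, 1] [.out 1419],
  .sub [11, 9, 12, 14, 1] [.out 1125],
  .sub [21, 9, 12, 14, 1] [.out 203],
  .sub [8, 10, 12, 14, 1] [.out 1889],
  .sub [18, 10, 12, 14, 1] [.out 1266],
  .sub [23, 4, 17, 14, 1] [.out 1468],
  .sub [17, 8, 17, 14, 1] [.sub [1, 13, 1, 1, 13, 1, 1, 13, 1, 23, 23] [.out 1174]],
  .sub [23, 8, 17, 14, 1] [.out 355],
  .sub [3, 10, 17, 14, 1] [.out 943],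
  .sub [12, 10, 17, 14, 1] [.out 1088],
  .sub [21, 13, 17, 14, 1] [.out 1365],
  .sub [23, 13, 17, 14, 1] [.sub [1, 13, 1, 1, 13, 1, 28, 28, 23] [.out 747]],
  .sub [8, 15, 17, 14, 1] [.sub [] [.out 729]],
  .sub [20, 15, 17, 14, 1] [.sub [22, 1, 13, 1, 28, 23, 28, 28] [.out 236]],
  .sub [25, 15, 17, 14, 1] [.out 1512],
  .sub [10, 17, 17, 14, 1] [.out 570],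
  .sub [14, 17, 17, 14, 1] [.out 670],
  .sub [15, 17, 17, 14, 1] [.out 1886],
  .sub [27, 17, 17, 14, 1] [.out 1203],
  .sub [15, 20, 17, 14, 1] [.out 1874],
  .sub [17, 20, 17, 14, 1] [.out 1580],
  .sub [23, 20, 17, 14, 1] [.out 1936],
  .sub [13, 21, 17, 14, 1] [.out 716],
  .sub [13, 23, 17, 14, 1] [.out 1136],
  .sub [3, 27, 17, 14, 1] [.out 1487],
  .sub [12, 27, 17, 14, 1] [.out 1445],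
  .sub [14, 27, 17, 14, 1] [.out 1010],
  .sub [4, 3, 20, 14, 1] [.out 64],
  .sub [20, 3, 20, 14, 1] [.sub [23, 23, 23, 23, 23, 28] [.sub [0, 4, 2, 3, 5, 0, 2, 4, 3, 4, 5, 4, 6, 5, 1, 2, 3, 5, 6, 2, 3, 1, 2, 3, 5, 2, 3, 2, 3, 5, 3, 2, 3, 5, 6, 5, 1, 6, 2, 1, 0, 3, 1, 2, 3, 1, 2, 3, 1, 4, 2, 1, 3, 2, 3, 1, 2, 3, 4, 1, 2, 3, 5, 2, 0, 5, 6, 5, 1, 6, 2, 1, 0, 3, 1, 2, 3, 1, 2, 3, 1, 4, 2, 1, 3, 2, 3, 1, 2, 3, 4, 1, 2, 3, 5, 2, 0] [.out 983]]],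
  .sub [23, 3, 20, 14, 1] [.out 1371],
  .sub [8, 11, 20, 14, 1] [.out 799],
  .sub [9, 11, 20, 14, 1] [.out 804],
  .sub [14, 12, 20, 14, 1] [.out 1366],
  .sub [20, 12, 20, 14, 1] [.sub [28, 1, 13, 1, 22, 1, 13, 1, 28, 28] [.sub [0, 4, 2, 3, 5, 0, 2, 4, 3, 4, 5, 4, 6, 5, 1, 2, 3, 5, 6, 2, 3, 1, 2, 3, 5, 2, 3, 2, 3, 5, 3, 2, 3, 5, 1, 0, 1, 0, 4, 2, 3, 5, 0, 2, 4, 3, 4, 5, 4, 6, 5, 1, 2, 3, 5, 6, 2, 3, 1, 2, 3, 5, 2, 3, 2, 3, 5, 3, 2, 3, 22, 28, 0, 4, 2, 3, 5, 0, 2, 4, 3, 4, 5, 4, 6, 5, 1, 2, 3, 5, 6, 2, 3, 1, 2, 3, 5, 2, 3, 2, 3, 5, 3, 2, 3, 5, 6, 5, 1, 6, 2, 1, 0, 3, 1, 2, 3, 1, 2, 3, 1, 4, 2, 1, 3, 2, 3, 1, 2, 3, 4, 1, 2, 3, 5, 2, 0] [.out 1358]]],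
  .sub [21, 12, 20, 14, 1] [.out 1790],
  .sub [9, 23, 20, 14, 1] [.out 1004],
  .sub [10, 23, 20, 14, 1] [.sub [1, 13, 1, 28, 23, 1, 13, 1, 28] [.out 1721]],
  .sub [11, 23, 20, 14, 1] [.out 744],
  .sub [12, 27, 20, 14, 1] [.out 2026],
  .sub [13, 27, 20, 14, 1] [.out 1637],
  .sub [17, 27, 20, 14, 1] [.out 2025],
  .sub [19, 27, 20, 14, 1] [.out 726],
  .sub [10, 3, 21, 14, 1] [.out 1438],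
  .sub [13, 3, 21, 14, 1] [.out 463],
  .sub [21, 3, 21, 14, 1] [.sub [28, 1, 13, 1, 28, 1, 13, 1, 28, 1, 13, 1, 28] [.sub [0, 4, 2, 3, 5, 0, 2, 4, 3, 4, 5, 4, 6, 5, 1, 2, 3, 5, 6, 2, 3, 1, 2, 3, 5, 2, 3, 2, 3, 5, 3, 2, 3, 22, 28] [.out 737]]],
  .sub [21, 9, 21, 14, 1] [.out 1352],
  .sub [8, 11, 21, 14, 1] [.out 82],
  .sub [9, 11, 21, 14, 1] [.out 677],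
  .sub [11, 11, 21, 14, 1] [.out 1953],
  .sub [16, 11, 21, 14, 1] [.out 453],
  .sub [27, 11, 21, 14, 1] [.out 1188],
  .sub [1, 12, 21, 14, 1] [.out 1875],
  .sub [21, 12, 21, 14, 1] [.out 1248],
  .sub [27, 12, 21, 14, 1] [.out 19],
  .sub [20, 13, 21, 14, 1] [.out 1591],
  .sub [10, 25, 21, 14, 1] [.out 1454],
  .sub [14, 27, 21, 14, 1] [.out 596],
  .sub [17, 27, 21, 14, 1] [.sub [1, 13, 1, 28, 23, 23] [.sub [5, 6, 5, 1, 6, 2, 1, 0, 3, 1, 2, 3, 1, 2, 3, 1, 4, 2, 1, 3, 2, 3, 1, 2, 3, 4, 1, 2, 3, 5, 2, 0, 0, 4, 2, 3, 5, 0, 2, 4, 3, 4, 5, 4, 6, 5, 1, 2, 3, 5, 6, 2, 3, 1, 2, 3, 5, 2, 3, 2, 3, 5, 3, 2, 3, 0, 4, 2, 3, 5, 0, 2, 4, 3, 4, 5, 4, 6, 5, 1, 2, 3, 5, 6, 2, 3, 1, 2, 3, 5, 2, 3, 2, 3, 5, 3, 2, 3, 5,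 1, 0, 1, 5, 6, 5, 1, 6, 2, 1, 0, 3, 1, 2, 3, 1, 2, 3, 1, 4, 2, 1, 3, 2, 3, 1, 2, 3, 4, 1, 2, 3, 5, 2, 0, 0, 4, 2, 3, 5, 0, 2, 4, 3, 4, 5, 4, 6, 5, 1, 2, 3, 5, 6, 2, 3, 1, 2, 3, 5, 2, 3, 2, 3, 5, 3, 2, 3] [.out 511]]],
  .sub [23, 3, 23, 14, 1] [.out 1552],
  .sub [9, 8, 23, 14, 1] [.sub [1, 13, 1, 28, 28, 23, 23, 1, 13, 1] [.sub [5, 6, 5, 1, 6, 2, 1, 0, 3, 1, 2, 3, 1, 2, 3, 1, 4, 2, 1, 3, 2, 3, 1, 2, 3, 4, 1, 2, 3, 5, 2, 0, 0, 4, 2, 3, 5, 0, 2, 4, 3, 4, 5, 4, 6, 5, 1, 2, 3, 5, 6, 2, 3, 1, 2, 3, 5, 2, 3, 2, 3, 5, 3, 2, 3, 5, 6, 5, 1, 6, 2, 1, 0, 3, 1, 2, 3, 1, 2, 3, 1, 4, 2, 1, 3, 2, 3, 1, 2, 3, 4, 1, 2, 3, 5, 2, 0, 5, 1, 0, 1, 22, 28] [.out 699]]],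
  .sub [25, 10, 23, 14, 1] [.out 1835],
  .sub [12, 11, 23, 14, 1] [.sub [22, 1, 13, 1, 28, 28] [.sub [0, 4, 2, 3, 5, 0, 2, 4, 3, 4, 5, 4, 6, 5, 1, 2, 3, 5, 6, 2, 3, 1, 2, 3, 5, 2, 3, 2, 3, 5, 3, 2, 3, 5, 6, 5, 1, 6, 2, 1, 0, 3, 1, 2, 3, 1, 2, 3, 1, 4, 2, 1, 3, 2, 3, 1, 2, 3, 4, 1, 2, 3, 5, 2, 0, 0, 4, 2, 3, 5, 0, 2, 4, 3, 4, 5, 4, 6, 5, 1, 2, 3, 5, 6, 2, 3, 1, 2, 3, 5, 2, 3, 2, 3, 5, 3, 2, 3, 5, 1, 0, 1, 0, 4, 2, 3, 5, 0, 2, 4, 3, 4, 5, 4, 6, 5, 1, 2, 3, 5, 6, 2, 3, 1, 2, 3, 5, 2, 3, 2, 3, 5, 3, 2, 3, 5, 6, 5, 1, 6, 2, 1, 0, 3, 1, 2, 3, 1, 2, 3, 1, 4, 2, 1, 3, 2, 3, 1, 2, 3, 4, 1, 2, 3, 5, 2, 0, 5, 6, 5, 1, 6, 2, 1, 0, 3, 1, 2, 3, 1, 2, 3, 1, 4, 2, 1, 3, 2, 3, 1, 2, 3, 4, 1, 2, 3, 5, 2, 0] [.out 665]]],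
  .sub [23, 11, 23, 14, 1] [.out 803],
  .sub [10, 12, 23, 14, 1] [.out 1824],
  .sub [8, 13, 23, 14, 1] [.sub [28, 1, 13, 1, 28, 1, 13, 1, 1, 13, 1] [.out 695]],
  .sub [27, 13, 23, 14, 1] [.sub [23] [.out 71]],
  .sub [11, 27, 23, 14, 1] [.out 601],
  .sub [23, 27, 23, 14, 1] [.out 1326],
  .sub [13, 8, 25, 14, 1] [.out 1812],
  .sub [10, 9, 25, 14, 1] [.out 1807],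
  .sub [9, 11, 25, 14, 1] [.out 1306],
  .sub [12, 11, 25, 14, 1] [.sub [28, 28, 23, 23, 1, 13, 1, 28] [.sub [5, 6, 5, 1, 6, 2, 1, 0, 3, 1, 2, 3, 1, 2, 3, 1, 4, 2, 1, 3, 2, 3, 1, 2, 3, 4, 1, 2, 3, 5, 2, 0, 0, 4, 2, 3, 5, 0, 2, 4, 3, 4, 5, 4, 6, 5, 1, 2, 3, 5, 6, 2, 3, 1, 2, 3, 5, 2, 3, 2, 3, 5, 3, 2, 3, 5, 6, 5, 1, 6, 2, 1, 0, 3, 1, 2, 3, 1, 2, 3, 1, 4, 2, 1, 3, 2, 3, 1, 2, 3, 4, 1, 2, 3, 5, 2, 0, 5, 1, 0, 1, 0, 4, 2, 3, 5, 0, 2, 4, 3, 4, 5, 4, 6, 5, 1, 2, 3, 5, 6, 2, 3, 1, 2, 3, 5, 2, 3, 2, 3, 5, 3, 2, 3, 5, 1, 0, 1] [.bad [0, 2, 6, 4, 3, 6, 4, 5, 3, 2, 1, 0, 5, 3, 6, 3, 5, 3, 2, 3, 6, 1, 2, 3, 5, 0, 1, 2, 3] 1]]],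
  .sub [14, 11, 25, 14, 1] [.out 205],
  .sub [23, 11, 25, 14, 1] [.out 1285],
  .sub [8, 13, 25, 14, 1] [.out 619],
  .sub [25, 27, 25, 14, 1] [.out 1726],
  .sub [27, 27, 25, 14, 1] [.out 1472],
  .sub [11, 6, 27, 14, 1] [.out 720],
  .sub [13, 6, 27, 14, 1] [.out 1474],
  .sub [8, 9, 27, 14, 1] [.out 681],
  .sub [9, 9, 27, 14, 1] [.out 1907],
  .sub [10, 9, 27, 14, 1] [.out 1431],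
  .sub [11, 9, 27, 14, 1] [.out 1798],
  .sub [14, 9, 27, 14, 1] [.sub [22, 23, 1, 13, 1, 28, 28] [.sub [0, 4, 2, 3, 5, 0, 2, 4, 3, 4, 5, 4, 6, 5, 1, 2, 3, 5, 6, 2, 3, 1, 2, 3, 5, 2, 3, 2, 3, 5, 3, 2, 3, 5, 6, 5, 1, 6, 2, 1, 0, 3, 1, 2, 3, 1, 2, 3, 1, 4, 2, 1, 3, 2, 3, 1, 2, 3, 4, 1, 2, 3, 5, 2, 0, 5, 1, 0, 1, 0, 4, 2, 3, 5, 0, 2, 4, 3, 4, 5, 4, 6, 5, 1, 2, 3, 5, 6, 2, 3, 1, 2, 3, 5, 2, 3, 2, 3, 5, 3, 2, 3, 5, 1, 0, 1, 5, 6, 5, 1, 6, 2, 1, 0, 3, 1, 2, 3, 1, 2, 3, 1, 4, 2, 1, 3, 2, 3, 1, 2, 3, 4, 1, 2, 3, 5, 2, 0, 0, 4, 2, 3, 5, 0, 2, 4, 3, 4, 5, 4, 6, 5, 1, 2, 3, 5, 6, 2, 3, 1, 2, 3, 5, 2, 3, 2, 3, 5, 3, 2, 3] [.out 593]]],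
  .sub [16, 9, 27, 14, 1] [.out 617],
  .sub [20, 9, 27, 14, 1] [.sub [22, 1, 13, 1, 28, 23, 28, 28] [.out 474]],
  .sub [21, 9, 27, 14, 1] [.out 578],
  .sub [27, 9, 27, 14, 1] [.out 931],
  .sub [3, 10, 27, 14, 1] [.out 520],
  .sub [6, 10, 27, 14, 1] [.out 1957],
  .sub [7, 10, 27, 14, 1] [.out 1010],
  .sub [9, 10, 27, 14, 1] [.sub [28, 22, 1, 13, 1, 1, 13, 1, 23] [.sub [22, 28, 0, 4, 2, 3, 5, 0, 2, 4, 3, 4, 5, 4, 6, 5, 1, 2, 3, 5, 6, 2, 3, 1, 2, 3, 5, 2, 3, 2, 3, 5, 3, 2, 3, 22, 28, 5, 6, 5, 1, 6, 2, 1, 0, 3, 1, 2, 3, 1, 2, 3, 1, 4, 2, 1, 3, 2, 3, 1, 2, 3, 4, 1, 2, 3, 5, 2, 0, 0, 4, 2, 3, 5, 0, 2, 4, 3, 4, 5, 4, 6, 5, 1, 2, 3, 5, 6, 2, 3, 1, 2, 3, 5, 2, 3, 2, 3, 5, 3, 2, 3, 22, 28] [.out 662]]],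
  .sub [10, 10, 27, 14, 1] [.out 918],
  .sub [11, 10, 27, 14, 1] [.out 1620],
  .sub [18, 10, 27, 14, 1] [.out 1490],
  .sub [19, 10, 27, 14, 1] [.out 1925],
  .sub [11, 12, 27, 14, 1] [.out 1762],
  .sub [4, 17, 27, 14, 1] [.sub [28, 28, 1, 13, 1, 22, 1, 13, 1] [.sub [5, 1, 0, 1, 22, 28, 0, 4, 2, 3, 5, 0, 2, 4, 3, 4, 5, 4, 6, 5, 1, 2, 3, 5, 6, 2, 3, 1, 2, 3, 5, 2, 3, 2, 3, 5, 3, 2, 3, 22, 28, 0, 4, 2, 3, 5, 0, 2, 4, 3, 4, 5, 4, 6, 5, 1, 2, 3, 5, 6, 2, 3, 1, 2, 3, 5, 2, 3, 2, 3, 5, 3, 2, 3, 5, 1, 0, 1, 22, 28] [.out 737]]],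
  .sub [5, 17, 27, 14, 1] [.out 1249],
  .sub [21, 17, 27, 14, 1] [.out 31],
  .sub [22, 17, 27, 14, 1] [.out 1898],
  .sub [23, 17, 27, 14, 1] [.out 1962],
  .sub [2, 23, 27, 14, 1] [.out 1967],
  .sub [9, 23, 27, 14, 1] [.out 1270],
  .sub [11, 23, 27, 14, 1] [.sub [22, 1, 13, 1, 1, 13, 1, 1, 13, 1] [.sub [0, 4, 2, 3, 5, 0, 2, 4, 3, 4, 5, 4, 6, 5, 1, 2, 3, 5, 6, 2, 3, 1, 2, 3, 5, 2, 3, 2, 3, 5, 3, 2, 3, 0, 4, 2, 3, 5, 0, 2, 4, 3, 4, 5, 4, 6, 5, 1, 2, 3, 5, 6, 2, 3, 1, 2, 3, 5, 2, 3, 2, 3, 5, 3, 2, 3, 5, 6, 5, 1, 6, 2, 1, 0, 3, 1, 2, 3, 1, 2, 3, 1, 4, 2, 1, 3, 2, 3, 1, 2, 3, 4, 1, 2, 3, 5, 2, 0, 0, 4, 2, 3, 5, 0, 2, 4, 3, 4, 5, 4, 6, 5, 1, 2, 3, 5, 6, 2, 3, 1, 2, 3, 5, 2, 3, 2, 3, 5, 3, 2, 3, 5, 1, 0, 1,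 0, 4, 2, 3, 5, 0, 2, 4, 3, 4, 5, 4, 6, 5, 1, 2, 3, 5, 6, 2, 3, 1, 2, 3, 5, 2, 3, 2, 3, 5, 3, 2, 3, 22, 28] [.out 1555]]],
  .sub [12, 23, 27, 14, 1] [.out 1913],
  .sub [13, 23, 27, 14, 1] [.sub [22, 1, 13, 1, 23, 1, 13, 1, 1, 13, 1, 23] [.sub [0, 4, 2, 3, 5, 0, 2, 4, 3, 4, 5, 4, 6, 5, 1, 2, 3, 5, 6, 2, 3, 1, 2, 3, 5, 2, 3, 2, 3, 5, 3, 2, 3, 5, 1, 0, 1, 0, 4, 2, 3, 5, 0, 2, 4, 3, 4, 5, 4, 6, 5, 1, 2, 3, 5, 6, 2, 3, 1, 2, 3, 5, 2, 3, 2, 3, 5, 3, 2, 3, 5, 1, 0, 1, 22, 28] [.out 662]]],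
  .sub [3, 25, 27, 14, 1] [.sub [23, 23, 1, 13, 1, 23] [.sub [22, 28, 5, 6, 5, 1, 6, 2, 1, 0, 3, 1, 2, 3, 1, 2, 3, 1, 4, 2, 1, 3, 2, 3, 1, 2, 3, 4, 1, 2, 3, 5, 2, 0, 0, 4, 2, 3, 5, 0, 2, 4, 3, 4, 5, 4, 6, 5, 1, 2, 3, 5, 6, 2, 3, 1, 2, 3, 5, 2, 3, 2, 3, 5, 3, 2, 3, 5, 1, 0, 1, 5, 6, 5, 1, 6, 2, 1, 0, 3, 1, 2, 3, 1, 2, 3, 1, 4, 2, 1, 3, 2, 3, 1, 2, 3, 4, 1, 2, 3, 5, 2, 0] [.out 593]]],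
  .sub [9, 25, 27, 14, 1] [.out 1178],
  .sub [8, 9, 10, 15, 1] [.out 1504],
  .sub [9, 9, 10, 15, 1] [.out 2026],
  .sub [16, 10, 10, 15, 1] [.out 990],
  .sub [27, 10, 10, 15, 1] [.out 2006],
  .sub [8, 11, 10, 15, 1] [.out 74],
  .sub [20, 11, 10, 15, 1] [.out 1259],
  .sub [3, 27, 10, 15, 1] [.out 253],
  .sub [20, 18, 17, 15, 1] [.out 653],
  .sub [27, 18, 17, 15, 1] [.out 1032],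
  .sub [4, 27, 17, 15, 1] [.out 905],
  .sub [16, 27, 17, 15, 1] [.out 1263],
  .sub [8, 12, 20, 15, 1] [.out 650],
  .sub [11, 15, 20, 15, 1] [.out 20],
  .sub [27, 11, 21, 15, 1] [.sub [28, 1, 13, 1, 22, 1, 13, 1, 1, 13, 1] [.sub [0, 4, 2, 3, 5, 0, 2, 4, 3, 4, 5, 4, 6, 5, 1, 2, 3, 5, 6, 2, 3, 1, 2, 3, 5, 2, 3, 2, 3, 5, 3, 2, 3, 5, 6, 5, 1, 6, 2, 1, 0, 3, 1, 2, 3, 1, 2, 3, 1, 4, 2, 1, 3, 2, 3, 1, 2, 3, 4, 1, 2, 3, 5, 2, 0, 5, 1, 0, 1, 0, 4, 2, 3, 5, 0, 2, 4, 3, 4, 5, 4, 6, 5, 1, 2, 3, 5, 6, 2, 3, 1, 2, 3, 5, 2, 3, 2, 3, 5, 3, 2, 3, 22, 28] [.out 1892]]],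
  .sub [1, 10, 23, 15, 1] [.out 1123],
  .sub [12, 11, 23, 15, 1] [.out 1155],
  .sub [27, 12, 23, 15, 1] [.sub [1, 13, 1, 1, 13, 1, 1, 13, 1, 23, 1, 13, 1] [.sub [5, 1, 0, 1, 22, 28, 0, 4, 2, 3, 5, 0, 2, 4, 3, 4, 5, 4, 6, 5, 1, 2, 3, 5, 6, 2, 3, 1, 2, 3, 5, 2, 3, 2, 3, 5, 3, 2, 3, 5, 6, 5, 1, 6, 2, 1, 0, 3, 1, 2, 3, 1, 2, 3, 1, 4, 2, 1, 3, 2, 3, 1, 2, 3, 4, 1, 2, 3, 5, 2, 0, 0, 4, 2, 3, 5, 0, 2, 4, 3, 4, 5, 4, 6, 5, 1, 2, 3, 5, 6, 2, 3, 1, 2, 3, 5, 2, 3, 2, 3, 5, 3, 2, 3, 5, 6, 5, 1, 6, 2, 1, 0, 3, 1, 2, 3, 1, 2, 3, 1, 4, 2, 1, 3, 2, 3, 1, 2, 3, 4, 1, 2, 3, 5, 2, 0] [.done 10]]],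
  .sub [12, 11, 25, 15, 1] [.sub [22, 23, 1, 13, 1, 1, 13, 1, 23] [.sub [0, 4, 2, 3, 5, 0, 2, 4, 3, 4, 5, 4, 6, 5, 1, 2, 3, 5, 6, 2, 3, 1, 2, 3, 5, 2, 3, 2, 3, 5, 3, 2, 3, 22, 28, 0, 4, 2, 3, 5, 0, 2, 4, 3, 4, 5, 4, 6, 5, 1, 2, 3, 5, 6, 2, 3, 1, 2, 3, 5, 2, 3, 2, 3, 5, 3, 2, 3, 5, 6, 5, 1, 6, 2, 1, 0, 3, 1, 2, 3, 1, 2, 3, 1, 4, 2, 1, 3, 2, 3, 1, 2, 3, 4, 1, 2, 3, 5, 2, 0, 0, 4, 2, 3, 5, 0, 2, 4, 3, 4, 5, 4, 6, 5, 1, 2, 3, 5, 6, 2, 3, 1, 2, 3, 5, 2, 3, 2, 3, 5, 3, 2, 3] [.out 1935]]],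
  .sub [14, 20, 13, 17, 1] [.out 1680],
  .sub [6, 14, 14, 17, 1] [.out 179],
  .sub [21, 14, 14, 17, 1] [.out 1795],
  .sub [23, 0, 15, 17, 1] [.out 2],
  .sub [10, 8, 15, 17, 1] [.out 959],
  .sub [20, 11, 15, 17, 1] [.sub [22, 23, 1, 13, 1, 28, 23] [.out 1158]],
  .sub [5, 17, 15, 17, 1] [.out 1754],
  .sub [13, 17, 15, 17, 1] [.out 176],
  .sub [16, 17, 15, 17, 1] [.sub [22, 23, 28, 1, 13, 1, 1, 13, 1, 28, 28] [.sub [5, 1, 0, 1, 5, 6, 5, 1, 6, 2, 1, 0, 3, 1, 2, 3, 1, 2, 3, 1, 4, 2, 1, 3, 2, 3, 1, 2, 3, 4, 1, 2, 3, 5, 2, 0, 0, 4, 2, 3, 5, 0, 2, 4, 3, 4, 5, 4, 6, 5, 1, 2, 3, 5, 6, 2, 3, 1, 2, 3, 5, 2, 3, 2, 3, 5, 3, 2, 3, 22, 28] [.out 34]]]]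

/-- Branches. -/
def kidsXPart11 : List Branch := [
  .sub [22, 17, 15, 17, 1] [.out 1114],
  .sub [25, 17, 15, 17, 1] [.out 2015],
  .sub [23, 20, 15, 17, 1] [.out 781],
  .sub [8, 23, 15, 17, 1] [.out 1636],
  .sub [11, 23, 15, 17, 1] [.sub [28, 28, 1, 13, 1, 1, 13, 1, 28, 28] [.sub [22, 28, 5, 1, 0, 1] [.out 699]]],
  .sub [14, 25, 15, 17, 1] [.out 1957],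
  .sub [14, 6, 20, 17, 1] [.sub [1, 13, 1, 1, 13, 1, 23, 28, 23] [.sub [0, 4, 2, 3, 5, 0, 2, 4, 3, 4, 5, 4, 6, 5, 1, 2, 3, 5, 6, 2, 3, 1, 2, 3, 5, 2, 3, 2, 3, 5, 3, 2, 3, 5, 1, 0, 1, 22, 28, 0, 4, 2, 3, 5, 0, 2, 4, 3, 4, 5, 4, 6, 5, 1, 2, 3, 5, 6, 2, 3, 1, 2, 3, 5, 2, 3, 2, 3, 5, 3, 2, 3, 22, 28, 0, 4, 2, 3, 5, 0, 2, 4, 3, 4, 5, 4, 6, 5, 1, 2, 3, 5, 6, 2, 3, 1, 2, 3, 5, 2, 3, 2, 3, 5, 3, 2, 3] [.out 364]]],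
  .sub [1, 10, 20, 17, 1] [.out 1194],
  .sub [8, 10, 20, 17, 1] [.out 1277],
  .sub [18, 10, 20, 17, 1] [.out 803],
  .sub [13, 15, 20, 17, 1] [.out 1664],
  .sub [27, 15, 20, 17, 1] [.out 497],
  .sub [6, 27, 20, 17, 1] [.out 678],
  .sub [9, 27, 20, 17, 1] [.out 1009],
  .sub [15, 9, 21, 17, 1] [.sub [22, 28, 1, 13, 1, 28, 23] [.out 815]],
  .sub [1, 10, 21, 17, 1] [.out 1301],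
  .sub [8, 15, 21, 17, 1] [.out 1707],
  .sub [23, 15, 21, 17, 1] [.out 1368],
  .sub [10, 16, 21, 17, 1] [.out 780],
  .sub [11, 16, 21, 17, 1] [.out 1948],
  .sub [3, 10, 27, 17, 1] [.out 1226],
  .sub [17, 14, 27, 17, 1] [.out 1165],
  .sub [23, 14, 27, 17, 1] [.out 604],
  .sub [25, 15, 27, 17, 1] [.sub [23, 1, 13, 1, 28, 1, 13, 1, 1, 13, 1] [.sub [0, 4, 2, 3, 5, 0, 2, 4, 3, 4, 5, 4, 6, 5, 1, 2, 3, 5, 6, 2, 3, 1, 2, 3, 5, 2, 3, 2, 3, 5, 3, 2, 3, 5, 6, 5, 1, 6, 2, 1, 0, 3, 1, 2, 3, 1, 2, 3, 1, 4, 2, 1, 3, 2, 3, 1, 2, 3, 4, 1, 2, 3, 5, 2, 0, 5, 1, 0, 1, 0, 4, 2, 3, 5, 0, 2, 4, 3, 4, 5, 4, 6, 5, 1, 2, 3, 5, 6, 2, 3, 1, 2, 3, 5, 2, 3, 2, 3, 5, 3, 2, 3, 22, 28, 0, 4, 2, 3, 5, 0, 2, 4, 3, 4, 5, 4, 6, 5, 1, 2,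 3, 5, 6, 2, 3, 1, 2, 3, 5, 2, 3, 2, 3, 5, 3, 2, 3, 5, 6, 5, 1, 6, 2, 1, 0, 3, 1, 2, 3, 1, 2, 3, 1, 4, 2, 1, 3, 2, 3, 1, 2, 3, 4, 1, 2, 3, 5, 2, 0] [.out 959]]],
  .sub [15, 23, 27, 17, 1] [.out 665],
  .sub [11, 8, 10, 20, 1] [.out 322],
  .sub [14, 8, 10, 20, 1] [.out 1561],
  .sub [16, 9, 11, 20, 1] [.out 1421],
  .sub [27, 10, 11, 20, 1] [.out 1826],
  .sub [11, 14, 11, 20, 1] [.out 1719],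
  .sub [10, 9, 14, 20, 1] [.out 1873],
  .sub [23, 9, 14, 20, 1] [.out 1332],
  .sub [3, 27, 14, 20, 1] [.out 87],
  .sub [13, 27, 14, 20, 1] [.out 1285],
  .sub [17, 27, 14, 20, 1] [.out 1437],
  .sub [27, 27, 14, 20, 1] [.out 614],
  .sub [25, 13, 15, 20, 1] [.out 1204],
  .sub [1, 20, 15, 20, 1] [.sub [23, 28, 28, 1, 13, 1, 23, 1, 13, 1, 28] [.out 1342]],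
  .sub [1, 14, 23, 20, 1] [.sub [23, 1, 13, 1, 1, 13, 1, 23, 28] [.sub [22, 28, 0, 4, 2, 3, 5, 0, 2, 4, 3, 4, 5, 4, 6, 5, 1, 2, 3, 5, 6, 2, 3, 1, 2, 3, 5, 2, 3, 2, 3, 5, 3, 2, 3, 5, 6, 5, 1, 6, 2, 1, 0, 3, 1, 2, 3, 1, 2, 3, 1, 4, 2, 1, 3, 2, 3, 1, 2, 3, 4, 1, 2, 3, 5, 2, 0, 5, 1, 0, 1, 22, 28] [.out 1298]]],
  .sub [3, 6, 27, 20, 1] [.out 709],
  .sub [2, 9, 27, 20, 1] [.sub [22, 28, 23, 23, 1, 13, 1] [.sub [5, 1, 0, 1, 0, 4, 2, 3, 5, 0, 2, 4, 3, 4, 5, 4, 6, 5, 1, 2, 3, 5, 6, 2, 3, 1, 2, 3, 5, 2, 3, 2, 3, 5, 3, 2, 3, 22, 28, 0, 4, 2, 3, 5, 0, 2, 4, 3, 4, 5, 4, 6, 5, 1, 2, 3, 5, 6, 2, 3, 1, 2, 3, 5, 2, 3, 2, 3, 5, 3, 2, 3] [.out 1335]]],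
  .sub [9, 9, 27, 20, 1] [.out 882],
  .sub [14, 9, 27, 20, 1] [.out 841],
  .sub [5, 10, 27, 20, 1] [.out 849],
  .sub [7, 10, 27, 20, 1] [.sub [1, 13, 1, 22, 1, 13, 1, 1, 13, 1] [.sub [5, 1, 0, 1, 0, 4, 2, 3, 5, 0, 2, 4, 3, 4, 5, 4, 6, 5, 1, 2, 3, 5, 6, 2, 3, 1, 2, 3, 5, 2, 3, 2, 3, 5, 3, 2, 3] [.out 1818]]],
  .sub [13, 10, 27, 20, 1] [.out 1505],
  .sub [21, 10, 27, 20, 1] [.out 1238],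
  .sub [15, 11, 27, 20, 1] [.out 443],
  .sub [8, 14, 11, 21, 1] [.out 1817],
  .sub [16, 14, 11, 21, 1] [.out 718],
  .sub [9, 8, 14, 21, 1] [.out 638],
  .sub [25, 9, 14, 21, 1] [.out 1823],
  .sub [14, 27, 15, 21, 1] [.out 1348],
  .sub [27, 27, 15, 21, 1] [.out 1153],
  .sub [3, 15, 27, 21, 1] [.out 1389],
  .sub [11, 15, 27, 21, 1] [.sub [23, 23, 23, 28, 28] [.sub [5, 6, 5, 1, 6, 2, 1, 0, 3, 1, 2, 3, 1, 2, 3, 1, 4, 2, 1, 3, 2, 3, 1, 2, 3, 4, 1, 2, 3, 5, 2, 0, 0, 4, 2, 3, 5, 0, 2, 4, 3, 4, 5, 4, 6, 5, 1, 2, 3, 5, 6, 2, 3, 1, 2, 3, 5, 2, 3, 2, 3, 5, 3, 2, 3, 22, 28, 0, 4, 2, 3, 5, 0, 2, 4, 3, 4, 5, 4, 6, 5, 1, 2, 3, 5, 6, 2, 3, 1, 2, 3, 5, 2, 3, 2, 3, 5, 3, 2, 3, 5, 6, 5, 1, 6, 2, 1, 0, 3, 1, 2, 3, 1, 2,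 3, 1, 4, 2, 1, 3, 2, 3, 1, 2, 3, 4, 1, 2, 3, 5, 2, 0] [.out 1668]]],
  .sub [14, 27, 12, 23, 1] [.out 1273],
  .sub [17, 8, 11, 25, 1] [.sub [22, 23, 1, 13, 1, 23] [.sub [5, 6, 5, 1, 6, 2, 1, 0, 3, 1, 2, 3, 1, 2, 3, 1, 4, 2, 1, 3, 2, 3, 1, 2, 3, 4, 1, 2, 3, 5, 2, 0, 5, 1, 0, 1, 22, 28, 0, 4, 2, 3, 5, 0, 2, 4, 3, 4, 5, 4, 6, 5, 1, 2, 3, 5, 6, 2, 3, 1, 2, 3, 5, 2, 3, 2, 3, 5, 3, 2, 3] [.out 1060]]],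
  .sub [23, 11, 14, 25, 1] [.out 1138],
  .sub [11, 12, 14, 25, 1] [.out 403],
  .sub [27, 10, 15, 25, 1] [.out 1416],
  .sub [12, 20, 14, 3, 6] [.out 185],
  .sub [9, 15, 21, 3, 6] [.out 84],
  .sub [10, 14, 3, 8, 6] [.out 807],
  .sub [6, 20, 3, 8, 6] [.sub [1, 13, 1, 22, 23, 1, 13, 1] [.sub [5, 1, 0, 1, 0, 4, 2, 3, 5, 0, 2, 4, 3, 4, 5, 4, 6, 5, 1, 2, 3, 5, 6, 2, 3, 1, 2, 3, 5, 2, 3, 2, 3, 5, 3, 2, 3, 22, 28, 0, 4, 2, 3, 5, 0, 2, 4, 3, 4, 5, 4, 6, 5, 1, 2, 3, 5, 6, 2, 3, 1, 2, 3, 5, 2, 3, 2, 3, 5, 3, 2, 3, 5, 6, 5, 1, 6, 2, 1, 0, 3, 1, 2, 3, 1, 2, 3, 1, 4, 2, 1, 3, 2, 3, 1, 2, 3, 4, 1, 2, 3, 5, 2, 0] [.out 846]]],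
  .sub [9, 21, 3, 8, 6] [.out 2016],
  .sub [23, 9, 10, 8, 6] [.out 755],
  .sub [10, 13, 10, 8, 6] [.out 1024],
  .sub [1, 15, 10, 8, 6] [.out 696],
  .sub [10, 25, 10, 8, 6] [.out 928],
  .sub [9, 17, 11, 8, 6] [.out 1427],
  .sub [10, 17, 11, 8, 6] [.out 1708],
  .sub [6, 23, 11, 8, 6] [.out 556],
  .sub [10, 23, 11, 8, 6] [.out 614],
  .sub [12, 10, 13, 8, 6] [.sub [28, 28, 23, 28, 23, 28] [.sub [0, 4, 2, 3, 5, 0, 2, 4, 3, 4, 5, 4, 6, 5, 1, 2, 3, 5, 6, 2, 3, 1, 2, 3, 5, 2, 3, 2, 3, 5, 3, 2, 3, 5, 6, 5, 1, 6, 2, 1, 0, 3, 1, 2, 3, 1, 2, 3, 1, 4, 2, 1, 3, 2, 3, 1, 2, 3, 4, 1, 2, 3, 5, 2, 0, 22, 28] [.out 1818]]],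
  .sub [9, 15, 17, 8, 6] [.out 51],
  .sub [10, 15, 17, 8, 6] [.sub [28, 23, 23, 1, 13, 1, 28, 28] [.sub [0, 4, 2, 3, 5, 0, 2, 4, 3, 4, 5, 4, 6, 5, 1, 2, 3, 5, 6, 2, 3, 1, 2, 3, 5, 2, 3, 2, 3, 5, 3, 2, 3, 0, 4, 2, 3, 5, 0, 2, 4, 3, 4, 5, 4, 6, 5, 1, 2, 3, 5, 6, 2, 3, 1, 2, 3, 5, 2, 3, 2, 3, 5, 3, 2, 3, 5, 1, 0, 1, 5, 6, 5, 1, 6, 2, 1, 0, 3, 1, 2, 3, 1, 2, 3, 1, 4, 2, 1, 3, 2, 3, 1, 2, 3, 4, 1, 2, 3, 5, 2, 0, 0, 4, 2, 3, 5, 0, 2, 4, 3, 4, 5, 4, 6, 5, 1, 2, 3, 5, 6, 2, 3, 1, 2, 3, 5, 2, 3, 2, 3, 5, 3, 2, 3, 5, 6, 5, 1, 6, 2, 1, 0, 3, 1, 2, 3, 1, 2, 3, 1, 4, 2, 1, 3, 2, 3, 1, 2, 3, 4, 1, 2, 3, 5, 2, 0, 22, 28] [.out 698]]],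
  .sub [6, 12, 20, 8, 6] [.out 961],
  .sub [23, 1, 23, 8, 6] [.out 1684],
  .sub [25, 1, 23, 8, 6] [.sub [28, 1, 13, 1, 1, 13, 1, 28] [.out 656]],
  .sub [11, 10, 23, 8, 6] [.out 1949],
  .sub [1, 14, 23, 8, 6] [.out 445],
  .sub [9, 27, 23, 8, 6] [.sub [1, 13, 1, 22, 1, 13, 1, 28, 23] [.sub [0, 4, 2, 3, 5, 0, 2, 4, 3, 4, 5, 4, 6, 5, 1, 2, 3, 5, 6, 2, 3, 1, 2, 3, 5, 2, 3, 2, 3, 5, 3, 2, 3, 22, 28, 0, 4, 2, 3, 5, 0, 2, 4, 3, 4, 5, 4, 6, 5, 1, 2, 3, 5, 6, 2, 3, 1, 2, 3, 5, 2, 3, 2, 3, 5, 3, 2, 3, 5, 1, 0, 1, 0, 4, 2, 3, 5, 0, 2, 4, 3, 4, 5, 4, 6, 5, 1, 2, 3, 5, 6, 2, 3, 1, 2, 3, 5, 2, 3, 2, 3, 5, 3, 2, 3, 22, 28] [.out 669]]],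
  .sub [23, 1, 25, 8, 6] [.sub [28, 28, 23, 1, 13, 1] [.sub [0, 4, 2, 3, 5, 0, 2, 4, 3, 4, 5, 4, 6, 5, 1, 2, 3, 5, 6, 2, 3, 1, 2, 3, 5, 2, 3, 2, 3, 5, 3, 2, 3, 5, 6, 5, 1, 6, 2, 1, 0, 3, 1, 2, 3, 1, 2, 3, 1, 4, 2, 1, 3, 2, 3, 1, 2, 3, 4, 1, 2, 3, 5, 2, 0, 0, 4, 2, 3, 5, 0, 2, 4, 3, 4, 5, 4, 6, 5, 1, 2, 3, 5, 6, 2, 3, 1, 2, 3, 5, 2, 3, 2, 3, 5, 3, 2, 3] [.out 1343]]],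
  .sub [9, 27, 25, 8, 6] [.out 1937],
  .sub [9, 9, 27, 8, 6] [.sub [23, 1, 13, 1, 28, 28] [.out 246]],
  .sub [10, 9, 27, 8, 6] [.sub [28, 23, 28, 1, 13, 1, 1, 13, 1] [.out 1027]],
  .sub [6, 20, 14, 11, 6] [.out 1075],
  .sub [6, 3, 15, 12, 6] [.out 496],
  .sub [10, 3, 15, 12, 6] [.out 450],
  .sub [9, 11, 15, 12, 6] [.out 1435],
  .sub [6, 1, 17, 8, 9] [.out 1418],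
  .sub [23, 6, 23, 8, 9] [.out 1837],
  .sub [9, 9, 23, 8, 9] [.out 752],
  .sub [12, 1, 25, 8, 9] [.out 1502],
  .sub [17, 6, 27, 8, 9] [.out 1153],
  .sub [25, 6, 27, 8, 9] [.out 1171],
  .sub [12, 10, 27, 8, 9] [.sub [28, 23, 1, 13, 1, 1, 13, 1, 23, 28] [.sub [5, 6, 5, 1, 6, 2, 1, 0, 3, 1, 2, 3, 1, 2, 3, 1, 4, 2, 1, 3, 2, 3, 1, 2, 3, 4, 1, 2, 3, 5, 2, 0, 0, 4, 2, 3, 5, 0, 2, 4, 3, 4, 5, 4, 6, 5, 1, 2, 3, 5, 6, 2, 3, 1, 2, 3, 5, 2, 3, 2, 3, 5, 3, 2, 3, 5, 6, 5, 1, 6, 2, 1, 0, 3, 1, 2, 3, 1, 2, 3, 1, 4, 2, 1, 3, 2, 3, 1, 2, 3, 4, 1, 2, 3, 5, 2, 0, 5, 6, 5, 1, 6, 2, 1, 0, 3, 1, 2, 3, 1, 2, 3, 1, 4, 2, 1, 3, 2, 3, 1, 2, 3, 4, 1, 2, 3, 5, 2, 0] [.out 1106]]],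
  .sub [3, 16, 1, 14, 9] [.out 384],
  .sub [15, 8, 9, 14, 9] [.out 610],
  .sub [1, 20, 9, 14, 9] [.out 809],
  .sub [15, 9, 10, 14, 9] [.out 1268],
  .sub [9, 16, 20, 14, 9] [.out 1031],
  .sub [16, 1, 21, 14, 9] [.sub [28, 1, 13, 1, 28, 23, 28, 23] [.out 700]],
  .sub [18, 1, 21, 14, 9] [.out 1475],
  .sub [27, 1, 21, 14, 9] [.out 1482],
  .sub [15, 6, 8, 15, 9] [.out 270],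
  .sub [8, 10, 8, 15, 9] [.out 1707],
  .sub [16, 10, 8, 15, 9] [.out 16],
  .sub [18, 10, 8, 15, 9] [.out 1659],
  .sub [1, 23, 8, 15, 9] [.out 394],
  .sub [14, 9, 10, 15, 9] [.out 727],
  .sub [16, 9, 10, 15, 9] [.sub [23, 28, 1, 13, 1, 1, 13, 1, 1, 13, 1] [.sub [5, 1, 0, 1, 0, 4, 2, 3, 5, 0, 2, 4, 3, 4, 5, 4, 6, 5, 1, 2, 3, 5, 6, 2, 3, 1, 2, 3, 5, 2, 3, 2, 3, 5, 3, 2, 3, 0, 4, 2, 3, 5, 0, 2, 4, 3, 4, 5, 4, 6, 5, 1, 2, 3, 5, 6, 2, 3, 1, 2, 3, 5, 2, 3, 2, 3, 5, 3, 2, 3, 22, 28] [.out 699]]],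
  .sub [9, 10, 13, 15, 9] [.out 242],
  .sub [27, 6, 8, 17, 9] [.out 194],
  .sub [3, 10, 14, 17, 9] [.out 1129],
  .sub [12, 10, 14, 17, 9] [.out 1222],
  .sub [27, 17, 1, 23, 9] [.out 1042],
  .sub [15, 27, 1, 23, 9] [.out 420],
  .sub [14, 9, 8, 23, 9] [.out 321],
  .sub [8, 10, 8, 23, 9] [.out 535],
  .sub [18, 10, 8, 25, 9] [.out 1886],
  .sub [1, 13, 23, 27, 9] [.out 2005],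
  .sub [18, 9, 12, 8, 10] [.out 653],
  .sub [15, 9, 8, 11, 10] [.out 1384],
  .sub [14, 9, 14, 11, 10] [.out 1745],
  .sub [14, 9, 1, 15, 10] [.out 626],
  .sub [1, 25, 10, 15, 10] [.out 25],
  .sub [8, 9, 1, 27, 10] [.out 1628],
  .sub [3, 23, 1, 27, 10] [.out 303],
  .sub [13, 23, 1, 27, 10] [.out 371],
  .sub [1, 14, 11, 27, 10] [.sub [23, 23, 1, 13, 1, 1, 13, 1, 28] [.sub [0, 4, 2, 3, 5, 0, 2, 4, 3, 4, 5, 4, 6, 5, 1, 2, 3, 5, 6, 2, 3, 1, 2, 3, 5, 2, 3, 2, 3, 5, 3, 2, 3, 5, 1, 0, 1, 0, 4, 2, 3, 5, 0, 2, 4, 3, 4, 5, 4, 6, 5, 1, 2, 3, 5, 6, 2, 3, 1, 2, 3, 5, 2, 3, 2, 3, 5, 3, 2, 3, 5, 6, 5, 1, 6, 2, 1, 0, 3, 1, 2, 3, 1, 2, 3, 1, 4, 2, 1, 3, 2, 3, 1, 2, 3, 4, 1, 2, 3, 5, 2, 0] [.out 1335]]],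
  .sub [8, 1, 15, 27, 10] [.sub [28, 23, 1, 13, 1, 1, 13, 1] [.out 1320]],
  .sub [6, 17, 27, 14, 2, 1] [.out 1004],
  .sub [8, 23, 17, 8, 9, 1] [.out 20],
  .sub [23, 20, 8, 9, 9, 1] [.out 1110],
  .sub [15, 20, 9, 15, 10, 1] [.sub [28, 23, 28, 23, 28] [.sub [5, 1, 0, 1, 5, 6, 5, 1, 6, 2, 1, 0, 3, 1, 2, 3, 1, 2, 3, 1, 4, 2, 1, 3, 2, 3, 1, 2, 3, 4, 1, 2, 3, 5, 2, 0] [.out 1189]]],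
  .sub [8, 10, 9, 25, 14, 1] [.sub [1, 13, 1, 28, 1, 13, 1, 28, 23] [.sub [0, 4, 2, 3, 5, 0, 2, 4, 3, 4, 5, 4, 6, 5, 1, 2, 3, 5, 6, 2, 3, 1, 2, 3, 5, 2, 3, 2, 3, 5, 3, 2, 3, 5, 1, 0, 1, 0, 4, 2, 3, 5, 0, 2, 4, 3, 4, 5, 4, 6, 5, 1, 2, 3, 5, 6, 2, 3, 1, 2, 3, 5, 2, 3, 2, 3, 5, 3, 2, 3, 5, 1, 0, 1, 22, 28] [.out 1755]]]]

/-- Branches. -/
def kidsXAll12 : List Branch :=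
  ([kidsXPart1, kidsXPart2, kidsXPart3, kidsXPart4, kidsXPart5, kidsXPart6, kidsXPart7, kidsXPart8, kidsXPart9, kidsXPart10, kidsXPart11] : List (List Branch)).flatten

/-- All branches. -/
def kidsX : List Branch := kidsXAll12

/-- How each base point is restricted. -/
def modesX : List Mode := [.free, .det 0 1, .det 0 2, .det 0 3]

/-- The fixed points. -/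
def fixX : List ℕ := [2]

end CfsgLib.Spor.HeldOut
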