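import Cfsg.Agent.Lib.Spor.ActCert.Search

/-!
Branches of a search.
-/

set_option autoImplicit false
set_option maxRecDepth 100000
set_option maxHeartbeats 0

namespace CfsgLib.Spor.HeldOut

open CfsgLib.Spor.TC CfsgLib.Spor.ActCert

/-- Branches. -/
def kidsZPart13 : List Branch := [
  .sub [] [.done 0],
  .sub [6, 4, 3, 5, 6, 2, 3, 5, 2] [.out 715],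
  .sub [4, 1, 2, 6, 0, 4, 6, 3, 2, 6, 5, 3, 0, 5, 6, 3, 2, 3, 1, 2, 1, 3, 2, 3, 1, 2, 3, 4, 2, 3, 1, 2, 3, 2] [.out 116],
  .sub [2, 3, 6, 2, 3, 5, 4, 3, 6, 4, 0] [.out 1689],
  .sub [2, 3, 1, 0, 1, 2, 6, 4, 3, 5, 6, 2, 3, 5, 2] [.out 724],
  .sub [6, 4, 3, 5, 6, 2, 3, 5, 2, 6, 4, 3, 5, 6, 2, 3, 5, 2] [.out 793],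
  .sub [4, 1, 2, 6, 0, 4, 6, 3, 2, 6, 5, 3, 0, 5, 6, 3, 2, 3, 1, 2, 1, 3, 2, 3, 1, 2, 3, 4, 2, 3, 1, 2, 3, 2, 6, 4, 3, 5, 6, 2, 3, 5, 2] [.out 281],
  .sub [6, 4, 3, 5, 6, 2, 3, 5, 2, 4, 1, 2, 6, 0, 4, 6, 3, 2, 6, 5, 3, 0, 5, 6, 3, 2, 3, 1, 2, 1, 3, 2, 3, 1, 2, 3, 4, 2, 3, 1, 2, 3, 2] [.out 555],
  .sub [4, 1, 2, 6, 0, 4, 6, 3, 2, 6, 5, 3, 0, 5, 6, 3, 2, 3, 1, 2, 1, 3, 2, 3, 1, 2, 3, 4, 2, 3, 1, 2, 3, 2, 4, 1, 2, 6, 0, 4, 6, 3, 2, 6, 5, 3, 0, 5, 6, 3, 2, 3, 1, 2, 1, 3, 2, 3, 1, 2, 3, 4, 2, 3, 1, 2, 3, 2] [.done 1],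
  .sub [2, 3, 6, 2, 3, 5, 4, 3, 6, 4, 0, 4, 1, 2, 6, 0, 4, 6, 3, 2, 6, 5, 3, 0, 5, 6, 3, 2, 3, 1, 2, 1, 3, 2, 3, 1, 2, 3, 4, 2, 3, 1, 2, 3, 2] [.out 1668],
  .sub [2, 3, 1, 0, 1, 2, 2, 3, 6, 2, 3, 5, 4, 3, 6, 4, 0] [.out 841],
  .sub [6, 4, 3, 5, 6, 2, 3, 5, 2, 2, 3, 6, 2, 3, 5, 4, 3, 6, 4, 0] [.done 2],
  .sub [4, 1, 2, 6, 0, 4, 6, 3, 2, 6, 5, 3, 0, 5, 6, 3, 2, 3, 1, 2, 1, 3, 2, 3, 1, 2, 3, 4, 2, 3, 1, 2, 3, 2, 2, 3, 6, 2, 3, 5, 4, 3, 6, 4, 0] [.out 182],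
  .sub [2, 3, 6, 2, 3, 5, 4, 3, 6, 4, 0, 2, 3, 6, 2, 3, 5, 4, 3, 6, 4, 0] [.out 2013],
  .sub [4, 1, 2, 6, 0, 4, 6, 3, 2, 6, 5, 3, 0, 5, 6, 3, 2, 3, 1, 2, 1, 3, 2, 3, 1, 2, 3, 4, 2, 3, 1, 2, 3, 2, 2, 3, 1, 0, 1, 2, 6, 4, 3, 5, 6, 2, 3, 5, 2] [.out 2051],
  .sub [2, 3, 6, 2, 3, 5, 4, 3, 6, 4, 0, 2, 3, 1, 0, 1, 2, 6, 4, 3, 5, 6, 2, 3, 5, 2] [.out 110],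
  .sub [4, 1, 2, 6, 0, 4, 6, 3, 2, 6, 5, 3, 0, 5, 6, 3, 2, 3, 1, 2, 1, 3, 2, 3, 1, 2, 3, 4, 2, 3, 1, 2, 3, 2, 6, 4, 3, 5, 6, 2, 3, 5, 2, 6, 4, 3, 5, 6, 2, 3, 5, 2] [.out 1668],
  .sub [6, 4, 3, 5, 6, 2, 3, 5, 2, 4, 1, 2, 6, 0, 4, 6, 3, 2, 6, 5, 3, 0, 5, 6, 3, 2, 3, 1, 2, 1, 3, 2, 3, 1, 2, 3, 4, 2, 3, 1, 2, 3, 2, 6, 4, 3, 5, 6, 2, 3, 5, 2] [.done 3],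
  .sub [4, 1, 2, 6, 0, 4, 6, 3, 2, 6, 5, 3, 0, 5, 6, 3, 2, 3, 1, 2, 1, 3, 2, 3, 1, 2, 3, 4, 2, 3, 1, 2, 3, 2, 4, 1, 2, 6, 0, 4, 6, 3, 2, 6, 5, 3, 0, 5, 6, 3, 2, 3, 1, 2, 1, 3, 2, 3, 1, 2, 3, 4, 2, 3, 1, 2, 3, 2, 6, 4, 3, 5, 6, 2, 3, 5, 2] [.out 724],
  .sub [2, 3, 6, 2, 3, 5, 4, 3, 6, 4, 0, 4, 1, 2, 6, 0, 4, 6, 3, 2, 6, 5, 3, 0, 5, 6, 3, 2, 3, 1, 2, 1, 3, 2, 3, 1, 2, 3, 4, 2, 3, 1, 2, 3, 2, 6, 4, 3, 5, 6, 2, 3, 5, 2] [.out 116],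
  .sub [4, 1, 2, 6, 0, 4, 6, 3, 2, 6, 5, 3, 0, 5, 6, 3, 2, 3, 1, 2, 1, 3, 2, 3, 1, 2, 3, 4, 2, 3, 1, 2, 3, 2, 6, 4, 3, 5, 6, 2, 3, 5, 2, 4, 1, 2, 6, 0, 4, 6, 3, 2, 6, 5, 3, 0, 5, 6, 3, 2, 3, 1, 2, 1, 3, 2, 3, 1, 2, 3, 4, 2, 3, 1, 2, 3, 2] [.out 299],
  .sub [6, 4, 3, 5, 6, 2, 3, 5, 2, 4, 1, 2, 6, 0, 4, 6, 3, 2, 6, 5, 3, 0, 5, 6, 3, 2, 3, 1, 2, 1, 3, 2, 3, 1, 2, 3, 4, 2, 3, 1, 2, 3, 2, 4, 1, 2, 6, 0, 4, 6, 3, 2, 6, 5, 3, 0, 5, 6, 3, 2, 3, 1, 2, 1, 3, 2, 3, 1, 2, 3, 4, 2, 3, 1, 2, 3, 2] [.out 1304],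
  .sub [4, 1, 2, 6, 0, 4, 6, 3, 2, 6, 5, 3, 0, 5, 6, 3, 2, 3, 1, 2, 1, 3, 2, 3, 1, 2, 3, 4, 2, 3, 1, 2, 3, 2, 4, 1, 2, 6, 0, 4, 6, 3, 2, 6, 5, 3, 0, 5, 6, 3, 2, 3, 1, 2, 1, 3, 2, 3, 1, 2, 3, 4, 2, 3, 1, 2, 3, 2, 4, 1, 2, 6, 0, 4, 6, 3, 2, 6, 5, 3, 0, 5, 6, 3, 2, 3, 1, 2, 1, 3, 2, 3, 1, 2, 3, 4, 2, 3, 1, 2, 3, 2] [.out 70],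
  .sub [2, 3, 6, 2, 3, 5, 4, 3, 6, 4, 0, 4, 1, 2, 6, 0, 4, 6, 3, 2, 6, 5, 3, 0, 5, 6, 3, 2, 3, 1, 2, 1, 3, 2, 3, 1, 2, 3, 4, 2, 3, 1, 2, 3, 2, 4, 1, 2, 6, 0, 4, 6, 3, 2, 6, 5, 3, 0, 5, 6, 3, 2, 3, 1, 2, 1, 3, 2, 3, 1, 2, 3, 4, 2, 3, 1, 2, 3, 2] [.out 1159],
  .sub [4, 1, 2, 6, 0, 4, 6, 3, 2, 6, 5, 3, 0, 5, 6, 3, 2, 3, 1, 2, 1, 3, 2, 3, 1, 2, 3, 4, 2, 3, 1, 2, 3, 2, 2, 3, 6, 2, 3, 5, 4, 3, 6, 4, 0, 4, 1, 2, 6, 0, 4, 6, 3, 2, 6, 5, 3, 0, 5, 6, 3, 2, 3, 1, 2, 1, 3, 2, 3, 1, 2, 3, 4, 2, 3, 1, 2, 3, 2] [.out 281],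
  .sub [4, 1, 2, 6, 0, 4, 6, 3, 2, 6, 5, 3, 0, 5, 6, 3, 2, 3, 1, 2, 1, 3, 2, 3, 1, 2, 3, 4, 2, 3, 1, 2, 3, 2, 2, 3, 1, 0, 1, 2, 2, 3, 6, 2, 3, 5, 4, 3, 6, 4, 0] [.out 793],
  .sub [4, 1, 2, 6, 0, 4, 6, 3, 2, 6, 5, 3, 0, 5, 6, 3, 2, 3, 1, 2, 1, 3, 2, 3, 1, 2, 3, 4, 2, 3, 1, 2, 3, 2, 6, 4, 3, 5, 6, 2, 3, 5, 2, 2, 3, 6, 2, 3, 5, 4, 3, 6, 4, 0] [.out 632],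
  .sub [6, 4, 3, 5, 6, 2, 3, 5, 2, 4, 1, 2, 6, 0, 4, 6, 3, 2, 6, 5, 3, 0, 5, 6, 3, 2, 3, 1, 2, 1, 3, 2, 3, 1, 2, 3, 4, 2, 3, 1, 2, 3, 2, 2, 3, 6, 2, 3, 5, 4, 3, 6, 4, 0] [.out 717],
  .sub [4, 1, 2, 6, 0, 4, 6, 3, 2, 6, 5, 3, 0, 5, 6, 3, 2, 3, 1, 2, 1, 3, 2, 3, 1, 2, 3, 4, 2, 3, 1, 2, 3, 2, 4, 1, 2, 6, 0, 4, 6, 3, 2, 6, 5, 3, 0, 5, 6, 3, 2, 3, 1, 2, 1, 3, 2, 3, 1, 2, 3, 4, 2, 3, 1, 2, 3, 2, 2, 3, 6, 2, 3, 5, 4, 3, 6, 4, 0] [.out 841],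
  .sub [2, 3, 6, 2, 3, 5, 4, 3, 6, 4, 0, 4, 1, 2, 6, 0, 4, 6, 3, 2, 6, 5, 3, 0, 5, 6, 3, 2, 3, 1, 2, 1, 3, 2, 3, 1, 2, 3, 4, 2, 3, 1, 2, 3, 2, 2, 3, 6, 2, 3, 5, 4, 3, 6, 4, 0] [.out 281],
  .sub [4, 1, 2, 6, 0, 4, 6, 3, 2, 6, 5, 3, 0, 5, 6, 3, 2, 3, 1, 2, 1, 3, 2, 3, 1, 2, 3, 4, 2, 3, 1, 2, 3, 2, 2, 3, 6, 2, 3, 5, 4, 3, 6, 4, 0, 2, 3, 6, 2, 3, 5, 4, 3, 6, 4, 0] [.done 4],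
  .sub [6, 4, 3, 5, 6, 2, 3, 5, 2, 4, 1, 2, 6, 0, 4, 6, 3, 2, 6, 5, 3, 0, 5, 6, 3, 2, 3, 1, 2, 1, 3, 2, 3, 1, 2, 3, 4, 2, 3, 1, 2, 3, 2, 2, 3, 1, 0, 1, 2, 6, 4, 3, 5, 6, 2, 3, 5, 2] [.out 365],
  .sub [4, 1, 2, 6, 0, 4, 6, 3, 2, 6, 5, 3, 0, 5, 6, 3, 2, 3, 1, 2, 1, 3, 2, 3, 1, 2, 3, 4, 2, 3, 1, 2, 3, 2, 4, 1, 2, 6, 0, 4, 6, 3, 2, 6, 5, 3, 0, 5, 6, 3, 2, 3, 1, 2, 1, 3, 2, 3, 1, 2, 3, 4, 2, 3, 1, 2, 3, 2, 2, 3, 1, 0, 1, 2, 6, 4, 3, 5, 6, 2, 3, 5, 2] [.out 715],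
  .sub [2, 3, 6, 2, 3, 5, 4, 3, 6, 4, 0, 4, 1, 2, 6, 0, 4, 6, 3, 2, 6, 5, 3, 0, 5, 6, 3, 2, 3, 1, 2, 1, 3, 2, 3, 1, 2, 3, 4, 2, 3, 1, 2, 3, 2, 2, 3, 1, 0, 1, 2, 6, 4, 3, 5, 6, 2, 3, 5, 2] [.done 5],
  .sub [4, 1, 2, 6, 0, 4, 6, 3, 2, 6, 5, 3, 0, 5, 6, 3, 2, 3, 1, 2, 1, 3, 2, 3, 1, 2, 3, 4, 2, 3, 1, 2, 3, 2, 2, 3, 6, 2, 3, 5, 4, 3, 6, 4, 0, 2, 3, 1, 0, 1, 2, 6, 4, 3, 5, 6, 2, 3, 5, 2] [.out 448],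
  .sub [6, 4, 3, 5, 6, 2, 3, 5, 2, 4, 1, 2, 6, 0, 4, 6, 3, 2, 6, 5, 3, 0, 5, 6, 3, 2, 3, 1, 2, 1, 3, 2, 3, 1, 2, 3, 4, 2, 3, 1, 2, 3, 2, 6, 4, 3, 5, 6, 2, 3, 5, 2, 6, 4, 3, 5, 6, 2, 3, 5, 2] [.out 1022],
  .sub [4, 1, 2, 6, 0, 4, 6, 3, 2, 6, 5, 3, 0, 5, 6, 3, 2, 3, 1, 2, 1, 3, 2, 3, 1, 2, 3, 4, 2, 3, 1, 2, 3, 2, 4, 1, 2, 6, 0, 4, 6, 3, 2, 6, 5, 3, 0, 5, 6, 3, 2, 3, 1, 2, 1, 3, 2, 3, 1, 2, 3, 4, 2, 3, 1, 2, 3, 2, 6, 4, 3, 5, 6, 2, 3, 5, 2, 6, 4, 3, 5, 6, 2, 3, 5, 2] [.out 299],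
  .sub [2, 3, 6, 2, 3, 5, 4, 3, 6, 4, 0, 4, 1, 2, 6, 0, 4, 6, 3, 2, 6, 5, 3, 0, 5, 6, 3, 2, 3, 1, 2, 1, 3, 2, 3, 1, 2, 3, 4, 2, 3, 1, 2, 3, 2, 6, 4, 3, 5, 6, 2, 3, 5, 2, 6, 4, 3, 5, 6, 2, 3, 5, 2] [.out 281],
  .sub [2, 3, 1, 0, 1, 2, 6, 4, 3, 5, 6, 2, 3, 5, 2, 4, 1, 2, 6, 0, 4, 6, 3, 2, 6, 5, 3, 0, 5, 6, 3, 2, 3, 1, 2, 1, 3, 2, 3, 1, 2, 3, 4, 2, 3, 1, 2, 3, 2, 6, 4, 3, 5, 6, 2, 3, 5, 2] [.done 6],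
  .sub [6, 4, 3, 5, 6, 2, 3, 5, 2, 6, 4, 3, 5, 6, 2, 3, 5, 2, 4, 1, 2, 6, 0, 4, 6, 3, 2, 6, 5, 3, 0, 5, 6, 3, 2, 3, 1, 2, 1, 3, 2, 3, 1, 2, 3, 4, 2, 3, 1, 2, 3, 2, 6, 4, 3, 5, 6, 2, 3, 5, 2] [.out 841],
  .sub [4, 1, 2, 6, 0, 4, 6, 3, 2, 6, 5, 3, 0, 5, 6, 3, 2, 3, 1, 2, 1, 3, 2, 3, 1, 2, 3, 4, 2, 3, 1, 2, 3, 2, 6, 4, 3, 5, 6, 2, 3, 5, 2, 4, 1, 2, 6, 0, 4, 6, 3, 2, 6, 5, 3, 0, 5, 6, 3, 2, 3, 1, 2, 1, 3, 2, 3, 1, 2, 3, 4, 2, 3, 1, 2, 3, 2, 6, 4, 3, 5, 6, 2, 3, 5, 2] [.done 7],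
  .sub [2, 3, 6, 2, 3, 5, 4, 3, 6, 4, 0, 6, 4, 3, 5, 6, 2, 3, 5, 2, 4, 1, 2, 6, 0, 4, 6, 3, 2, 6, 5, 3, 0, 5, 6, 3, 2, 3, 1, 2, 1, 3, 2, 3, 1, 2, 3, 4, 2, 3, 1, 2, 3, 2, 6, 4, 3, 5, 6, 2, 3, 5, 2] [.out 1436],
  .sub [6, 4, 3, 5, 6, 2, 3, 5, 2, 4, 1, 2, 6, 0, 4, 6, 3, 2, 6, 5, 3, 0, 5, 6, 3, 2, 3, 1, 2, 1, 3, 2, 3, 1, 2, 3, 4, 2, 3, 1, 2, 3, 2, 4, 1, 2, 6, 0, 4, 6, 3, 2, 6, 5, 3, 0, 5, 6, 3, 2, 3, 1, 2, 1, 3, 2, 3, 1, 2, 3, 4, 2, 3, 1, 2, 3, 2, 6, 4, 3, 5, 6, 2, 3, 5, 2] [.out 182],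
  .sub [4, 1, 2, 6, 0, 4, 6, 3, 2, 6, 5, 3, 0, 5, 6, 3, 2, 3, 1, 2, 1, 3, 2, 3, 1, 2, 3, 4, 2, 3, 1, 2, 3, 2, 4, 1, 2, 6, 0, 4, 6, 3, 2, 6, 5, 3, 0, 5, 6, 3, 2, 3, 1, 2, 1, 3, 2, 3, 1, 2, 3, 4, 2, 3, 1, 2, 3, 2, 4, 1, 2, 6, 0, 4, 6, 3, 2, 6, 5, 3, 0, 5, 6, 3, 2, 3, 1, 2, 1, 3, 2, 3, 1, 2, 3, 4, 2, 3, 1, 2, 3, 2, 6, 4, 3, 5, 6, 2, 3, 5, 2] [.out 2051],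
  .sub [2, 3, 1, 0, 1, 2, 2, 3, 6, 2, 3, 5, 4, 3, 6, 4, 0, 4, 1, 2, 6, 0, 4, 6, 3, 2, 6, 5, 3, 0, 5, 6, 3, 2, 3, 1, 2, 1, 3, 2, 3, 1, 2, 3, 4, 2, 3, 1, 2, 3, 2, 6, 4, 3, 5, 6, 2, 3, 5, 2] [.out 70],
  .sub [6, 4, 3, 5, 6, 2, 3, 5, 2, 2, 3, 6, 2, 3, 5, 4, 3, 6, 4, 0, 4, 1, 2, 6, 0, 4, 6, 3, 2, 6, 5, 3, 0, 5, 6, 3, 2, 3, 1, 2, 1, 3, 2, 3, 1, 2, 3, 4, 2, 3, 1, 2, 3, 2, 6, 4, 3, 5, 6, 2, 3, 5, 2] [.out 819],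
  .sub [4, 1, 2, 6, 0, 4, 6, 3, 2, 6, 5, 3, 0, 5, 6, 3, 2, 3, 1, 2, 1, 3, 2, 3, 1, 2, 3, 4, 2, 3, 1, 2, 3, 2, 2, 3, 6, 2, 3, 5, 4, 3, 6, 4, 0, 4, 1, 2, 6, 0, 4, 6, 3, 2, 6, 5, 3, 0, 5, 6, 3, 2, 3, 1, 2, 1, 3, 2, 3, 1, 2, 3, 4, 2, 3, 1, 2, 3, 2, 6, 4, 3, 5, 6, 2, 3, 5, 2] [.done 8],
  .sub [2, 3, 6, 2, 3, 5, 4, 3, 6, 4, 0, 2, 3, 6, 2, 3, 5, 4, 3, 6, 4, 0, 4, 1, 2, 6, 0, 4, 6, 3, 2, 6, 5, 3, 0, 5, 6, 3, 2, 3, 1, 2, 1, 3, 2, 3, 1, 2, 3, 4, 2, 3, 1, 2, 3, 2, 6, 4, 3, 5, 6, 2, 3, 5, 2] [.out 1777],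
  .sub [6, 4, 3, 5, 6, 2, 3, 5, 2, 4, 1, 2, 6, 0, 4, 6, 3, 2, 6, 5, 3, 0, 5, 6, 3, 2, 3, 1, 2, 1, 3, 2, 3, 1, 2, 3, 4, 2, 3, 1, 2, 3, 2, 6, 4, 3, 5, 6, 2, 3, 5, 2, 4, 1, 2, 6, 0, 4, 6, 3, 2, 6, 5, 3, 0, 5, 6, 3, 2, 3, 1, 2, 1, 3, 2, 3, 1, 2, 3, 4, 2, 3, 1, 2, 3, 2] [.out 1449],
  .sub [4, 1, 2, 6, 0, 4, 6, 3, 2, 6, 5, 3, 0, 5, 6, 3, 2, 3, 1, 2, 1, 3, 2, 3, 1, 2, 3, 4, 2, 3, 1, 2, 3, 2, 4, 1, 2, 6, 0, 4, 6, 3, 2, 6, 5, 3, 0, 5, 6, 3, 2, 3, 1, 2, 1, 3, 2, 3, 1, 2, 3, 4, 2, 3, 1, 2, 3, 2, 6, 4, 3, 5, 6, 2, 3, 5, 2, 4, 1, 2, 6, 0, 4, 6, 3, 2, 6, 5, 3, 0, 5, 6, 3, 2, 3, 1, 2, 1, 3, 2, 3, 1, 2, 3, 4, 2, 3, 1, 2, 3, 2]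 [.out 1023],
  .sub [2, 3, 6, 2, 3, 5, 4, 3, 6, 4, 0, 4, 1, 2, 6, 0, 4, 6, 3, 2, 6, 5, 3, 0, 5, 6, 3, 2, 3, 1, 2, 1, 3, 2, 3, 1, 2, 3, 4, 2, 3, 1, 2, 3, 2, 6, 4, 3, 5, 6, 2, 3, 5, 2, 4, 1, 2, 6, 0, 4, 6, 3, 2, 6, 5, 3, 0, 5, 6, 3, 2, 3, 1, 2, 1, 3, 2, 3, 1, 2, 3, 4, 2, 3, 1, 2, 3, 2] [.done 9],
  .sub [2, 3, 1, 0, 1, 2, 6, 4, 3, 5, 6, 2, 3, 5, 2, 4, 1, 2, 6, 0, 4, 6, 3, 2, 6, 5, 3, 0, 5, 6, 3, 2, 3, 1, 2, 1, 3, 2, 3, 1, 2, 3, 4, 2, 3, 1, 2, 3, 2, 4, 1, 2, 6, 0, 4, 6, 3, 2, 6, 5, 3, 0, 5, 6, 3, 2, 3, 1, 2, 1, 3, 2, 3, 1, 2, 3, 4, 2, 3, 1, 2, 3, 2] [.out 1802],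
  .sub [6, 4, 3, 5, 6, 2, 3, 5, 2, 6, 4, 3, 5, 6, 2, 3, 5, 2, 4, 1, 2, 6, 0, 4, 6, 3, 2, 6, 5, 3, 0, 5, 6, 3, 2, 3, 1, 2, 1, 3, 2, 3, 1, 2, 3, 4, 2, 3, 1, 2, 3, 2, 4, 1, 2, 6, 0, 4, 6, 3, 2, 6, 5, 3, 0, 5, 6, 3, 2, 3, 1, 2, 1, 3, 2, 3, 1, 2, 3, 4, 2, 3, 1, 2, 3, 2] [.out 797],
  .sub [4, 1, 2, 6, 0, 4, 6, 3, 2, 6, 5, 3, 0, 5, 6, 3, 2, 3, 1, 2, 1, 3, 2, 3, 1, 2, 3, 4, 2, 3, 1, 2, 3, 2, 6, 4, 3, 5, 6, 2, 3, 5, 2, 4, 1, 2, 6, 0, 4, 6, 3, 2, 6, 5, 3, 0, 5, 6, 3, 2, 3, 1, 2, 1, 3, 2, 3, 1, 2, 3, 4, 2, 3, 1, 2, 3, 2, 4, 1, 2, 6, 0, 4, 6, 3, 2, 6, 5, 3, 0, 5, 6, 3, 2, 3, 1, 2, 1, 3, 2, 3, 1, 2, 3, 4, 2, 3, 1, 2, 3, 2]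 [.out 448],
  .sub [2, 3, 6, 2, 3, 5, 4, 3, 6, 4, 0, 6, 4, 3, 5, 6, 2, 3, 5, 2, 4, 1, 2, 6, 0, 4, 6, 3, 2, 6, 5, 3, 0, 5, 6, 3, 2, 3, 1, 2, 1, 3, 2, 3, 1, 2, 3, 4, 2, 3, 1, 2, 3, 2, 4, 1, 2, 6, 0, 4, 6, 3, 2, 6, 5, 3, 0, 5, 6, 3, 2, 3, 1, 2, 1, 3, 2, 3, 1, 2, 3, 4, 2, 3, 1, 2, 3, 2] [.out 1464],
  .sub [6, 4, 3, 5, 6, 2, 3, 5, 2, 4, 1, 2, 6, 0, 4, 6, 3, 2, 6, 5, 3, 0, 5, 6, 3, 2, 3, 1, 2, 1, 3, 2, 3, 1, 2, 3, 4, 2, 3, 1, 2, 3, 2, 4, 1, 2, 6, 0, 4, 6, 3, 2, 6, 5, 3, 0, 5, 6, 3, 2, 3, 1, 2, 1, 3, 2, 3, 1, 2, 3, 4, 2, 3, 1, 2, 3, 2, 4, 1, 2, 6, 0, 4, 6, 3, 2, 6, 5, 3, 0, 5, 6, 3, 2, 3, 1, 2, 1, 3, 2, 3, 1, 2, 3, 4,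 2, 3, 1, 2, 3, 2] [.out 1436],
  .sub [6, 4, 3, 5, 6, 2, 3, 5, 2, 2, 3, 6, 2, 3, 5, 4, 3, 6, 4, 0, 4, 1, 2, 6, 0, 4, 6, 3, 2, 6, 5, 3, 0, 5, 6, 3, 2, 3, 1, 2, 1, 3, 2, 3, 1, 2, 3, 4, 2, 3, 1, 2, 3, 2, 4, 1, 2, 6, 0, 4, 6, 3, 2, 6, 5, 3, 0, 5, 6, 3, 2, 3, 1, 2, 1, 3, 2, 3, 1, 2, 3, 4, 2, 3, 1, 2, 3, 2] [.done 10],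
  .sub [4, 1, 2, 6, 0, 4, 6, 3, 2, 6, 5, 3, 0, 5, 6, 3, 2, 3, 1, 2, 1, 3, 2, 3, 1, 2, 3, 4, 2, 3, 1, 2, 3, 2, 2, 3, 6, 2, 3, 5, 4, 3, 6, 4, 0, 4, 1, 2, 6, 0, 4, 6, 3, 2, 6, 5, 3, 0, 5, 6, 3, 2, 3, 1, 2, 1, 3, 2, 3, 1, 2, 3, 4, 2, 3, 1, 2, 3, 2, 4, 1, 2, 6, 0, 4, 6, 3, 2, 6, 5, 3, 0, 5, 6, 3, 2, 3, 1, 2, 1, 3, 2, 3, 1, 2, 3, 4, 2, 3, 1, 2, 3, 2] [.out 299],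
  .sub [2, 3, 6, 2, 3, 5, 4, 3, 6, 4, 0, 2, 3, 6, 2, 3, 5, 4, 3, 6, 4, 0, 4, 1, 2, 6, 0, 4, 6, 3, 2, 6, 5, 3, 0, 5, 6, 3, 2, 3, 1, 2, 1, 3, 2, 3, 1, 2, 3, 4, 2, 3, 1, 2, 3, 2, 4, 1, 2, 6, 0, 4, 6, 3, 2, 6, 5, 3, 0, 5, 6, 3, 2, 3, 1, 2, 1, 3, 2, 3, 1, 2, 3, 4, 2, 3, 1, 2, 3, 2] [.out 2038],
  .sub [6, 4, 3, 5, 6, 2, 3, 5, 2, 4, 1, 2, 6, 0, 4, 6, 3, 2, 6, 5, 3, 0, 5, 6, 3, 2, 3, 1, 2, 1, 3, 2, 3, 1, 2, 3, 4, 2, 3, 1, 2, 3, 2, 2, 3, 6, 2, 3, 5, 4, 3, 6, 4, 0, 4, 1, 2, 6, 0, 4, 6, 3, 2, 6, 5, 3, 0, 5, 6, 3, 2, 3, 1, 2, 1, 3, 2, 3, 1, 2, 3, 4, 2, 3, 1, 2, 3, 2] [.out 868],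
  .sub [2, 3, 6, 2, 3, 5, 4, 3, 6, 4, 0, 4, 1, 2, 6, 0, 4, 6, 3, 2, 6, 5, 3, 0, 5, 6, 3, 2, 3, 1, 2, 1, 3, 2, 3, 1, 2, 3, 4, 2, 3, 1, 2, 3, 2, 2, 3, 6, 2, 3, 5, 4, 3, 6, 4, 0, 4, 1, 2, 6, 0, 4, 6, 3, 2, 6, 5, 3, 0, 5, 6, 3, 2, 3, 1, 2, 1, 3, 2, 3, 1, 2, 3, 4, 2, 3, 1, 2, 3, 2] [.out 299],
  .sub [6, 4, 3, 5, 6, 2, 3, 5, 2, 4, 1, 2, 6, 0, 4, 6, 3, 2, 6, 5, 3, 0, 5, 6, 3, 2, 3, 1, 2, 1, 3, 2, 3, 1, 2, 3, 4, 2, 3, 1, 2, 3, 2, 2, 3, 1, 0, 1, 2, 2, 3, 6, 2, 3, 5, 4, 3, 6, 4, 0] [.out 352],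
  .sub [4, 1, 2, 6, 0, 4, 6, 3, 2, 6, 5, 3, 0, 5, 6, 3, 2, 3, 1, 2, 1, 3, 2, 3, 1, 2, 3, 4, 2, 3, 1, 2, 3, 2, 4, 1, 2, 6, 0, 4, 6, 3, 2, 6, 5, 3, 0, 5, 6, 3, 2, 3, 1, 2, 1, 3, 2, 3, 1, 2, 3, 4, 2, 3, 1, 2, 3, 2, 2, 3, 1, 0, 1, 2, 2, 3, 6, 2, 3, 5, 4, 3, 6, 4, 0] [.out 1689],
  .sub [6, 4, 3, 5, 6, 2, 3, 5, 2, 4, 1, 2, 6, 0, 4, 6, 3, 2, 6, 5, 3, 0, 5, 6, 3, 2, 3, 1, 2, 1, 3, 2, 3, 1, 2, 3, 4, 2, 3, 1, 2, 3, 2, 6, 4, 3, 5, 6, 2, 3, 5, 2, 2, 3, 6, 2, 3, 5, 4, 3, 6, 4, 0] [.out 922],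
  .sub [4, 1, 2, 6, 0, 4, 6, 3, 2, 6, 5, 3, 0, 5, 6, 3, 2, 3, 1, 2, 1, 3, 2, 3, 1, 2, 3, 4, 2, 3, 1, 2, 3, 2, 4, 1, 2, 6, 0, 4, 6, 3, 2, 6, 5, 3, 0, 5, 6, 3, 2, 3, 1, 2, 1, 3, 2, 3, 1, 2, 3, 4, 2, 3, 1, 2, 3, 2, 6, 4, 3, 5, 6, 2, 3, 5, 2, 2, 3, 6, 2, 3, 5, 4, 3, 6, 4, 0] [.done 11],
  .sub [2, 3, 6, 2, 3, 5, 4, 3, 6, 4, 0, 4, 1, 2, 6, 0, 4, 6, 3, 2, 6, 5, 3, 0, 5, 6, 3, 2, 3, 1, 2, 1, 3, 2, 3, 1, 2, 3, 4, 2, 3, 1, 2, 3, 2, 6, 4, 3, 5, 6, 2, 3, 5, 2, 2, 3, 6, 2, 3, 5, 4, 3, 6, 4, 0] [.out 182],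
  .sub [2, 3, 1, 0, 1, 2, 6, 4, 3, 5, 6, 2, 3, 5, 2, 4, 1, 2, 6, 0, 4, 6, 3, 2, 6, 5, 3, 0, 5, 6, 3, 2, 3, 1, 2, 1, 3, 2, 3, 1, 2, 3, 4, 2, 3, 1, 2, 3, 2, 2, 3, 6, 2, 3, 5, 4, 3, 6, 4, 0] [.out 1378],
  .sub [6, 4, 3, 5, 6, 2, 3, 5, 2, 6, 4, 3, 5, 6, 2, 3, 5, 2, 4, 1, 2, 6, 0, 4, 6, 3, 2, 6, 5, 3, 0, 5, 6, 3, 2, 3, 1, 2, 1, 3, 2, 3, 1, 2, 3, 4, 2, 3, 1, 2, 3, 2, 2, 3, 6, 2, 3, 5, 4, 3, 6, 4, 0] [.done 12],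
  .sub [4, 1, 2, 6, 0, 4, 6, 3, 2, 6, 5, 3, 0, 5, 6, 3, 2, 3, 1, 2, 1, 3, 2, 3, 1, 2, 3, 4, 2, 3, 1, 2, 3, 2, 6, 4, 3, 5, 6, 2, 3, 5, 2, 4, 1, 2, 6, 0, 4, 6, 3, 2, 6, 5, 3, 0, 5, 6, 3, 2, 3, 1, 2, 1, 3, 2, 3, 1, 2, 3, 4, 2, 3, 1, 2, 3, 2, 2, 3, 6, 2, 3, 5, 4, 3, 6, 4, 0] [.out 1374],
  .sub [2, 3, 6, 2, 3, 5, 4, 3, 6, 4, 0, 6, 4, 3, 5, 6, 2, 3, 5, 2, 4, 1, 2, 6, 0, 4, 6, 3, 2, 6, 5, 3, 0, 5, 6, 3, 2, 3, 1, 2, 1, 3, 2, 3, 1, 2, 3, 4, 2, 3, 1, 2, 3, 2, 2, 3, 6, 2, 3, 5, 4, 3, 6, 4, 0] [.out 207],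
  .sub [6, 4, 3, 5, 6, 2, 3, 5, 2, 4, 1, 2, 6, 0, 4, 6, 3, 2, 6, 5, 3, 0, 5, 6, 3, 2, 3, 1, 2, 1, 3, 2, 3, 1, 2, 3, 4, 2, 3, 1, 2, 3, 2, 4, 1, 2, 6, 0, 4, 6, 3, 2, 6, 5, 3, 0, 5, 6, 3, 2, 3, 1, 2, 1, 3, 2, 3, 1, 2, 3, 4, 2, 3, 1, 2, 3, 2, 2, 3, 6, 2, 3, 5, 4, 3, 6, 4, 0] [.out 433],
  .sub [2, 3, 1, 0, 1, 2, 2, 3, 6, 2, 3, 5, 4, 3, 6, 4, 0, 4, 1, 2, 6, 0, 4, 6, 3, 2, 6, 5, 3, 0, 5, 6, 3, 2, 3, 1, 2, 1, 3, 2, 3, 1, 2, 3, 4, 2, 3, 1, 2, 3, 2, 2, 3, 6, 2, 3, 5, 4, 3, 6, 4, 0] [.out 1777],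
  .sub [4, 1, 2, 6, 0, 4, 6, 3, 2, 6, 5, 3, 0, 5, 6, 3, 2, 3, 1, 2, 1, 3, 2, 3, 1, 2, 3, 4, 2, 3, 1, 2, 3, 2, 2, 3, 6, 2, 3, 5, 4, 3, 6, 4, 0, 4, 1, 2, 6, 0, 4, 6, 3, 2, 6, 5, 3, 0, 5, 6, 3, 2, 3, 1, 2, 1, 3, 2, 3, 1, 2, 3, 4, 2, 3, 1, 2, 3, 2, 2, 3, 6, 2, 3, 5, 4, 3, 6, 4, 0] [.out 1689],
  .sub [6, 4, 3, 5, 6, 2, 3, 5, 2, 4, 1, 2, 6, 0, 4, 6, 3, 2, 6, 5, 3, 0, 5, 6, 3, 2, 3, 1, 2, 1, 3, 2, 3, 1, 2, 3, 4, 2, 3, 1, 2, 3, 2, 2, 3, 6, 2, 3, 5, 4, 3, 6, 4, 0, 2, 3, 6, 2, 3, 5, 4, 3, 6, 4, 0] [.out 1023],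
  .sub [2, 3, 6, 2, 3, 5, 4, 3, 6, 4, 0, 4, 1, 2, 6, 0, 4, 6, 3, 2, 6, 5, 3, 0, 5, 6, 3, 2, 3, 1, 2, 1, 3, 2, 3, 1, 2, 3, 4, 2, 3, 1, 2, 3, 2, 2, 3, 6, 2, 3, 5, 4, 3, 6, 4, 0, 2, 3, 6, 2, 3, 5, 4, 3, 6, 4, 0] [.out 1689],
  .sub [2, 3, 1, 0, 1, 2, 6, 4, 3, 5, 6, 2, 3, 5, 2, 4, 1, 2, 6, 0, 4, 6, 3, 2, 6, 5, 3, 0, 5, 6, 3, 2, 3, 1, 2, 1, 3, 2, 3, 1, 2, 3, 4, 2, 3, 1, 2, 3, 2, 2, 3, 1, 0, 1, 2, 6, 4, 3, 5, 6, 2, 3, 5, 2] [.out 382],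
  .sub [6, 4, 3, 5, 6, 2, 3, 5, 2, 6, 4, 3, 5, 6, 2, 3, 5, 2, 4, 1, 2, 6, 0, 4, 6, 3, 2, 6, 5, 3, 0, 5, 6, 3, 2, 3, 1, 2, 1, 3, 2, 3, 1, 2, 3, 4, 2, 3, 1, 2, 3, 2, 2, 3, 1, 0, 1, 2, 6, 4, 3, 5, 6, 2, 3, 5, 2] [.out 1689],
  .sub [4, 1, 2, 6, 0, 4, 6, 3, 2, 6, 5, 3, 0, 5, 6, 3, 2, 3, 1, 2, 1, 3, 2, 3, 1, 2, 3, 4, 2, 3, 1, 2, 3, 2, 6, 4, 3, 5, 6, 2, 3, 5, 2, 4, 1, 2, 6, 0, 4, 6, 3, 2, 6, 5, 3, 0, 5, 6, 3, 2, 3, 1, 2, 1, 3, 2, 3, 1, 2, 3, 4, 2, 3, 1, 2, 3, 2, 2, 3, 1, 0, 1, 2, 6, 4, 3, 5, 6, 2, 3, 5, 2] [.out 2013],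
  .sub [2, 3, 6, 2, 3, 5, 4, 3, 6, 4, 0, 6, 4, 3, 5, 6, 2, 3, 5, 2, 4, 1, 2, 6, 0, 4, 6, 3, 2, 6, 5, 3, 0, 5, 6, 3, 2, 3, 1, 2, 1, 3, 2, 3, 1, 2, 3, 4, 2, 3, 1, 2, 3, 2, 2, 3, 1, 0, 1, 2, 6, 4, 3, 5, 6, 2, 3, 5, 2] [.out 1023],
  .sub [6, 4, 3, 5, 6, 2, 3, 5, 2, 4, 1, 2, 6, 0, 4, 6, 3, 2, 6, 5, 3, 0, 5, 6, 3, 2, 3, 1, 2, 1, 3, 2, 3, 1, 2, 3, 4, 2, 3, 1, 2, 3, 2, 4, 1, 2, 6, 0, 4, 6, 3, 2, 6, 5, 3, 0, 5, 6, 3, 2, 3, 1, 2, 1, 3, 2, 3, 1, 2, 3, 4, 2, 3, 1, 2, 3, 2, 2, 3, 1, 0, 1, 2, 6, 4, 3, 5, 6, 2, 3, 5, 2] [.out 793],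
  .sub [4, 1, 2, 6, 0, 4, 6, 3, 2, 6, 5, 3, 0, 5, 6, 3, 2, 3, 1, 2, 1, 3, 2, 3, 1, 2, 3, 4, 2, 3, 1, 2, 3, 2, 4, 1, 2, 6, 0, 4, 6, 3, 2, 6, 5, 3, 0, 5, 6, 3, 2, 3, 1, 2, 1, 3, 2, 3, 1, 2, 3, 4, 2, 3, 1, 2, 3, 2, 4, 1, 2, 6, 0, 4, 6, 3, 2, 6, 5, 3, 0, 5, 6, 3, 2, 3, 1, 2, 1, 3, 2, 3, 1, 2, 3, 4, 2, 3, 1, 2, 3, 2, 2, 3, 1, 0, 1, 2, 6, 4, 3, 5, 6, 2, 3, 5, 2] [.out 281],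
  .sub [2, 3, 6, 2, 3, 5, 4, 3, 6, 4, 0, 4, 1, 2, 6, 0, 4, 6, 3, 2, 6, 5, 3, 0, 5, 6, 3, 2, 3, 1, 2, 1, 3, 2, 3, 1, 2, 3, 4, 2, 3, 1, 2, 3, 2, 4, 1, 2, 6, 0, 4, 6, 3, 2, 6, 5, 3, 0, 5, 6, 3, 2, 3, 1, 2, 1, 3, 2, 3, 1, 2, 3, 4, 2, 3, 1, 2, 3, 2, 2, 3, 1, 0, 1, 2, 6, 4, 3, 5, 6, 2, 3, 5, 2] [.out 1374],
  .sub [2, 3, 1, 0, 1, 2, 2, 3, 6, 2, 3, 5, 4, 3, 6, 4, 0, 4, 1, 2, 6, 0, 4, 6, 3, 2, 6, 5, 3, 0, 5, 6, 3, 2, 3, 1, 2, 1, 3, 2, 3, 1, 2, 3, 4, 2, 3, 1, 2, 3, 2, 2, 3, 1, 0, 1, 2, 6, 4, 3, 5, 6, 2, 3, 5, 2] [.done 13],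
  .sub [6, 4, 3, 5, 6, 2, 3, 5, 2, 2, 3, 6, 2, 3, 5, 4, 3, 6, 4, 0, 4, 1, 2, 6, 0, 4, 6, 3, 2, 6, 5, 3, 0, 5, 6, 3, 2, 3, 1, 2, 1, 3, 2, 3, 1, 2, 3, 4, 2, 3, 1, 2, 3, 2, 2, 3, 1, 0, 1, 2, 6, 4, 3, 5, 6, 2, 3, 5, 2] [.out 1237],
  .sub [4, 1, 2, 6, 0, 4, 6, 3, 2, 6, 5, 3, 0, 5, 6, 3, 2, 3, 1, 2, 1, 3, 2, 3, 1, 2, 3, 4, 2, 3, 1, 2, 3, 2, 2, 3, 6, 2, 3, 5, 4, 3, 6, 4, 0, 4, 1, 2, 6, 0, 4, 6, 3, 2, 6, 5, 3, 0, 5, 6, 3, 2, 3, 1, 2, 1, 3, 2, 3, 1, 2, 3, 4, 2, 3, 1, 2, 3, 2, 2, 3, 1, 0, 1, 2, 6, 4, 3, 5, 6, 2, 3, 5, 2] [.out 1370],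
  .sub [2, 3, 6, 2, 3, 5, 4, 3, 6, 4, 0, 2, 3, 6, 2, 3, 5, 4, 3, 6, 4, 0, 4, 1, 2, 6, 0, 4, 6, 3, 2, 6, 5, 3, 0, 5, 6, 3, 2, 3, 1, 2, 1, 3, 2, 3, 1, 2, 3, 4, 2, 3, 1, 2, 3, 2, 2, 3, 1, 0, 1, 2, 6, 4, 3, 5, 6, 2, 3, 5, 2] [.out 448],
  .sub [6, 4, 3, 5, 6, 2, 3, 5, 2, 4, 1, 2, 6, 0, 4, 6, 3, 2, 6, 5, 3, 0, 5, 6, 3, 2, 3, 1, 2, 1, 3, 2, 3, 1, 2, 3, 4, 2, 3, 1, 2, 3, 2, 2, 3, 6, 2, 3, 5, 4, 3, 6, 4, 0, 2, 3, 1, 0, 1, 2, 6, 4, 3, 5, 6, 2, 3, 5, 2] [.done 14],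
  .sub [2, 3, 6, 2, 3, 5, 4, 3, 6, 4, 0, 4, 1, 2, 6, 0, 4, 6, 3, 2, 6, 5, 3, 0, 5, 6, 3, 2, 3, 1, 2, 1, 3, 2, 3, 1, 2, 3, 4, 2, 3, 1, 2, 3, 2, 2, 3, 6, 2, 3, 5, 4, 3, 6, 4, 0, 2, 3, 1, 0, 1, 2, 6, 4, 3, 5, 6, 2, 3, 5, 2] [.out 1370],
  .sub [2, 3, 1, 0, 1, 2, 6, 4, 3, 5, 6, 2, 3, 5, 2, 4, 1, 2, 6, 0, 4, 6, 3, 2, 6, 5, 3, 0, 5, 6, 3, 2, 3, 1, 2, 1, 3, 2, 3, 1, 2, 3, 4, 2, 3, 1, 2, 3, 2, 6, 4, 3, 5, 6, 2, 3, 5, 2, 6, 4, 3, 5, 6, 2, 3, 5, 2] [.out 1620],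
  .sub [6, 4, 3, 5, 6, 2, 3, 5, 2, 6, 4, 3, 5, 6, 2, 3, 5, 2, 4, 1, 2, 6, 0, 4, 6, 3, 2, 6, 5, 3, 0, 5, 6, 3, 2, 3, 1, 2, 1, 3, 2, 3, 1, 2, 3, 4, 2, 3, 1, 2, 3, 2, 6, 4, 3, 5, 6, 2, 3, 5, 2, 6, 4, 3, 5, 6, 2, 3, 5, 2] [.done 15],
  .sub [4, 1, 2, 6, 0, 4, 6, 3, 2, 6, 5, 3, 0, 5, 6, 3, 2, 3, 1, 2, 1, 3, 2, 3, 1, 2, 3, 4, 2, 3, 1, 2, 3, 2, 6, 4, 3, 5, 6, 2, 3, 5, 2, 4, 1, 2, 6, 0, 4, 6, 3, 2, 6, 5, 3, 0, 5, 6, 3, 2, 3, 1, 2, 1, 3, 2, 3, 1, 2, 3, 4, 2, 3, 1, 2, 3, 2, 6, 4, 3, 5, 6, 2, 3, 5, 2, 6, 4, 3, 5, 6, 2, 3, 5, 2] [.out 724],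
  .sub [2, 3, 6, 2, 3, 5, 4, 3, 6, 4, 0, 6, 4, 3, 5, 6, 2, 3, 5, 2, 4, 1, 2, 6, 0, 4, 6, 3, 2, 6, 5, 3, 0, 5, 6, 3, 2, 3, 1, 2, 1, 3, 2, 3, 1, 2, 3, 4, 2, 3, 1, 2, 3, 2, 6, 4, 3, 5, 6, 2, 3, 5, 2, 6, 4, 3, 5, 6, 2, 3, 5, 2] [.out 365],
  .sub [6, 4, 3, 5, 6, 2, 3, 5, 2, 4, 1, 2, 6, 0, 4, 6, 3, 2, 6, 5, 3, 0, 5, 6, 3, 2, 3, 1, 2, 1, 3, 2, 3, 1, 2, 3, 4, 2, 3, 1, 2, 3, 2, 4, 1, 2, 6, 0, 4, 6, 3, 2, 6, 5, 3, 0, 5, 6, 3, 2, 3, 1, 2, 1, 3, 2, 3, 1, 2, 3, 4, 2, 3, 1, 2, 3, 2, 6, 4, 3, 5, 6, 2, 3, 5, 2, 6, 4, 3, 5, 6, 2, 3, 5, 2] [.out 2013],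
  .sub [4, 1, 2, 6, 0, 4, 6, 3, 2, 6, 5, 3, 0, 5, 6, 3, 2, 3, 1, 2, 1, 3, 2, 3, 1, 2, 3, 4, 2, 3, 1, 2, 3, 2, 4, 1, 2, 6, 0, 4, 6, 3, 2, 6, 5, 3, 0, 5, 6, 3, 2, 3, 1, 2, 1, 3, 2, 3, 1, 2, 3, 4, 2, 3, 1, 2, 3, 2, 4, 1, 2, 6, 0, 4, 6, 3, 2, 6, 5, 3, 0, 5, 6, 3, 2, 3, 1, 2, 1, 3, 2, 3, 1, 2, 3, 4, 2, 3, 1, 2, 3, 2, 6, 4, 3, 5, 6, 2, 3, 5, 2, 6, 4, 3, 5, 6, 2, 3, 5, 2] [.out 1689],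
  .sub [2, 3, 1, 0, 1, 2, 2, 3, 6, 2, 3, 5, 4, 3, 6, 4, 0, 4, 1, 2, 6, 0, 4, 6, 3, 2, 6, 5, 3, 0, 5, 6, 3, 2, 3, 1, 2, 1, 3, 2, 3, 1, 2, 3, 4, 2, 3, 1, 2, 3, 2, 6, 4, 3, 5, 6, 2, 3, 5, 2, 6, 4, 3, 5, 6, 2, 3, 5, 2] [.out 2051],
  .sub [6, 4, 3, 5, 6, 2, 3, 5, 2, 2, 3, 6, 2, 3, 5, 4, 3, 6, 4, 0, 4, 1, 2, 6, 0, 4, 6, 3, 2, 6, 5, 3, 0, 5, 6, 3, 2, 3, 1, 2, 1, 3, 2, 3, 1, 2, 3, 4, 2, 3, 1, 2, 3, 2, 6, 4, 3, 5, 6, 2, 3, 5, 2, 6, 4, 3, 5, 6, 2, 3, 5, 2] [.out 1083],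
  .sub [2, 3, 6, 2, 3, 5, 4, 3, 6, 4, 0, 2, 3, 6, 2, 3, 5, 4, 3, 6, 4, 0, 4, 1, 2, 6, 0, 4, 6, 3, 2, 6, 5, 3, 0, 5, 6, 3, 2, 3, 1, 2, 1, 3, 2, 3, 1, 2, 3, 4, 2, 3, 1, 2, 3, 2, 6, 4, 3, 5, 6, 2, 3, 5, 2, 6, 4, 3, 5, 6, 2, 3, 5, 2] [.out 841],
  .sub [6, 4, 3, 5, 6, 2, 3, 5, 2, 2, 3, 1, 0, 1, 2, 6, 4, 3, 5, 6, 2, 3, 5, 2, 4, 1, 2, 6, 0, 4, 6, 3, 2, 6, 5, 3, 0, 5, 6, 3, 2, 3, 1, 2, 1, 3, 2, 3, 1, 2, 3, 4, 2, 3, 1, 2, 3, 2, 6, 4, 3, 5, 6, 2, 3, 5, 2] [.out 1668],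
  .sub [4, 1, 2, 6, 0, 4, 6, 3, 2, 6, 5, 3, 0, 5, 6, 3, 2, 3, 1, 2, 1, 3, 2, 3, 1, 2, 3, 4, 2, 3, 1, 2, 3, 2, 2, 3, 1, 0, 1, 2, 6, 4, 3, 5, 6, 2, 3, 5, 2, 4, 1, 2, 6, 0, 4, 6, 3, 2, 6, 5, 3, 0, 5, 6, 3, 2, 3, 1, 2, 1, 3, 2, 3, 1, 2, 3, 4, 2, 3, 1, 2, 3, 2, 6, 4, 3, 5, 6, 2, 3, 5, 2] [.done 16],
  .sub [2, 3, 6, 2, 3, 5, 4, 3, 6, 4, 0, 2, 3, 1, 0, 1, 2, 6, 4, 3, 5, 6, 2, 3, 5, 2, 4, 1, 2, 6, 0, 4, 6, 3, 2, 6, 5, 3, 0, 5, 6, 3, 2, 3, 1, 2, 1, 3, 2, 3, 1, 2, 3, 4, 2, 3, 1, 2, 3, 2, 6, 4, 3, 5, 6, 2, 3, 5, 2] [.out 555],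
  .sub [2, 3, 1, 0, 1, 2, 6, 4, 3, 5, 6, 2, 3, 5, 2, 6, 4, 3, 5, 6, 2, 3, 5, 2, 4, 1, 2, 6, 0, 4, 6, 3, 2, 6, 5, 3, 0, 5, 6, 3, 2, 3, 1, 2, 1, 3, 2, 3, 1, 2, 3, 4, 2, 3, 1, 2, 3, 2, 6, 4, 3, 5, 6, 2, 3, 5, 2] [.out 1159],
  .sub [4, 1, 2, 6, 0, 4, 6, 3, 2, 6, 5, 3, 0, 5, 6, 3, 2, 3, 1, 2, 1, 3, 2, 3, 1, 2, 3, 4, 2, 3, 1, 2, 3, 2, 6, 4, 3, 5, 6, 2, 3, 5, 2, 6, 4, 3, 5, 6, 2, 3, 5, 2, 4, 1, 2, 6, 0, 4, 6, 3, 2, 6, 5, 3, 0, 5, 6, 3, 2, 3, 1, 2, 1, 3, 2, 3, 1, 2, 3, 4, 2, 3, 1, 2, 3, 2, 6, 4, 3, 5, 6, 2, 3, 5, 2] [.out 110],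
  .sub [2, 3, 6, 2, 3, 5, 4, 3, 6, 4, 0, 6, 4, 3, 5, 6, 2, 3, 5, 2, 6, 4, 3, 5, 6, 2, 3, 5, 2, 4, 1, 2, 6, 0, 4, 6, 3, 2, 6, 5, 3, 0, 5, 6, 3, 2, 3, 1, 2, 1, 3, 2, 3, 1, 2, 3, 4, 2, 3, 1, 2, 3, 2, 6, 4, 3, 5, 6, 2, 3, 5, 2] [.out 1022],
  .sub [6, 4, 3, 5, 6, 2, 3, 5, 2, 4, 1, 2, 6, 0, 4, 6, 3, 2, 6, 5, 3, 0, 5, 6, 3, 2, 3, 1, 2, 1, 3, 2, 3, 1, 2, 3, 4, 2, 3, 1, 2, 3, 2, 6, 4, 3, 5, 6, 2, 3, 5, 2, 4, 1, 2, 6, 0, 4, 6, 3, 2, 6, 5, 3, 0, 5, 6, 3, 2, 3, 1, 2, 1, 3, 2, 3, 1, 2, 3, 4, 2, 3, 1, 2, 3, 2, 6, 4, 3, 5, 6, 2, 3, 5, 2] [.out 841],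
  .sub [4, 1, 2, 6, 0, 4, 6, 3, 2, 6, 5, 3, 0, 5, 6, 3, 2, 3, 1, 2, 1, 3, 2, 3, 1, 2, 3, 4, 2, 3, 1, 2, 3, 2, 4, 1, 2, 6, 0, 4, 6, 3, 2, 6, 5, 3, 0, 5, 6, 3, 2, 3, 1, 2, 1, 3, 2, 3, 1, 2, 3, 4, 2, 3, 1, 2, 3, 2, 6, 4, 3, 5, 6, 2, 3, 5, 2, 4, 1, 2, 6, 0, 4, 6, 3, 2, 6, 5, 3, 0, 5, 6, 3, 2, 3, 1, 2, 1, 3, 2, 3, 1, 2, 3, 4, 2, 3, 1, 2, 3, 2, 6, 4, 3, 5, 6, 2, 3, 5, 2] [.done 17],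
  .sub [2, 3, 6, 2, 3, 5, 4, 3, 6, 4, 0, 4, 1, 2, 6, 0, 4, 6, 3, 2, 6, 5, 3, 0, 5, 6, 3, 2, 3, 1, 2, 1, 3, 2, 3, 1, 2, 3, 4, 2, 3, 1, 2, 3, 2, 6, 4, 3, 5, 6, 2, 3, 5, 2, 4, 1, 2, 6, 0, 4, 6, 3, 2, 6, 5, 3, 0, 5, 6, 3, 2, 3, 1, 2, 1, 3, 2, 3, 1, 2, 3, 4, 2, 3, 1, 2, 3, 2, 6, 4, 3, 5, 6, 2, 3, 5, 2] [.out 724],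
  .sub [4, 1, 2, 6, 0, 4, 6, 3, 2, 6, 5, 3, 0, 5, 6, 3, 2, 3, 1, 2, 1, 3, 2, 3, 1, 2, 3, 4, 2, 3, 1, 2, 3, 2, 2, 3, 6, 2, 3, 5, 4, 3, 6, 4, 0, 6, 4, 3, 5, 6, 2, 3, 5, 2, 4, 1, 2, 6, 0, 4, 6, 3, 2, 6, 5, 3, 0, 5, 6, 3, 2, 3, 1, 2, 1, 3, 2, 3, 1, 2, 3, 4, 2, 3, 1, 2, 3, 2, 6, 4, 3, 5, 6, 2, 3, 5, 2] [.out 2051],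
  .sub [2, 3, 6, 2, 3, 5, 4, 3, 6, 4, 0, 2, 3, 6, 2, 3, 5, 4, 3, 6, 4, 0, 6, 4, 3, 5, 6, 2, 3, 5, 2, 4, 1, 2, 6, 0, 4, 6, 3, 2, 6, 5, 3, 0, 5, 6, 3, 2, 3, 1, 2, 1, 3, 2, 3, 1, 2, 3, 4, 2, 3, 1, 2, 3, 2, 6, 4, 3, 5, 6, 2, 3, 5, 2] [.out 365],
  .sub [2, 3, 1, 0, 1, 2, 6, 4, 3, 5, 6, 2, 3, 5, 2, 4, 1, 2, 6, 0, 4, 6, 3, 2, 6, 5, 3, 0, 5, 6, 3, 2, 3, 1, 2, 1, 3, 2, 3, 1, 2, 3, 4, 2, 3, 1, 2, 3, 2, 4, 1, 2, 6, 0, 4, 6, 3, 2, 6, 5, 3, 0, 5, 6, 3, 2, 3, 1, 2, 1, 3, 2, 3, 1, 2, 3, 4, 2, 3, 1, 2, 3, 2, 6, 4, 3, 5, 6, 2, 3, 5, 2] [.out 797],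
  .sub [6, 4, 3, 5, 6, 2, 3, 5, 2, 6, 4, 3, 5, 6, 2, 3, 5, 2, 4, 1, 2, 6, 0, 4, 6, 3, 2, 6, 5, 3, 0, 5, 6, 3, 2, 3, 1, 2, 1, 3, 2, 3, 1, 2, 3, 4, 2, 3, 1, 2, 3, 2, 4, 1, 2, 6, 0, 4, 6, 3, 2, 6, 5, 3, 0, 5, 6, 3, 2, 3, 1, 2, 1, 3, 2, 3, 1, 2, 3, 4, 2, 3, 1, 2, 3, 2, 6, 4, 3, 5, 6, 2, 3, 5, 2] [.out 2038],
  .sub [4, 1, 2, 6, 0, 4, 6, 3, 2, 6, 5, 3, 0, 5, 6, 3, 2, 3, 1, 2, 1, 3, 2, 3, 1, 2, 3, 4, 2, 3, 1, 2, 3, 2, 6, 4, 3, 5, 6, 2, 3, 5, 2, 4, 1, 2, 6, 0, 4, 6, 3, 2, 6, 5, 3, 0, 5, 6, 3, 2, 3, 1, 2, 1, 3, 2, 3, 1, 2, 3, 4, 2, 3, 1, 2, 3, 2, 4, 1, 2, 6, 0, 4, 6, 3, 2, 6, 5, 3, 0, 5, 6, 3, 2, 3, 1, 2, 1, 3, 2, 3, 1,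 2, 3, 4, 2, 3, 1, 2, 3, 2, 6, 4, 3, 5, 6, 2, 3, 5, 2] [.out 1159],
  .sub [2, 3, 6, 2, 3, 5, 4, 3, 6, 4, 0, 6, 4, 3, 5, 6, 2, 3, 5, 2, 4, 1, 2, 6, 0, 4, 6, 3, 2, 6, 5, 3, 0, 5, 6, 3, 2, 3, 1, 2, 1, 3, 2, 3, 1, 2, 3, 4, 2, 3, 1, 2, 3, 2, 4, 1, 2, 6, 0, 4, 6, 3, 2, 6, 5, 3, 0, 5, 6, 3, 2, 3, 1, 2, 1, 3, 2, 3, 1, 2, 3, 4, 2, 3, 1, 2, 3, 2, 6, 4, 3, 5, 6, 2, 3, 5, 2] [.done 18],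
  .sub [6, 4, 3, 5, 6, 2, 3, 5, 2, 4, 1, 2, 6, 0, 4, 6, 3, 2, 6, 5, 3, 0, 5, 6, 3, 2, 3, 1, 2, 1, 3, 2, 3, 1, 2, 3, 4, 2, 3, 1, 2, 3, 2, 4, 1, 2, 6, 0, 4, 6, 3, 2, 6, 5, 3, 0, 5, 6, 3, 2, 3, 1, 2, 1, 3, 2, 3, 1, 2, 3, 4, 2, 3, 1, 2, 3, 2, 4, 1, 2, 6, 0, 4, 6, 3, 2, 6, 5, 3, 0, 5, 6, 3, 2, 3, 1, 2, 1, 3, 2, 3, 1, 2, 3, 4, 2, 3, 1, 2, 3, 2, 6, 4, 3, 5, 6, 2, 3, 5, 2] [.out 365],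
  .sub [6, 4, 3, 5, 6, 2, 3, 5, 2, 2, 3, 1, 0, 1, 2, 2, 3, 6, 2, 3, 5, 4, 3, 6, 4, 0, 4, 1, 2, 6, 0, 4, 6, 3, 2, 6, 5, 3, 0, 5, 6, 3, 2, 3, 1, 2, 1, 3, 2, 3, 1, 2, 3, 4, 2, 3, 1, 2, 3, 2, 6, 4, 3, 5, 6, 2, 3, 5, 2] [.out 1022],
  .sub [4, 1, 2, 6, 0, 4, 6, 3, 2, 6, 5, 3, 0, 5, 6, 3, 2, 3, 1, 2, 1, 3, 2, 3, 1, 2, 3, 4, 2, 3, 1, 2, 3, 2, 2, 3, 1, 0, 1, 2, 2, 3, 6, 2, 3, 5, 4, 3, 6, 4, 0, 4, 1, 2, 6, 0, 4, 6, 3, 2, 6, 5, 3, 0, 5, 6, 3, 2, 3, 1, 2, 1, 3, 2, 3, 1, 2, 3, 4, 2, 3, 1, 2, 3, 2, 6, 4, 3, 5, 6, 2, 3, 5, 2] [.done 19],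
  .sub [6, 4, 3, 5, 6, 2, 3, 5, 2, 6, 4, 3, 5, 6, 2, 3, 5, 2, 2, 3, 6, 2, 3, 5, 4, 3, 6, 4, 0, 4, 1, 2, 6, 0, 4, 6, 3, 2, 6, 5, 3, 0, 5, 6, 3, 2, 3, 1, 2, 1, 3, 2, 3, 1, 2, 3, 4, 2, 3, 1, 2, 3, 2, 6, 4, 3, 5, 6, 2, 3, 5, 2] [.out 1083],
  .sub [4, 1, 2, 6, 0, 4, 6, 3, 2, 6, 5, 3, 0, 5, 6, 3, 2, 3, 1, 2, 1, 3, 2, 3, 1, 2, 3, 4, 2, 3, 1, 2, 3, 2, 6, 4, 3, 5, 6, 2, 3, 5, 2, 2, 3, 6, 2, 3, 5, 4, 3, 6, 4, 0, 4, 1, 2, 6, 0, 4, 6, 3, 2, 6, 5, 3, 0, 5, 6, 3, 2, 3, 1, 2, 1, 3, 2, 3, 1, 2, 3, 4, 2, 3, 1, 2, 3, 2, 6, 4, 3, 5, 6, 2, 3, 5, 2] [.out 868],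
  .sub [6, 4, 3, 5, 6, 2, 3, 5, 2, 4, 1, 2, 6, 0, 4, 6, 3, 2, 6, 5, 3, 0, 5, 6, 3, 2, 3, 1, 2, 1, 3, 2, 3, 1, 2, 3, 4, 2, 3, 1, 2, 3, 2, 2, 3, 6, 2, 3, 5, 4, 3, 6, 4, 0, 4, 1, 2, 6, 0, 4, 6, 3, 2, 6, 5, 3, 0, 5, 6, 3, 2, 3, 1, 2, 1, 3, 2, 3, 1, 2, 3, 4, 2, 3, 1, 2, 3, 2, 6, 4, 3, 5, 6, 2, 3, 5, 2] [.out 352],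
  .sub [2, 3, 6, 2, 3, 5, 4, 3, 6, 4, 0, 4, 1, 2, 6, 0, 4, 6, 3, 2, 6, 5, 3, 0, 5, 6, 3, 2, 3, 1, 2, 1, 3, 2, 3, 1, 2, 3, 4, 2, 3, 1, 2, 3, 2, 2, 3, 6, 2, 3, 5, 4, 3, 6, 4, 0, 4, 1, 2, 6, 0, 4, 6, 3, 2, 6, 5, 3, 0, 5, 6, 3, 2, 3, 1, 2, 1, 3, 2, 3, 1, 2, 3, 4, 2, 3, 1, 2, 3, 2, 6, 4, 3, 5, 6, 2, 3, 5, 2] [.out 448],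
  .sub [4, 1, 2, 6, 0, 4, 6, 3, 2, 6, 5, 3, 0, 5, 6, 3, 2, 3, 1, 2, 1, 3, 2, 3, 1, 2, 3, 4, 2, 3, 1, 2, 3, 2, 2, 3, 6, 2, 3, 5, 4, 3, 6, 4, 0, 2, 3, 6, 2, 3, 5, 4, 3, 6, 4, 0, 4, 1, 2, 6, 0, 4, 6, 3, 2, 6, 5, 3, 0, 5, 6, 3, 2, 3, 1, 2, 1, 3, 2, 3, 1, 2, 3, 4, 2, 3, 1, 2, 3, 2, 6, 4, 3, 5, 6, 2, 3, 5, 2] [.out 1304],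
  .sub [2, 3, 1, 0, 1, 2, 6, 4, 3, 5, 6, 2, 3, 5, 2, 4, 1, 2, 6, 0, 4, 6, 3, 2, 6, 5, 3, 0, 5, 6, 3, 2, 3, 1, 2, 1, 3, 2, 3, 1, 2, 3, 4, 2, 3, 1, 2, 3, 2, 6, 4, 3, 5, 6, 2, 3, 5, 2, 4, 1, 2, 6, 0, 4, 6, 3, 2, 6, 5, 3, 0, 5, 6, 3, 2, 3, 1, 2, 1, 3, 2, 3, 1, 2, 3, 4, 2, 3, 1, 2, 3, 2] [.out 433],
  .sub [6, 4, 3, 5, 6, 2, 3, 5, 2, 6, 4, 3, 5, 6, 2, 3, 5, 2, 4, 1, 2, 6, 0, 4, 6, 3, 2, 6, 5, 3, 0, 5, 6, 3, 2, 3, 1, 2, 1, 3, 2, 3, 1, 2, 3, 4, 2, 3, 1, 2, 3, 2, 6, 4, 3, 5, 6, 2, 3, 5, 2, 4, 1, 2, 6, 0, 4, 6, 3, 2, 6, 5, 3, 0, 5, 6, 3, 2, 3, 1, 2, 1, 3, 2, 3, 1, 2, 3, 4, 2, 3, 1, 2, 3, 2] [.out 1689],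
  .sub [4, 1, 2, 6, 0, 4, 6, 3, 2, 6, 5, 3, 0, 5, 6, 3, 2, 3, 1, 2, 1, 3, 2, 3, 1, 2, 3, 4, 2, 3, 1, 2, 3, 2, 6, 4, 3, 5, 6, 2, 3, 5, 2, 4, 1, 2, 6, 0, 4, 6, 3, 2, 6, 5, 3, 0, 5, 6, 3, 2, 3, 1, 2, 1, 3, 2, 3, 1, 2, 3, 4, 2, 3, 1, 2, 3, 2, 6, 4, 3, 5, 6, 2, 3, 5, 2, 4, 1, 2, 6, 0, 4, 6, 3, 2, 6, 5, 3, 0, 5, 6, 3, 2, 3, 1, 2, 1, 3, 2, 3, 1, 2, 3, 4, 2, 3, 1, 2, 3, 2] [.out 70],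
  .sub [2, 3, 6, 2, 3, 5, 4, 3, 6, 4, 0, 6, 4, 3, 5, 6, 2, 3, 5, 2, 4, 1, 2, 6, 0, 4, 6, 3, 2, 6, 5, 3, 0, 5, 6, 3, 2, 3, 1, 2, 1, 3, 2, 3, 1, 2, 3, 4, 2, 3, 1, 2, 3, 2, 6, 4, 3, 5, 6, 2, 3, 5, 2, 4, 1, 2, 6, 0, 4, 6, 3, 2, 6, 5, 3, 0, 5, 6, 3, 2, 3, 1, 2, 1, 3, 2, 3, 1, 2, 3, 4, 2, 3, 1, 2, 3, 2] [.out 715],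
  .sub [4, 1, 2, 6, 0, 4, 6, 3, 2, 6, 5, 3, 0, 5, 6, 3, 2, 3, 1, 2, 1, 3, 2, 3, 1, 2, 3, 4, 2, 3, 1, 2, 3, 2, 4, 1, 2, 6, 0, 4, 6, 3, 2, 6, 5, 3, 0, 5, 6, 3, 2, 3, 1, 2, 1, 3, 2, 3, 1, 2, 3, 4, 2, 3, 1, 2, 3, 2, 4, 1, 2, 6, 0, 4, 6, 3, 2, 6, 5, 3, 0, 5, 6, 3, 2, 3, 1, 2, 1, 3, 2, 3, 1, 2, 3, 4, 2, 3, 1, 2, 3, 2, 6, 4, 3, 5, 6, 2, 3, 5, 2, 4, 1, 2, 6, 0, 4, 6, 3, 2, 6, 5, 3, 0, 5, 6, 3, 2, 3, 1, 2, 1, 3, 2, 3, 1, 2, 3, 4, 2, 3, 1, 2, 3, 2] [.out 793],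
  .sub [2, 3, 1, 0, 1, 2, 2, 3, 6, 2, 3, 5, 4, 3, 6, 4, 0, 4, 1, 2, 6, 0, 4, 6, 3, 2, 6, 5, 3, 0, 5, 6, 3, 2, 3, 1, 2, 1, 3, 2, 3, 1, 2, 3, 4, 2, 3, 1, 2, 3, 2, 6, 4, 3, 5, 6, 2, 3, 5, 2, 4, 1, 2, 6, 0, 4, 6, 3, 2, 6, 5, 3, 0, 5, 6, 3, 2, 3, 1, 2, 1, 3, 2, 3, 1, 2, 3, 4, 2, 3, 1, 2, 3, 2] [.done 20],
  .sub [6, 4, 3, 5, 6, 2, 3, 5, 2, 2, 3, 6, 2, 3, 5, 4, 3, 6, 4, 0, 4, 1, 2, 6, 0, 4, 6, 3, 2, 6, 5, 3, 0, 5, 6, 3, 2, 3, 1, 2, 1, 3, 2, 3, 1, 2, 3, 4, 2, 3, 1, 2, 3, 2, 6, 4, 3, 5, 6, 2, 3, 5, 2, 4, 1, 2, 6, 0, 4, 6, 3, 2, 6, 5, 3, 0, 5, 6, 3, 2, 3, 1, 2, 1, 3, 2, 3, 1, 2, 3, 4, 2, 3, 1, 2, 3, 2] [.out 110],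
  .sub [4, 1, 2, 6, 0, 4, 6, 3, 2, 6, 5, 3, 0, 5, 6, 3, 2, 3, 1, 2, 1, 3, 2, 3, 1, 2, 3, 4, 2, 3, 1, 2, 3, 2, 2, 3, 6, 2, 3, 5, 4, 3, 6, 4, 0, 4, 1, 2, 6, 0, 4, 6, 3, 2, 6, 5, 3, 0, 5, 6, 3, 2, 3, 1, 2, 1, 3, 2, 3, 1, 2, 3, 4, 2, 3, 1, 2, 3, 2, 6, 4, 3, 5, 6, 2, 3, 5, 2, 4, 1, 2, 6, 0, 4, 6, 3, 2, 6, 5, 3, 0, 5, 6, 3, 2, 3, 1, 2, 1, 3, 2, 3, 1, 2, 3, 4, 2, 3, 1, 2, 3, 2] [.out 537],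
  .sub [2, 3, 6, 2, 3, 5, 4, 3, 6, 4, 0, 2, 3, 6, 2, 3, 5, 4, 3, 6, 4, 0, 4, 1, 2, 6, 0, 4, 6, 3, 2, 6, 5, 3, 0, 5, 6, 3, 2, 3, 1, 2, 1, 3, 2, 3, 1, 2, 3, 4, 2, 3, 1, 2, 3, 2, 6, 4, 3, 5, 6, 2, 3, 5, 2, 4, 1, 2, 6, 0, 4, 6, 3, 2, 6, 5, 3, 0, 5, 6, 3, 2, 3, 1, 2, 1, 3, 2, 3, 1, 2, 3, 4, 2, 3, 1, 2, 3, 2] [.out 797],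
  .sub [6, 4, 3, 5, 6, 2, 3, 5, 2, 2, 3, 1, 0, 1, 2, 6, 4, 3, 5, 6, 2, 3, 5, 2, 4, 1, 2, 6, 0, 4, 6, 3, 2, 6, 5, 3, 0, 5, 6, 3, 2, 3, 1, 2, 1, 3, 2, 3, 1, 2, 3, 4, 2, 3, 1, 2, 3, 2, 4, 1, 2, 6, 0, 4, 6, 3, 2, 6, 5, 3, 0, 5, 6, 3, 2, 3, 1, 2, 1, 3, 2, 3, 1, 2, 3, 4, 2, 3, 1, 2, 3, 2] [.out 299],
  .sub [4, 1, 2, 6, 0, 4, 6, 3, 2, 6, 5, 3, 0, 5, 6, 3, 2, 3, 1, 2, 1, 3, 2, 3, 1, 2, 3, 4, 2, 3, 1, 2, 3, 2, 2, 3, 1, 0, 1, 2, 6, 4, 3, 5, 6, 2, 3, 5, 2, 4, 1, 2, 6, 0, 4, 6, 3, 2, 6, 5, 3, 0, 5, 6, 3, 2, 3, 1, 2, 1, 3, 2, 3, 1, 2, 3, 4, 2, 3, 1, 2, 3, 2, 4, 1, 2, 6, 0, 4, 6, 3, 2, 6, 5, 3, 0, 5, 6, 3, 2, 3, 1, 2, 1, 3,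 2, 3, 1, 2, 3, 4, 2, 3, 1, 2, 3, 2] [.out 1777],
  .sub [2, 3, 6, 2, 3, 5, 4, 3, 6, 4, 0, 2, 3, 1, 0, 1, 2, 6, 4, 3, 5, 6, 2, 3, 5, 2, 4, 1, 2, 6, 0, 4, 6, 3, 2, 6, 5, 3, 0, 5, 6, 3, 2, 3, 1, 2, 1, 3, 2, 3, 1, 2, 3, 4, 2, 3, 1, 2, 3, 2, 4, 1, 2, 6, 0, 4, 6, 3, 2, 6, 5, 3, 0, 5, 6, 3, 2, 3, 1, 2, 1, 3, 2, 3, 1, 2, 3, 4, 2, 3, 1, 2, 3, 2] [.out 1018],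
  .sub [2, 3, 1, 0, 1, 2, 6, 4, 3, 5, 6, 2, 3, 5, 2, 6, 4, 3, 5, 6, 2, 3, 5, 2, 4, 1, 2, 6, 0, 4, 6, 3, 2, 6, 5, 3, 0, 5, 6, 3, 2, 3, 1, 2, 1, 3, 2, 3, 1, 2, 3, 4, 2, 3, 1, 2, 3, 2, 4, 1, 2, 6, 0, 4, 6, 3, 2, 6, 5, 3, 0, 5, 6, 3, 2, 3, 1, 2, 1, 3, 2, 3, 1, 2, 3, 4, 2, 3, 1, 2, 3, 2] [.out 182],
  .sub [4, 1, 2, 6, 0, 4, 6, 3, 2, 6, 5, 3, 0, 5, 6, 3, 2, 3, 1, 2, 1, 3, 2, 3, 1, 2, 3, 4, 2, 3, 1, 2, 3, 2, 6, 4, 3, 5, 6, 2, 3, 5, 2, 6, 4, 3, 5, 6, 2, 3, 5, 2, 4, 1, 2, 6, 0, 4, 6, 3, 2, 6, 5, 3, 0, 5, 6, 3, 2, 3, 1, 2, 1, 3, 2, 3, 1, 2, 3, 4, 2, 3, 1, 2, 3, 2, 4, 1, 2, 6, 0, 4, 6, 3, 2, 6, 5, 3, 0, 5, 6, 3, 2, 3, 1,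 2, 1, 3, 2, 3, 1, 2, 3, 4, 2, 3, 1, 2, 3, 2] [.out 841],
  .sub [6, 4, 3, 5, 6, 2, 3, 5, 2, 4, 1, 2, 6, 0, 4, 6, 3, 2, 6, 5, 3, 0, 5, 6, 3, 2, 3, 1, 2, 1, 3, 2, 3, 1, 2, 3, 4, 2, 3, 1, 2, 3, 2, 6, 4, 3, 5, 6, 2, 3, 5, 2, 4, 1, 2, 6, 0, 4, 6, 3, 2, 6, 5, 3, 0, 5, 6, 3, 2, 3, 1, 2, 1, 3, 2, 3, 1, 2, 3, 4, 2, 3, 1, 2, 3, 2, 4, 1, 2, 6, 0, 4, 6, 3, 2, 6, 5, 3, 0, 5, 6, 3, 2, 3, 1, 2, 1, 3, 2, 3, 1, 2, 3, 4, 2, 3, 1, 2, 3, 2] [.done 21],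
  .sub [4, 1, 2, 6, 0, 4, 6, 3, 2, 6, 5, 3, 0, 5, 6, 3, 2, 3, 1, 2, 1, 3, 2, 3, 1, 2, 3, 4, 2, 3, 1, 2, 3, 2, 4, 1, 2, 6, 0, 4, 6, 3, 2, 6, 5, 3, 0, 5, 6, 3, 2, 3, 1, 2, 1, 3, 2, 3, 1, 2, 3, 4, 2, 3, 1, 2, 3, 2, 6, 4, 3, 5, 6, 2, 3, 5, 2, 4, 1, 2, 6, 0, 4, 6, 3, 2, 6, 5, 3, 0, 5, 6, 3, 2, 3, 1, 2, 1, 3, 2, 3, 1, 2, 3, 4, 2, 3, 1, 2, 3, 2, 4, 1, 2, 6, 0, 4, 6, 3, 2, 6, 5, 3, 0, 5, 6, 3, 2, 3, 1, 2, 1, 3, 2, 3, 1, 2, 3, 4, 2, 3, 1, 2, 3, 2] [.out 1802],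
  .sub [2, 3, 6, 2, 3, 5, 4, 3, 6, 4, 0, 4, 1, 2, 6, 0, 4, 6, 3, 2, 6, 5, 3, 0, 5, 6, 3, 2, 3, 1, 2, 1, 3, 2, 3, 1, 2, 3, 4, 2, 3, 1, 2, 3, 2, 6, 4, 3, 5, 6, 2, 3, 5, 2, 4, 1, 2, 6, 0, 4, 6, 3, 2, 6, 5, 3, 0, 5, 6, 3, 2, 3, 1, 2, 1, 3, 2, 3, 1, 2, 3, 4, 2, 3, 1, 2, 3, 2, 4, 1, 2, 6, 0, 4, 6, 3, 2, 6, 5, 3, 0, 5, 6, 3, 2, 3, 1, 2, 1, 3, 2, 3, 1, 2, 3, 4, 2, 3, 1, 2, 3, 2] [.out 70],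
  .sub [2, 3, 1, 0, 1, 2, 2, 3, 6, 2, 3, 5, 4, 3, 6, 4, 0, 6, 4, 3, 5, 6, 2, 3, 5, 2, 4, 1, 2, 6, 0, 4, 6, 3, 2, 6, 5, 3, 0, 5, 6, 3, 2, 3, 1, 2, 1, 3, 2, 3, 1, 2, 3, 4, 2, 3, 1, 2, 3, 2, 4, 1, 2, 6, 0, 4, 6, 3, 2, 6, 5, 3, 0, 5, 6, 3, 2, 3, 1, 2, 1, 3, 2, 3, 1, 2, 3, 4, 2, 3, 1, 2, 3, 2] [.out 110],
  .sub [4, 1, 2, 6, 0, 4, 6, 3, 2, 6, 5, 3, 0, 5, 6, 3, 2, 3, 1, 2, 1, 3, 2, 3, 1, 2, 3, 4, 2, 3, 1, 2, 3, 2, 2, 3, 6, 2, 3, 5, 4, 3, 6, 4, 0, 6, 4, 3, 5, 6, 2, 3, 5, 2, 4, 1, 2, 6, 0, 4, 6, 3, 2, 6, 5, 3, 0, 5, 6, 3, 2, 3, 1, 2, 1, 3, 2, 3, 1, 2, 3, 4, 2, 3, 1, 2, 3, 2, 4, 1, 2, 6, 0, 4, 6, 3, 2, 6, 5, 3, 0, 5, 6,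 3, 2, 3, 1, 2, 1, 3, 2, 3, 1, 2, 3, 4, 2, 3, 1, 2, 3, 2] [.out 2051],
  .sub [2, 3, 6, 2, 3, 5, 4, 3, 6, 4, 0, 2, 3, 6, 2, 3, 5, 4, 3, 6, 4, 0, 6, 4, 3, 5, 6, 2, 3, 5, 2, 4, 1, 2, 6, 0, 4, 6, 3, 2, 6, 5, 3, 0, 5, 6, 3, 2, 3, 1, 2, 1, 3, 2, 3, 1, 2, 3, 4, 2, 3, 1, 2, 3, 2, 4, 1, 2, 6, 0, 4, 6, 3, 2, 6, 5, 3, 0, 5, 6, 3, 2, 3, 1, 2, 1, 3, 2, 3, 1, 2, 3, 4, 2, 3, 1, 2, 3, 2] [.out 715],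
  .sub [4, 1, 2, 6, 0, 4, 6, 3, 2, 6, 5, 3, 0, 5, 6, 3, 2, 3, 1, 2, 1, 3, 2, 3, 1, 2, 3, 4, 2, 3, 1, 2, 3, 2, 6, 4, 3, 5, 6, 2, 3, 5, 2, 4, 1, 2, 6, 0, 4, 6, 3, 2, 6, 5, 3, 0, 5, 6, 3, 2, 3, 1, 2, 1, 3, 2, 3, 1, 2, 3, 4, 2, 3, 1, 2, 3, 2, 4, 1, 2, 6, 0, 4, 6, 3, 2, 6, 5, 3, 0, 5, 6, 3, 2, 3, 1, 2, 1, 3, 2, 3, 1, 2, 3, 4, 2, 3, 1, 2, 3, 2, 4, 1, 2, 6, 0, 4, 6, 3, 2, 6, 5, 3, 0, 5, 6, 3, 2, 3, 1, 2, 1, 3, 2, 3, 1, 2, 3, 4, 2, 3, 1, 2, 3, 2] [.out 182],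
  .sub [4, 1, 2, 6, 0, 4, 6, 3, 2, 6, 5, 3, 0, 5, 6, 3, 2, 3, 1, 2, 1, 3, 2, 3, 1, 2, 3, 4, 2, 3, 1, 2, 3, 2, 6, 4, 3, 5, 6, 2, 3, 5, 2, 2, 3, 6, 2, 3, 5, 4, 3, 6, 4, 0, 4, 1, 2, 6, 0, 4, 6, 3, 2, 6, 5, 3, 0, 5, 6, 3, 2, 3, 1, 2, 1, 3, 2, 3, 1, 2, 3, 4, 2, 3, 1, 2, 3, 2, 4, 1, 2, 6, 0, 4, 6, 3, 2, 6, 5, 3, 0, 5, 6, 3, 2, 3, 1, 2, 1, 3, 2, 3, 1, 2, 3, 4, 2, 3, 1, 2, 3, 2] [.out 1370],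
  .sub [6, 4, 3, 5, 6, 2, 3, 5, 2, 4, 1, 2, 6, 0, 4, 6, 3, 2, 6, 5, 3, 0, 5, 6, 3, 2, 3, 1, 2, 1, 3, 2, 3, 1, 2, 3, 4, 2, 3, 1, 2, 3, 2, 2, 3, 6, 2, 3, 5, 4, 3, 6, 4, 0, 4, 1, 2, 6, 0, 4, 6, 3, 2, 6, 5, 3, 0, 5, 6, 3, 2, 3, 1, 2, 1, 3, 2, 3, 1, 2, 3, 4, 2, 3, 1, 2, 3, 2, 4, 1, 2, 6, 0, 4, 6, 3, 2, 6, 5, 3, 0, 5, 6, 3, 2, 3, 1, 2, 1, 3, 2, 3, 1, 2, 3, 4, 2, 3, 1, 2, 3, 2] [.out 127],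
  .sub [2, 3, 6, 2, 3, 5, 4, 3, 6, 4, 0, 4, 1, 2, 6, 0, 4, 6, 3, 2, 6, 5, 3, 0, 5, 6, 3, 2, 3, 1, 2, 1, 3, 2, 3, 1, 2, 3, 4, 2, 3, 1, 2, 3, 2, 2, 3, 6, 2, 3, 5, 4, 3, 6, 4, 0, 4, 1, 2, 6, 0, 4, 6, 3, 2, 6, 5, 3, 0, 5, 6, 3, 2, 3, 1, 2, 1, 3, 2, 3, 1, 2, 3, 4, 2, 3, 1, 2, 3, 2, 4, 1, 2, 6, 0, 4, 6, 3, 2, 6, 5, 3, 0, 5, 6, 3, 2, 3, 1, 2, 1, 3, 2, 3, 1, 2, 3, 4, 2, 3, 1, 2, 3, 2] [.out 448],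
  .sub [4, 1, 2, 6, 0, 4, 6, 3, 2, 6, 5, 3, 0, 5, 6, 3, 2, 3, 1, 2, 1, 3, 2, 3, 1, 2, 3, 4, 2, 3, 1, 2, 3, 2, 2, 3, 6, 2, 3, 5, 4, 3, 6, 4, 0, 2, 3, 6, 2, 3, 5, 4, 3, 6, 4, 0, 4, 1, 2, 6, 0, 4, 6, 3, 2, 6, 5, 3, 0, 5, 6, 3, 2, 3, 1, 2, 1, 3, 2, 3, 1, 2, 3, 4, 2, 3, 1, 2, 3, 2, 4, 1, 2, 6, 0, 4, 6, 3, 2, 6, 5, 3, 0, 5, 6, 3, 2, 3, 1, 2, 1, 3, 2, 3, 1, 2, 3, 4, 2, 3, 1, 2, 3, 2] [.done 22],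
  .sub [2, 3, 1, 0, 1, 2, 6, 4, 3, 5, 6, 2, 3, 5, 2, 4, 1, 2, 6, 0, 4, 6, 3, 2, 6, 5, 3, 0, 5, 6, 3, 2, 3, 1, 2, 1, 3, 2, 3, 1, 2, 3, 4, 2, 3, 1, 2, 3, 2, 2, 3, 6, 2, 3, 5, 4, 3, 6, 4, 0, 4, 1, 2, 6, 0, 4, 6, 3, 2, 6, 5, 3, 0, 5, 6, 3, 2, 3, 1, 2, 1, 3, 2, 3, 1, 2, 3, 4, 2, 3, 1, 2, 3, 2] [.out 1580],
  .sub [6, 4, 3, 5, 6, 2, 3, 5, 2, 6, 4, 3, 5, 6, 2, 3, 5, 2, 4, 1, 2, 6, 0, 4, 6, 3, 2, 6, 5, 3, 0, 5, 6, 3, 2, 3, 1, 2, 1, 3, 2, 3, 1, 2, 3, 4, 2, 3, 1, 2, 3, 2, 2, 3, 6, 2, 3, 5, 4, 3, 6, 4, 0, 4, 1, 2, 6, 0, 4, 6, 3, 2, 6, 5, 3, 0, 5, 6, 3, 2, 3, 1, 2, 1, 3, 2, 3, 1, 2, 3, 4, 2, 3, 1, 2, 3, 2] [.out 537],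
  .sub [4, 1, 2, 6, 0, 4, 6, 3, 2, 6, 5, 3, 0, 5, 6, 3, 2, 3, 1, 2, 1, 3, 2, 3, 1, 2, 3, 4, 2, 3, 1, 2, 3, 2, 6, 4, 3, 5, 6, 2, 3, 5, 2, 4, 1, 2, 6, 0, 4, 6, 3, 2, 6, 5, 3, 0, 5, 6, 3, 2, 3, 1, 2, 1, 3, 2, 3, 1, 2, 3, 4, 2, 3, 1, 2, 3, 2, 2, 3, 6, 2, 3, 5, 4, 3, 6, 4, 0, 4, 1, 2, 6, 0, 4, 6, 3, 2, 6, 5, 3, 0, 5, 6, 3, 2, 3, 1, 2, 1, 3, 2, 3, 1, 2, 3, 4, 2, 3, 1, 2, 3, 2] [.out 1237],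
  .sub [2, 3, 6, 2, 3, 5, 4, 3, 6, 4, 0, 6, 4, 3, 5, 6, 2, 3, 5, 2, 4, 1, 2, 6, 0, 4, 6, 3, 2, 6, 5, 3, 0, 5, 6, 3, 2, 3, 1, 2, 1, 3, 2, 3, 1, 2, 3, 4, 2, 3, 1, 2, 3, 2, 2, 3, 6, 2, 3, 5, 4, 3, 6, 4, 0, 4, 1, 2, 6, 0, 4, 6, 3, 2, 6, 5, 3, 0, 5, 6, 3, 2, 3, 1, 2, 1, 3, 2, 3, 1, 2, 3, 4, 2, 3, 1, 2, 3, 2] [.done 23],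
  .sub [2, 3, 1, 0, 1, 2, 2, 3, 6, 2, 3, 5, 4, 3, 6, 4, 0, 4, 1, 2, 6, 0, 4, 6, 3, 2, 6, 5, 3, 0, 5, 6, 3, 2, 3, 1, 2, 1, 3, 2, 3, 1, 2, 3, 4, 2, 3, 1, 2, 3, 2, 2, 3, 6, 2, 3, 5, 4, 3, 6, 4, 0, 4, 1, 2, 6, 0, 4, 6, 3, 2, 6, 5, 3, 0, 5, 6, 3, 2, 3, 1, 2, 1, 3, 2, 3, 1, 2, 3, 4, 2, 3, 1, 2, 3, 2] [.out 797],
  .sub [6, 4, 3, 5, 6, 2, 3, 5, 2, 2, 3, 6, 2, 3, 5, 4, 3, 6, 4, 0, 4, 1, 2, 6, 0, 4, 6, 3, 2, 6, 5, 3, 0, 5, 6, 3, 2, 3, 1, 2, 1, 3, 2, 3, 1, 2, 3, 4, 2, 3, 1, 2, 3, 2, 2, 3, 6, 2, 3, 5, 4, 3, 6, 4, 0, 4, 1, 2, 6, 0, 4, 6, 3, 2, 6, 5, 3, 0, 5, 6, 3, 2, 3, 1, 2, 1, 3, 2, 3, 1, 2, 3, 4, 2, 3, 1, 2, 3, 2] [.out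 127],
  .sub [4, 1, 2, 6, 0, 4, 6, 3, 2, 6, 5, 3, 0, 5, 6, 3, 2, 3, 1, 2, 1, 3, 2, 3, 1, 2, 3, 4, 2, 3, 1, 2, 3, 2, 2, 3, 6, 2, 3, 5, 4, 3, 6, 4, 0, 4, 1, 2, 6, 0, 4, 6, 3, 2, 6, 5, 3, 0, 5, 6, 3, 2, 3, 1, 2, 1, 3, 2, 3, 1, 2, 3, 4, 2, 3, 1, 2, 3, 2, 2, 3, 6, 2, 3, 5, 4, 3, 6, 4, 0, 4, 1, 2, 6, 0, 4, 6, 3, 2, 6, 5, 3, 0, 5, 6, 3, 2, 3, 1, 2, 1, 3, 2, 3, 1, 2, 3, 4, 2, 3, 1, 2, 3, 2] [.out 1668],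
  .sub [2, 3, 6, 2, 3, 5, 4, 3, 6, 4, 0, 2, 3, 6, 2, 3, 5, 4, 3, 6, 4, 0, 4, 1, 2, 6, 0, 4, 6, 3, 2, 6, 5, 3, 0, 5, 6, 3, 2, 3, 1, 2, 1, 3, 2, 3, 1, 2, 3, 4, 2, 3, 1, 2, 3, 2, 2, 3, 6, 2, 3, 5, 4, 3, 6, 4, 0, 4, 1, 2, 6, 0, 4, 6, 3, 2, 6, 5, 3, 0, 5, 6, 3, 2, 3, 1, 2, 1, 3, 2, 3, 1, 2, 3, 4, 2, 3, 1, 2, 3, 2] [.out 448],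
  .sub [2, 3, 1, 0, 1, 2, 6, 4, 3, 5, 6, 2, 3, 5, 2, 4, 1, 2, 6, 0, 4, 6, 3, 2, 6, 5, 3, 0, 5, 6, 3, 2, 3, 1, 2, 1, 3, 2, 3, 1, 2, 3, 4, 2, 3, 1, 2, 3, 2, 2, 3, 1, 0, 1, 2, 2, 3, 6, 2, 3, 5, 4, 3, 6, 4, 0] [.out 127],
  .sub [2, 3, 6, 2, 3, 5, 4, 3, 6, 4, 0, 6, 4, 3, 5, 6, 2, 3, 5, 2, 4, 1, 2, 6, 0, 4, 6, 3, 2, 6, 5, 3, 0, 5, 6, 3, 2, 3, 1, 2, 1, 3, 2, 3, 1, 2, 3, 4, 2, 3, 1, 2, 3, 2, 2, 3, 1, 0, 1, 2, 2, 3, 6, 2, 3, 5, 4, 3, 6, 4, 0] [.done 24],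
  .sub [6, 4, 3, 5, 6, 2, 3, 5, 2, 4, 1, 2, 6, 0, 4, 6, 3, 2, 6, 5, 3, 0, 5, 6, 3, 2, 3, 1, 2, 1, 3, 2, 3, 1, 2, 3, 4, 2, 3, 1, 2, 3, 2, 4, 1, 2, 6, 0, 4, 6, 3, 2, 6, 5, 3, 0, 5, 6, 3, 2, 3, 1, 2, 1, 3, 2, 3, 1, 2, 3, 4, 2, 3, 1, 2, 3, 2, 2, 3, 1, 0, 1, 2, 2, 3, 6, 2, 3, 5, 4, 3, 6, 4, 0] [.done 25],
  .sub [2, 3, 1, 0, 1, 2, 6, 4, 3, 5, 6, 2, 3, 5, 2, 4, 1, 2, 6, 0, 4, 6, 3, 2, 6, 5, 3, 0, 5, 6, 3, 2, 3, 1, 2, 1, 3, 2, 3, 1, 2, 3, 4, 2, 3, 1, 2, 3, 2, 6, 4, 3, 5, 6, 2, 3, 5, 2, 2, 3, 6, 2, 3, 5, 4, 3, 6, 4, 0] [.out 837],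
  .sub [6, 4, 3, 5, 6, 2, 3, 5, 2, 6, 4, 3, 5, 6, 2, 3, 5, 2, 4, 1, 2, 6, 0, 4, 6, 3, 2, 6, 5, 3, 0, 5, 6, 3, 2, 3, 1, 2, 1, 3, 2, 3, 1, 2, 3, 4, 2, 3, 1, 2, 3, 2, 6, 4, 3, 5, 6, 2, 3, 5, 2, 2, 3, 6, 2, 3, 5, 4, 3, 6, 4, 0] [.out 2051],
  .sub [4, 1, 2, 6, 0, 4, 6, 3, 2, 6, 5, 3, 0, 5, 6, 3, 2, 3, 1, 2, 1, 3, 2, 3, 1, 2, 3, 4, 2, 3, 1, 2, 3, 2, 6, 4, 3, 5, 6, 2, 3, 5, 2, 4, 1, 2, 6, 0, 4, 6, 3, 2, 6, 5, 3, 0, 5, 6, 3, 2, 3, 1, 2, 1, 3, 2, 3, 1, 2, 3, 4, 2, 3, 1, 2, 3, 2, 6, 4, 3, 5, 6, 2, 3, 5, 2, 2, 3, 6, 2, 3, 5, 4, 3, 6, 4, 0] [.out 841],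
  .sub [4, 1, 2, 6, 0, 4, 6, 3, 2, 6, 5, 3, 0, 5, 6, 3, 2, 3, 1, 2, 1, 3, 2, 3, 1, 2, 3, 4, 2, 3, 1, 2, 3, 2, 4, 1, 2, 6, 0, 4, 6, 3, 2, 6, 5, 3, 0, 5, 6, 3, 2, 3, 1, 2, 1, 3, 2, 3, 1, 2, 3, 4, 2, 3, 1, 2, 3, 2, 4, 1, 2, 6, 0, 4, 6, 3, 2, 6, 5, 3, 0, 5, 6, 3, 2, 3, 1, 2, 1, 3, 2, 3, 1, 2, 3, 4, 2, 3, 1, 2, 3, 2, 6, 4, 3, 5, 6, 2, 3, 5, 2, 2, 3, 6, 2, 3, 5, 4, 3, 6, 4, 0] [.out 1370],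
  .sub [2, 3, 1, 0, 1, 2, 2, 3, 6, 2, 3, 5, 4, 3, 6, 4, 0, 4, 1, 2, 6, 0, 4, 6, 3, 2, 6, 5, 3, 0, 5, 6, 3, 2, 3, 1, 2, 1, 3, 2, 3, 1, 2, 3, 4, 2, 3, 1, 2, 3, 2, 6, 4, 3, 5, 6, 2, 3, 5, 2, 2, 3, 6, 2, 3, 5, 4, 3, 6, 4, 0] [.out 793],
  .sub [6, 4, 3, 5, 6, 2, 3, 5, 2, 2, 3, 6, 2, 3, 5, 4, 3, 6, 4, 0, 4, 1, 2, 6, 0, 4, 6, 3, 2, 6, 5, 3, 0, 5, 6, 3, 2, 3, 1, 2, 1, 3, 2, 3, 1, 2, 3, 4, 2, 3, 1, 2, 3, 2, 6, 4, 3, 5, 6, 2, 3, 5, 2, 2, 3, 6, 2, 3, 5, 4, 3, 6, 4, 0] [.out 537],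
  .sub [2, 3, 6, 2, 3, 5, 4, 3, 6, 4, 0, 2, 3, 6, 2, 3, 5, 4, 3, 6, 4, 0, 4, 1, 2, 6, 0, 4, 6, 3, 2, 6, 5, 3, 0, 5, 6, 3, 2, 3, 1, 2, 1, 3, 2, 3, 1, 2, 3, 4, 2, 3, 1, 2, 3, 2, 6, 4, 3, 5, 6, 2, 3, 5, 2, 2, 3, 6, 2, 3, 5, 4, 3, 6, 4, 0] [.done 26],
  .sub [4, 1, 2, 6, 0, 4, 6, 3, 2, 6, 5, 3, 0, 5, 6, 3, 2, 3, 1, 2, 1, 3, 2, 3, 1, 2, 3, 4, 2, 3, 1, 2, 3, 2, 2, 3, 1, 0, 1, 2, 6, 4, 3, 5, 6, 2, 3, 5, 2, 4, 1, 2, 6, 0, 4, 6, 3, 2, 6, 5, 3, 0, 5, 6, 3, 2, 3, 1, 2, 1, 3, 2, 3, 1, 2, 3, 4, 2, 3, 1, 2, 3, 2, 2, 3, 6, 2, 3, 5, 4, 3, 6, 4, 0] [.out 1018],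
  .sub [2, 3, 1, 0, 1, 2, 6, 4, 3, 5, 6, 2, 3, 5, 2, 6, 4, 3, 5, 6, 2, 3, 5, 2, 4, 1, 2, 6, 0, 4, 6, 3, 2, 6, 5, 3, 0, 5, 6, 3, 2, 3, 1, 2, 1, 3, 2, 3, 1, 2, 3, 4, 2, 3, 1, 2, 3, 2, 2, 3, 6, 2, 3, 5, 4, 3, 6, 4, 0] [.done 27],
  .sub [6, 4, 3, 5, 6, 2, 3, 5, 2, 4, 1, 2, 6, 0, 4, 6, 3, 2, 6, 5, 3, 0, 5, 6, 3, 2, 3, 1, 2, 1, 3, 2, 3, 1, 2, 3, 4, 2, 3, 1, 2, 3, 2, 6, 4, 3, 5, 6, 2, 3, 5, 2, 4, 1, 2, 6, 0, 4, 6, 3, 2, 6, 5, 3, 0, 5, 6, 3, 2, 3, 1, 2, 1, 3, 2, 3, 1, 2, 3, 4, 2, 3, 1, 2, 3, 2, 2, 3, 6, 2, 3, 5, 4, 3, 6, 4, 0] [.out 715],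
  .sub [4, 1, 2, 6, 0, 4, 6, 3, 2, 6, 5, 3, 0, 5, 6, 3, 2, 3, 1, 2, 1, 3, 2, 3, 1, 2, 3, 4, 2, 3, 1, 2, 3, 2, 4, 1, 2, 6, 0, 4, 6, 3, 2, 6, 5, 3, 0, 5, 6, 3, 2, 3, 1, 2, 1, 3, 2, 3, 1, 2, 3, 4, 2, 3, 1, 2, 3, 2, 6, 4, 3, 5, 6, 2, 3, 5, 2, 4, 1, 2, 6, 0, 4, 6, 3, 2, 6, 5, 3, 0, 5, 6, 3, 2, 3, 1, 2, 1, 3, 2, 3, 1, 2, 3, 4, 2, 3, 1, 2, 3, 2, 2, 3, 6, 2, 3, 5, 4, 3, 6, 4, 0] [.out 1378],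
  .sub [2, 3, 6, 2, 3, 5, 4, 3, 6, 4, 0, 4, 1, 2, 6, 0, 4, 6, 3, 2, 6, 5, 3, 0, 5, 6, 3, 2, 3, 1, 2, 1, 3, 2, 3, 1, 2, 3, 4, 2, 3, 1, 2, 3, 2, 6, 4, 3, 5, 6, 2, 3, 5, 2, 4, 1, 2, 6, 0, 4, 6, 3, 2, 6, 5, 3, 0, 5, 6, 3, 2, 3, 1, 2, 1, 3, 2, 3, 1, 2, 3, 4, 2, 3, 1, 2, 3, 2, 2, 3, 6, 2, 3, 5, 4, 3, 6, 4, 0] [.out 841],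
  .sub [4, 1, 2, 6, 0, 4, 6, 3, 2, 6, 5, 3, 0, 5, 6, 3, 2, 3, 1, 2, 1, 3, 2, 3, 1, 2, 3, 4, 2, 3, 1, 2, 3, 2, 2, 3, 6, 2, 3, 5, 4, 3, 6, 4, 0, 6, 4, 3, 5, 6, 2, 3, 5, 2, 4, 1, 2, 6, 0, 4, 6, 3, 2, 6, 5, 3, 0, 5, 6, 3, 2, 3, 1, 2, 1, 3, 2, 3, 1, 2, 3, 4, 2, 3, 1, 2, 3, 2, 2, 3, 6, 2, 3, 5, 4, 3, 6, 4, 0] [.out 116],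
  .sub [2, 3, 6, 2, 3, 5, 4, 3, 6, 4, 0, 2, 3, 6, 2, 3, 5, 4, 3, 6, 4, 0, 6, 4, 3, 5, 6, 2, 3, 5, 2, 4, 1, 2, 6, 0, 4, 6, 3, 2, 6, 5, 3, 0, 5, 6, 3, 2, 3, 1, 2, 1, 3, 2, 3, 1, 2, 3, 4, 2, 3, 1, 2, 3, 2, 2, 3, 6, 2, 3, 5, 4, 3, 6, 4, 0] [.out 352],
  .sub [6, 4, 3, 5, 6, 2, 3, 5, 2, 6, 4, 3, 5, 6, 2, 3, 5, 2, 4, 1, 2, 6, 0, 4, 6, 3, 2, 6, 5, 3, 0, 5, 6, 3, 2, 3, 1, 2, 1, 3, 2, 3, 1, 2, 3, 4, 2, 3, 1, 2, 3, 2, 4, 1, 2, 6, 0, 4, 6, 3, 2, 6, 5, 3, 0, 5, 6, 3, 2, 3, 1, 2, 1, 3, 2, 3, 1, 2, 3, 4, 2, 3, 1, 2, 3, 2, 2, 3, 6, 2, 3, 5, 4, 3, 6, 4, 0] [.out 1464],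
  .sub [2, 3, 1, 0, 1, 2, 6, 4, 3, 5, 6, 2, 3, 5, 2, 4, 1, 2, 6, 0, 4, 6, 3, 2, 6, 5, 3, 0, 5, 6, 3, 2, 3, 1, 2, 1, 3, 2, 3, 1, 2, 3, 4, 2, 3, 1, 2, 3, 2, 2, 3, 6, 2, 3, 5, 4, 3, 6, 4, 0, 2, 3, 6, 2, 3, 5, 4, 3, 6, 4, 0] [.out 555],
  .sub [6, 4, 3, 5, 6, 2, 3, 5, 2, 6, 4, 3, 5, 6, 2, 3, 5, 2, 4, 1, 2, 6, 0, 4, 6, 3, 2, 6, 5, 3, 0, 5, 6, 3, 2, 3, 1, 2, 1, 3, 2, 3, 1, 2, 3, 4, 2, 3, 1, 2, 3, 2, 2, 3, 6, 2, 3, 5, 4, 3, 6, 4, 0, 2, 3, 6, 2, 3, 5, 4, 3, 6, 4, 0] [.out 281],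
  .sub [4, 1, 2, 6, 0, 4, 6, 3, 2, 6, 5, 3, 0, 5, 6, 3, 2, 3, 1, 2, 1, 3, 2, 3, 1, 2, 3, 4, 2, 3, 1, 2, 3, 2, 6, 4, 3, 5, 6, 2, 3, 5, 2, 4, 1, 2, 6, 0, 4, 6, 3, 2, 6, 5, 3, 0, 5, 6, 3, 2, 3, 1, 2, 1, 3, 2, 3, 1, 2, 3, 4, 2, 3, 1, 2, 3, 2, 2, 3, 6, 2, 3, 5, 4, 3, 6, 4, 0, 2, 3, 6, 2, 3, 5, 4, 3, 6, 4, 0] [.out 793],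
  .sub [2, 3, 6, 2, 3, 5, 4, 3, 6, 4, 0, 6, 4, 3, 5, 6, 2, 3, 5, 2, 4, 1, 2, 6, 0, 4, 6, 3, 2, 6, 5, 3, 0, 5, 6, 3, 2, 3, 1, 2, 1, 3, 2, 3, 1, 2, 3, 4, 2, 3, 1, 2, 3, 2, 2, 3, 6, 2, 3, 5, 4, 3, 6, 4, 0, 2, 3, 6, 2, 3, 5, 4, 3, 6, 4, 0] [.out 1022],
  .sub [2, 3, 1, 0, 1, 2, 2, 3, 6, 2, 3, 5, 4, 3, 6, 4, 0, 4, 1, 2, 6, 0, 4, 6, 3, 2, 6, 5, 3, 0, 5, 6, 3, 2, 3, 1, 2, 1, 3, 2, 3, 1, 2, 3, 4, 2, 3, 1, 2, 3, 2, 2, 3, 6, 2, 3, 5, 4, 3, 6, 4, 0, 2, 3, 6, 2, 3, 5, 4, 3, 6, 4, 0] [.out 1668],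
  .sub [6, 4, 3, 5, 6, 2, 3, 5, 2, 2, 3, 6, 2, 3, 5, 4, 3, 6, 4, 0, 4, 1, 2, 6, 0, 4, 6, 3, 2, 6, 5, 3, 0, 5, 6, 3, 2, 3, 1, 2, 1, 3, 2, 3, 1, 2, 3, 4, 2, 3, 1, 2, 3, 2, 2, 3, 6, 2, 3, 5, 4, 3, 6, 4, 0, 2, 3, 6, 2, 3, 5, 4, 3, 6, 4, 0] [.done 28],
  .sub [2, 3, 6, 2, 3, 5, 4, 3, 6, 4, 0, 2, 3, 6, 2, 3, 5, 4, 3, 6, 4, 0, 4, 1, 2, 6, 0, 4, 6, 3, 2, 6, 5, 3, 0, 5, 6, 3, 2, 3, 1, 2, 1, 3, 2, 3, 1, 2, 3, 4, 2, 3, 1, 2, 3, 2, 2, 3, 6, 2, 3, 5, 4, 3, 6, 4, 0, 2, 3, 6, 2, 3, 5, 4, 3, 6, 4, 0] [.out 70],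
  .sub [6, 4, 3, 5, 6, 2, 3, 5, 2, 2, 3, 1, 0, 1, 2, 6, 4, 3, 5, 6, 2, 3, 5, 2, 4, 1, 2, 6, 0, 4, 6, 3, 2, 6, 5, 3, 0, 5, 6, 3, 2, 3, 1, 2, 1, 3, 2, 3, 1, 2, 3, 4, 2, 3, 1, 2, 3, 2, 2, 3, 1, 0, 1, 2, 6, 4, 3, 5, 6, 2, 3, 5, 2] [.out 1159],
  .sub [4, 1, 2, 6, 0, 4, 6, 3, 2, 6, 5, 3, 0, 5, 6, 3, 2, 3, 1, 2, 1, 3, 2, 3, 1, 2, 3, 4, 2, 3, 1, 2, 3, 2, 2, 3, 1, 0, 1, 2, 6, 4, 3, 5, 6, 2, 3, 5, 2, 4, 1, 2, 6, 0, 4, 6, 3, 2, 6, 5, 3, 0, 5, 6, 3, 2, 3, 1, 2, 1, 3, 2, 3, 1, 2, 3, 4, 2, 3, 1, 2, 3, 2, 2, 3, 1, 0, 1, 2, 6, 4, 3, 5, 6, 2, 3, 5, 2] [.out 2038],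
  .sub [2, 3, 1, 0, 1, 2, 6, 4, 3, 5, 6, 2, 3, 5, 2, 6, 4, 3, 5, 6, 2, 3, 5, 2, 4, 1, 2, 6, 0, 4, 6, 3, 2, 6, 5, 3, 0, 5, 6, 3, 2, 3, 1, 2, 1, 3, 2, 3, 1, 2, 3, 4, 2, 3, 1, 2, 3, 2, 2, 3, 1, 0, 1, 2, 6, 4, 3, 5, 6, 2, 3, 5, 2] [.out 1668],
  .sub [4, 1, 2, 6, 0, 4, 6, 3, 2, 6, 5, 3, 0, 5, 6, 3, 2, 3, 1, 2, 1, 3, 2, 3, 1, 2, 3, 4, 2, 3, 1, 2, 3, 2, 6, 4, 3, 5, 6, 2, 3, 5, 2, 6, 4, 3, 5, 6, 2, 3, 5, 2, 4, 1, 2, 6, 0, 4, 6, 3, 2, 6, 5, 3, 0, 5, 6, 3, 2, 3, 1, 2, 1, 3, 2, 3, 1, 2, 3, 4, 2, 3, 1, 2, 3, 2, 2, 3, 1, 0, 1, 2, 6, 4, 3, 5, 6, 2, 3, 5, 2] [.out 1374],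
  .sub [4, 1, 2, 6, 0, 4, 6, 3, 2, 6, 5, 3, 0, 5, 6, 3, 2, 3, 1, 2, 1, 3, 2, 3, 1, 2, 3, 4, 2, 3, 1, 2, 3, 2, 4, 1, 2, 6, 0, 4, 6, 3, 2, 6, 5, 3, 0, 5, 6, 3, 2, 3, 1, 2, 1, 3, 2, 3, 1, 2, 3, 4, 2, 3, 1, 2, 3, 2, 6, 4, 3, 5, 6, 2, 3, 5, 2, 4, 1, 2, 6, 0, 4, 6, 3, 2, 6, 5, 3, 0, 5, 6, 3, 2, 3, 1, 2, 1, 3, 2, 3, 1, 2, 3, 4, 2, 3, 1, 2, 3, 2, 2, 3, 1, 0, 1, 2, 6, 4, 3, 5, 6, 2, 3, 5, 2] [.out 382],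
  .sub [2, 3, 6, 2, 3, 5, 4, 3, 6, 4, 0, 4, 1, 2, 6, 0, 4, 6, 3, 2, 6, 5, 3, 0, 5, 6, 3, 2, 3, 1, 2, 1, 3, 2, 3, 1, 2, 3, 4, 2, 3, 1, 2, 3, 2, 6, 4, 3, 5, 6, 2, 3, 5, 2, 4, 1, 2, 6, 0, 4, 6, 3, 2, 6, 5, 3, 0, 5, 6, 3, 2, 3, 1, 2, 1, 3, 2, 3, 1, 2, 3, 4, 2, 3, 1, 2, 3, 2, 2, 3, 1, 0, 1, 2, 6, 4, 3, 5, 6, 2, 3, 5, 2] [.out 715],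
  .sub [2, 3, 1, 0, 1, 2, 2, 3, 6, 2, 3, 5, 4, 3, 6, 4, 0, 6, 4, 3, 5, 6, 2, 3, 5, 2, 4, 1, 2, 6, 0, 4, 6, 3, 2, 6, 5, 3, 0, 5, 6, 3, 2, 3, 1, 2, 1, 3, 2, 3, 1, 2, 3, 4, 2, 3, 1, 2, 3, 2, 2, 3, 1, 0, 1, 2, 6, 4, 3, 5, 6, 2, 3, 5, 2] [.out 555],
  .sub [4, 1, 2, 6, 0, 4, 6, 3, 2, 6, 5, 3, 0, 5, 6, 3, 2, 3, 1, 2, 1, 3, 2, 3, 1, 2, 3, 4, 2, 3, 1, 2, 3, 2, 2, 3, 6, 2, 3, 5, 4, 3, 6, 4, 0, 6, 4, 3, 5, 6, 2, 3, 5, 2, 4, 1, 2, 6, 0, 4, 6, 3, 2, 6, 5, 3, 0, 5, 6, 3, 2, 3, 1, 2, 1, 3, 2, 3, 1, 2, 3, 4, 2, 3, 1, 2, 3, 2, 2, 3, 1, 0, 1, 2, 6, 4, 3, 5, 6, 2, 3, 5, 2] [.out 281],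
  .sub [2, 3, 6, 2, 3, 5, 4, 3, 6, 4, 0, 2, 3, 6, 2, 3, 5, 4, 3, 6, 4, 0, 6, 4, 3, 5, 6, 2, 3, 5, 2, 4, 1, 2, 6, 0, 4, 6, 3, 2, 6, 5, 3, 0, 5, 6, 3, 2, 3, 1, 2, 1, 3, 2, 3, 1, 2, 3, 4, 2, 3, 1, 2, 3, 2, 2, 3, 1, 0, 1, 2, 6, 4, 3, 5, 6, 2, 3, 5, 2] [.done 29],
  .sub [2, 3, 1, 0, 1, 2, 6, 4, 3, 5, 6, 2, 3, 5, 2, 4, 1, 2, 6, 0, 4, 6, 3, 2, 6, 5, 3, 0, 5, 6, 3, 2, 3, 1, 2, 1, 3, 2, 3, 1, 2, 3, 4, 2, 3, 1, 2, 3, 2, 4, 1, 2, 6, 0, 4, 6, 3, 2, 6, 5, 3, 0, 5, 6, 3, 2, 3, 1, 2, 1, 3, 2, 3, 1, 2, 3, 4, 2, 3, 1, 2, 3, 2, 2, 3, 1, 0, 1, 2, 6, 4, 3, 5, 6, 2, 3, 5, 2] [.out 299],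
  .sub [6, 4, 3, 5, 6, 2, 3, 5, 2, 6, 4, 3, 5, 6, 2, 3, 5, 2, 4, 1, 2, 6, 0, 4, 6, 3, 2, 6, 5, 3, 0, 5, 6, 3, 2, 3, 1, 2, 1, 3, 2, 3, 1, 2, 3, 4, 2, 3, 1, 2, 3, 2, 4, 1, 2, 6, 0, 4, 6, 3, 2, 6, 5, 3, 0, 5, 6, 3, 2, 3, 1, 2, 1, 3, 2, 3, 1, 2, 3, 4, 2, 3, 1, 2, 3, 2, 2, 3, 1, 0, 1, 2, 6, 4, 3, 5, 6, 2, 3, 5, 2] [.done 30],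
  .sub [4, 1, 2, 6, 0, 4, 6, 3, 2, 6, 5, 3, 0, 5, 6, 3, 2, 3, 1, 2, 1, 3, 2, 3, 1, 2, 3, 4, 2, 3, 1, 2, 3, 2, 6, 4, 3, 5, 6, 2, 3, 5, 2, 4, 1, 2, 6, 0, 4, 6, 3, 2, 6, 5, 3, 0, 5, 6, 3, 2, 3, 1, 2, 1, 3, 2, 3, 1, 2, 3, 4, 2, 3, 1, 2, 3, 2, 4, 1, 2, 6, 0, 4, 6, 3, 2, 6, 5, 3, 0, 5, 6, 3, 2, 3, 1, 2, 1, 3, 2, 3, 1, 2, 3, 4, 2, 3, 1, 2, 3, 2, 2, 3, 1, 0, 1, 2, 6, 4, 3, 5, 6, 2, 3, 5, 2] [.out 1668],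
  .sub [6, 4, 3, 5, 6, 2, 3, 5, 2, 4, 1, 2, 6, 0, 4, 6, 3, 2, 6, 5, 3, 0, 5, 6, 3, 2, 3, 1, 2, 1, 3, 2, 3, 1, 2, 3, 4, 2, 3, 1, 2, 3, 2, 4, 1, 2, 6, 0, 4, 6, 3, 2, 6, 5, 3, 0, 5, 6, 3, 2, 3, 1, 2, 1, 3, 2, 3, 1, 2, 3, 4, 2, 3, 1, 2, 3, 2, 4, 1, 2, 6, 0, 4, 6, 3, 2, 6, 5, 3, 0, 5, 6, 3, 2, 3, 1, 2, 1, 3, 2, 3, 1, 2, 3, 4, 2, 3, 1, 2, 3, 2, 2, 3, 1, 0, 1, 2, 6, 4, 3, 5, 6, 2, 3, 5, 2] [.done 31],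
  .sub [4, 1, 2, 6, 0, 4, 6, 3, 2, 6, 5, 3, 0, 5, 6, 3, 2, 3, 1, 2, 1, 3, 2, 3, 1, 2, 3, 4, 2, 3, 1, 2, 3, 2, 2, 3, 6, 2, 3, 5, 4, 3, 6, 4, 0, 4, 1, 2, 6, 0, 4, 6, 3, 2, 6, 5, 3, 0, 5, 6, 3, 2, 3, 1, 2, 1, 3, 2, 3, 1, 2, 3, 4, 2, 3, 1, 2, 3, 2, 4, 1, 2, 6, 0, 4, 6, 3, 2, 6, 5, 3, 0, 5, 6, 3, 2, 3, 1, 2, 1, 3, 2, 3, 1, 2, 3, 4, 2, 3, 1, 2, 3, 2, 2, 3, 1, 0, 1, 2, 6, 4, 3, 5, 6, 2, 3, 5, 2] [.out 1777]]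

/-- Branches. -/
def kidsZPart14 : List Branch := [
  .sub [6, 4, 3, 5, 6, 2, 3, 5, 2, 2, 3, 1, 0, 1, 2, 2, 3, 6, 2, 3, 5, 4, 3, 6, 4, 0, 4, 1, 2, 6, 0, 4, 6, 3, 2, 6, 5, 3, 0, 5, 6, 3, 2, 3, 1, 2, 1, 3, 2, 3, 1, 2, 3, 4, 2, 3, 1, 2, 3, 2, 2, 3, 1, 0, 1, 2, 6, 4, 3, 5, 6, 2, 3, 5, 2] [.out 1620],
  .sub [4, 1, 2, 6, 0, 4, 6, 3, 2, 6, 5, 3, 0, 5, 6, 3, 2, 3, 1, 2, 1, 3, 2, 3, 1, 2, 3, 4, 2, 3, 1, 2, 3, 2, 2, 3, 1, 0, 1, 2, 2, 3, 6, 2, 3, 5, 4, 3, 6, 4, 0, 4, 1, 2, 6, 0, 4, 6, 3, 2, 6, 5, 3, 0, 5, 6, 3, 2, 3, 1, 2, 1, 3, 2, 3, 1, 2, 3, 4, 2, 3, 1, 2, 3, 2, 2, 3, 1, 0, 1, 2, 6, 4, 3, 5, 6, 2, 3, 5, 2] [.out 632],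
  .sub [4, 1, 2, 6, 0, 4, 6, 3, 2, 6, 5, 3, 0, 5, 6, 3, 2, 3, 1, 2, 1, 3, 2, 3, 1, 2, 3, 4, 2, 3, 1, 2, 3, 2, 6, 4, 3, 5, 6, 2, 3, 5, 2, 2, 3, 6, 2, 3, 5, 4, 3, 6, 4, 0, 4, 1, 2, 6, 0, 4, 6, 3, 2, 6, 5, 3, 0, 5, 6, 3, 2, 3, 1, 2, 1, 3, 2, 3, 1, 2, 3, 4, 2, 3, 1, 2, 3, 2, 2, 3, 1, 0, 1, 2, 6, 4, 3, 5, 6, 2, 3, 5, 2] [.out 1580],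
  .sub [6, 4, 3, 5, 6, 2, 3, 5, 2, 4, 1, 2, 6, 0, 4, 6, 3, 2, 6, 5, 3, 0, 5, 6, 3, 2, 3, 1, 2, 1, 3, 2, 3, 1, 2, 3, 4, 2, 3, 1, 2, 3, 2, 2, 3, 6, 2, 3, 5, 4, 3, 6, 4, 0, 4, 1, 2, 6, 0, 4, 6, 3, 2, 6, 5, 3, 0, 5, 6, 3, 2, 3, 1, 2, 1, 3, 2, 3, 1, 2, 3, 4, 2, 3, 1, 2, 3, 2, 2, 3, 1, 0, 1, 2, 6, 4, 3, 5, 6, 2, 3, 5, 2] [.out 717],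
  .sub [4, 1, 2, 6, 0, 4, 6, 3, 2, 6, 5, 3, 0, 5, 6, 3, 2, 3, 1, 2, 1, 3, 2, 3, 1, 2, 3, 4, 2, 3, 1, 2, 3, 2, 2, 3, 6, 2, 3, 5, 4, 3, 6, 4, 0, 2, 3, 6, 2, 3, 5, 4, 3, 6, 4, 0, 4, 1, 2, 6, 0, 4, 6, 3, 2, 6, 5, 3, 0, 5, 6, 3, 2, 3, 1, 2, 1, 3, 2, 3, 1, 2, 3, 4, 2, 3, 1, 2, 3, 2, 2, 3, 1, 0, 1, 2, 6, 4, 3, 5, 6, 2, 3, 5, 2] [.out 1802],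
  .sub [2, 3, 1, 0, 1, 2, 6, 4, 3, 5, 6, 2, 3, 5, 2, 4, 1, 2, 6, 0, 4, 6, 3, 2, 6, 5, 3, 0, 5, 6, 3, 2, 3, 1, 2, 1, 3, 2, 3, 1, 2, 3, 4, 2, 3, 1, 2, 3, 2, 2, 3, 6, 2, 3, 5, 4, 3, 6, 4, 0, 2, 3, 1, 0, 1, 2, 6, 4, 3, 5, 6, 2, 3, 5, 2] [.done 32],
  .sub [6, 4, 3, 5, 6, 2, 3, 5, 2, 6, 4, 3, 5, 6, 2, 3, 5, 2, 4, 1, 2, 6, 0, 4, 6, 3, 2, 6, 5, 3, 0, 5, 6, 3, 2, 3, 1, 2, 1, 3, 2, 3, 1, 2, 3, 4, 2, 3, 1, 2, 3, 2, 2, 3, 6, 2, 3, 5, 4, 3, 6, 4, 0, 2, 3, 1, 0, 1, 2, 6, 4, 3, 5, 6, 2, 3, 5, 2] [.out 182],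
  .sub [4, 1, 2, 6, 0, 4, 6, 3, 2, 6, 5, 3, 0, 5, 6, 3, 2, 3, 1, 2, 1, 3, 2, 3, 1, 2, 3, 4, 2, 3, 1, 2, 3, 2, 6, 4, 3, 5, 6, 2, 3, 5, 2, 4, 1, 2, 6, 0, 4, 6, 3, 2, 6, 5, 3, 0, 5, 6, 3, 2, 3, 1, 2, 1, 3, 2, 3, 1, 2, 3, 4, 2, 3, 1, 2, 3, 2, 2, 3, 6, 2, 3, 5, 4, 3, 6, 4, 0, 2, 3, 1, 0, 1, 2, 6, 4, 3, 5, 6, 2, 3, 5, 2] [.done 33],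
  .sub [2, 3, 6, 2, 3, 5, 4, 3, 6, 4, 0, 6, 4, 3, 5, 6, 2, 3, 5, 2, 4, 1, 2, 6, 0, 4, 6, 3, 2, 6, 5, 3, 0, 5, 6, 3, 2, 3, 1, 2, 1, 3, 2, 3, 1, 2, 3, 4, 2, 3, 1, 2, 3, 2, 2, 3, 6, 2, 3, 5, 4, 3, 6, 4, 0, 2, 3, 1, 0, 1, 2, 6, 4, 3, 5, 6, 2, 3, 5, 2] [.out 922],
  .sub [2, 3, 1, 0, 1, 2, 2, 3, 6, 2, 3, 5, 4, 3, 6, 4, 0, 4, 1, 2, 6, 0, 4, 6, 3, 2, 6, 5, 3, 0, 5, 6, 3, 2, 3, 1, 2, 1, 3, 2, 3, 1, 2, 3, 4, 2, 3, 1, 2, 3, 2, 2, 3, 6, 2, 3, 5, 4, 3, 6, 4, 0, 2, 3, 1, 0, 1, 2, 6, 4, 3, 5, 6, 2, 3, 5, 2] [.out 632],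
  .sub [6, 4, 3, 5, 6, 2, 3, 5, 2, 2, 3, 6, 2, 3, 5, 4, 3, 6, 4, 0, 4, 1, 2, 6, 0, 4, 6, 3, 2, 6, 5, 3, 0, 5, 6, 3, 2, 3, 1, 2, 1, 3, 2, 3, 1, 2, 3, 4, 2, 3, 1, 2, 3, 2, 2, 3, 6, 2, 3, 5, 4, 3, 6, 4, 0, 2, 3, 1, 0, 1, 2, 6, 4, 3, 5, 6, 2, 3, 5, 2] [.out 717],
  .sub [4, 1, 2, 6, 0, 4, 6, 3, 2, 6, 5, 3, 0, 5, 6, 3, 2, 3, 1, 2, 1, 3, 2, 3, 1, 2, 3, 4, 2, 3, 1, 2, 3, 2, 2, 3, 6, 2, 3, 5, 4, 3, 6, 4, 0, 4, 1, 2, 6, 0, 4, 6, 3, 2, 6, 5, 3, 0, 5, 6, 3, 2, 3, 1, 2, 1, 3, 2, 3, 1, 2, 3, 4, 2, 3, 1, 2, 3, 2, 2, 3, 6, 2, 3, 5, 4, 3, 6, 4, 0, 2, 3, 1, 0, 1, 2, 6, 4, 3, 5, 6, 2, 3, 5, 2] [.done 34],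
  .sub [2, 3, 6, 2, 3, 5, 4, 3, 6, 4, 0, 2, 3, 6, 2, 3, 5, 4, 3, 6, 4, 0, 4, 1, 2, 6, 0, 4, 6, 3, 2, 6, 5, 3, 0, 5, 6, 3, 2, 3, 1, 2, 1, 3, 2, 3, 1, 2, 3, 4, 2, 3, 1, 2, 3, 2, 2, 3, 6, 2, 3, 5, 4, 3, 6, 4, 0, 2, 3, 1, 0, 1, 2, 6, 4, 3, 5, 6, 2, 3, 5, 2] [.out 1777],
  .sub [6, 4, 3, 5, 6, 2, 3, 5, 2, 2, 3, 1, 0, 1, 2, 6, 4, 3, 5, 6, 2, 3, 5, 2, 4, 1, 2, 6, 0, 4, 6, 3, 2, 6, 5, 3, 0, 5, 6, 3, 2, 3, 1, 2, 1, 3, 2, 3, 1, 2, 3, 4, 2, 3, 1, 2, 3, 2, 6, 4, 3, 5, 6, 2, 3, 5, 2, 6, 4, 3, 5, 6, 2, 3, 5, 2] [.out 116],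
  .sub [4, 1, 2, 6, 0, 4, 6, 3, 2, 6, 5, 3, 0, 5, 6, 3, 2, 3, 1, 2, 1, 3, 2, 3, 1, 2, 3, 4, 2, 3, 1, 2, 3, 2, 2, 3, 1, 0, 1, 2, 6, 4, 3, 5, 6, 2, 3, 5, 2, 4, 1, 2, 6, 0, 4, 6, 3, 2, 6, 5, 3, 0, 5, 6, 3, 2, 3, 1, 2, 1, 3, 2, 3, 1, 2, 3, 4, 2, 3, 1, 2, 3, 2, 6, 4, 3, 5, 6, 2, 3, 5, 2, 6, 4, 3, 5, 6, 2, 3, 5, 2] [.out 715],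
  .sub [2, 3, 6, 2, 3, 5, 4, 3, 6, 4, 0, 2, 3, 1, 0, 1, 2, 6, 4, 3, 5, 6, 2, 3, 5, 2, 4, 1, 2, 6, 0, 4, 6, 3, 2, 6, 5, 3, 0, 5, 6, 3, 2, 3, 1, 2, 1, 3, 2, 3, 1, 2, 3, 4, 2, 3, 1, 2, 3, 2, 6, 4, 3, 5, 6, 2, 3, 5, 2, 6, 4, 3, 5, 6, 2, 3, 5, 2] [.done 35],
  .sub [6, 4, 3, 5, 6, 2, 3, 5, 2, 4, 1, 2, 6, 0, 4, 6, 3, 2, 6, 5, 3, 0, 5, 6, 3, 2, 3, 1, 2, 1, 3, 2, 3, 1, 2, 3, 4, 2, 3, 1, 2, 3, 2, 6, 4, 3, 5, 6, 2, 3, 5, 2, 4, 1, 2, 6, 0, 4, 6, 3, 2, 6, 5, 3, 0, 5, 6, 3, 2, 3, 1, 2, 1, 3, 2, 3, 1, 2, 3, 4, 2, 3, 1, 2, 3, 2, 6, 4, 3, 5, 6, 2, 3, 5, 2, 6, 4, 3, 5, 6, 2, 3, 5, 2] [.out 1018],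
  .sub [4, 1, 2, 6, 0, 4, 6, 3, 2, 6, 5, 3, 0, 5, 6, 3, 2, 3, 1, 2, 1, 3, 2, 3, 1, 2, 3, 4, 2, 3, 1, 2, 3, 2, 4, 1, 2, 6, 0, 4, 6, 3, 2, 6, 5, 3, 0, 5, 6, 3, 2, 3, 1, 2, 1, 3, 2, 3, 1, 2, 3, 4, 2, 3, 1, 2, 3, 2, 6, 4, 3, 5, 6, 2, 3, 5, 2, 4, 1, 2, 6, 0, 4, 6, 3, 2, 6, 5, 3, 0, 5, 6, 3, 2, 3, 1, 2, 1, 3, 2, 3, 1, 2, 3, 4, 2, 3, 1, 2, 3, 2, 6, 4, 3, 5, 6, 2, 3, 5, 2, 6, 4, 3, 5, 6, 2, 3, 5, 2] [.out 1620],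
  .sub [2, 3, 6, 2, 3, 5, 4, 3, 6, 4, 0, 4, 1, 2, 6, 0, 4, 6, 3, 2, 6, 5, 3, 0, 5, 6, 3, 2, 3, 1, 2, 1, 3, 2, 3, 1, 2, 3, 4, 2, 3, 1, 2, 3, 2, 6, 4, 3, 5, 6, 2, 3, 5, 2, 4, 1, 2, 6, 0, 4, 6, 3, 2, 6, 5, 3, 0, 5, 6, 3, 2, 3, 1, 2, 1, 3, 2, 3, 1, 2, 3, 4, 2, 3, 1, 2, 3, 2, 6, 4, 3, 5, 6, 2, 3, 5, 2, 6, 4, 3, 5, 6, 2, 3, 5, 2] [.out 299],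
  .sub [4, 1, 2, 6, 0, 4, 6, 3, 2, 6, 5, 3, 0, 5, 6, 3, 2, 3, 1, 2, 1, 3, 2, 3, 1, 2, 3, 4, 2, 3, 1, 2, 3, 2, 2, 3, 6, 2, 3, 5, 4, 3, 6, 4, 0, 6, 4, 3, 5, 6, 2, 3, 5, 2, 4, 1, 2, 6, 0, 4, 6, 3, 2, 6, 5, 3, 0, 5, 6, 3, 2, 3, 1, 2, 1, 3, 2, 3, 1, 2, 3, 4, 2, 3, 1, 2, 3, 2, 6, 4, 3, 5, 6, 2, 3, 5, 2, 6, 4, 3, 5, 6, 2, 3, 5, 2] [.out 632],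
  .sub [2, 3, 6, 2, 3, 5, 4, 3, 6, 4, 0, 2, 3, 6, 2, 3, 5, 4, 3, 6, 4, 0, 6, 4, 3, 5, 6, 2, 3, 5, 2, 4, 1, 2, 6, 0, 4, 6, 3, 2, 6, 5, 3, 0, 5, 6, 3, 2, 3, 1, 2, 1, 3, 2, 3, 1, 2, 3, 4, 2, 3, 1, 2, 3, 2, 6, 4, 3, 5, 6, 2, 3, 5, 2, 6, 4, 3, 5, 6, 2, 3, 5, 2] [.out 1237],
  .sub [6, 4, 3, 5, 6, 2, 3, 5, 2, 2, 3, 1, 0, 1, 2, 2, 3, 6, 2, 3, 5, 4, 3, 6, 4, 0, 4, 1, 2, 6, 0, 4, 6, 3, 2, 6, 5, 3, 0, 5, 6, 3, 2, 3, 1, 2, 1, 3, 2, 3, 1, 2, 3, 4, 2, 3, 1, 2, 3, 2, 6, 4, 3, 5, 6, 2, 3, 5, 2, 6, 4, 3, 5, 6, 2, 3, 5, 2] [.out 555],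
  .sub [6, 4, 3, 5, 6, 2, 3, 5, 2, 6, 4, 3, 5, 6, 2, 3, 5, 2, 2, 3, 6, 2, 3, 5, 4, 3, 6, 4, 0, 4, 1, 2, 6, 0, 4, 6, 3, 2, 6, 5, 3, 0, 5, 6, 3, 2, 3, 1, 2, 1, 3, 2, 3, 1, 2, 3, 4, 2, 3, 1, 2, 3, 2, 6, 4, 3, 5, 6, 2, 3, 5, 2, 6, 4, 3, 5, 6, 2, 3, 5, 2] [.out 382],
  .sub [4, 1, 2, 6, 0, 4, 6, 3, 2, 6, 5, 3, 0, 5, 6, 3, 2, 3, 1, 2, 1, 3, 2, 3, 1, 2, 3, 4, 2, 3, 1, 2, 3, 2, 6, 4, 3, 5, 6, 2, 3, 5, 2, 2, 3, 6, 2, 3, 5, 4, 3, 6, 4, 0, 4, 1, 2, 6, 0, 4, 6, 3, 2, 6, 5, 3, 0, 5, 6, 3, 2, 3, 1, 2, 1, 3, 2, 3, 1, 2, 3, 4, 2, 3, 1, 2, 3, 2, 6, 4, 3, 5, 6, 2, 3, 5, 2, 6, 4, 3, 5, 6, 2, 3, 5, 2] [.out 352],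
  .sub [4, 1, 2, 6, 0, 4, 6, 3, 2, 6, 5, 3, 0, 5, 6, 3, 2, 3, 1, 2, 1, 3, 2, 3, 1, 2, 3, 4, 2, 3, 1, 2, 3, 2, 6, 4, 3, 5, 6, 2, 3, 5, 2, 2, 3, 1, 0, 1, 2, 6, 4, 3, 5, 6, 2, 3, 5, 2, 4, 1, 2, 6, 0, 4, 6, 3, 2, 6, 5, 3, 0, 5, 6, 3, 2, 3, 1, 2, 1, 3, 2, 3, 1, 2, 3, 4, 2, 3, 1, 2, 3, 2, 6, 4, 3, 5, 6, 2, 3, 5, 2] [.out 1018],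
  .sub [2, 3, 6, 2, 3, 5, 4, 3, 6, 4, 0, 6, 4, 3, 5, 6, 2, 3, 5, 2, 2, 3, 1, 0, 1, 2, 6, 4, 3, 5, 6, 2, 3, 5, 2, 4, 1, 2, 6, 0, 4, 6, 3, 2, 6, 5, 3, 0, 5, 6, 3, 2, 3, 1, 2, 1, 3, 2, 3, 1, 2, 3, 4, 2, 3, 1, 2, 3, 2, 6, 4, 3, 5, 6, 2, 3, 5, 2] [.out 819],
  .sub [6, 4, 3, 5, 6, 2, 3, 5, 2, 4, 1, 2, 6, 0, 4, 6, 3, 2, 6, 5, 3, 0, 5, 6, 3, 2, 3, 1, 2, 1, 3, 2, 3, 1, 2, 3, 4, 2, 3, 1, 2, 3, 2, 2, 3, 1, 0, 1, 2, 6, 4, 3, 5, 6, 2, 3, 5, 2, 4, 1, 2, 6, 0, 4, 6, 3, 2, 6, 5, 3, 0, 5, 6, 3, 2, 3, 1, 2, 1, 3, 2, 3, 1, 2, 3, 4, 2, 3, 1, 2, 3, 2, 6, 4, 3, 5, 6, 2, 3, 5, 2] [.out 1668],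
  .sub [2, 3, 6, 2, 3, 5, 4, 3, 6, 4, 0, 4, 1, 2, 6, 0, 4, 6, 3, 2, 6, 5, 3, 0, 5, 6, 3, 2, 3, 1, 2, 1, 3, 2, 3, 1, 2, 3, 4, 2, 3, 1, 2, 3, 2, 2, 3, 1, 0, 1, 2, 6, 4, 3, 5, 6, 2, 3, 5, 2, 4, 1, 2, 6, 0, 4, 6, 3, 2, 6, 5, 3, 0, 5, 6, 3, 2, 3, 1, 2, 1, 3, 2, 3, 1, 2, 3, 4, 2, 3, 1, 2, 3, 2, 6, 4, 3, 5, 6, 2, 3, 5, 2] [.out 1802],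
  .sub [2, 3, 1, 0, 1, 2, 2, 3, 6, 2, 3, 5, 4, 3, 6, 4, 0, 2, 3, 1, 0, 1, 2, 6, 4, 3, 5, 6, 2, 3, 5, 2, 4, 1, 2, 6, 0, 4, 6, 3, 2, 6, 5, 3, 0, 5, 6, 3, 2, 3, 1, 2, 1, 3, 2, 3, 1, 2, 3, 4, 2, 3, 1, 2, 3, 2, 6, 4, 3, 5, 6, 2, 3, 5, 2] [.out 1023],
  .sub [4, 1, 2, 6, 0, 4, 6, 3, 2, 6, 5, 3, 0, 5, 6, 3, 2, 3, 1, 2, 1, 3, 2, 3, 1, 2, 3, 4, 2, 3, 1, 2, 3, 2, 2, 3, 6, 2, 3, 5, 4, 3, 6, 4, 0, 2, 3, 1, 0, 1, 2, 6, 4, 3, 5, 6, 2, 3, 5, 2, 4, 1, 2, 6, 0, 4, 6, 3, 2, 6, 5, 3, 0, 5, 6, 3, 2, 3, 1, 2, 1, 3, 2, 3, 1, 2, 3, 4, 2, 3, 1, 2, 3, 2, 6, 4, 3, 5, 6, 2, 3, 5, 2] [.out 1777],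
  .sub [6, 4, 3, 5, 6, 2, 3, 5, 2, 4, 1, 2, 6, 0, 4, 6, 3, 2, 6, 5, 3, 0, 5, 6, 3, 2, 3, 1, 2, 1, 3, 2, 3, 1, 2, 3, 4, 2, 3, 1, 2, 3, 2, 6, 4, 3, 5, 6, 2, 3, 5, 2, 6, 4, 3, 5, 6, 2, 3, 5, 2, 4, 1, 2, 6, 0, 4, 6, 3, 2, 6, 5, 3, 0, 5, 6, 3, 2, 3, 1, 2, 1, 3, 2, 3, 1, 2, 3, 4, 2, 3, 1, 2, 3, 2, 6, 4, 3, 5, 6, 2, 3, 5, 2] [.out 1449],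
  .sub [4, 1, 2, 6, 0, 4, 6, 3, 2, 6, 5, 3, 0, 5, 6, 3, 2, 3, 1, 2, 1, 3, 2, 3, 1, 2, 3, 4, 2, 3, 1, 2, 3, 2, 4, 1, 2, 6, 0, 4, 6, 3, 2, 6, 5, 3, 0, 5, 6, 3, 2, 3, 1, 2, 1, 3, 2, 3, 1, 2, 3, 4, 2, 3, 1, 2, 3, 2, 6, 4, 3, 5, 6, 2, 3, 5, 2, 6, 4, 3, 5, 6, 2, 3, 5, 2, 4, 1, 2, 6, 0, 4, 6, 3, 2, 6, 5, 3, 0, 5, 6, 3, 2, 3, 1, 2, 1, 3, 2, 3, 1, 2, 3, 4, 2, 3, 1, 2, 3, 2, 6, 4, 3, 5, 6, 2, 3, 5, 2] [.out 1159],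
  .sub [2, 3, 1, 0, 1, 2, 6, 4, 3, 5, 6, 2, 3, 5, 2, 4, 1, 2, 6, 0, 4, 6, 3, 2, 6, 5, 3, 0, 5, 6, 3, 2, 3, 1, 2, 1, 3, 2, 3, 1, 2, 3, 4, 2, 3, 1, 2, 3, 2, 6, 4, 3, 5, 6, 2, 3, 5, 2, 4, 1, 2, 6, 0, 4, 6, 3, 2, 6, 5, 3, 0, 5, 6, 3, 2, 3, 1, 2, 1, 3, 2, 3, 1, 2, 3, 4, 2, 3, 1, 2, 3, 2, 6, 4, 3, 5, 6, 2, 3, 5, 2] [.out 1689],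
  .sub [6, 4, 3, 5, 6, 2, 3, 5, 2, 4, 1, 2, 6, 0, 4, 6, 3, 2, 6, 5, 3, 0, 5, 6, 3, 2, 3, 1, 2, 1, 3, 2, 3, 1, 2, 3, 4, 2, 3, 1, 2, 3, 2, 4, 1, 2, 6, 0, 4, 6, 3, 2, 6, 5, 3, 0, 5, 6, 3, 2, 3, 1, 2, 1, 3, 2, 3, 1, 2, 3, 4, 2, 3, 1, 2, 3, 2, 6, 4, 3, 5, 6, 2, 3, 5, 2, 4, 1, 2, 6, 0, 4, 6, 3, 2, 6, 5, 3, 0, 5, 6, 3, 2, 3, 1, 2, 1, 3, 2, 3, 1, 2, 3, 4, 2, 3, 1, 2, 3, 2, 6, 4, 3, 5, 6, 2, 3, 5, 2] [.out 1668],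
  .sub [2, 3, 6, 2, 3, 5, 4, 3, 6, 4, 0, 4, 1, 2, 6, 0, 4, 6, 3, 2, 6, 5, 3, 0, 5, 6, 3, 2, 3, 1, 2, 1, 3, 2, 3, 1, 2, 3, 4, 2, 3, 1, 2, 3, 2, 4, 1, 2, 6, 0, 4, 6, 3, 2, 6, 5, 3, 0, 5, 6, 3, 2, 3, 1, 2, 1, 3, 2, 3, 1, 2, 3, 4, 2, 3, 1, 2, 3, 2, 6, 4, 3, 5, 6, 2, 3, 5, 2, 4, 1, 2, 6, 0, 4, 6, 3, 2, 6, 5, 3, 0, 5, 6, 3, 2, 3, 1, 2, 1, 3, 2, 3, 1, 2, 3, 4, 2, 3, 1, 2, 3, 2, 6, 4, 3, 5, 6, 2, 3, 5, 2] [.out 555],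
  .sub [2, 3, 1, 0, 1, 2, 2, 3, 6, 2, 3, 5, 4, 3, 6, 4, 0, 4, 1, 2, 6, 0, 4, 6, 3, 2, 6, 5, 3, 0, 5, 6, 3, 2, 3, 1, 2, 1, 3, 2, 3, 1, 2, 3, 4, 2, 3, 1, 2, 3, 2, 6, 4, 3, 5, 6, 2, 3, 5, 2, 4, 1, 2, 6, 0, 4, 6, 3, 2, 6, 5, 3, 0, 5, 6, 3, 2, 3, 1, 2, 1, 3, 2, 3, 1, 2, 3, 4, 2, 3, 1, 2, 3, 2, 6, 4, 3, 5, 6, 2, 3, 5, 2] [.out 715],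
  .sub [2, 3, 6, 2, 3, 5, 4, 3, 6, 4, 0, 2, 3, 6, 2, 3, 5, 4, 3, 6, 4, 0, 4, 1, 2, 6, 0, 4, 6, 3, 2, 6, 5, 3, 0, 5, 6, 3, 2, 3, 1, 2, 1, 3, 2, 3, 1, 2, 3, 4, 2, 3, 1, 2, 3, 2, 6, 4, 3, 5, 6, 2, 3, 5, 2, 4, 1, 2, 6, 0, 4, 6, 3, 2, 6, 5, 3, 0, 5, 6, 3, 2, 3, 1, 2, 1, 3, 2, 3, 1, 2, 3, 4, 2, 3, 1, 2, 3, 2, 6, 4, 3, 5, 6, 2, 3, 5, 2] [.out 2038],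
  .sub [6, 4, 3, 5, 6, 2, 3, 5, 2, 4, 1, 2, 6, 0, 4, 6, 3, 2, 6, 5, 3, 0, 5, 6, 3, 2, 3, 1, 2, 1, 3, 2, 3, 1, 2, 3, 4, 2, 3, 1, 2, 3, 2, 2, 3, 6, 2, 3, 5, 4, 3, 6, 4, 0, 6, 4, 3, 5, 6, 2, 3, 5, 2, 4, 1, 2, 6, 0, 4, 6, 3, 2, 6, 5, 3, 0, 5, 6, 3, 2, 3, 1, 2, 1, 3, 2, 3, 1, 2, 3, 4, 2, 3, 1, 2, 3, 2, 6, 4, 3, 5, 6, 2, 3, 5, 2] [.out 793],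
  .sub [2, 3, 6, 2, 3, 5, 4, 3, 6, 4, 0, 4, 1, 2, 6, 0, 4, 6, 3, 2, 6, 5, 3, 0, 5, 6, 3, 2, 3, 1, 2, 1, 3, 2, 3, 1, 2, 3, 4, 2, 3, 1, 2, 3, 2, 2, 3, 6, 2, 3, 5, 4, 3, 6, 4, 0, 6, 4, 3, 5, 6, 2, 3, 5, 2, 4, 1, 2, 6, 0, 4, 6, 3, 2, 6, 5, 3, 0, 5, 6, 3, 2, 3, 1, 2, 1, 3, 2, 3, 1, 2, 3, 4, 2, 3, 1, 2, 3, 2, 6, 4, 3, 5, 6, 2, 3, 5, 2] [.out 922],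
  .sub [4, 1, 2, 6, 0, 4, 6, 3, 2, 6, 5, 3, 0, 5, 6, 3, 2, 3, 1, 2, 1, 3, 2, 3, 1, 2, 3, 4, 2, 3, 1, 2, 3, 2, 2, 3, 1, 0, 1, 2, 6, 4, 3, 5, 6, 2, 3, 5, 2, 4, 1, 2, 6, 0, 4, 6, 3, 2, 6, 5, 3, 0, 5, 6, 3, 2, 3, 1, 2, 1, 3, 2, 3, 1, 2, 3, 4, 2, 3, 1, 2, 3, 2, 4, 1, 2, 6, 0, 4, 6, 3, 2, 6, 5, 3, 0, 5, 6, 3, 2, 3, 1, 2, 1, 3, 2, 3, 1, 2, 3, 4, 2, 3, 1, 2, 3, 2, 6, 4, 3, 5, 6, 2, 3, 5, 2] [.out 841],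
  .sub [6, 4, 3, 5, 6, 2, 3, 5, 2, 4, 1, 2, 6, 0, 4, 6, 3, 2, 6, 5, 3, 0, 5, 6, 3, 2, 3, 1, 2, 1, 3, 2, 3, 1, 2, 3, 4, 2, 3, 1, 2, 3, 2, 6, 4, 3, 5, 6, 2, 3, 5, 2, 4, 1, 2, 6, 0, 4, 6, 3, 2, 6, 5, 3, 0, 5, 6, 3, 2, 3, 1, 2, 1, 3, 2, 3, 1, 2, 3, 4, 2, 3, 1, 2, 3, 2, 4, 1, 2, 6, 0, 4, 6, 3, 2, 6, 5, 3, 0, 5, 6, 3, 2, 3, 1, 2, 1, 3, 2, 3, 1, 2, 3, 4, 2, 3, 1, 2, 3, 2, 6, 4, 3, 5, 6, 2, 3, 5, 2] [.out 1620],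
  .sub [2, 3, 6, 2, 3, 5, 4, 3, 6, 4, 0, 4, 1, 2, 6, 0, 4, 6, 3, 2, 6, 5, 3, 0, 5, 6, 3, 2, 3, 1, 2, 1, 3, 2, 3, 1, 2, 3, 4, 2, 3, 1, 2, 3, 2, 6, 4, 3, 5, 6, 2, 3, 5, 2, 4, 1, 2, 6, 0, 4, 6, 3, 2, 6, 5, 3, 0, 5, 6, 3, 2, 3, 1, 2, 1, 3, 2, 3, 1, 2, 3, 4, 2, 3, 1, 2, 3, 2, 4, 1, 2, 6, 0, 4, 6, 3, 2, 6, 5, 3, 0, 5, 6, 3, 2, 3, 1, 2, 1, 3, 2, 3, 1, 2, 3, 4, 2, 3, 1, 2, 3, 2, 6, 4, 3, 5, 6, 2, 3, 5, 2] [.out 2051],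
  .sub [4, 1, 2, 6, 0, 4, 6, 3, 2, 6, 5, 3, 0, 5, 6, 3, 2, 3, 1, 2, 1, 3, 2, 3, 1, 2, 3, 4, 2, 3, 1, 2, 3, 2, 2, 3, 6, 2, 3, 5, 4, 3, 6, 4, 0, 6, 4, 3, 5, 6, 2, 3, 5, 2, 4, 1, 2, 6, 0, 4, 6, 3, 2, 6, 5, 3, 0, 5, 6, 3, 2, 3, 1, 2, 1, 3, 2, 3, 1, 2, 3, 4, 2, 3, 1, 2, 3, 2, 4, 1, 2, 6, 0, 4, 6, 3, 2, 6, 5, 3, 0, 5, 6, 3, 2, 3, 1, 2, 1, 3, 2, 3, 1, 2, 3, 4, 2, 3, 1, 2, 3, 2, 6, 4, 3, 5, 6, 2, 3, 5, 2] [.out 632],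
  .sub [6, 4, 3, 5, 6, 2, 3, 5, 2, 4, 1, 2, 6, 0, 4, 6, 3, 2, 6, 5, 3, 0, 5, 6, 3, 2, 3, 1, 2, 1, 3, 2, 3, 1, 2, 3, 4, 2, 3, 1, 2, 3, 2, 2, 3, 1, 0, 1, 2, 2, 3, 6, 2, 3, 5, 4, 3, 6, 4, 0, 4, 1, 2, 6, 0, 4, 6, 3, 2, 6, 5, 3, 0, 5, 6, 3, 2, 3, 1, 2, 1, 3, 2, 3, 1, 2, 3, 4, 2, 3, 1, 2, 3, 2, 6, 4, 3, 5, 6, 2, 3, 5, 2] [.out 1378],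
  .sub [2, 3, 1, 0, 1, 2, 6, 4, 3, 5, 6, 2, 3, 5, 2, 6, 4, 3, 5, 6, 2, 3, 5, 2, 2, 3, 6, 2, 3, 5, 4, 3, 6, 4, 0, 4, 1, 2, 6, 0, 4, 6, 3, 2, 6, 5, 3, 0, 5, 6, 3, 2, 3, 1, 2, 1, 3, 2, 3, 1, 2, 3, 4, 2, 3, 1, 2, 3, 2, 6, 4, 3, 5, 6, 2, 3, 5, 2] [.out 1436],
  .sub [4, 1, 2, 6, 0, 4, 6, 3, 2, 6, 5, 3, 0, 5, 6, 3, 2, 3, 1, 2, 1, 3, 2, 3, 1, 2, 3, 4, 2, 3, 1, 2, 3, 2, 6, 4, 3, 5, 6, 2, 3, 5, 2, 6, 4, 3, 5, 6, 2, 3, 5, 2, 2, 3, 6, 2, 3, 5, 4, 3, 6, 4, 0, 4, 1, 2, 6, 0, 4, 6, 3, 2, 6, 5, 3, 0, 5, 6, 3, 2, 3, 1, 2, 1, 3, 2, 3, 1, 2, 3, 4, 2, 3, 1, 2, 3, 2, 6, 4, 3, 5, 6, 2, 3, 5, 2] [.out 448],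
  .sub [6, 4, 3, 5, 6, 2, 3, 5, 2, 4, 1, 2, 6, 0, 4, 6, 3, 2, 6, 5, 3, 0, 5, 6, 3, 2, 3, 1, 2, 1, 3, 2, 3, 1, 2, 3, 4, 2, 3, 1, 2, 3, 2, 6, 4, 3, 5, 6, 2, 3, 5, 2, 2, 3, 6, 2, 3, 5, 4, 3, 6, 4, 0, 4, 1, 2, 6, 0, 4, 6, 3, 2, 6, 5, 3, 0, 5, 6, 3, 2, 3, 1, 2, 1, 3, 2, 3, 1, 2, 3, 4, 2, 3, 1, 2, 3, 2, 6, 4, 3, 5, 6, 2, 3, 5, 2] [.out 537],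
  .sub [4, 1, 2, 6, 0, 4, 6, 3, 2, 6, 5, 3, 0, 5, 6, 3, 2, 3, 1, 2, 1, 3, 2, 3, 1, 2, 3, 4, 2, 3, 1, 2, 3, 2, 4, 1, 2, 6, 0, 4, 6, 3, 2, 6, 5, 3, 0, 5, 6, 3, 2, 3, 1, 2, 1, 3, 2, 3, 1, 2, 3, 4, 2, 3, 1, 2, 3, 2, 6, 4, 3, 5, 6, 2, 3, 5, 2, 2, 3, 6, 2, 3, 5, 4, 3, 6, 4, 0, 4, 1, 2, 6, 0, 4, 6, 3, 2, 6, 5, 3, 0, 5, 6, 3, 2, 3, 1, 2, 1, 3, 2, 3, 1, 2, 3, 4, 2, 3, 1, 2, 3, 2, 6, 4, 3, 5, 6, 2, 3, 5, 2] [.out 1237],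
  .sub [2, 3, 6, 2, 3, 5, 4, 3, 6, 4, 0, 4, 1, 2, 6, 0, 4, 6, 3, 2, 6, 5, 3, 0, 5, 6, 3, 2, 3, 1, 2, 1, 3, 2, 3, 1, 2, 3, 4, 2, 3, 1, 2, 3, 2, 6, 4, 3, 5, 6, 2, 3, 5, 2, 2, 3, 6, 2, 3, 5, 4, 3, 6, 4, 0, 4, 1, 2, 6, 0, 4, 6, 3, 2, 6, 5, 3, 0, 5, 6, 3, 2, 3, 1, 2, 1, 3, 2, 3, 1, 2, 3, 4, 2, 3, 1, 2, 3, 2, 6, 4, 3, 5, 6, 2, 3, 5, 2] [.done 36],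
  .sub [4, 1, 2, 6, 0, 4, 6, 3, 2, 6, 5, 3, 0, 5, 6, 3, 2, 3, 1, 2, 1, 3, 2, 3, 1, 2, 3, 4, 2, 3, 1, 2, 3, 2, 6, 4, 3, 5, 6, 2, 3, 5, 2, 4, 1, 2, 6, 0, 4, 6, 3, 2, 6, 5, 3, 0, 5, 6, 3, 2, 3, 1, 2, 1, 3, 2, 3, 1, 2, 3, 4, 2, 3, 1, 2, 3, 2, 2, 3, 6, 2, 3, 5, 4, 3, 6, 4, 0, 4, 1, 2, 6, 0, 4, 6, 3, 2, 6, 5, 3, 0, 5, 6, 3, 2, 3, 1, 2, 1, 3, 2, 3, 1, 2, 3, 4, 2, 3, 1, 2, 3, 2, 6, 4, 3, 5, 6, 2, 3, 5, 2] [.out 1436],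
  .sub [2, 3, 1, 0, 1, 2, 2, 3, 6, 2, 3, 5, 4, 3, 6, 4, 0, 4, 1, 2, 6, 0, 4, 6, 3, 2, 6, 5, 3, 0, 5, 6, 3, 2, 3, 1, 2, 1, 3, 2, 3, 1, 2, 3, 4, 2, 3, 1, 2, 3, 2, 2, 3, 6, 2, 3, 5, 4, 3, 6, 4, 0, 4, 1, 2, 6, 0, 4, 6, 3, 2, 6, 5, 3, 0, 5, 6, 3, 2, 3, 1, 2, 1, 3, 2, 3, 1, 2, 3, 4, 2, 3, 1, 2, 3, 2, 6, 4, 3, 5, 6, 2, 3, 5, 2] [.out 2051],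
  .sub [4, 1, 2, 6, 0, 4, 6, 3, 2, 6, 5, 3, 0, 5, 6, 3, 2, 3, 1, 2, 1, 3, 2, 3, 1, 2, 3, 4, 2, 3, 1, 2, 3, 2, 2, 3, 6, 2, 3, 5, 4, 3, 6, 4, 0, 4, 1, 2, 6, 0, 4, 6, 3, 2, 6, 5, 3, 0, 5, 6, 3, 2, 3, 1, 2, 1, 3, 2, 3, 1, 2, 3, 4, 2, 3, 1, 2, 3, 2, 2, 3, 6, 2, 3, 5, 4, 3, 6, 4, 0, 4, 1, 2, 6, 0, 4, 6, 3, 2, 6, 5, 3, 0, 5, 6, 3, 2, 3, 1, 2, 1, 3, 2, 3, 1, 2, 3, 4, 2, 3, 1, 2, 3, 2, 6, 4, 3, 5, 6, 2, 3, 5, 2] [.out 1464],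
  .sub [6, 4, 3, 5, 6, 2, 3, 5, 2, 2, 3, 1, 0, 1, 2, 6, 4, 3, 5, 6, 2, 3, 5, 2, 4, 1, 2, 6, 0, 4, 6, 3, 2, 6, 5, 3, 0, 5, 6, 3, 2, 3, 1, 2, 1, 3, 2, 3, 1, 2, 3, 4, 2, 3, 1, 2, 3, 2, 6, 4, 3, 5, 6, 2, 3, 5, 2, 4, 1, 2, 6, 0, 4, 6, 3, 2, 6, 5, 3, 0, 5, 6, 3, 2, 3, 1, 2, 1, 3, 2, 3, 1, 2, 3, 4, 2, 3, 1, 2, 3, 2] [.out 1159],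
  .sub [2, 3, 6, 2, 3, 5, 4, 3, 6, 4, 0, 2, 3, 1, 0, 1, 2, 6, 4, 3, 5, 6, 2, 3, 5, 2, 4, 1, 2, 6, 0, 4, 6, 3, 2, 6, 5, 3, 0, 5, 6, 3, 2, 3, 1, 2, 1, 3, 2, 3, 1, 2, 3, 4, 2, 3, 1, 2, 3, 2, 6, 4, 3, 5, 6, 2, 3, 5, 2, 4, 1, 2, 6, 0, 4, 6, 3, 2, 6, 5, 3, 0, 5, 6, 3, 2, 3, 1, 2, 1, 3, 2, 3, 1, 2, 3, 4, 2, 3, 1, 2, 3, 2] [.out 1304],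
  .sub [2, 3, 1, 0, 1, 2, 6, 4, 3, 5, 6, 2, 3, 5, 2, 6, 4, 3, 5, 6, 2, 3, 5, 2, 4, 1, 2, 6, 0, 4, 6, 3, 2, 6, 5, 3, 0, 5, 6, 3, 2, 3, 1, 2, 1, 3, 2, 3, 1, 2, 3, 4, 2, 3, 1, 2, 3, 2, 6, 4, 3, 5, 6, 2, 3, 5, 2, 4, 1, 2, 6, 0, 4, 6, 3, 2, 6, 5, 3, 0, 5, 6, 3, 2, 3, 1, 2, 1, 3, 2, 3, 1, 2, 3, 4, 2, 3, 1, 2, 3, 2] [.out 841],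
  .sub [4, 1, 2, 6, 0, 4, 6, 3, 2, 6, 5, 3, 0, 5, 6, 3, 2, 3, 1, 2, 1, 3, 2, 3, 1, 2, 3, 4, 2, 3, 1, 2, 3, 2, 6, 4, 3, 5, 6, 2, 3, 5, 2, 6, 4, 3, 5, 6, 2, 3, 5, 2, 4, 1, 2, 6, 0, 4, 6, 3, 2, 6, 5, 3, 0, 5, 6, 3, 2, 3, 1, 2, 1, 3, 2, 3, 1, 2, 3, 4, 2, 3, 1, 2, 3, 2, 6, 4, 3, 5, 6, 2, 3, 5, 2, 4, 1, 2, 6, 0, 4, 6, 3, 2, 6, 5, 3, 0, 5, 6, 3, 2, 3, 1, 2, 1, 3, 2, 3, 1, 2, 3, 4, 2, 3, 1, 2, 3, 2] [.out 1022],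
  .sub [2, 3, 6, 2, 3, 5, 4, 3, 6, 4, 0, 6, 4, 3, 5, 6, 2, 3, 5, 2, 6, 4, 3, 5, 6, 2, 3, 5, 2, 4, 1, 2, 6, 0, 4, 6, 3, 2, 6, 5, 3, 0, 5, 6, 3, 2, 3, 1, 2, 1, 3, 2, 3, 1, 2, 3, 4, 2, 3, 1, 2, 3, 2, 6, 4, 3, 5, 6, 2, 3, 5, 2, 4, 1, 2, 6, 0, 4, 6, 3, 2, 6, 5, 3, 0, 5, 6, 3, 2, 3, 1, 2, 1, 3, 2, 3, 1, 2, 3, 4, 2, 3, 1, 2, 3, 2] [.out 1018],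
  .sub [4, 1, 2, 6, 0, 4, 6, 3, 2, 6, 5, 3, 0, 5, 6, 3, 2, 3, 1, 2, 1, 3, 2, 3, 1, 2, 3, 4, 2, 3, 1, 2, 3, 2, 4, 1, 2, 6, 0, 4, 6, 3, 2, 6, 5, 3, 0, 5, 6, 3, 2, 3, 1, 2, 1, 3, 2, 3, 1, 2, 3, 4, 2, 3, 1, 2, 3, 2, 6, 4, 3, 5, 6, 2, 3, 5, 2, 4, 1, 2, 6, 0, 4, 6, 3, 2, 6, 5, 3, 0, 5, 6, 3, 2, 3, 1, 2, 1, 3, 2, 3, 1, 2, 3, 4, 2, 3, 1, 2, 3, 2, 6, 4, 3, 5, 6, 2, 3, 5, 2, 4, 1, 2, 6, 0, 4, 6, 3, 2, 6, 5, 3, 0, 5, 6, 3, 2, 3, 1, 2, 1, 3, 2, 3, 1, 2, 3, 4, 2, 3, 1, 2, 3, 2] [.out 433],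
  .sub [2, 3, 1, 0, 1, 2, 2, 3, 6, 2, 3, 5, 4, 3, 6, 4, 0, 6, 4, 3, 5, 6, 2, 3, 5, 2, 4, 1, 2, 6, 0, 4, 6, 3, 2, 6, 5, 3, 0, 5, 6, 3, 2, 3, 1, 2, 1, 3, 2, 3, 1, 2, 3, 4, 2, 3, 1, 2, 3, 2, 6, 4, 3, 5, 6, 2, 3, 5, 2, 4, 1, 2, 6, 0, 4, 6, 3, 2, 6, 5, 3, 0, 5, 6, 3, 2, 3, 1, 2, 1, 3, 2, 3, 1, 2, 3, 4, 2, 3, 1, 2, 3, 2] [.out 724],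
  .sub [2, 3, 6, 2, 3, 5, 4, 3, 6, 4, 0, 2, 3, 6, 2, 3, 5, 4, 3, 6, 4, 0, 6, 4, 3, 5, 6, 2, 3, 5, 2, 4, 1, 2, 6, 0, 4, 6, 3, 2, 6, 5, 3, 0, 5, 6, 3, 2, 3, 1, 2, 1, 3, 2, 3, 1, 2, 3, 4, 2, 3, 1, 2, 3, 2, 6, 4, 3, 5, 6, 2, 3, 5, 2, 4, 1, 2, 6, 0, 4, 6, 3, 2, 6, 5, 3, 0, 5, 6, 3, 2, 3, 1, 2, 1, 3, 2, 3, 1, 2, 3, 4, 2, 3, 1, 2, 3, 2] [.done 37],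
  .sub [6, 4, 3, 5, 6, 2, 3, 5, 2, 4, 1, 2, 6, 0, 4, 6, 3, 2, 6, 5, 3, 0, 5, 6, 3, 2, 3, 1, 2, 1, 3, 2, 3, 1, 2, 3, 4, 2, 3, 1, 2, 3, 2, 4, 1, 2, 6, 0, 4, 6, 3, 2, 6, 5, 3, 0, 5, 6, 3, 2, 3, 1, 2, 1, 3, 2, 3, 1, 2, 3, 4, 2, 3, 1, 2, 3, 2, 4, 1, 2, 6, 0, 4, 6, 3, 2, 6, 5, 3, 0, 5, 6, 3, 2, 3, 1, 2, 1, 3, 2, 3, 1, 2, 3, 4, 2, 3, 1, 2, 3, 2, 6, 4, 3, 5, 6, 2, 3, 5, 2, 4, 1, 2, 6, 0, 4, 6, 3, 2, 6, 5, 3, 0, 5, 6, 3, 2, 3, 1, 2, 1, 3, 2, 3, 1, 2, 3, 4, 2, 3, 1, 2, 3, 2] [.done 38],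
  .sub [6, 4, 3, 5, 6, 2, 3, 5, 2, 2, 3, 1, 0, 1, 2, 2, 3, 6, 2, 3, 5, 4, 3, 6, 4, 0, 4, 1, 2, 6, 0, 4, 6, 3, 2, 6, 5, 3, 0, 5, 6, 3, 2, 3, 1, 2, 1, 3, 2, 3, 1, 2, 3, 4, 2, 3, 1, 2, 3, 2, 6, 4, 3, 5, 6, 2, 3, 5, 2, 4, 1, 2, 6, 0, 4, 6, 3, 2, 6, 5, 3, 0, 5, 6, 3, 2, 3, 1, 2, 1, 3, 2, 3, 1, 2, 3, 4, 2, 3, 1, 2, 3, 2] [.out 1018],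
  .sub [6, 4, 3, 5, 6, 2, 3, 5, 2, 6, 4, 3, 5, 6, 2, 3, 5, 2, 2, 3, 6, 2, 3, 5, 4, 3, 6, 4, 0, 4, 1, 2, 6, 0, 4, 6, 3, 2, 6, 5, 3, 0, 5, 6, 3, 2, 3, 1, 2, 1, 3, 2, 3, 1, 2, 3, 4, 2, 3, 1, 2, 3, 2, 6, 4, 3, 5, 6, 2, 3, 5, 2, 4, 1, 2, 6, 0, 4, 6, 3, 2, 6, 5, 3, 0, 5, 6, 3, 2, 3, 1, 2, 1, 3, 2, 3, 1, 2, 3, 4, 2, 3, 1, 2, 3, 2] [.out 724],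
  .sub [2, 3, 1, 0, 1, 2, 6, 4, 3, 5, 6, 2, 3, 5, 2, 2, 3, 1, 0, 1, 2, 6, 4, 3, 5, 6, 2, 3, 5, 2, 4, 1, 2, 6, 0, 4, 6, 3, 2, 6, 5, 3, 0, 5, 6, 3, 2, 3, 1, 2, 1, 3, 2, 3, 1, 2, 3, 4, 2, 3, 1, 2, 3, 2, 4, 1, 2, 6, 0, 4, 6, 3, 2, 6, 5, 3, 0, 5, 6, 3, 2, 3, 1, 2, 1, 3, 2, 3, 1, 2, 3, 4, 2, 3, 1, 2, 3, 2] [.out 793],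
  .sub [4, 1, 2, 6, 0, 4, 6, 3, 2, 6, 5, 3, 0, 5, 6, 3, 2, 3, 1, 2, 1, 3, 2, 3, 1, 2, 3, 4, 2, 3, 1, 2, 3, 2, 6, 4, 3, 5, 6, 2, 3, 5, 2, 2, 3, 1, 0, 1, 2, 6, 4, 3, 5, 6, 2, 3, 5, 2, 4, 1, 2, 6, 0, 4, 6, 3, 2, 6, 5, 3, 0, 5, 6, 3, 2, 3, 1, 2, 1, 3, 2, 3, 1, 2, 3, 4, 2, 3, 1, 2, 3, 2, 4, 1, 2, 6, 0, 4, 6, 3, 2, 6, 5, 3, 0, 5, 6, 3, 2, 3, 1, 2, 1, 3, 2, 3, 1, 2, 3, 4, 2, 3, 1, 2, 3, 2] [.out 1689],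
  .sub [6, 4, 3, 5, 6, 2, 3, 5, 2, 4, 1, 2, 6, 0, 4, 6, 3, 2, 6, 5, 3, 0, 5, 6, 3, 2, 3, 1, 2, 1, 3, 2, 3, 1, 2, 3, 4, 2, 3, 1, 2, 3, 2, 2, 3, 1, 0, 1, 2, 6, 4, 3, 5, 6, 2, 3, 5, 2, 4, 1, 2, 6, 0, 4, 6, 3, 2, 6, 5, 3, 0, 5, 6, 3, 2, 3, 1, 2, 1, 3, 2, 3, 1, 2, 3, 4, 2, 3, 1, 2, 3, 2, 4, 1, 2, 6, 0, 4, 6, 3, 2, 6, 5, 3, 0, 5, 6, 3, 2, 3, 1, 2, 1, 3, 2, 3, 1, 2, 3, 4, 2, 3, 1, 2, 3, 2] [.out 382],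
  .sub [4, 1, 2, 6, 0, 4, 6, 3, 2, 6, 5, 3, 0, 5, 6, 3, 2, 3, 1, 2, 1, 3, 2, 3, 1, 2, 3, 4, 2, 3, 1, 2, 3, 2, 4, 1, 2, 6, 0, 4, 6, 3, 2, 6, 5, 3, 0, 5, 6, 3, 2, 3, 1, 2, 1, 3, 2, 3, 1, 2, 3, 4, 2, 3, 1, 2, 3, 2, 2, 3, 1, 0, 1, 2, 6, 4, 3, 5, 6, 2, 3, 5, 2, 4, 1, 2, 6, 0, 4, 6, 3, 2, 6, 5, 3, 0, 5, 6, 3, 2, 3, 1, 2, 1, 3, 2, 3, 1, 2, 3, 4, 2, 3, 1, 2, 3, 2, 4, 1, 2, 6, 0, 4, 6, 3, 2, 6, 5, 3, 0, 5, 6, 3, 2, 3, 1, 2, 1, 3, 2, 3, 1, 2, 3, 4, 2, 3, 1, 2, 3, 2] [.out 1304],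
  .sub [2, 3, 6, 2, 3, 5, 4, 3, 6, 4, 0, 4, 1, 2, 6, 0, 4, 6, 3, 2, 6, 5, 3, 0, 5, 6, 3, 2, 3, 1, 2, 1, 3, 2, 3, 1, 2, 3, 4, 2, 3, 1, 2, 3, 2, 2, 3, 1, 0, 1, 2, 6, 4, 3, 5, 6, 2, 3, 5, 2, 4, 1, 2, 6, 0, 4, 6, 3, 2, 6, 5, 3, 0, 5, 6, 3, 2, 3, 1, 2, 1, 3, 2, 3, 1, 2, 3, 4, 2, 3, 1, 2, 3, 2, 4, 1, 2, 6, 0, 4, 6, 3, 2, 6, 5, 3, 0, 5, 6, 3, 2, 3, 1, 2, 1, 3, 2, 3, 1, 2, 3, 4, 2, 3, 1, 2, 3, 2] [.done 39],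
  .sub [4, 1, 2, 6, 0, 4, 6, 3, 2, 6, 5, 3, 0, 5, 6, 3, 2, 3, 1, 2, 1, 3, 2, 3, 1, 2, 3, 4, 2, 3, 1, 2, 3, 2, 2, 3, 1, 0, 1, 2, 6, 4, 3, 5, 6, 2, 3, 5, 2, 6, 4, 3, 5, 6, 2, 3, 5, 2, 4, 1, 2, 6, 0, 4, 6, 3, 2, 6, 5, 3, 0, 5, 6, 3, 2, 3, 1, 2, 1, 3, 2, 3, 1, 2, 3, 4, 2, 3, 1, 2, 3, 2, 4, 1, 2, 6, 0, 4, 6, 3, 2, 6, 5, 3, 0, 5, 6, 3, 2, 3, 1, 2, 1, 3, 2, 3, 1, 2, 3, 4, 2, 3, 1, 2, 3, 2] [.out 1159],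
  .sub [6, 4, 3, 5, 6, 2, 3, 5, 2, 4, 1, 2, 6, 0, 4, 6, 3, 2, 6, 5, 3, 0, 5, 6, 3, 2, 3, 1, 2, 1, 3, 2, 3, 1, 2, 3, 4, 2, 3, 1, 2, 3, 2, 6, 4, 3, 5, 6, 2, 3, 5, 2, 6, 4, 3, 5, 6, 2, 3, 5, 2, 4, 1, 2, 6, 0, 4, 6, 3, 2, 6, 5, 3, 0, 5, 6, 3, 2, 3, 1, 2, 1, 3, 2, 3, 1, 2, 3, 4, 2, 3, 1, 2, 3, 2, 4, 1, 2, 6, 0, 4, 6, 3, 2, 6, 5, 3, 0, 5, 6, 3, 2, 3, 1, 2, 1, 3, 2, 3, 1, 2, 3, 4, 2, 3, 1, 2, 3, 2] [.out 819],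
  .sub [4, 1, 2, 6, 0, 4, 6, 3, 2, 6, 5, 3, 0, 5, 6, 3, 2, 3, 1, 2, 1, 3, 2, 3, 1, 2, 3, 4, 2, 3, 1, 2, 3, 2, 4, 1, 2, 6, 0, 4, 6, 3, 2, 6, 5, 3, 0, 5, 6, 3, 2, 3, 1, 2, 1, 3, 2, 3, 1, 2, 3, 4, 2, 3, 1, 2, 3, 2, 6, 4, 3, 5, 6, 2, 3, 5, 2, 6, 4, 3, 5, 6, 2, 3, 5, 2, 4, 1, 2, 6, 0, 4, 6, 3, 2, 6, 5, 3, 0, 5, 6, 3, 2, 3, 1, 2, 1, 3, 2, 3, 1, 2, 3, 4, 2, 3, 1, 2, 3, 2, 4, 1, 2, 6, 0, 4, 6, 3, 2, 6, 5, 3, 0, 5, 6, 3, 2, 3, 1, 2, 1, 3, 2, 3, 1, 2, 3, 4, 2, 3, 1, 2, 3, 2] [.out 182],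
  .sub [2, 3, 6, 2, 3, 5, 4, 3, 6, 4, 0, 6, 4, 3, 5, 6, 2, 3, 5, 2, 4, 1, 2, 6, 0, 4, 6, 3, 2, 6, 5, 3, 0, 5, 6, 3, 2, 3, 1, 2, 1, 3, 2, 3, 1, 2, 3, 4, 2, 3, 1, 2, 3, 2, 6, 4, 3, 5, 6, 2, 3, 5, 2, 4, 1, 2, 6, 0, 4, 6, 3, 2, 6, 5, 3, 0, 5, 6, 3, 2, 3, 1, 2, 1, 3, 2, 3, 1, 2, 3, 4, 2, 3, 1, 2, 3, 2, 4, 1, 2, 6, 0, 4, 6, 3, 2, 6, 5, 3, 0, 5, 6, 3, 2, 3, 1, 2, 1, 3, 2, 3, 1, 2, 3, 4, 2, 3, 1, 2, 3, 2] [.out 555],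
  .sub [4, 1, 2, 6, 0, 4, 6, 3, 2, 6, 5, 3, 0, 5, 6, 3, 2, 3, 1, 2, 1, 3, 2, 3, 1, 2, 3, 4, 2, 3, 1, 2, 3, 2, 4, 1, 2, 6, 0, 4, 6, 3, 2, 6, 5, 3, 0, 5, 6, 3, 2, 3, 1, 2, 1, 3, 2, 3, 1, 2, 3, 4, 2, 3, 1, 2, 3, 2, 4, 1, 2, 6, 0, 4, 6, 3, 2, 6, 5, 3, 0, 5, 6, 3, 2, 3, 1, 2, 1, 3, 2, 3, 1, 2, 3, 4, 2, 3, 1, 2, 3, 2, 6, 4, 3, 5, 6, 2, 3, 5, 2, 4, 1, 2, 6, 0, 4, 6, 3, 2, 6, 5, 3, 0, 5, 6, 3, 2, 3, 1, 2, 1, 3, 2, 3, 1, 2, 3, 4, 2, 3, 1, 2, 3, 2, 4, 1, 2, 6, 0, 4, 6, 3, 2, 6, 5, 3, 0, 5, 6, 3, 2, 3, 1, 2, 1, 3, 2, 3, 1, 2, 3, 4, 2, 3, 1, 2, 3, 2] [.out 1777],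
  .sub [2, 3, 1, 0, 1, 2, 2, 3, 6, 2, 3, 5, 4, 3, 6, 4, 0, 4, 1, 2, 6, 0, 4, 6, 3, 2, 6, 5, 3, 0, 5, 6, 3, 2, 3, 1, 2, 1, 3, 2, 3, 1, 2, 3, 4, 2, 3, 1, 2, 3, 2, 6, 4, 3, 5, 6, 2, 3, 5, 2, 4, 1, 2, 6, 0, 4, 6, 3, 2, 6, 5, 3, 0, 5, 6, 3, 2, 3, 1, 2, 1, 3, 2, 3, 1, 2, 3, 4, 2, 3, 1, 2, 3, 2, 4, 1, 2, 6, 0, 4, 6, 3, 2, 6, 5, 3, 0, 5, 6, 3, 2, 3, 1, 2, 1, 3, 2, 3, 1, 2, 3, 4, 2, 3, 1, 2, 3, 2] [.out 116],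
  .sub [4, 1, 2, 6, 0, 4, 6, 3, 2, 6, 5, 3, 0, 5, 6, 3, 2, 3, 1, 2, 1, 3, 2, 3, 1, 2, 3, 4, 2, 3, 1, 2, 3, 2, 2, 3, 6, 2, 3, 5, 4, 3, 6, 4, 0, 4, 1, 2, 6, 0, 4, 6, 3, 2, 6, 5, 3, 0, 5, 6, 3, 2, 3, 1, 2, 1, 3, 2, 3, 1, 2, 3, 4, 2, 3, 1, 2, 3, 2, 6, 4, 3, 5, 6, 2, 3, 5, 2, 4, 1, 2, 6, 0, 4, 6, 3, 2, 6, 5, 3, 0, 5, 6, 3, 2, 3, 1, 2, 1, 3, 2, 3, 1, 2, 3, 4, 2, 3, 1, 2, 3, 2, 4, 1, 2, 6, 0, 4, 6, 3, 2, 6, 5, 3, 0, 5, 6, 3, 2, 3, 1, 2, 1, 3, 2, 3, 1, 2, 3, 4, 2, 3, 1, 2, 3, 2] [.done 40],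
  .sub [4, 1, 2, 6, 0, 4, 6, 3, 2, 6, 5, 3, 0, 5, 6, 3, 2, 3, 1, 2, 1, 3, 2, 3, 1, 2, 3, 4, 2, 3, 1, 2, 3, 2, 2, 3, 1, 0, 1, 2, 2, 3, 6, 2, 3, 5, 4, 3, 6, 4, 0, 6, 4, 3, 5, 6, 2, 3, 5, 2, 4, 1, 2, 6, 0, 4, 6, 3, 2, 6, 5, 3, 0, 5, 6, 3, 2, 3, 1, 2, 1, 3, 2, 3, 1, 2, 3, 4, 2, 3, 1, 2, 3, 2, 4, 1, 2, 6, 0, 4, 6, 3, 2, 6, 5, 3, 0, 5, 6, 3, 2, 3, 1, 2, 1, 3, 2, 3, 1, 2, 3, 4, 2, 3, 1, 2, 3, 2] [.out 448],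
  .sub [2, 3, 6, 2, 3, 5, 4, 3, 6, 4, 0, 4, 1, 2, 6, 0, 4, 6, 3, 2, 6, 5, 3, 0, 5, 6, 3, 2, 3, 1, 2, 1, 3, 2, 3, 1, 2, 3, 4, 2, 3, 1, 2, 3, 2, 2, 3, 6, 2, 3, 5, 4, 3, 6, 4, 0, 6, 4, 3, 5, 6, 2, 3, 5, 2, 4, 1, 2, 6, 0, 4, 6, 3, 2, 6, 5, 3, 0, 5, 6, 3, 2, 3, 1, 2, 1, 3, 2, 3, 1, 2, 3, 4, 2, 3, 1, 2, 3, 2, 4, 1, 2, 6, 0, 4, 6, 3, 2, 6, 5, 3, 0, 5, 6, 3, 2, 3, 1, 2, 1, 3, 2, 3, 1, 2, 3, 4, 2, 3, 1, 2, 3, 2] [.done 41],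
  .sub [4, 1, 2, 6, 0, 4, 6, 3, 2, 6, 5, 3, 0, 5, 6, 3, 2, 3, 1, 2, 1, 3, 2, 3, 1, 2, 3, 4, 2, 3, 1, 2, 3, 2, 2, 3, 6, 2, 3, 5, 4, 3, 6, 4, 0, 2, 3, 6, 2, 3, 5, 4, 3, 6, 4, 0, 6, 4, 3, 5, 6, 2, 3, 5, 2, 4, 1, 2, 6, 0, 4, 6, 3, 2, 6, 5, 3, 0, 5, 6, 3, 2, 3, 1, 2, 1, 3, 2, 3, 1, 2, 3, 4, 2, 3, 1, 2, 3, 2, 4, 1, 2, 6, 0, 4, 6, 3, 2, 6, 5, 3, 0, 5, 6, 3, 2, 3, 1, 2, 1, 3, 2, 3, 1, 2, 3, 4, 2, 3, 1, 2, 3, 2] [.out 281],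
  .sub [4, 1, 2, 6, 0, 4, 6, 3, 2, 6, 5, 3, 0, 5, 6, 3, 2, 3, 1, 2, 1, 3, 2, 3, 1, 2, 3, 4, 2, 3, 1, 2, 3, 2, 4, 1, 2, 6, 0, 4, 6, 3, 2, 6, 5, 3, 0, 5, 6, 3, 2, 3, 1, 2, 1, 3, 2, 3, 1, 2, 3, 4, 2, 3, 1, 2, 3, 2, 6, 4, 3, 5, 6, 2, 3, 5, 2, 4, 1, 2, 6, 0, 4, 6, 3, 2, 6, 5, 3, 0, 5, 6, 3, 2, 3, 1, 2, 1, 3, 2, 3, 1, 2, 3, 4, 2, 3, 1, 2, 3, 2, 4, 1, 2, 6, 0, 4, 6, 3, 2, 6, 5, 3, 0, 5, 6, 3, 2, 3, 1, 2, 1, 3, 2, 3, 1, 2, 3, 4, 2, 3, 1, 2, 3, 2, 4, 1, 2, 6, 0, 4, 6, 3, 2, 6, 5, 3, 0, 5, 6, 3, 2, 3, 1, 2, 1, 3, 2, 3, 1, 2, 3, 4, 2, 3, 1, 2, 3, 2] [.out 1083],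
  .sub [2, 3, 6, 2, 3, 5, 4, 3, 6, 4, 0, 4, 1, 2, 6, 0, 4, 6, 3, 2, 6, 5, 3, 0, 5, 6, 3, 2, 3, 1, 2, 1, 3, 2, 3, 1, 2, 3, 4, 2, 3, 1, 2, 3, 2, 6, 4, 3, 5, 6, 2, 3, 5, 2, 4, 1, 2, 6, 0, 4, 6, 3, 2, 6, 5, 3, 0, 5, 6, 3, 2, 3, 1, 2, 1, 3, 2, 3, 1, 2, 3, 4, 2, 3, 1, 2, 3, 2, 4, 1, 2, 6, 0, 4, 6, 3, 2, 6, 5, 3, 0, 5, 6, 3, 2, 3, 1, 2, 1, 3, 2, 3, 1, 2, 3, 4, 2, 3, 1, 2, 3, 2, 4, 1, 2, 6, 0, 4, 6, 3, 2, 6, 5, 3, 0, 5, 6, 3, 2, 3, 1, 2, 1, 3, 2, 3, 1, 2, 3, 4, 2, 3, 1, 2, 3, 2] [.done 42],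
  .sub [4, 1, 2, 6, 0, 4, 6, 3, 2, 6, 5, 3, 0, 5, 6, 3, 2, 3, 1, 2, 1, 3, 2, 3, 1, 2, 3, 4, 2, 3, 1, 2, 3, 2, 4, 1, 2, 6, 0, 4, 6, 3, 2, 6, 5, 3, 0, 5, 6, 3, 2, 3, 1, 2, 1, 3, 2, 3, 1, 2, 3, 4, 2, 3, 1, 2, 3, 2, 6, 4, 3, 5, 6, 2, 3, 5, 2, 2, 3, 6, 2, 3, 5, 4, 3, 6, 4, 0, 4, 1, 2, 6, 0, 4, 6, 3, 2, 6, 5, 3, 0, 5, 6, 3, 2, 3, 1, 2, 1, 3, 2, 3, 1, 2, 3, 4, 2, 3, 1, 2, 3, 2, 4, 1, 2, 6, 0, 4, 6, 3, 2, 6, 5, 3, 0, 5, 6, 3, 2, 3, 1, 2, 1, 3, 2, 3, 1, 2, 3, 4, 2, 3, 1, 2, 3, 2] [.done 43],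
  .sub [2, 3, 1, 0, 1, 2, 2, 3, 6, 2, 3, 5, 4, 3, 6, 4, 0, 4, 1, 2, 6, 0, 4, 6, 3, 2, 6, 5, 3, 0, 5, 6, 3, 2, 3, 1, 2, 1, 3, 2, 3, 1, 2, 3, 4, 2, 3, 1, 2, 3, 2, 2, 3, 6, 2, 3, 5, 4, 3, 6, 4, 0, 4, 1, 2, 6, 0, 4, 6, 3, 2, 6, 5, 3, 0, 5, 6, 3, 2, 3, 1, 2, 1, 3, 2, 3, 1, 2, 3, 4, 2, 3, 1, 2, 3, 2, 4, 1, 2, 6, 0, 4, 6, 3, 2, 6, 5, 3, 0, 5, 6, 3, 2, 3, 1, 2, 1, 3, 2, 3, 1, 2, 3, 4, 2, 3, 1, 2, 3, 2] [.out 2051],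
  .sub [6, 4, 3, 5, 6, 2, 3, 5, 2, 2, 3, 1, 0, 1, 2, 6, 4, 3, 5, 6, 2, 3, 5, 2, 4, 1, 2, 6, 0, 4, 6, 3, 2, 6, 5, 3, 0, 5, 6, 3, 2, 3, 1, 2, 1, 3, 2, 3, 1, 2, 3, 4, 2, 3, 1, 2, 3, 2, 2, 3, 6, 2, 3, 5, 4, 3, 6, 4, 0, 4, 1, 2, 6, 0, 4, 6, 3, 2, 6, 5, 3, 0, 5, 6, 3, 2, 3, 1, 2, 1, 3, 2, 3, 1, 2, 3, 4, 2, 3, 1, 2, 3, 2] [.done 44],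
  .sub [4, 1, 2, 6, 0, 4, 6, 3, 2, 6, 5, 3, 0, 5, 6, 3, 2, 3, 1, 2, 1, 3, 2, 3, 1, 2, 3, 4, 2, 3, 1, 2, 3, 2, 2, 3, 1, 0, 1, 2, 6, 4, 3, 5, 6, 2, 3, 5, 2, 4, 1, 2, 6, 0, 4, 6, 3, 2, 6, 5, 3, 0, 5, 6, 3, 2, 3, 1, 2, 1, 3, 2, 3, 1, 2, 3, 4, 2, 3, 1, 2, 3, 2, 2, 3, 6, 2, 3, 5, 4, 3, 6, 4, 0, 4, 1, 2, 6, 0, 4, 6, 3, 2, 6, 5, 3, 0, 5, 6, 3, 2, 3, 1, 2, 1, 3, 2, 3, 1, 2, 3, 4, 2, 3, 1, 2, 3, 2] [.out 819],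
  .sub [4, 1, 2, 6, 0, 4, 6, 3, 2, 6, 5, 3, 0, 5, 6, 3, 2, 3, 1, 2, 1, 3, 2, 3, 1, 2, 3, 4, 2, 3, 1, 2, 3, 2, 6, 4, 3, 5, 6, 2, 3, 5, 2, 6, 4, 3, 5, 6, 2, 3, 5, 2, 4, 1, 2, 6, 0, 4, 6, 3, 2, 6, 5, 3, 0, 5, 6, 3, 2, 3, 1, 2, 1, 3, 2, 3, 1, 2, 3, 4, 2, 3, 1, 2, 3, 2, 2, 3, 6, 2, 3, 5, 4, 3, 6, 4, 0, 4, 1, 2, 6, 0, 4, 6, 3, 2, 6, 5, 3, 0, 5, 6, 3, 2, 3, 1, 2, 1, 3, 2, 3, 1, 2, 3, 4, 2, 3, 1, 2, 3, 2] [.out 70],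
  .sub [2, 3, 6, 2, 3, 5, 4, 3, 6, 4, 0, 4, 1, 2, 6, 0, 4, 6, 3, 2, 6, 5, 3, 0, 5, 6, 3, 2, 3, 1, 2, 1, 3, 2, 3, 1, 2, 3, 4, 2, 3, 1, 2, 3, 2, 6, 4, 3, 5, 6, 2, 3, 5, 2, 4, 1, 2, 6, 0, 4, 6, 3, 2, 6, 5, 3, 0, 5, 6, 3, 2, 3, 1, 2, 1, 3, 2, 3, 1, 2, 3, 4, 2, 3, 1, 2, 3, 2, 2, 3, 6, 2, 3, 5, 4, 3, 6, 4, 0, 4, 1, 2, 6, 0, 4, 6, 3, 2, 6, 5, 3, 0, 5, 6, 3, 2, 3, 1, 2, 1, 3, 2, 3, 1, 2, 3, 4, 2, 3, 1, 2, 3, 2] [.out 1689],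
  .sub [4, 1, 2, 6, 0, 4, 6, 3, 2, 6, 5, 3, 0, 5, 6, 3, 2, 3, 1, 2, 1, 3, 2, 3, 1, 2, 3, 4, 2, 3, 1, 2, 3, 2, 2, 3, 1, 0, 1, 2, 2, 3, 6, 2, 3, 5, 4, 3, 6, 4, 0, 4, 1, 2, 6, 0, 4, 6, 3, 2, 6, 5, 3, 0, 5, 6, 3, 2, 3, 1, 2, 1, 3, 2, 3, 1, 2, 3, 4, 2, 3, 1, 2, 3, 2, 2, 3, 6, 2, 3, 5, 4, 3, 6, 4, 0, 4, 1, 2, 6, 0, 4, 6, 3, 2, 6, 5, 3, 0, 5, 6, 3, 2, 3, 1, 2, 1, 3, 2, 3, 1, 2, 3, 4, 2, 3, 1, 2, 3, 2] [.out 1159],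
  .sub [2, 3, 6, 2, 3, 5, 4, 3, 6, 4, 0, 4, 1, 2, 6, 0, 4, 6, 3, 2, 6, 5, 3, 0, 5, 6, 3, 2, 3, 1, 2, 1, 3, 2, 3, 1, 2, 3, 4, 2, 3, 1, 2, 3, 2, 2, 3, 6, 2, 3, 5, 4, 3, 6, 4, 0, 4, 1, 2, 6, 0, 4, 6, 3, 2, 6, 5, 3, 0, 5, 6, 3, 2, 3, 1, 2, 1, 3, 2, 3, 1, 2, 3, 4, 2, 3, 1, 2, 3, 2, 2, 3, 6, 2, 3, 5, 4, 3, 6, 4, 0, 4, 1, 2, 6, 0, 4, 6, 3, 2, 6, 5, 3, 0, 5, 6, 3, 2, 3, 1, 2, 1, 3, 2, 3, 1, 2, 3, 4, 2, 3, 1, 2, 3, 2] [.done 45],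
  .sub [2, 3, 1, 0, 1, 2, 2, 3, 6, 2, 3, 5, 4, 3, 6, 4, 0, 6, 4, 3, 5, 6, 2, 3, 5, 2, 4, 1, 2, 6, 0, 4, 6, 3, 2, 6, 5, 3, 0, 5, 6, 3, 2, 3, 1, 2, 1, 3, 2, 3, 1, 2, 3, 4, 2, 3, 1, 2, 3, 2, 2, 3, 1, 0, 1, 2, 2, 3, 6, 2, 3, 5, 4, 3, 6, 4, 0] [.done 46],
  .sub [4, 1, 2, 6, 0, 4, 6, 3, 2, 6, 5, 3, 0, 5, 6, 3, 2, 3, 1, 2, 1, 3, 2, 3, 1, 2, 3, 4, 2, 3, 1, 2, 3, 2, 6, 4, 3, 5, 6, 2, 3, 5, 2, 4, 1, 2, 6, 0, 4, 6, 3, 2, 6, 5, 3, 0, 5, 6, 3, 2, 3, 1, 2, 1, 3, 2, 3, 1, 2, 3, 4, 2, 3, 1, 2, 3, 2, 4, 1, 2, 6, 0, 4, 6, 3, 2, 6, 5, 3, 0, 5, 6, 3, 2, 3, 1, 2, 1, 3, 2, 3, 1, 2, 3, 4, 2, 3, 1, 2, 3, 2, 2, 3, 1, 0, 1, 2, 2, 3, 6,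 2, 3, 5, 4, 3, 6, 4, 0] [.out 632],
  .sub [4, 1, 2, 6, 0, 4, 6, 3, 2, 6, 5, 3, 0, 5, 6, 3, 2, 3, 1, 2, 1, 3, 2, 3, 1, 2, 3, 4, 2, 3, 1, 2, 3, 2, 2, 3, 1, 0, 1, 2, 6, 4, 3, 5, 6, 2, 3, 5, 2, 4, 1, 2, 6, 0, 4, 6, 3, 2, 6, 5, 3, 0, 5, 6, 3, 2, 3, 1, 2, 1, 3, 2, 3, 1, 2, 3, 4, 2, 3, 1, 2, 3, 2, 6, 4, 3, 5, 6, 2, 3, 5, 2, 2, 3, 6, 2, 3, 5, 4, 3, 6, 4, 0] [.out 1689],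
  .sub [6, 4, 3, 5, 6, 2, 3, 5, 2, 4, 1, 2, 6, 0, 4, 6, 3, 2, 6, 5, 3, 0, 5, 6, 3, 2, 3, 1, 2, 1, 3, 2, 3, 1, 2, 3, 4, 2, 3, 1, 2, 3, 2, 6, 4, 3, 5, 6, 2, 3, 5, 2, 4, 1, 2, 6, 0, 4, 6, 3, 2, 6, 5, 3, 0, 5, 6, 3, 2, 3, 1, 2, 1, 3, 2, 3, 1, 2, 3, 4, 2, 3, 1, 2, 3, 2, 6, 4, 3, 5, 6, 2, 3, 5, 2, 2, 3, 6, 2, 3, 5, 4, 3, 6, 4, 0] [.out 2038],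
  .sub [4, 1, 2, 6, 0, 4, 6, 3, 2, 6, 5, 3, 0, 5, 6, 3, 2, 3, 1, 2, 1, 3, 2, 3, 1, 2, 3, 4, 2, 3, 1, 2, 3, 2, 4, 1, 2, 6, 0, 4, 6, 3, 2, 6, 5, 3, 0, 5, 6, 3, 2, 3, 1, 2, 1, 3, 2, 3, 1, 2, 3, 4, 2, 3, 1, 2, 3, 2, 6, 4, 3, 5, 6, 2, 3, 5, 2, 4, 1, 2, 6, 0, 4, 6, 3, 2, 6, 5, 3, 0, 5, 6, 3, 2, 3, 1, 2, 1, 3, 2, 3, 1, 2, 3, 4, 2, 3, 1, 2, 3, 2, 6, 4, 3, 5, 6, 2, 3, 5, 2, 2, 3, 6, 2, 3, 5, 4, 3, 6, 4, 0] [.out 837],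
  .sub [2, 3, 6, 2, 3, 5, 4, 3, 6, 4, 0, 4, 1, 2, 6, 0, 4, 6, 3, 2, 6, 5, 3, 0, 5, 6, 3, 2, 3, 1, 2, 1, 3, 2, 3, 1, 2, 3, 4, 2, 3, 1, 2, 3, 2, 6, 4, 3, 5, 6, 2, 3, 5, 2, 4, 1, 2, 6, 0, 4, 6, 3, 2, 6, 5, 3, 0, 5, 6, 3, 2, 3, 1, 2, 1, 3, 2, 3, 1, 2, 3, 4, 2, 3, 1, 2, 3, 2, 6, 4, 3, 5, 6, 2, 3, 5, 2, 2, 3, 6, 2, 3, 5, 4, 3, 6, 4, 0] [.done 47],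
  .sub [6, 4, 3, 5, 6, 2, 3, 5, 2, 4, 1, 2, 6, 0, 4, 6, 3, 2, 6, 5, 3, 0, 5, 6, 3, 2, 3, 1, 2, 1, 3, 2, 3, 1, 2, 3, 4, 2, 3, 1, 2, 3, 2, 4, 1, 2, 6, 0, 4, 6, 3, 2, 6, 5, 3, 0, 5, 6, 3, 2, 3, 1, 2, 1, 3, 2, 3, 1, 2, 3, 4, 2, 3, 1, 2, 3, 2, 4, 1, 2, 6, 0, 4, 6, 3, 2, 6, 5, 3, 0, 5, 6, 3, 2, 3, 1, 2, 1, 3, 2, 3, 1, 2, 3, 4, 2, 3, 1, 2, 3, 2, 6, 4, 3, 5, 6, 2, 3, 5, 2, 2, 3, 6, 2, 3, 5, 4, 3, 6, 4, 0] [.out 1580],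
  .sub [6, 4, 3, 5, 6, 2, 3, 5, 2, 4, 1, 2, 6, 0, 4, 6, 3, 2, 6, 5, 3, 0, 5, 6, 3, 2, 3, 1, 2, 1, 3, 2, 3, 1, 2, 3, 4, 2, 3, 1, 2, 3, 2, 2, 3, 1, 0, 1, 2, 6, 4, 3, 5, 6, 2, 3, 5, 2, 4, 1, 2, 6, 0, 4, 6, 3, 2, 6, 5, 3, 0, 5, 6, 3, 2, 3, 1, 2, 1, 3, 2, 3, 1, 2, 3, 4, 2, 3, 1, 2, 3, 2, 2, 3, 6, 2, 3, 5, 4, 3, 6, 4, 0] [.out 1802],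
  .sub [4, 1, 2, 6, 0, 4, 6, 3, 2, 6, 5, 3, 0, 5, 6, 3, 2, 3, 1, 2, 1, 3, 2, 3, 1, 2, 3, 4, 2, 3, 1, 2, 3, 2, 4, 1, 2, 6, 0, 4, 6, 3, 2, 6, 5, 3, 0, 5, 6, 3, 2, 3, 1, 2, 1, 3, 2, 3, 1, 2, 3, 4, 2, 3, 1, 2, 3, 2, 2, 3, 1, 0, 1, 2, 6, 4, 3, 5, 6, 2, 3, 5, 2, 4, 1, 2, 6, 0, 4, 6, 3, 2, 6, 5, 3, 0, 5, 6, 3, 2, 3, 1, 2, 1, 3, 2, 3, 1, 2, 3, 4, 2, 3, 1, 2, 3, 2, 2, 3, 6, 2, 3, 5, 4, 3, 6, 4, 0] [.out 717],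
  .sub [6, 4, 3, 5, 6, 2, 3, 5, 2, 6, 4, 3, 5, 6, 2, 3, 5, 2, 4, 1, 2, 6, 0, 4, 6, 3, 2, 6, 5, 3, 0, 5, 6, 3, 2, 3, 1, 2, 1, 3, 2, 3, 1, 2, 3, 4, 2, 3, 1, 2, 3, 2, 6, 4, 3, 5, 6, 2, 3, 5, 2, 4, 1, 2, 6, 0, 4, 6, 3, 2, 6, 5, 3, 0, 5, 6, 3, 2, 3, 1, 2, 1, 3, 2, 3, 1, 2, 3, 4, 2, 3, 1, 2, 3, 2, 2, 3, 6, 2, 3, 5, 4, 3, 6, 4, 0] [.out 2013],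
  .sub [4, 1, 2, 6, 0, 4, 6, 3, 2, 6, 5, 3, 0, 5, 6, 3, 2, 3, 1, 2, 1, 3, 2, 3, 1, 2, 3, 4, 2, 3, 1, 2, 3, 2, 6, 4, 3, 5, 6, 2, 3, 5, 2, 4, 1, 2, 6, 0, 4, 6, 3, 2, 6, 5, 3, 0, 5, 6, 3, 2, 3, 1, 2, 1, 3, 2, 3, 1, 2, 3, 4, 2, 3, 1, 2, 3, 2, 6, 4, 3, 5, 6, 2, 3, 5, 2, 4, 1, 2, 6, 0, 4, 6, 3, 2, 6, 5, 3, 0, 5, 6, 3, 2, 3, 1, 2, 1, 3, 2, 3, 1, 2, 3, 4, 2, 3, 1, 2, 3, 2, 2, 3, 6, 2, 3, 5, 4, 3, 6, 4, 0] [.out 793],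
  .sub [2, 3, 6, 2, 3, 5, 4, 3, 6, 4, 0, 4, 1, 2, 6, 0, 4, 6, 3, 2, 6, 5, 3, 0, 5, 6, 3, 2, 3, 1, 2, 1, 3, 2, 3, 1, 2, 3, 4, 2, 3, 1, 2, 3, 2, 4, 1, 2, 6, 0, 4, 6, 3, 2, 6, 5, 3, 0, 5, 6, 3, 2, 3, 1, 2, 1, 3, 2, 3, 1, 2, 3, 4, 2, 3, 1, 2, 3, 2, 6, 4, 3, 5, 6, 2, 3, 5, 2, 4, 1, 2, 6, 0, 4, 6, 3, 2, 6, 5, 3, 0, 5, 6, 3, 2, 3, 1, 2, 1, 3, 2, 3, 1, 2, 3, 4, 2, 3, 1, 2, 3, 2, 2, 3, 6, 2, 3, 5, 4, 3, 6, 4, 0] [.done 48],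
  .sub [2, 3, 1, 0, 1, 2, 2, 3, 6, 2, 3, 5, 4, 3, 6, 4, 0, 4, 1, 2, 6, 0, 4, 6, 3, 2, 6, 5, 3, 0, 5, 6, 3, 2, 3, 1, 2, 1, 3, 2, 3, 1, 2, 3, 4, 2, 3, 1, 2, 3, 2, 6, 4, 3, 5, 6, 2, 3, 5, 2, 4, 1, 2, 6, 0, 4, 6, 3, 2, 6, 5, 3, 0, 5, 6, 3, 2, 3, 1, 2, 1, 3, 2, 3, 1, 2, 3, 4, 2, 3, 1, 2, 3, 2, 2, 3, 6, 2, 3, 5, 4, 3, 6, 4, 0] [.out 1689],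
  .sub [2, 3, 6, 2, 3, 5, 4, 3, 6, 4, 0, 2, 3, 6, 2, 3, 5, 4, 3, 6, 4, 0, 4, 1, 2, 6, 0, 4, 6, 3, 2, 6, 5, 3, 0, 5, 6, 3, 2, 3, 1, 2, 1, 3, 2, 3, 1, 2, 3, 4, 2, 3, 1, 2, 3, 2, 6, 4, 3, 5, 6, 2, 3, 5, 2, 4, 1, 2, 6, 0, 4, 6, 3, 2, 6, 5, 3, 0, 5, 6, 3, 2, 3, 1, 2, 1, 3, 2, 3, 1, 2, 3, 4, 2, 3, 1, 2, 3, 2, 2, 3, 6, 2, 3, 5, 4, 3, 6, 4, 0] [.out 1464],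
  .sub [6, 4, 3, 5, 6, 2, 3, 5, 2, 4, 1, 2, 6, 0, 4, 6, 3, 2, 6, 5, 3, 0, 5, 6, 3, 2, 3, 1, 2, 1, 3, 2, 3, 1, 2, 3, 4, 2, 3, 1, 2, 3, 2, 2, 3, 6, 2, 3, 5, 4, 3, 6, 4, 0, 6, 4, 3, 5, 6, 2, 3, 5, 2, 4, 1, 2, 6, 0, 4, 6, 3, 2, 6, 5, 3, 0, 5, 6, 3, 2, 3, 1, 2, 1, 3, 2, 3, 1, 2, 3, 4, 2, 3, 1, 2, 3, 2, 2, 3, 6, 2, 3, 5, 4, 3, 6, 4, 0] [.out 281],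
  .sub [4, 1, 2, 6, 0, 4, 6, 3, 2, 6, 5, 3, 0, 5, 6, 3, 2, 3, 1, 2, 1, 3, 2, 3, 1, 2, 3, 4, 2, 3, 1, 2, 3, 2, 4, 1, 2, 6, 0, 4, 6, 3, 2, 6, 5, 3, 0, 5, 6, 3, 2, 3, 1, 2, 1, 3, 2, 3, 1, 2, 3, 4, 2, 3, 1, 2, 3, 2, 2, 3, 6, 2, 3, 5, 4, 3, 6, 4, 0, 6, 4, 3, 5, 6, 2, 3, 5, 2, 4, 1, 2, 6, 0, 4, 6, 3, 2, 6, 5, 3, 0, 5, 6, 3, 2, 3, 1, 2, 1, 3, 2, 3, 1, 2, 3, 4, 2, 3, 1, 2, 3, 2, 2, 3, 6, 2, 3, 5, 4, 3, 6, 4, 0] [.out 537],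
  .sub [2, 3, 6, 2, 3, 5, 4, 3, 6, 4, 0, 4, 1, 2, 6, 0, 4, 6, 3, 2, 6, 5, 3, 0, 5, 6, 3, 2, 3, 1, 2, 1, 3, 2, 3, 1, 2, 3, 4, 2, 3, 1, 2, 3, 2, 2, 3, 6, 2, 3, 5, 4, 3, 6, 4, 0, 6, 4, 3, 5, 6, 2, 3, 5, 2, 4, 1, 2, 6, 0, 4, 6, 3, 2, 6, 5, 3, 0, 5, 6, 3, 2, 3, 1, 2, 1, 3, 2, 3, 1, 2, 3, 4, 2, 3, 1, 2, 3, 2, 2, 3, 6, 2, 3, 5, 4, 3, 6, 4, 0] [.out 1620],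
  .sub [4, 1, 2, 6, 0, 4, 6, 3, 2, 6, 5, 3, 0, 5, 6, 3, 2, 3, 1, 2, 1, 3, 2, 3, 1, 2, 3, 4, 2, 3, 1, 2, 3, 2, 6, 4, 3, 5, 6, 2, 3, 5, 2, 6, 4, 3, 5, 6, 2, 3, 5, 2, 4, 1, 2, 6, 0, 4, 6, 3, 2, 6, 5, 3, 0, 5, 6, 3, 2, 3, 1, 2, 1, 3, 2, 3, 1, 2, 3, 4, 2, 3, 1, 2, 3, 2, 4, 1, 2, 6, 0, 4, 6, 3, 2, 6, 5, 3, 0, 5, 6, 3, 2, 3, 1, 2, 1, 3, 2, 3, 1, 2, 3, 4, 2, 3, 1, 2, 3, 2, 2, 3, 6, 2, 3, 5, 4, 3, 6, 4, 0] [.out 2051],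
  .sub [6, 4, 3, 5, 6, 2, 3, 5, 2, 2, 3, 1, 0, 1, 2, 6, 4, 3, 5, 6, 2, 3, 5, 2, 4, 1, 2, 6, 0, 4, 6, 3, 2, 6, 5, 3, 0, 5, 6, 3, 2, 3, 1, 2, 1, 3, 2, 3, 1, 2, 3, 4, 2, 3, 1, 2, 3, 2, 2, 3, 6, 2, 3, 5, 4, 3, 6, 4, 0, 2, 3, 6, 2, 3, 5, 4, 3, 6, 4, 0] [.out 1777],
  .sub [4, 1, 2, 6, 0, 4, 6, 3, 2, 6, 5, 3, 0, 5, 6, 3, 2, 3, 1, 2, 1, 3, 2, 3, 1, 2, 3, 4, 2, 3, 1, 2, 3, 2, 2, 3, 1, 0, 1, 2, 6, 4, 3, 5, 6, 2, 3, 5, 2, 4, 1, 2, 6, 0, 4, 6, 3, 2, 6, 5, 3, 0, 5, 6, 3, 2, 3, 1, 2, 1, 3, 2, 3, 1, 2, 3, 4, 2, 3, 1, 2, 3, 2, 2, 3, 6, 2, 3, 5, 4, 3, 6, 4, 0, 2, 3, 6, 2, 3, 5, 4, 3, 6, 4, 0] [.out 299],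
  .sub [2, 3, 1, 0, 1, 2, 6, 4, 3, 5, 6, 2, 3, 5, 2, 6, 4, 3, 5, 6, 2, 3, 5, 2, 4, 1, 2, 6, 0, 4, 6, 3, 2, 6, 5, 3, 0, 5, 6, 3, 2, 3, 1, 2, 1, 3, 2, 3, 1, 2, 3, 4, 2, 3, 1, 2, 3, 2, 2, 3, 6, 2, 3, 5, 4, 3, 6, 4, 0, 2, 3, 6, 2, 3, 5, 4, 3, 6, 4, 0] [.out 2051],
  .sub [4, 1, 2, 6, 0, 4, 6, 3, 2, 6, 5, 3, 0, 5, 6, 3, 2, 3, 1, 2, 1, 3, 2, 3, 1, 2, 3, 4, 2, 3, 1, 2, 3, 2, 6, 4, 3, 5, 6, 2, 3, 5, 2, 6, 4, 3, 5, 6, 2, 3, 5, 2, 4, 1, 2, 6, 0, 4, 6, 3, 2, 6, 5, 3, 0, 5, 6, 3, 2, 3, 1, 2, 1, 3, 2, 3, 1, 2, 3, 4, 2, 3, 1, 2, 3, 2, 2, 3, 6, 2, 3, 5, 4, 3, 6, 4, 0, 2, 3, 6, 2, 3, 5, 4, 3, 6, 4, 0] [.out 841],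
  .sub [6, 4, 3, 5, 6, 2, 3, 5, 2, 4, 1, 2, 6, 0, 4, 6, 3, 2, 6, 5, 3, 0, 5, 6, 3, 2, 3, 1, 2, 1, 3, 2, 3, 1, 2, 3, 4, 2, 3, 1, 2, 3, 2, 6, 4, 3, 5, 6, 2, 3, 5, 2, 4, 1, 2, 6, 0, 4, 6, 3, 2, 6, 5, 3, 0, 5, 6, 3, 2, 3, 1, 2, 1, 3, 2, 3, 1, 2, 3, 4, 2, 3, 1, 2, 3, 2, 2, 3, 6, 2, 3, 5, 4, 3, 6, 4, 0, 2, 3, 6, 2, 3, 5, 4, 3, 6, 4, 0] [.done 49],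
  .sub [4, 1, 2, 6, 0, 4, 6, 3, 2, 6, 5, 3, 0, 5, 6, 3, 2, 3, 1, 2, 1, 3, 2, 3, 1, 2, 3, 4, 2, 3, 1, 2, 3, 2, 2, 3, 6, 2, 3, 5, 4, 3, 6, 4, 0, 6, 4, 3, 5, 6, 2, 3, 5, 2, 4, 1, 2, 6, 0, 4, 6, 3, 2, 6, 5, 3, 0, 5, 6, 3, 2, 3, 1, 2, 1, 3, 2, 3, 1, 2, 3, 4, 2, 3, 1, 2, 3, 2, 2, 3, 6, 2, 3, 5, 4, 3, 6, 4, 0, 2, 3, 6, 2, 3, 5, 4, 3, 6, 4, 0] [.out 182],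
  .sub [2, 3, 6, 2, 3, 5, 4, 3, 6, 4, 0, 2, 3, 6, 2, 3, 5, 4, 3, 6, 4, 0, 6, 4, 3, 5, 6, 2, 3, 5, 2, 4, 1, 2, 6, 0, 4, 6, 3, 2, 6, 5, 3, 0, 5, 6, 3, 2, 3, 1, 2, 1, 3, 2, 3, 1, 2, 3, 4, 2, 3, 1, 2, 3, 2, 2, 3, 6, 2, 3, 5, 4, 3, 6, 4, 0, 2, 3, 6, 2, 3, 5, 4, 3, 6, 4, 0] [.out 1083],
  .sub [6, 4, 3, 5, 6, 2, 3, 5, 2, 2, 3, 1, 0, 1, 2, 2, 3, 6, 2, 3, 5, 4, 3, 6, 4, 0, 4, 1, 2, 6, 0, 4, 6, 3, 2, 6, 5, 3, 0, 5, 6, 3, 2, 3, 1, 2, 1, 3, 2, 3, 1, 2, 3, 4, 2, 3, 1, 2, 3, 2, 2, 3, 6, 2, 3, 5, 4, 3, 6, 4, 0, 2, 3, 6, 2, 3, 5, 4, 3, 6, 4, 0] [.out 382],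
  .sub [4, 1, 2, 6, 0, 4, 6, 3, 2, 6, 5, 3, 0, 5, 6, 3, 2, 3, 1, 2, 1, 3, 2, 3, 1, 2, 3, 4, 2, 3, 1, 2, 3, 2, 6, 4, 3, 5, 6, 2, 3, 5, 2, 2, 3, 6, 2, 3, 5, 4, 3, 6, 4, 0, 4, 1, 2, 6, 0, 4, 6, 3, 2, 6, 5, 3, 0, 5, 6, 3, 2, 3, 1, 2, 1, 3, 2, 3, 1, 2, 3, 4, 2, 3, 1, 2, 3, 2, 2, 3, 6, 2, 3, 5, 4, 3, 6, 4, 0, 2, 3, 6, 2, 3, 5, 4, 3, 6, 4, 0] [.out 207],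
  .sub [2, 3, 1, 0, 1, 2, 6, 4, 3, 5, 6, 2, 3, 5, 2, 2, 3, 1, 0, 1, 2, 6, 4, 3, 5, 6, 2, 3, 5, 2, 4, 1, 2, 6, 0, 4, 6, 3, 2, 6, 5, 3, 0, 5, 6, 3, 2, 3, 1, 2, 1, 3, 2, 3, 1, 2, 3, 4, 2, 3, 1, 2, 3, 2, 2, 3, 1, 0, 1, 2, 6, 4, 3, 5, 6, 2, 3, 5, 2] [.out 841],
  .sub [4, 1, 2, 6, 0, 4, 6, 3, 2, 6, 5, 3, 0, 5, 6, 3, 2, 3, 1, 2, 1, 3, 2, 3, 1, 2, 3, 4, 2, 3, 1, 2, 3, 2, 6, 4, 3, 5, 6, 2, 3, 5, 2, 2, 3, 1, 0, 1, 2, 6, 4, 3, 5, 6, 2, 3, 5, 2, 4, 1, 2, 6, 0, 4, 6, 3, 2, 6, 5, 3, 0, 5, 6, 3, 2, 3, 1, 2, 1, 3, 2, 3, 1, 2, 3, 4, 2, 3, 1, 2, 3, 2, 2, 3, 1, 0, 1, 2, 6, 4, 3, 5, 6, 2, 3, 5, 2] [.out 1464],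
  .sub [6, 4, 3, 5, 6, 2, 3, 5, 2, 4, 1, 2, 6, 0, 4, 6, 3, 2, 6, 5, 3, 0, 5, 6, 3, 2, 3, 1, 2, 1, 3, 2, 3, 1, 2, 3, 4, 2, 3, 1, 2, 3, 2, 6, 4, 3, 5, 6, 2, 3, 5, 2, 6, 4, 3, 5, 6, 2, 3, 5, 2, 4, 1, 2, 6, 0, 4, 6, 3, 2, 6, 5, 3, 0, 5, 6, 3, 2, 3, 1, 2, 1, 3, 2, 3, 1, 2, 3, 4, 2, 3, 1, 2, 3, 2, 2, 3, 1, 0, 1, 2, 6, 4, 3, 5, 6, 2, 3, 5, 2] [.done 50],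
  .sub [4, 1, 2, 6, 0, 4, 6, 3, 2, 6, 5, 3, 0, 5, 6, 3, 2, 3, 1, 2, 1, 3, 2, 3, 1, 2, 3, 4, 2, 3, 1, 2, 3, 2, 4, 1, 2, 6, 0, 4, 6, 3, 2, 6, 5, 3, 0, 5, 6, 3, 2, 3, 1, 2, 1, 3, 2, 3, 1, 2, 3, 4, 2, 3, 1, 2, 3, 2, 6, 4, 3, 5, 6, 2, 3, 5, 2, 6, 4, 3, 5, 6, 2, 3, 5, 2, 4, 1, 2, 6, 0, 4, 6, 3, 2, 6, 5, 3, 0, 5, 6, 3, 2, 3, 1, 2, 1, 3, 2, 3, 1, 2, 3, 4, 2, 3, 1, 2, 3, 2, 2, 3, 1, 0, 1, 2, 6, 4, 3, 5, 6, 2, 3, 5, 2] [.out 1668],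
  .sub [4, 1, 2, 6, 0, 4, 6, 3, 2, 6, 5, 3, 0, 5, 6, 3, 2, 3, 1, 2, 1, 3, 2, 3, 1, 2, 3, 4, 2, 3, 1, 2, 3, 2, 4, 1, 2, 6, 0, 4, 6, 3, 2, 6, 5, 3, 0, 5, 6, 3, 2, 3, 1, 2, 1, 3, 2, 3, 1, 2, 3, 4, 2, 3, 1, 2, 3, 2, 4, 1, 2, 6, 0, 4, 6, 3, 2, 6, 5, 3, 0, 5, 6, 3, 2, 3, 1, 2, 1, 3, 2, 3, 1, 2, 3, 4, 2, 3, 1, 2, 3, 2, 6, 4, 3, 5, 6, 2, 3, 5, 2, 4, 1, 2, 6, 0, 4, 6, 3, 2, 6, 5, 3, 0, 5, 6, 3, 2, 3, 1, 2, 1, 3, 2, 3, 1, 2, 3, 4, 2, 3, 1, 2, 3, 2, 2, 3, 1, 0, 1, 2, 6, 4, 3, 5, 6, 2, 3, 5, 2] [.out 2038],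
  .sub [4, 1, 2, 6, 0, 4, 6, 3, 2, 6, 5, 3, 0, 5, 6, 3, 2, 3, 1, 2, 1, 3, 2, 3, 1, 2, 3, 4, 2, 3, 1, 2, 3, 2, 2, 3, 6, 2, 3, 5, 4, 3, 6, 4, 0, 4, 1, 2, 6, 0, 4, 6, 3, 2, 6, 5, 3, 0, 5, 6, 3, 2, 3, 1, 2, 1, 3, 2, 3, 1, 2, 3, 4, 2, 3, 1, 2, 3, 2, 6, 4, 3, 5, 6, 2, 3, 5, 2, 4, 1, 2, 6, 0, 4, 6, 3, 2, 6, 5, 3, 0, 5, 6, 3, 2, 3, 1, 2, 1, 3, 2, 3, 1, 2, 3, 4, 2, 3, 1, 2, 3, 2, 2, 3, 1, 0, 1, 2, 6, 4, 3, 5, 6, 2, 3, 5, 2] [.out 837],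
  .sub [4, 1, 2, 6, 0, 4, 6, 3, 2, 6, 5, 3, 0, 5, 6, 3, 2, 3, 1, 2, 1, 3, 2, 3, 1, 2, 3, 4, 2, 3, 1, 2, 3, 2, 2, 3, 1, 0, 1, 2, 6, 4, 3, 5, 6, 2, 3, 5, 2, 4, 1, 2, 6, 0, 4, 6, 3, 2, 6, 5, 3, 0, 5, 6, 3, 2, 3, 1, 2, 1, 3, 2, 3, 1, 2, 3, 4, 2, 3, 1, 2, 3, 2, 4, 1, 2, 6, 0, 4, 6, 3, 2, 6, 5, 3, 0, 5, 6, 3, 2, 3, 1, 2, 1, 3, 2, 3, 1, 2, 3, 4, 2, 3, 1, 2, 3, 2, 2, 3, 1, 0, 1, 2, 6, 4, 3, 5, 6, 2, 3, 5, 2] [.out 1689],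
  .sub [6, 4, 3, 5, 6, 2, 3, 5, 2, 4, 1, 2, 6, 0, 4, 6, 3, 2, 6, 5, 3, 0, 5, 6, 3, 2, 3, 1, 2, 1, 3, 2, 3, 1, 2, 3, 4, 2, 3, 1, 2, 3, 2, 6, 4, 3, 5, 6, 2, 3, 5, 2, 4, 1, 2, 6, 0, 4, 6, 3, 2, 6, 5, 3, 0, 5, 6, 3, 2, 3, 1, 2, 1, 3, 2, 3, 1, 2, 3, 4, 2, 3, 1, 2, 3, 2, 4, 1, 2, 6, 0, 4, 6, 3, 2, 6, 5, 3, 0, 5, 6, 3, 2, 3, 1, 2, 1, 3, 2, 3, 1, 2, 3, 4, 2, 3, 1, 2, 3, 2, 2, 3, 1, 0, 1, 2, 6, 4, 3, 5, 6, 2, 3, 5, 2] [.out 1022],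
  .sub [4, 1, 2, 6, 0, 4, 6, 3, 2, 6, 5, 3, 0, 5, 6, 3, 2, 3, 1, 2, 1, 3, 2, 3, 1, 2, 3, 4, 2, 3, 1, 2, 3, 2, 6, 4, 3, 5, 6, 2, 3, 5, 2, 4, 1, 2, 6, 0, 4, 6, 3, 2, 6, 5, 3, 0, 5, 6, 3, 2, 3, 1, 2, 1, 3, 2, 3, 1, 2, 3, 4, 2, 3, 1, 2, 3, 2, 4, 1, 2, 6, 0, 4, 6, 3, 2, 6, 5, 3, 0, 5, 6, 3, 2, 3, 1, 2, 1, 3, 2, 3, 1, 2, 3, 4, 2, 3, 1, 2, 3, 2, 4, 1, 2, 6, 0, 4, 6, 3, 2, 6, 5, 3, 0, 5, 6, 3, 2, 3, 1, 2, 1, 3, 2, 3, 1, 2, 3, 4, 2, 3, 1, 2, 3, 2, 2, 3, 1, 0, 1, 2, 6, 4, 3, 5, 6, 2, 3, 5, 2] [.done 51],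
  .sub [6, 4, 3, 5, 6, 2, 3, 5, 2, 4, 1, 2, 6, 0, 4, 6, 3, 2, 6, 5, 3, 0, 5, 6, 3, 2, 3, 1, 2, 1, 3, 2, 3, 1, 2, 3, 4, 2, 3, 1, 2, 3, 2, 2, 3, 6, 2, 3, 5, 4, 3, 6, 4, 0, 4, 1, 2, 6, 0, 4, 6, 3, 2, 6, 5, 3, 0, 5, 6, 3, 2, 3, 1, 2, 1, 3, 2, 3, 1, 2, 3, 4, 2, 3, 1, 2, 3, 2, 4, 1, 2, 6, 0, 4, 6, 3, 2, 6, 5, 3, 0, 5, 6, 3, 2, 3, 1, 2, 1, 3, 2, 3, 1, 2, 3, 4, 2, 3, 1, 2, 3, 2, 2, 3, 1, 0, 1, 2, 6, 4, 3, 5, 6, 2, 3, 5, 2] [.out 207],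
  .sub [6, 4, 3, 5, 6, 2, 3, 5, 2, 4, 1, 2, 6, 0, 4, 6, 3, 2, 6, 5, 3, 0, 5, 6, 3, 2, 3, 1, 2, 1, 3, 2, 3, 1, 2, 3, 4, 2, 3, 1, 2, 3, 2, 6, 4, 3, 5, 6, 2, 3, 5, 2, 2, 3, 6, 2, 3, 5, 4, 3, 6, 4, 0, 4, 1, 2, 6, 0, 4, 6, 3, 2, 6, 5, 3, 0, 5, 6, 3, 2, 3, 1, 2, 1, 3, 2, 3, 1, 2, 3, 4, 2, 3, 1, 2, 3, 2, 2, 3, 1, 0, 1, 2, 6, 4, 3, 5, 6, 2, 3, 5, 2] [.done 52],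
  .sub [4, 1, 2, 6, 0, 4, 6, 3, 2, 6, 5, 3, 0, 5, 6, 3, 2, 3, 1, 2, 1, 3, 2, 3, 1, 2, 3, 4, 2, 3, 1, 2, 3, 2, 4, 1, 2, 6, 0, 4, 6, 3, 2, 6, 5, 3, 0, 5, 6, 3, 2, 3, 1, 2, 1, 3, 2, 3, 1, 2, 3, 4, 2, 3, 1, 2, 3, 2, 6, 4, 3, 5, 6, 2, 3, 5, 2, 2, 3, 6, 2, 3, 5, 4, 3, 6, 4, 0, 4, 1, 2, 6, 0, 4, 6, 3, 2, 6, 5, 3, 0, 5, 6, 3, 2, 3, 1, 2, 1, 3, 2, 3, 1, 2, 3, 4, 2, 3, 1, 2, 3, 2, 2, 3, 1, 0, 1, 2, 6, 4, 3, 5, 6, 2, 3, 5, 2] [.out 819],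
  .sub [6, 4, 3, 5, 6, 2, 3, 5, 2, 6, 4, 3, 5, 6, 2, 3, 5, 2, 4, 1, 2, 6, 0, 4, 6, 3, 2, 6, 5, 3, 0, 5, 6, 3, 2, 3, 1, 2, 1, 3, 2, 3, 1, 2, 3, 4, 2, 3, 1, 2, 3, 2, 2, 3, 6, 2, 3, 5, 4, 3, 6, 4, 0, 4, 1, 2, 6, 0, 4, 6, 3, 2, 6, 5, 3, 0, 5, 6, 3, 2, 3, 1, 2, 1, 3, 2, 3, 1, 2, 3, 4, 2, 3, 1, 2, 3, 2, 2, 3, 1, 0, 1, 2, 6, 4, 3, 5, 6, 2, 3, 5, 2] [.out 837],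
  .sub [4, 1, 2, 6, 0, 4, 6, 3, 2, 6, 5, 3, 0, 5, 6, 3, 2, 3, 1, 2, 1, 3, 2, 3, 1, 2, 3, 4, 2, 3, 1, 2, 3, 2, 4, 1, 2, 6, 0, 4, 6, 3, 2, 6, 5, 3, 0, 5, 6, 3, 2, 3, 1, 2, 1, 3, 2, 3, 1, 2, 3, 4, 2, 3, 1, 2, 3, 2, 6, 4, 3, 5, 6, 2, 3, 5, 2, 4, 1, 2, 6, 0, 4, 6, 3, 2, 6, 5, 3, 0, 5, 6, 3, 2, 3, 1, 2, 1, 3, 2, 3, 1, 2, 3, 4, 2, 3, 1, 2, 3, 2, 2, 3, 6, 2, 3, 5, 4, 3, 6, 4, 0, 2, 3, 1, 0, 1, 2, 6, 4, 3, 5, 6, 2, 3, 5, 2] [.done 53],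
  .sub [2, 3, 1, 0, 1, 2, 2, 3, 6, 2, 3, 5, 4, 3, 6, 4, 0, 6, 4, 3, 5, 6, 2, 3, 5, 2, 4, 1, 2, 6, 0, 4, 6, 3, 2, 6, 5, 3, 0, 5, 6, 3, 2, 3, 1, 2, 1, 3, 2, 3, 1, 2, 3, 4, 2, 3, 1, 2, 3, 2, 2, 3, 6, 2, 3, 5, 4, 3, 6, 4, 0, 2, 3, 1, 0, 1, 2, 6, 4, 3, 5, 6, 2, 3, 5, 2] [.out 837],
  .sub [4, 1, 2, 6, 0, 4, 6, 3, 2, 6, 5, 3, 0, 5, 6, 3, 2, 3, 1, 2, 1, 3, 2, 3, 1, 2, 3, 4, 2, 3, 1, 2, 3, 2, 2, 3, 6, 2, 3, 5, 4, 3, 6, 4, 0, 6, 4, 3, 5, 6, 2, 3, 5, 2, 4, 1, 2, 6, 0, 4, 6, 3, 2, 6, 5, 3, 0, 5, 6, 3, 2, 3, 1, 2, 1, 3, 2, 3, 1, 2, 3, 4, 2, 3, 1, 2, 3, 2, 2, 3, 6, 2, 3, 5, 4, 3, 6, 4, 0, 2, 3, 1, 0, 1, 2, 6, 4, 3, 5, 6, 2,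 3, 5, 2] [.out 2051],
  .sub [6, 4, 3, 5, 6, 2, 3, 5, 2, 2, 3, 1, 0, 1, 2, 2, 3, 6, 2, 3, 5, 4, 3, 6, 4, 0, 4, 1, 2, 6, 0, 4, 6, 3, 2, 6, 5, 3, 0, 5, 6, 3, 2, 3, 1, 2, 1, 3, 2, 3, 1, 2, 3, 4, 2, 3, 1, 2, 3, 2, 2, 3, 6, 2, 3, 5, 4, 3, 6, 4, 0, 2, 3, 1, 0, 1, 2, 6, 4, 3, 5, 6, 2, 3, 5, 2] [.out 127],
  .sub [4, 1, 2, 6, 0, 4, 6, 3, 2, 6, 5, 3, 0, 5, 6, 3, 2, 3, 1, 2, 1, 3, 2, 3, 1, 2, 3, 4, 2, 3, 1, 2, 3, 2, 6, 4, 3, 5, 6, 2, 3, 5, 2, 2, 3, 1, 0, 1, 2, 6, 4, 3, 5, 6, 2, 3, 5, 2, 4, 1, 2, 6, 0, 4, 6, 3, 2, 6, 5, 3, 0, 5, 6, 3, 2, 3, 1, 2, 1, 3, 2, 3, 1, 2, 3, 4, 2, 3, 1, 2, 3, 2, 6, 4, 3, 5, 6, 2, 3, 5, 2, 6, 4, 3,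 5, 6, 2, 3, 5, 2] [.out 1449],
  .sub [2, 3, 6, 2, 3, 5, 4, 3, 6, 4, 0, 4, 1, 2, 6, 0, 4, 6, 3, 2, 6, 5, 3, 0, 5, 6, 3, 2, 3, 1, 2, 1, 3, 2, 3, 1, 2, 3, 4, 2, 3, 1, 2, 3, 2, 2, 3, 1, 0, 1, 2, 6, 4, 3, 5, 6, 2, 3, 5, 2, 4, 1, 2, 6, 0, 4, 6, 3, 2, 6, 5, 3, 0, 5, 6, 3, 2, 3, 1, 2, 1, 3, 2, 3, 1, 2, 3, 4, 2, 3, 1, 2, 3, 2, 6, 4, 3, 5, 6, 2, 3, 5, 2, 6, 4, 3, 5, 6, 2, 3, 5, 2] [.out 797],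
  .sub [2, 3, 1, 0, 1, 2, 6, 4, 3, 5, 6, 2, 3, 5, 2, 4, 1, 2, 6, 0, 4, 6, 3, 2, 6, 5, 3, 0, 5, 6, 3, 2, 3, 1, 2, 1, 3, 2, 3, 1, 2, 3, 4, 2, 3, 1, 2, 3, 2, 6, 4, 3, 5, 6, 2, 3, 5, 2, 4, 1, 2, 6, 0, 4, 6, 3, 2, 6, 5, 3, 0, 5, 6, 3, 2, 3, 1, 2, 1, 3, 2, 3, 1, 2, 3, 4, 2, 3, 1, 2, 3, 2, 6, 4, 3, 5, 6, 2, 3, 5, 2, 6, 4, 3, 5, 6, 2, 3, 5, 2] [.out 1374],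
  .sub [2, 3, 6, 2, 3, 5, 4, 3, 6, 4, 0, 6, 4, 3, 5, 6, 2, 3, 5, 2, 4, 1, 2, 6, 0, 4, 6, 3, 2, 6, 5, 3, 0, 5, 6, 3, 2, 3, 1, 2, 1, 3, 2, 3, 1, 2, 3, 4, 2, 3, 1, 2, 3, 2, 6, 4, 3, 5, 6, 2, 3, 5, 2, 4, 1, 2, 6, 0, 4, 6, 3, 2, 6, 5, 3, 0, 5, 6, 3, 2, 3, 1, 2, 1, 3, 2, 3, 1, 2, 3, 4, 2, 3, 1, 2, 3, 2, 6, 4, 3, 5, 6, 2, 3, 5, 2, 6, 4, 3, 5, 6, 2, 3, 5, 2] [.done 54],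
  .sub [6, 4, 3, 5, 6, 2, 3, 5, 2, 4, 1, 2, 6, 0, 4, 6, 3, 2, 6, 5, 3, 0, 5, 6, 3, 2, 3, 1, 2, 1, 3, 2, 3, 1, 2, 3, 4, 2, 3, 1, 2, 3, 2, 4, 1, 2, 6, 0, 4, 6, 3, 2, 6, 5, 3, 0, 5, 6, 3, 2, 3, 1, 2, 1, 3, 2, 3, 1, 2, 3, 4, 2, 3, 1, 2, 3, 2, 6, 4, 3, 5, 6, 2, 3, 5, 2, 4, 1, 2, 6, 0, 4, 6, 3, 2, 6, 5, 3, 0, 5, 6, 3, 2, 3, 1, 2, 1, 3, 2, 3, 1, 2, 3, 4, 2, 3, 1, 2, 3, 2, 6, 4, 3, 5, 6, 2, 3, 5, 2, 6, 4, 3, 5, 6, 2, 3, 5, 2] [.out 116],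
  .sub [2, 3, 1, 0, 1, 2, 2, 3, 6, 2, 3, 5, 4, 3, 6, 4, 0, 4, 1, 2, 6, 0, 4, 6, 3, 2, 6, 5, 3, 0, 5, 6, 3, 2, 3, 1, 2, 1, 3, 2, 3, 1, 2, 3, 4, 2, 3, 1, 2, 3, 2, 6, 4, 3, 5, 6, 2, 3, 5, 2, 4, 1, 2, 6, 0, 4, 6, 3, 2, 6, 5, 3, 0, 5, 6, 3, 2, 3, 1, 2, 1, 3, 2, 3, 1, 2, 3, 4, 2, 3, 1, 2, 3, 2, 6, 4, 3, 5, 6, 2, 3, 5, 2, 6, 4, 3, 5, 6, 2, 3, 5, 2] [.out 793],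
  .sub [2, 3, 6, 2, 3, 5, 4, 3, 6, 4, 0, 2, 3, 6, 2, 3, 5, 4, 3, 6, 4, 0, 4, 1, 2, 6, 0, 4, 6, 3, 2, 6, 5, 3, 0, 5, 6, 3, 2, 3, 1, 2, 1, 3, 2, 3, 1, 2, 3, 4, 2, 3, 1, 2, 3, 2, 6, 4, 3, 5, 6, 2, 3, 5, 2, 4, 1, 2, 6, 0, 4, 6, 3, 2, 6, 5, 3, 0, 5, 6, 3, 2, 3, 1, 2, 1, 3, 2, 3, 1, 2, 3, 4, 2, 3, 1, 2, 3, 2, 6, 4, 3, 5, 6, 2, 3, 5, 2, 6, 4, 3, 5, 6, 2, 3, 5, 2] [.out 1802],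
  .sub [4, 1, 2, 6, 0, 4, 6, 3, 2, 6, 5, 3, 0, 5, 6, 3, 2, 3, 1, 2, 1, 3, 2, 3, 1, 2, 3, 4, 2, 3, 1, 2, 3, 2, 4, 1, 2, 6, 0, 4, 6, 3, 2, 6, 5, 3, 0, 5, 6, 3, 2, 3, 1, 2, 1, 3, 2, 3, 1, 2, 3, 4, 2, 3, 1, 2, 3, 2, 2, 3, 6, 2, 3, 5, 4, 3, 6, 4, 0, 6, 4, 3, 5, 6, 2, 3, 5, 2, 4, 1, 2, 6, 0, 4, 6, 3, 2, 6, 5, 3, 0, 5, 6, 3, 2, 3, 1, 2, 1, 3, 2, 3, 1, 2, 3, 4, 2, 3, 1, 2, 3, 2, 6, 4, 3, 5, 6, 2, 3, 5, 2, 6, 4, 3, 5, 6, 2, 3, 5, 2] [.out 382],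
  .sub [4, 1, 2, 6, 0, 4, 6, 3, 2, 6, 5, 3, 0, 5, 6, 3, 2, 3, 1, 2, 1, 3, 2, 3, 1, 2, 3, 4, 2, 3, 1, 2, 3, 2, 6, 4, 3, 5, 6, 2, 3, 5, 2, 6, 4, 3, 5, 6, 2, 3, 5, 2, 2, 3, 6, 2, 3, 5, 4, 3, 6, 4, 0, 4, 1, 2, 6, 0, 4, 6, 3, 2, 6, 5, 3, 0, 5, 6, 3, 2, 3, 1, 2, 1, 3, 2, 3, 1, 2, 3, 4, 2, 3, 1, 2, 3, 2, 6, 4, 3, 5, 6, 2, 3, 5, 2, 6, 4, 3, 5, 6, 2, 3, 5, 2] [.out 1370],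
  .sub [4, 1, 2, 6, 0, 4, 6, 3, 2, 6, 5, 3, 0, 5, 6, 3, 2, 3, 1, 2, 1, 3, 2, 3, 1, 2, 3, 4, 2, 3, 1, 2, 3, 2, 4, 1, 2, 6, 0, 4, 6, 3, 2, 6, 5, 3, 0, 5, 6, 3, 2, 3, 1, 2, 1, 3, 2, 3, 1, 2, 3, 4, 2, 3, 1, 2, 3, 2, 6, 4, 3, 5, 6, 2, 3, 5, 2, 2, 3, 6, 2, 3, 5, 4, 3, 6, 4, 0, 4, 1, 2, 6, 0, 4, 6, 3, 2, 6, 5, 3, 0, 5, 6, 3, 2, 3, 1, 2, 1, 3, 2, 3, 1, 2, 3, 4, 2, 3, 1, 2, 3, 2, 6, 4, 3, 5, 6, 2, 3, 5, 2, 6, 4, 3, 5, 6, 2, 3, 5, 2] [.out 1436],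
  .sub [6, 4, 3, 5, 6, 2, 3, 5, 2, 4, 1, 2, 6, 0, 4, 6, 3, 2, 6, 5, 3, 0, 5, 6, 3, 2, 3, 1, 2, 1, 3, 2, 3, 1, 2, 3, 4, 2, 3, 1, 2, 3, 2, 6, 4, 3, 5, 6, 2, 3, 5, 2, 2, 3, 1, 0, 1, 2, 6, 4, 3, 5, 6, 2, 3, 5, 2, 4, 1, 2, 6, 0, 4, 6, 3, 2, 6, 5, 3, 0, 5, 6, 3, 2, 3, 1, 2, 1, 3, 2, 3, 1, 2, 3, 4, 2, 3, 1, 2, 3, 2, 6, 4, 3, 5, 6, 2, 3, 5, 2] [.out 433],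
  .sub [4, 1, 2, 6, 0, 4, 6, 3, 2, 6, 5, 3, 0, 5, 6, 3, 2, 3, 1, 2, 1, 3, 2, 3, 1, 2, 3, 4, 2, 3, 1, 2, 3, 2, 4, 1, 2, 6, 0, 4, 6, 3, 2, 6, 5, 3, 0, 5, 6, 3, 2, 3, 1, 2, 1, 3, 2, 3, 1, 2, 3, 4, 2, 3, 1, 2, 3, 2, 6, 4, 3, 5, 6, 2, 3, 5, 2, 2, 3, 1, 0, 1, 2, 6, 4, 3, 5, 6, 2, 3, 5, 2, 4, 1, 2, 6, 0, 4, 6, 3, 2, 6, 5, 3, 0, 5, 6, 3, 2, 3, 1, 2, 1, 3, 2, 3, 1, 2, 3, 4, 2, 3, 1, 2, 3, 2, 6, 4, 3, 5, 6, 2, 3, 5, 2] [.out 1689],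
  .sub [4, 1, 2, 6, 0, 4, 6, 3, 2, 6, 5, 3, 0, 5, 6, 3, 2, 3, 1, 2, 1, 3, 2, 3, 1, 2, 3, 4, 2, 3, 1, 2, 3, 2, 2, 3, 6, 2, 3, 5, 4, 3, 6, 4, 0, 6, 4, 3, 5, 6, 2, 3, 5, 2, 2, 3, 1, 0, 1, 2, 6, 4, 3, 5, 6, 2, 3, 5, 2, 4, 1, 2, 6, 0, 4, 6, 3, 2, 6, 5, 3, 0, 5, 6, 3, 2, 3, 1, 2, 1, 3, 2, 3, 1, 2, 3, 4, 2, 3, 1, 2, 3, 2, 6, 4, 3, 5, 6, 2, 3, 5, 2] [.out 868],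
  .sub [4, 1, 2, 6, 0, 4, 6, 3, 2, 6, 5, 3, 0, 5, 6, 3, 2, 3, 1, 2, 1, 3, 2, 3, 1, 2, 3, 4, 2, 3, 1, 2, 3, 2, 6, 4, 3, 5, 6, 2, 3, 5, 2, 4, 1, 2, 6, 0, 4, 6, 3, 2, 6, 5, 3, 0, 5, 6, 3, 2, 3, 1, 2, 1, 3, 2, 3, 1, 2, 3, 4, 2, 3, 1, 2, 3, 2, 2, 3, 1, 0, 1, 2, 6, 4, 3, 5, 6, 2, 3, 5, 2, 4, 1, 2, 6, 0, 4, 6, 3, 2, 6, 5, 3, 0, 5, 6, 3, 2, 3, 1, 2, 1, 3, 2, 3, 1, 2, 3, 4, 2, 3, 1, 2, 3, 2, 6, 4, 3, 5, 6, 2, 3, 5, 2] [.out 1777],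
  .sub [2, 3, 6, 2, 3, 5, 4, 3, 6, 4, 0, 6, 4, 3, 5, 6, 2, 3, 5, 2, 4, 1, 2, 6, 0, 4, 6, 3, 2, 6, 5, 3, 0, 5, 6, 3, 2, 3, 1, 2, 1, 3, 2, 3, 1, 2, 3, 4, 2, 3, 1, 2, 3, 2, 2, 3, 1, 0, 1, 2, 6, 4, 3, 5, 6, 2, 3, 5, 2, 4, 1, 2, 6, 0, 4, 6, 3, 2, 6, 5, 3, 0, 5, 6, 3, 2, 3, 1, 2, 1, 3, 2, 3, 1, 2, 3, 4, 2, 3, 1, 2, 3, 2, 6, 4, 3, 5, 6, 2, 3, 5, 2] [.out 797],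
  .sub [4, 1, 2, 6, 0, 4, 6, 3, 2, 6, 5, 3, 0, 5, 6, 3, 2, 3, 1, 2, 1, 3, 2, 3, 1, 2, 3, 4, 2, 3, 1, 2, 3, 2, 4, 1, 2, 6, 0, 4, 6, 3, 2, 6, 5, 3, 0, 5, 6, 3, 2, 3, 1, 2, 1, 3, 2, 3, 1, 2, 3, 4, 2, 3, 1, 2, 3, 2, 2, 3, 6, 2, 3, 5, 4, 3, 6, 4, 0, 2, 3, 1, 0, 1, 2, 6, 4, 3, 5, 6, 2, 3, 5, 2, 4, 1, 2, 6, 0, 4, 6, 3, 2, 6, 5, 3, 0, 5, 6, 3, 2, 3, 1, 2, 1, 3, 2, 3, 1, 2, 3, 4, 2, 3, 1, 2, 3, 2, 6, 4, 3, 5, 6, 2, 3, 5, 2] [.out 1023],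
  .sub [6, 4, 3, 5, 6, 2, 3, 5, 2, 4, 1, 2, 6, 0, 4, 6, 3, 2, 6, 5, 3, 0, 5, 6, 3, 2, 3, 1, 2, 1, 3, 2, 3, 1, 2, 3, 4, 2, 3, 1, 2, 3, 2, 4, 1, 2, 6, 0, 4, 6, 3, 2, 6, 5, 3, 0, 5, 6, 3, 2, 3, 1, 2, 1, 3, 2, 3, 1, 2, 3, 4, 2, 3, 1, 2, 3, 2, 6, 4, 3, 5, 6, 2, 3, 5, 2, 6, 4, 3, 5, 6, 2, 3, 5, 2, 4, 1, 2, 6, 0, 4, 6, 3, 2, 6, 5, 3, 0, 5, 6, 3, 2, 3, 1, 2, 1, 3, 2, 3, 1, 2, 3, 4, 2, 3, 1, 2, 3, 2, 6, 4, 3, 5, 6, 2, 3, 5, 2] [.out 1777],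
  .sub [2, 3, 6, 2, 3, 5, 4, 3, 6, 4, 0, 4, 1, 2, 6, 0, 4, 6, 3, 2, 6, 5, 3, 0, 5, 6, 3, 2, 3, 1, 2, 1, 3, 2, 3, 1, 2, 3, 4, 2, 3, 1, 2, 3, 2, 4, 1, 2, 6, 0, 4, 6, 3, 2, 6, 5, 3, 0, 5, 6, 3, 2, 3, 1, 2, 1, 3, 2, 3, 1, 2, 3, 4, 2, 3, 1, 2, 3, 2, 6, 4, 3, 5, 6, 2, 3, 5, 2, 6, 4, 3, 5, 6, 2, 3, 5, 2, 4, 1, 2, 6, 0, 4, 6, 3, 2, 6, 5, 3, 0, 5, 6, 3, 2, 3, 1, 2, 1, 3, 2, 3, 1, 2, 3, 4, 2, 3, 1, 2, 3, 2, 6, 4, 3, 5, 6, 2, 3, 5, 2] [.out 1237],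
  .sub [4, 1, 2, 6, 0, 4, 6, 3, 2, 6, 5, 3, 0, 5, 6, 3, 2, 3, 1, 2, 1, 3, 2, 3, 1, 2, 3, 4, 2, 3, 1, 2, 3, 2, 2, 3, 6, 2, 3, 5, 4, 3, 6, 4, 0, 4, 1, 2, 6, 0, 4, 6, 3, 2, 6, 5, 3, 0, 5, 6, 3, 2, 3, 1, 2, 1, 3, 2, 3, 1, 2, 3, 4, 2, 3, 1, 2, 3, 2, 4, 1, 2, 6, 0, 4, 6, 3, 2, 6, 5, 3, 0, 5, 6, 3, 2, 3, 1, 2, 1, 3, 2, 3, 1, 2, 3, 4, 2, 3, 1, 2, 3, 2, 6, 4, 3, 5, 6, 2, 3, 5, 2, 4, 1, 2, 6, 0, 4, 6, 3, 2, 6, 5, 3, 0, 5, 6, 3, 2, 3, 1, 2, 1, 3, 2, 3, 1, 2, 3, 4, 2, 3, 1, 2, 3, 2, 6, 4, 3, 5, 6, 2, 3, 5, 2] [.out 1777],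
  .sub [2, 3, 6, 2, 3, 5, 4, 3, 6, 4, 0, 6, 4, 3, 5, 6, 2, 3, 5, 2, 4, 1, 2, 6, 0, 4, 6, 3, 2, 6, 5, 3, 0, 5, 6, 3, 2, 3, 1, 2, 1, 3, 2, 3, 1, 2, 3, 4, 2, 3, 1, 2, 3, 2, 2, 3, 6, 2, 3, 5, 4, 3, 6, 4, 0, 6, 4, 3, 5, 6, 2, 3, 5, 2, 4, 1, 2, 6, 0, 4, 6, 3, 2, 6, 5, 3, 0, 5, 6, 3, 2, 3, 1, 2, 1, 3, 2, 3, 1, 2, 3, 4, 2, 3, 1, 2, 3, 2, 6, 4, 3, 5, 6, 2, 3, 5, 2] [.out 207],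
  .sub [6, 4, 3, 5, 6, 2, 3, 5, 2, 2, 3, 6, 2, 3, 5, 4, 3, 6, 4, 0, 4, 1, 2, 6, 0, 4, 6, 3, 2, 6, 5, 3, 0, 5, 6, 3, 2, 3, 1, 2, 1, 3, 2, 3, 1, 2, 3, 4, 2, 3, 1, 2, 3, 2, 2, 3, 6, 2, 3, 5, 4, 3, 6, 4, 0, 6, 4, 3, 5, 6, 2, 3, 5, 2, 4, 1, 2, 6, 0, 4, 6, 3, 2, 6, 5, 3, 0, 5, 6, 3, 2, 3, 1, 2, 1, 3, 2, 3, 1, 2, 3, 4, 2, 3, 1, 2, 3, 2, 6, 4, 3, 5, 6, 2, 3, 5, 2] [.out 1378],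
  .sub [4, 1, 2, 6, 0, 4, 6, 3, 2, 6, 5, 3, 0, 5, 6, 3, 2, 3, 1, 2, 1, 3, 2, 3, 1, 2, 3, 4, 2, 3, 1, 2, 3, 2, 2, 3, 6, 2, 3, 5, 4, 3, 6, 4, 0, 4, 1, 2, 6, 0, 4, 6, 3, 2, 6, 5, 3, 0, 5, 6, 3, 2, 3, 1, 2, 1, 3, 2, 3, 1, 2, 3, 4, 2, 3, 1, 2, 3, 2, 2, 3, 6, 2, 3, 5, 4, 3, 6, 4, 0, 6, 4, 3, 5, 6, 2, 3, 5, 2, 4, 1, 2, 6, 0, 4, 6, 3, 2, 6, 5, 3, 0, 5, 6, 3, 2, 3, 1, 2, 1, 3, 2, 3, 1, 2, 3, 4, 2, 3, 1, 2, 3, 2, 6, 4, 3, 5, 6, 2, 3, 5, 2] [.out 715],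
  .sub [6, 4, 3, 5, 6, 2, 3, 5, 2, 6, 4, 3, 5, 6, 2, 3, 5, 2, 4, 1, 2, 6, 0, 4, 6, 3, 2, 6, 5, 3, 0, 5, 6, 3, 2, 3, 1, 2, 1, 3, 2, 3, 1, 2, 3, 4, 2, 3, 1, 2, 3, 2, 6, 4, 3, 5, 6, 2, 3, 5, 2, 4, 1, 2, 6, 0, 4, 6, 3, 2, 6, 5, 3, 0, 5, 6, 3, 2, 3, 1, 2, 1, 3, 2, 3, 1, 2, 3, 4, 2, 3, 1, 2, 3, 2, 4, 1, 2, 6, 0, 4, 6, 3, 2, 6, 5, 3, 0, 5, 6, 3, 2, 3, 1, 2, 1, 3, 2, 3, 1, 2, 3, 4, 2, 3, 1, 2, 3, 2, 6, 4, 3, 5, 6, 2, 3, 5, 2] [.out 116],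
  .sub [4, 1, 2, 6, 0, 4, 6, 3, 2, 6, 5, 3, 0, 5, 6, 3, 2, 3, 1, 2, 1, 3, 2, 3, 1, 2, 3, 4, 2, 3, 1, 2, 3, 2, 6, 4, 3, 5, 6, 2, 3, 5, 2, 4, 1, 2, 6, 0, 4, 6, 3, 2, 6, 5, 3, 0, 5, 6, 3, 2, 3, 1, 2, 1, 3, 2, 3, 1, 2, 3, 4, 2, 3, 1, 2, 3, 2, 6, 4, 3, 5, 6, 2, 3, 5, 2, 4, 1, 2, 6, 0, 4, 6, 3, 2, 6, 5, 3, 0, 5, 6, 3, 2, 3, 1, 2, 1, 3, 2, 3, 1, 2, 3, 4, 2, 3, 1, 2, 3, 2, 4, 1, 2, 6, 0, 4, 6, 3, 2, 6, 5, 3, 0, 5, 6, 3, 2, 3, 1, 2, 1, 3, 2, 3, 1, 2, 3, 4, 2, 3, 1, 2, 3, 2, 6, 4, 3, 5, 6, 2, 3, 5, 2] [.out 715],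
  .sub [6, 4, 3, 5, 6, 2, 3, 5, 2, 2, 3, 6, 2, 3, 5, 4, 3, 6, 4, 0, 4, 1, 2, 6, 0, 4, 6, 3, 2, 6, 5, 3, 0, 5, 6, 3, 2, 3, 1, 2, 1, 3, 2, 3, 1, 2, 3, 4, 2, 3, 1, 2, 3, 2, 6, 4, 3, 5, 6, 2, 3, 5, 2, 4, 1, 2, 6, 0, 4, 6, 3, 2, 6, 5, 3, 0, 5, 6, 3, 2, 3, 1, 2, 1, 3, 2, 3, 1, 2, 3, 4, 2, 3, 1, 2, 3, 2, 4, 1, 2, 6, 0, 4, 6, 3, 2, 6, 5, 3, 0, 5, 6, 3, 2, 3, 1, 2, 1, 3, 2, 3, 1, 2, 3, 4, 2, 3, 1, 2, 3, 2, 6, 4, 3, 5, 6, 2, 3, 5, 2] [.out 555],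
  .sub [4, 1, 2, 6, 0, 4, 6, 3, 2, 6, 5, 3, 0, 5, 6, 3, 2, 3, 1, 2, 1, 3, 2, 3, 1, 2, 3, 4, 2, 3, 1, 2, 3, 2, 4, 1, 2, 6, 0, 4, 6, 3, 2, 6, 5, 3, 0, 5, 6, 3, 2, 3, 1, 2, 1, 3, 2, 3, 1, 2, 3, 4, 2, 3, 1, 2, 3, 2, 2, 3, 6, 2, 3, 5, 4, 3, 6, 4, 0, 6, 4, 3, 5, 6, 2, 3, 5, 2, 4, 1, 2, 6, 0, 4, 6, 3, 2, 6, 5, 3, 0, 5, 6, 3, 2, 3, 1, 2, 1, 3, 2, 3, 1, 2, 3, 4, 2, 3, 1, 2, 3, 2, 4, 1, 2, 6, 0, 4, 6, 3, 2, 6, 5, 3, 0, 5, 6, 3, 2, 3, 1, 2, 1, 3, 2, 3, 1, 2, 3, 4, 2, 3, 1, 2, 3, 2, 6, 4, 3, 5, 6, 2, 3, 5, 2] [.done 55],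
  .sub [2, 3, 6, 2, 3, 5, 4, 3, 6, 4, 0, 4, 1, 2, 6, 0, 4, 6, 3, 2, 6, 5, 3, 0, 5, 6, 3, 2, 3, 1, 2, 1, 3, 2, 3, 1, 2, 3, 4, 2, 3, 1, 2, 3, 2, 6, 4, 3, 5, 6, 2, 3, 5, 2, 6, 4, 3, 5, 6, 2, 3, 5, 2, 2, 3, 6, 2, 3, 5, 4, 3, 6, 4, 0, 4, 1, 2, 6, 0, 4, 6, 3, 2, 6, 5, 3, 0, 5, 6, 3, 2, 3, 1, 2, 1, 3, 2, 3, 1, 2, 3, 4, 2, 3, 1, 2, 3, 2, 6, 4, 3, 5, 6, 2, 3, 5, 2] [.out 868],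
  .sub [6, 4, 3, 5, 6, 2, 3, 5, 2, 6, 4, 3, 5, 6, 2, 3, 5, 2, 4, 1, 2, 6, 0, 4, 6, 3, 2, 6, 5, 3, 0, 5, 6, 3, 2, 3, 1, 2, 1, 3, 2, 3, 1, 2, 3, 4, 2, 3, 1, 2, 3, 2, 6, 4, 3, 5, 6, 2, 3, 5, 2, 2, 3, 6, 2, 3, 5, 4, 3, 6, 4, 0, 4, 1, 2, 6, 0, 4, 6, 3, 2, 6, 5, 3, 0, 5, 6, 3, 2, 3, 1, 2, 1, 3, 2, 3, 1, 2, 3, 4, 2, 3, 1, 2, 3, 2, 6, 4, 3, 5, 6, 2, 3, 5, 2] [.out 281],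
  .sub [6, 4, 3, 5, 6, 2, 3, 5, 2, 4, 1, 2, 6, 0, 4, 6, 3, 2, 6, 5, 3, 0, 5, 6, 3, 2, 3, 1, 2, 1, 3, 2, 3, 1, 2, 3, 4, 2, 3, 1, 2, 3, 2, 4, 1, 2, 6, 0, 4, 6, 3, 2, 6, 5, 3, 0, 5, 6, 3, 2, 3, 1, 2, 1, 3, 2, 3, 1, 2, 3, 4, 2, 3, 1, 2, 3, 2, 6, 4, 3, 5, 6, 2, 3, 5, 2, 2, 3, 6, 2, 3, 5, 4, 3, 6, 4, 0, 4, 1, 2, 6, 0, 4, 6, 3, 2, 6, 5, 3, 0, 5, 6, 3, 2, 3, 1, 2, 1, 3, 2, 3, 1, 2, 3, 4, 2, 3, 1, 2, 3, 2, 6, 4, 3, 5, 6, 2, 3, 5, 2] [.out 555],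
  .sub [6, 4, 3, 5, 6, 2, 3, 5, 2, 2, 3, 6, 2, 3, 5, 4, 3, 6, 4, 0, 4, 1, 2, 6, 0, 4, 6, 3, 2, 6, 5, 3, 0, 5, 6, 3, 2, 3, 1, 2, 1, 3, 2, 3, 1, 2, 3, 4, 2, 3, 1, 2, 3, 2, 6, 4, 3, 5, 6, 2, 3, 5, 2, 2, 3, 6, 2, 3, 5, 4, 3, 6, 4, 0, 4, 1, 2, 6, 0, 4, 6, 3, 2, 6, 5, 3, 0, 5, 6, 3, 2, 3, 1, 2, 1, 3, 2, 3, 1, 2, 3, 4, 2, 3, 1, 2, 3, 2, 6, 4, 3, 5, 6, 2, 3, 5, 2] [.out 182],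
  .sub [4, 1, 2, 6, 0, 4, 6, 3, 2, 6, 5, 3, 0, 5, 6, 3, 2, 3, 1, 2, 1, 3, 2, 3, 1, 2, 3, 4, 2, 3, 1, 2, 3, 2, 4, 1, 2, 6, 0, 4, 6, 3, 2, 6, 5, 3, 0, 5, 6, 3, 2, 3, 1, 2, 1, 3, 2, 3, 1, 2, 3, 4, 2, 3, 1, 2, 3, 2, 6, 4, 3, 5, 6, 2, 3, 5, 2, 4, 1, 2, 6, 0, 4, 6, 3, 2, 6, 5, 3, 0, 5, 6, 3, 2, 3, 1, 2, 1, 3, 2, 3, 1, 2, 3, 4, 2, 3, 1, 2, 3, 2, 2, 3, 6, 2, 3, 5, 4, 3, 6, 4, 0, 4, 1, 2, 6, 0, 4, 6, 3, 2, 6, 5, 3, 0, 5, 6, 3, 2, 3, 1, 2, 1, 3, 2, 3, 1, 2, 3, 4, 2, 3, 1, 2, 3, 2, 6, 4, 3, 5, 6, 2, 3, 5, 2] [.out 127],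
  .sub [4, 1, 2, 6, 0, 4, 6, 3, 2, 6, 5, 3, 0, 5, 6, 3, 2, 3, 1, 2, 1, 3, 2, 3, 1, 2, 3, 4, 2, 3, 1, 2, 3, 2, 2, 3, 1, 0, 1, 2, 2, 3, 6, 2, 3, 5, 4, 3, 6, 4, 0, 4, 1, 2, 6, 0, 4, 6, 3, 2, 6, 5, 3, 0, 5, 6, 3, 2, 3, 1, 2, 1, 3, 2, 3, 1, 2, 3, 4, 2, 3, 1, 2, 3, 2, 2, 3, 6, 2, 3, 5, 4, 3, 6, 4, 0, 4, 1, 2, 6, 0, 4, 6, 3, 2, 6, 5, 3, 0, 5, 6, 3, 2, 3, 1, 2, 1, 3, 2, 3, 1, 2, 3, 4, 2, 3, 1, 2, 3, 2, 6, 4, 3, 5, 6, 2, 3, 5, 2] [.out 110],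
  .sub [2, 3, 1, 0, 1, 2, 6, 4, 3, 5, 6, 2, 3, 5, 2, 2, 3, 1, 0, 1, 2, 6, 4, 3, 5, 6, 2, 3, 5, 2, 4, 1, 2, 6, 0, 4, 6, 3, 2, 6, 5, 3, 0, 5, 6, 3, 2, 3, 1, 2, 1, 3, 2, 3, 1, 2, 3, 4, 2, 3, 1, 2, 3, 2, 6, 4, 3, 5, 6, 2, 3, 5, 2, 4, 1, 2, 6, 0, 4, 6, 3, 2, 6, 5, 3, 0, 5, 6, 3, 2, 3, 1, 2, 1, 3, 2, 3, 1, 2, 3, 4, 2, 3, 1, 2, 3, 2] [.out 1668],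
  .sub [4, 1, 2, 6, 0, 4, 6, 3, 2, 6, 5, 3, 0, 5, 6, 3, 2, 3, 1, 2, 1, 3, 2, 3, 1, 2, 3, 4, 2, 3, 1, 2, 3, 2, 2, 3, 1, 0, 1, 2, 6, 4, 3, 5, 6, 2, 3, 5, 2, 6, 4, 3, 5, 6, 2, 3, 5, 2, 4, 1, 2, 6, 0, 4, 6, 3, 2, 6, 5, 3, 0, 5, 6, 3, 2, 3, 1, 2, 1, 3, 2, 3, 1, 2, 3, 4, 2, 3, 1, 2, 3, 2, 6, 4, 3, 5, 6, 2, 3, 5, 2, 4, 1, 2, 6, 0, 4, 6, 3, 2, 6, 5, 3, 0, 5, 6, 3, 2, 3, 1, 2, 1, 3, 2, 3, 1, 2, 3, 4, 2, 3, 1, 2, 3, 2] [.out 1620],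
  .sub [6, 4, 3, 5, 6, 2, 3, 5, 2, 4, 1, 2, 6, 0, 4, 6, 3, 2, 6, 5, 3, 0, 5, 6, 3, 2, 3, 1, 2, 1, 3, 2, 3, 1, 2, 3, 4, 2, 3, 1, 2, 3, 2, 4, 1, 2, 6, 0, 4, 6, 3, 2, 6, 5, 3, 0, 5, 6, 3, 2, 3, 1, 2, 1, 3, 2, 3, 1, 2, 3, 4, 2, 3, 1, 2, 3, 2, 6, 4, 3, 5, 6, 2, 3, 5, 2, 4, 1, 2, 6, 0, 4, 6, 3, 2, 6, 5, 3, 0, 5, 6, 3, 2, 3, 1, 2, 1, 3, 2, 3, 1, 2, 3, 4, 2, 3, 1, 2, 3, 2, 6, 4, 3, 5, 6, 2, 3, 5, 2, 4, 1, 2, 6, 0, 4, 6, 3, 2, 6, 5, 3, 0, 5, 6, 3, 2, 3, 1, 2, 1, 3, 2, 3, 1, 2, 3, 4, 2, 3, 1, 2, 3, 2] [.out 1159],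
  .sub [2, 3, 6, 2, 3, 5, 4, 3, 6, 4, 0, 4, 1, 2, 6, 0, 4, 6, 3, 2, 6, 5, 3, 0, 5, 6, 3, 2, 3, 1, 2, 1, 3, 2, 3, 1, 2, 3, 4, 2, 3, 1, 2, 3, 2, 4, 1, 2, 6, 0, 4, 6, 3, 2, 6, 5, 3, 0, 5, 6, 3, 2, 3, 1, 2, 1, 3, 2, 3, 1, 2, 3, 4, 2, 3, 1, 2, 3, 2, 6, 4, 3, 5, 6, 2, 3, 5, 2, 4, 1, 2, 6, 0, 4, 6, 3, 2, 6, 5, 3, 0, 5, 6, 3, 2, 3, 1, 2, 1, 3, 2, 3, 1, 2, 3, 4, 2, 3, 1, 2, 3, 2, 6, 4, 3, 5, 6, 2, 3, 5, 2, 4, 1, 2, 6, 0, 4, 6, 3, 2, 6, 5, 3, 0, 5, 6, 3, 2, 3, 1, 2, 1, 3, 2, 3, 1, 2, 3, 4, 2, 3, 1, 2, 3, 2] [.out 1304],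
  .sub [4, 1, 2, 6, 0, 4, 6, 3, 2, 6, 5, 3, 0, 5, 6, 3, 2, 3, 1, 2, 1, 3, 2, 3, 1, 2, 3, 4, 2, 3, 1, 2, 3, 2, 2, 3, 6, 2, 3, 5, 4, 3, 6, 4, 0, 2, 3, 6, 2, 3, 5, 4, 3, 6, 4, 0, 6, 4, 3, 5, 6, 2, 3, 5, 2, 4, 1, 2, 6, 0, 4, 6, 3, 2, 6, 5, 3, 0, 5, 6, 3, 2, 3, 1, 2, 1, 3, 2, 3, 1, 2, 3, 4, 2, 3, 1, 2, 3, 2, 6, 4, 3, 5, 6, 2, 3, 5, 2, 4, 1, 2, 6, 0, 4, 6, 3, 2, 6, 5, 3, 0, 5, 6, 3, 2, 3, 1, 2, 1, 3, 2, 3, 1, 2, 3, 4, 2, 3, 1, 2, 3, 2] [.done 56],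
  .sub [4, 1, 2, 6, 0, 4, 6, 3, 2, 6, 5, 3, 0, 5, 6, 3, 2, 3, 1, 2, 1, 3, 2, 3, 1, 2, 3, 4, 2, 3, 1, 2, 3, 2, 4, 1, 2, 6, 0, 4, 6, 3, 2, 6, 5, 3, 0, 5, 6, 3, 2, 3, 1, 2, 1, 3, 2, 3, 1, 2, 3, 4, 2, 3, 1, 2, 3, 2, 6, 4, 3, 5, 6, 2, 3, 5, 2, 2, 3, 1, 0, 1, 2, 6, 4, 3, 5, 6, 2, 3, 5, 2, 4, 1, 2, 6, 0, 4, 6, 3, 2, 6, 5, 3, 0, 5, 6, 3, 2, 3, 1, 2, 1, 3, 2, 3, 1, 2, 3, 4, 2, 3, 1, 2, 3, 2, 4, 1, 2, 6, 0, 4, 6, 3, 2, 6, 5, 3, 0, 5, 6, 3, 2, 3, 1, 2, 1, 3, 2, 3, 1, 2, 3, 4, 2, 3, 1, 2, 3, 2] [.out 793],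
  .sub [4, 1, 2, 6, 0, 4, 6, 3, 2, 6, 5, 3, 0, 5, 6, 3, 2, 3, 1, 2, 1, 3, 2, 3, 1, 2, 3, 4, 2, 3, 1, 2, 3, 2, 4, 1, 2, 6, 0, 4, 6, 3, 2, 6, 5, 3, 0, 5, 6, 3, 2, 3, 1, 2, 1, 3, 2, 3, 1, 2, 3, 4, 2, 3, 1, 2, 3, 2, 4, 1, 2, 6, 0, 4, 6, 3, 2, 6, 5, 3, 0, 5, 6, 3, 2, 3, 1, 2, 1, 3, 2, 3, 1, 2, 3, 4, 2, 3, 1, 2, 3, 2, 2, 3, 1, 0, 1, 2, 6, 4, 3, 5, 6, 2, 3, 5, 2, 4, 1, 2, 6, 0, 4, 6, 3, 2, 6, 5, 3, 0, 5, 6, 3, 2, 3, 1, 2, 1, 3, 2, 3, 1, 2, 3, 4, 2, 3, 1, 2, 3, 2, 4, 1, 2, 6, 0, 4, 6, 3, 2, 6, 5, 3, 0, 5, 6, 3, 2, 3, 1, 2, 1, 3, 2, 3, 1, 2, 3, 4, 2, 3, 1, 2, 3, 2] [.out 448],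
  .sub [4, 1, 2, 6, 0, 4, 6, 3, 2, 6, 5, 3, 0, 5, 6, 3, 2, 3, 1, 2, 1, 3, 2, 3, 1, 2, 3, 4, 2, 3, 1, 2, 3, 2, 2, 3, 6, 2, 3, 5, 4, 3, 6, 4, 0, 4, 1, 2, 6, 0, 4, 6, 3, 2, 6, 5, 3, 0, 5, 6, 3, 2, 3, 1, 2, 1, 3, 2, 3, 1, 2, 3, 4, 2, 3, 1, 2, 3, 2, 2, 3, 1, 0, 1, 2, 6, 4, 3, 5, 6, 2, 3, 5, 2, 4, 1, 2, 6, 0, 4, 6, 3, 2, 6, 5, 3, 0, 5, 6, 3, 2, 3, 1, 2, 1, 3, 2, 3, 1, 2, 3, 4, 2, 3, 1, 2, 3, 2, 4, 1, 2, 6, 0, 4, 6, 3, 2, 6, 5, 3, 0, 5, 6, 3, 2, 3, 1, 2, 1, 3, 2, 3, 1, 2, 3, 4, 2, 3, 1, 2, 3, 2] [.out 632],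
  .sub [4, 1, 2, 6, 0, 4, 6, 3, 2, 6, 5, 3, 0, 5, 6, 3, 2, 3, 1, 2, 1, 3, 2, 3, 1, 2, 3, 4, 2, 3, 1, 2, 3, 2, 4, 1, 2, 6, 0, 4, 6, 3, 2, 6, 5, 3, 0, 5, 6, 3, 2, 3, 1, 2, 1, 3, 2, 3, 1, 2, 3, 4, 2, 3, 1, 2, 3, 2, 2, 3, 1, 0, 1, 2, 6, 4, 3, 5, 6, 2, 3, 5, 2, 6, 4, 3, 5, 6, 2, 3, 5, 2, 4, 1, 2, 6, 0, 4, 6, 3, 2, 6, 5, 3, 0, 5, 6, 3, 2, 3, 1, 2, 1, 3, 2, 3, 1, 2, 3, 4, 2, 3, 1, 2, 3, 2, 4, 1, 2, 6, 0, 4, 6, 3, 2, 6, 5, 3, 0, 5, 6, 3, 2, 3, 1, 2, 1, 3, 2, 3, 1, 2, 3, 4, 2, 3, 1, 2, 3, 2] [.out 797],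
  .sub [2, 3, 1, 0, 1, 2, 6, 4, 3, 5, 6, 2, 3, 5, 2, 4, 1, 2, 6, 0, 4, 6, 3, 2, 6, 5, 3, 0, 5, 6, 3, 2, 3, 1, 2, 1, 3, 2, 3, 1, 2, 3, 4, 2, 3, 1, 2, 3, 2, 6, 4, 3, 5, 6, 2, 3, 5, 2, 6, 4, 3, 5, 6, 2, 3, 5, 2, 4, 1, 2, 6, 0, 4, 6, 3, 2, 6, 5, 3, 0, 5, 6, 3, 2, 3, 1, 2, 1, 3, 2, 3, 1, 2, 3, 4, 2, 3, 1, 2, 3, 2, 4, 1, 2, 6, 0, 4, 6, 3, 2, 6, 5, 3, 0, 5, 6, 3, 2, 3, 1, 2, 1, 3, 2, 3, 1, 2, 3, 4, 2, 3, 1, 2, 3, 2] [.out 1237],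
  .sub [2, 3, 6, 2, 3, 5, 4, 3, 6, 4, 0, 4, 1, 2, 6, 0, 4, 6, 3, 2, 6, 5, 3, 0, 5, 6, 3, 2, 3, 1, 2, 1, 3, 2, 3, 1, 2, 3, 4, 2, 3, 1, 2, 3, 2, 4, 1, 2, 6, 0, 4, 6, 3, 2, 6, 5, 3, 0, 5, 6, 3, 2, 3, 1, 2, 1, 3, 2, 3, 1, 2, 3, 4, 2, 3, 1, 2, 3, 2, 6, 4, 3, 5, 6, 2, 3, 5, 2, 6, 4, 3, 5, 6, 2, 3, 5, 2, 4, 1, 2, 6, 0, 4, 6, 3, 2, 6, 5, 3, 0, 5, 6, 3, 2, 3, 1, 2, 1, 3, 2, 3, 1, 2, 3, 4, 2, 3, 1, 2, 3, 2, 4, 1, 2, 6, 0, 4, 6, 3, 2, 6, 5, 3, 0, 5, 6, 3, 2, 3, 1, 2, 1, 3, 2, 3, 1, 2, 3, 4, 2, 3, 1, 2, 3, 2] [.done 57],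
  .sub [2, 3, 6, 2, 3, 5, 4, 3, 6, 4, 0, 4, 1, 2, 6, 0, 4, 6, 3, 2, 6, 5, 3, 0, 5, 6, 3, 2, 3, 1, 2, 1, 3, 2, 3, 1, 2, 3, 4, 2, 3, 1, 2, 3, 2, 4, 1, 2, 6, 0, 4, 6, 3, 2, 6, 5, 3, 0, 5, 6, 3, 2, 3, 1, 2, 1, 3, 2, 3, 1, 2, 3, 4, 2, 3, 1, 2, 3, 2, 4, 1, 2, 6, 0, 4, 6, 3, 2, 6, 5, 3, 0, 5, 6, 3, 2, 3, 1, 2, 1, 3, 2, 3, 1, 2, 3, 4, 2, 3, 1, 2, 3, 2, 6, 4, 3, 5, 6, 2, 3, 5, 2, 4, 1, 2, 6, 0, 4, 6, 3, 2, 6, 5, 3, 0, 5, 6, 3, 2, 3, 1, 2, 1, 3, 2, 3, 1, 2, 3, 4, 2, 3, 1, 2, 3, 2, 4, 1, 2, 6, 0, 4, 6, 3, 2, 6, 5, 3, 0, 5, 6, 3, 2, 3, 1, 2, 1, 3, 2, 3, 1, 2, 3, 4, 2, 3, 1, 2, 3, 2] [.done 58],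
  .sub [4, 1, 2, 6, 0, 4, 6, 3, 2, 6, 5, 3, 0, 5, 6, 3, 2, 3, 1, 2, 1, 3, 2, 3, 1, 2, 3, 4, 2, 3, 1, 2, 3, 2, 2, 3, 6, 2, 3, 5, 4, 3, 6, 4, 0, 4, 1, 2, 6, 0, 4, 6, 3, 2, 6, 5, 3, 0, 5, 6, 3, 2, 3, 1, 2, 1, 3, 2, 3, 1, 2, 3, 4, 2, 3, 1, 2, 3, 2, 2, 3, 6, 2, 3, 5, 4, 3, 6, 4, 0, 6, 4, 3, 5, 6, 2, 3, 5, 2, 4, 1, 2, 6, 0, 4, 6, 3, 2, 6, 5, 3, 0, 5, 6, 3, 2, 3, 1, 2, 1, 3, 2, 3, 1, 2, 3, 4, 2, 3, 1, 2, 3, 2, 4, 1, 2, 6, 0, 4, 6, 3, 2, 6, 5, 3, 0, 5, 6, 3, 2, 3, 1, 2, 1, 3, 2, 3, 1, 2, 3, 4, 2, 3, 1, 2, 3, 2] [.out 116],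
  .sub [6, 4, 3, 5, 6, 2, 3, 5, 2, 4, 1, 2, 6, 0, 4, 6, 3, 2, 6, 5, 3, 0, 5, 6, 3, 2, 3, 1, 2, 1, 3, 2, 3, 1, 2, 3, 4, 2, 3, 1, 2, 3, 2, 2, 3, 6, 2, 3, 5, 4, 3, 6, 4, 0, 2, 3, 6, 2, 3, 5, 4, 3, 6, 4, 0, 6, 4, 3, 5, 6, 2, 3, 5, 2, 4, 1, 2, 6, 0, 4, 6, 3, 2, 6, 5, 3, 0, 5, 6, 3, 2, 3, 1, 2, 1, 3, 2, 3, 1, 2, 3, 4, 2, 3, 1, 2, 3, 2, 4, 1, 2, 6, 0, 4, 6, 3, 2, 6, 5, 3, 0, 5, 6, 3, 2, 3, 1, 2, 1, 3, 2, 3, 1, 2, 3, 4, 2, 3, 1, 2, 3, 2] [.done 59],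
  .sub [2, 3, 6, 2, 3, 5, 4, 3, 6, 4, 0, 4, 1, 2, 6, 0, 4, 6, 3, 2, 6, 5, 3, 0, 5, 6, 3, 2, 3, 1, 2, 1, 3, 2, 3, 1, 2, 3, 4, 2, 3, 1, 2, 3, 2, 2, 3, 6, 2, 3, 5, 4, 3, 6, 4, 0, 2, 3, 6, 2, 3, 5, 4, 3, 6, 4, 0, 6, 4, 3, 5, 6, 2, 3, 5, 2, 4, 1, 2, 6, 0, 4, 6, 3, 2, 6, 5, 3, 0, 5, 6, 3, 2, 3, 1, 2, 1, 3, 2, 3, 1, 2, 3, 4, 2, 3, 1, 2, 3, 2, 4, 1, 2, 6, 0, 4, 6, 3, 2, 6, 5, 3, 0, 5, 6, 3, 2, 3, 1, 2, 1, 3, 2, 3, 1, 2, 3, 4, 2, 3, 1, 2, 3, 2] [.out 116],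
  .sub [4, 1, 2, 6, 0, 4, 6, 3, 2, 6, 5, 3, 0, 5, 6, 3, 2, 3, 1, 2, 1, 3, 2, 3, 1, 2, 3, 4, 2, 3, 1, 2, 3, 2, 4, 1, 2, 6, 0, 4, 6, 3, 2, 6, 5, 3, 0, 5, 6, 3, 2, 3, 1, 2, 1, 3, 2, 3, 1, 2, 3, 4, 2, 3, 1, 2, 3, 2, 4, 1, 2, 6, 0, 4, 6, 3, 2, 6, 5, 3, 0, 5, 6, 3, 2, 3, 1, 2, 1, 3, 2, 3, 1, 2, 3, 4, 2, 3, 1, 2, 3, 2, 6, 4, 3, 5, 6, 2, 3, 5, 2, 4, 1, 2, 6, 0, 4, 6, 3, 2, 6, 5, 3, 0, 5, 6, 3, 2, 3, 1, 2, 1, 3, 2, 3, 1, 2, 3, 4, 2, 3, 1, 2, 3, 2, 4, 1, 2, 6, 0, 4, 6, 3, 2, 6, 5, 3, 0, 5, 6, 3, 2, 3, 1, 2, 1, 3, 2, 3, 1, 2, 3, 4, 2, 3, 1, 2, 3, 2, 4, 1, 2, 6, 0, 4, 6, 3, 2, 6, 5, 3, 0, 5, 6, 3, 2, 3, 1, 2, 1, 3, 2, 3, 1,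 2, 3, 4, 2, 3, 1, 2, 3, 2] [.out 797],
  .sub [2, 3, 1, 0, 1, 2, 2, 3, 6, 2, 3, 5, 4, 3, 6, 4, 0, 4, 1, 2, 6, 0, 4, 6, 3, 2, 6, 5, 3, 0, 5, 6, 3, 2, 3, 1, 2, 1, 3, 2, 3, 1, 2, 3, 4, 2, 3, 1, 2, 3, 2, 6, 4, 3, 5, 6, 2, 3, 5, 2, 4, 1, 2, 6, 0, 4, 6, 3, 2, 6, 5, 3, 0, 5, 6, 3, 2, 3, 1, 2, 1, 3, 2, 3, 1, 2, 3, 4, 2, 3, 1, 2, 3, 2, 4, 1, 2, 6, 0, 4, 6, 3, 2, 6, 5, 3, 0, 5, 6, 3, 2, 3, 1, 2, 1, 3, 2, 3, 1, 2, 3, 4, 2, 3, 1, 2, 3, 2, 4, 1, 2, 6, 0, 4, 6, 3, 2, 6, 5, 3, 0, 5, 6, 3, 2, 3, 1, 2, 1, 3, 2, 3, 1, 2, 3, 4, 2, 3, 1, 2, 3, 2] [.done 60],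
  .sub [6, 4, 3, 5, 6, 2, 3, 5, 2, 4, 1, 2, 6, 0, 4, 6, 3, 2, 6, 5, 3, 0, 5, 6, 3, 2, 3, 1, 2, 1, 3, 2, 3, 1, 2, 3, 4, 2, 3, 1, 2, 3, 2, 6, 4, 3, 5, 6, 2, 3, 5, 2, 4, 1, 2, 6, 0, 4, 6, 3, 2, 6, 5, 3, 0, 5, 6, 3, 2, 3, 1, 2, 1, 3, 2, 3, 1, 2, 3, 4, 2, 3, 1, 2, 3, 2, 4, 1, 2, 6, 0, 4, 6, 3, 2, 6, 5, 3, 0, 5, 6, 3, 2, 3, 1, 2, 1, 3, 2, 3, 1, 2, 3, 4, 2, 3, 1, 2, 3, 2, 2, 3, 1, 0, 1, 2, 2, 3, 6, 2, 3, 5, 4, 3, 6, 4, 0] [.out 922],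
  .sub [2, 3, 1, 0, 1, 2, 6, 4, 3, 5, 6, 2, 3, 5, 2, 4, 1, 2, 6, 0, 4, 6, 3, 2, 6, 5, 3, 0, 5, 6, 3, 2, 3, 1, 2, 1, 3, 2, 3, 1, 2, 3, 4, 2, 3, 1, 2, 3, 2, 2, 3, 6, 2, 3, 5, 4, 3, 6, 4, 0, 6, 4, 3, 5, 6, 2, 3, 5, 2, 4, 1, 2, 6, 0, 4, 6, 3, 2, 6, 5, 3, 0, 5, 6, 3, 2, 3, 1, 2, 1, 3, 2, 3, 1, 2, 3, 4, 2, 3, 1, 2, 3, 2, 2, 3, 6, 2, 3, 5, 4, 3, 6, 4, 0] [.out 2051],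
  .sub [4, 1, 2, 6, 0, 4, 6, 3, 2, 6, 5, 3, 0, 5, 6, 3, 2, 3, 1, 2, 1, 3, 2, 3, 1, 2, 3, 4, 2, 3, 1, 2, 3, 2, 6, 4, 3, 5, 6, 2, 3, 5, 2, 4, 1, 2, 6, 0, 4, 6, 3, 2, 6, 5, 3, 0, 5, 6, 3, 2, 3, 1, 2, 1, 3, 2, 3, 1, 2, 3, 4, 2, 3, 1, 2, 3, 2, 2, 3, 6, 2, 3, 5, 4, 3, 6, 4, 0, 6, 4, 3, 5, 6, 2, 3, 5, 2, 4, 1, 2, 6, 0, 4, 6, 3, 2, 6, 5, 3, 0, 5, 6, 3, 2, 3, 1, 2, 1, 3, 2, 3, 1, 2, 3, 4, 2, 3, 1, 2, 3, 2, 2, 3, 6, 2, 3, 5, 4, 3, 6, 4, 0] [.out 922],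
  .sub [2, 3, 6, 2, 3, 5, 4, 3, 6, 4, 0, 2, 3, 6, 2, 3, 5, 4, 3, 6, 4, 0, 4, 1, 2, 6, 0, 4, 6, 3, 2, 6, 5, 3, 0, 5, 6, 3, 2, 3, 1, 2, 1, 3, 2, 3, 1, 2, 3, 4, 2, 3, 1, 2, 3, 2, 2, 3, 6, 2, 3, 5, 4, 3, 6, 4, 0, 6, 4, 3, 5, 6, 2, 3, 5, 2, 4, 1, 2, 6, 0, 4, 6, 3, 2, 6, 5, 3, 0, 5, 6, 3, 2, 3, 1, 2, 1, 3, 2, 3, 1, 2, 3, 4, 2, 3, 1, 2, 3, 2, 2, 3, 6, 2, 3, 5, 4, 3, 6, 4, 0] [.done 61],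
  .sub [2, 3, 1, 0, 1, 2, 6, 4, 3, 5, 6, 2, 3, 5, 2, 2, 3, 1, 0, 1, 2, 6, 4, 3, 5, 6, 2, 3, 5, 2, 4, 1, 2, 6, 0, 4, 6, 3, 2, 6, 5, 3, 0, 5, 6, 3, 2, 3, 1, 2, 1, 3, 2, 3, 1, 2, 3, 4, 2, 3, 1, 2, 3, 2, 2, 3, 6, 2, 3, 5, 4, 3, 6, 4, 0, 2, 3, 6, 2, 3, 5, 4, 3, 6, 4, 0] [.out 448],
  .sub [4, 1, 2, 6, 0, 4, 6, 3, 2, 6, 5, 3, 0, 5, 6, 3, 2, 3, 1, 2, 1, 3, 2, 3, 1, 2, 3, 4, 2, 3, 1, 2, 3, 2, 2, 3, 1, 0, 1, 2, 6, 4, 3, 5, 6, 2, 3, 5, 2, 6, 4, 3, 5, 6, 2, 3, 5, 2, 4, 1, 2, 6, 0, 4, 6, 3, 2, 6, 5, 3, 0, 5, 6, 3, 2, 3, 1, 2, 1, 3, 2, 3, 1, 2, 3, 4, 2, 3, 1, 2, 3, 2, 2, 3, 6, 2, 3, 5, 4, 3, 6, 4, 0, 2, 3, 6, 2, 3, 5, 4, 3,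 6, 4, 0] [.out 1689],
  .sub [2, 3, 6, 2, 3, 5, 4, 3, 6, 4, 0, 4, 1, 2, 6, 0, 4, 6, 3, 2, 6, 5, 3, 0, 5, 6, 3, 2, 3, 1, 2, 1, 3, 2, 3, 1, 2, 3, 4, 2, 3, 1, 2, 3, 2, 2, 3, 6, 2, 3, 5, 4, 3, 6, 4, 0, 6, 4, 3, 5, 6, 2, 3, 5, 2, 4, 1, 2, 6, 0, 4, 6, 3, 2, 6, 5, 3, 0, 5, 6, 3, 2, 3, 1, 2, 1, 3, 2, 3, 1, 2, 3, 4, 2, 3, 1, 2, 3, 2, 2, 3, 6, 2, 3, 5, 4, 3, 6, 4, 0, 2, 3, 6, 2, 3, 5, 4, 3, 6, 4, 0] [.done 62],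
  .sub [4, 1, 2, 6, 0, 4, 6, 3, 2, 6, 5, 3, 0, 5, 6, 3, 2, 3, 1, 2, 1, 3, 2, 3, 1, 2, 3, 4, 2, 3, 1, 2, 3, 2, 2, 3, 6, 2, 3, 5, 4, 3, 6, 4, 0, 2, 3, 6, 2, 3, 5, 4, 3, 6, 4, 0, 6, 4, 3, 5, 6, 2, 3, 5, 2, 4, 1, 2, 6, 0, 4, 6, 3, 2, 6, 5, 3, 0, 5, 6, 3, 2, 3, 1, 2, 1, 3, 2, 3, 1, 2, 3, 4, 2, 3, 1, 2, 3, 2, 2, 3, 6, 2, 3, 5, 4, 3, 6, 4, 0, 2, 3, 6, 2, 3, 5, 4, 3, 6, 4, 0] [.out 797],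
  .sub [2, 3, 6, 2, 3, 5, 4, 3, 6, 4, 0, 4, 1, 2, 6, 0, 4, 6, 3, 2, 6, 5, 3, 0, 5, 6, 3, 2, 3, 1, 2, 1, 3, 2, 3, 1, 2, 3, 4, 2, 3, 1, 2, 3, 2, 4, 1, 2, 6, 0, 4, 6, 3, 2, 6, 5, 3, 0, 5, 6, 3, 2, 3, 1, 2, 1, 3, 2, 3, 1, 2, 3, 4, 2, 3, 1, 2, 3, 2, 6, 4, 3, 5, 6, 2, 3, 5, 2, 6, 4, 3, 5, 6, 2, 3, 5, 2, 4, 1, 2, 6, 0, 4, 6, 3, 2, 6, 5, 3, 0, 5, 6, 3, 2, 3, 1, 2, 1, 3, 2, 3, 1, 2, 3, 4, 2, 3, 1, 2, 3, 2, 2, 3, 1, 0, 1, 2, 6, 4, 3, 5, 6, 2, 3, 5, 2] [.out 819],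
  .sub [4, 1, 2, 6, 0, 4, 6, 3, 2, 6, 5, 3, 0, 5, 6, 3, 2, 3, 1, 2, 1, 3, 2, 3, 1, 2, 3, 4, 2, 3, 1, 2, 3, 2, 4, 1, 2, 6, 0, 4, 6, 3, 2, 6, 5, 3, 0, 5, 6, 3, 2, 3, 1, 2, 1, 3, 2, 3, 1, 2, 3, 4, 2, 3, 1, 2, 3, 2, 6, 4, 3, 5, 6, 2, 3, 5, 2, 2, 3, 1, 0, 1, 2, 6, 4, 3, 5, 6, 2, 3, 5, 2, 4, 1, 2, 6, 0, 4, 6, 3, 2, 6, 5, 3, 0, 5, 6, 3, 2, 3, 1, 2, 1, 3, 2, 3, 1, 2, 3, 4, 2, 3, 1, 2, 3, 2, 6, 4, 3, 5, 6, 2, 3, 5, 2, 6, 4, 3, 5, 6, 2, 3, 5, 2] [.out 70],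
  .sub [2, 3, 6, 2, 3, 5, 4, 3, 6, 4, 0, 2, 3, 6, 2, 3, 5, 4, 3, 6, 4, 0, 4, 1, 2, 6, 0, 4, 6, 3, 2, 6, 5, 3, 0, 5, 6, 3, 2, 3, 1, 2, 1, 3, 2, 3, 1, 2, 3, 4, 2, 3, 1, 2, 3, 2, 4, 1, 2, 6, 0, 4, 6, 3, 2, 6, 5, 3, 0, 5, 6, 3, 2, 3, 1, 2, 1, 3, 2, 3, 1, 2, 3, 4, 2, 3, 1, 2, 3, 2, 6, 4, 3, 5, 6, 2, 3, 5, 2, 4, 1, 2, 6, 0, 4, 6, 3, 2, 6, 5, 3, 0, 5, 6, 3, 2, 3, 1, 2, 1, 3, 2, 3, 1, 2, 3, 4, 2, 3, 1, 2, 3, 2, 6, 4, 3, 5, 6, 2, 3, 5, 2, 4, 1, 2, 6, 0, 4, 6, 3, 2, 6, 5, 3, 0, 5, 6, 3, 2, 3, 1, 2, 1, 3, 2, 3, 1, 2, 3, 4, 2, 3, 1, 2, 3, 2] [.done 63]]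

/-- Branches. -/
def kidsZAll15 : List Branch :=
  ([kidsZPart13, kidsZPart14] : List (List Branch)).flatten

/-- Branches. -/
def kidsZPart16 : List Branch := [
  .sub [] [.done 64],
  .sub [6, 4, 3, 5, 6, 2, 3, 5, 2] [.out 724],
  .sub [4, 1, 2, 6, 0, 4, 6, 3, 2, 6, 5, 3, 0, 5, 6, 3, 2, 3, 1, 2, 1, 3, 2, 3, 1, 2, 3, 4, 2, 3, 1, 2, 3, 2] [.out 70],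
  .sub [2, 3, 6, 2, 3, 5, 4, 3, 6, 4, 0] [.out 841],
  .sub [2, 3, 1, 0, 1, 2, 6, 4, 3, 5, 6, 2, 3, 5, 2] [.out 715],
  .sub [6, 4, 3, 5, 6, 2, 3, 5, 2, 6, 4, 3, 5, 6, 2, 3, 5, 2] [.out 299],
  .sub [4, 1, 2, 6, 0, 4, 6, 3, 2, 6, 5, 3, 0, 5, 6, 3, 2, 3, 1, 2, 1, 3, 2, 3, 1, 2, 3, 4, 2, 3, 1, 2, 3, 2, 6, 4, 3, 5, 6, 2, 3, 5, 2] [.out 2051],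
  .sub [6, 4, 3, 5, 6, 2, 3, 5, 2, 4, 1, 2, 6, 0, 4, 6, 3, 2, 6, 5, 3, 0, 5, 6, 3, 2, 3, 1, 2, 1, 3, 2, 3, 1, 2, 3, 4, 2, 3, 1, 2, 3, 2] [.out 1023],
  .sub [4, 1, 2, 6, 0, 4, 6, 3, 2, 6, 5, 3, 0, 5, 6, 3, 2, 3, 1, 2, 1, 3, 2, 3, 1, 2, 3, 4, 2, 3, 1, 2, 3, 2, 4, 1, 2, 6, 0, 4, 6, 3, 2, 6, 5, 3, 0, 5, 6, 3, 2, 3, 1, 2, 1, 3, 2, 3, 1, 2, 3, 4, 2, 3, 1, 2, 3, 2] [.done 65],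
  .sub [2, 3, 6, 2, 3, 5, 4, 3, 6, 4, 0, 4, 1, 2, 6, 0, 4, 6, 3, 2, 6, 5, 3, 0, 5, 6, 3, 2, 3, 1, 2, 1, 3, 2, 3, 1, 2, 3, 4, 2, 3, 1, 2, 3, 2] [.out 1689],
  .sub [2, 3, 1, 0, 1, 2, 2, 3, 6, 2, 3, 5, 4, 3, 6, 4, 0] [.out 1689],
  .sub [6, 4, 3, 5, 6, 2, 3, 5, 2, 2, 3, 6, 2, 3, 5, 4, 3, 6, 4, 0] [.done 66],
  .sub [4, 1, 2, 6, 0, 4, 6, 3, 2, 6, 5, 3, 0, 5, 6, 3, 2, 3, 1, 2, 1, 3, 2, 3, 1, 2, 3, 4, 2, 3, 1, 2, 3, 2, 2, 3, 6, 2, 3, 5, 4, 3, 6, 4, 0] [.out 793],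
  .sub [2, 3, 6, 2, 3, 5, 4, 3, 6, 4, 0, 2, 3, 6, 2, 3, 5, 4, 3, 6, 4, 0] [.out 2038],
  .sub [4, 1, 2, 6, 0, 4, 6, 3, 2, 6, 5, 3, 0, 5, 6, 3, 2, 3, 1, 2, 1, 3, 2, 3, 1, 2, 3, 4, 2, 3, 1, 2, 3, 2, 2, 3, 1, 0, 1, 2, 6, 4, 3, 5, 6, 2, 3, 5, 2] [.out 281],
  .sub [2, 3, 6, 2, 3, 5, 4, 3, 6, 4, 0, 2, 3, 1, 0, 1, 2, 6, 4, 3, 5, 6, 2, 3, 5, 2] [.out 1464],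
  .sub [4, 1, 2, 6, 0, 4, 6, 3, 2, 6, 5, 3, 0, 5, 6, 3, 2, 3, 1, 2, 1, 3, 2, 3, 1, 2, 3, 4, 2, 3, 1, 2, 3, 2, 6, 4, 3, 5, 6, 2, 3, 5, 2, 6, 4, 3, 5, 6, 2, 3, 5, 2] [.out 1689],
  .sub [6, 4, 3, 5, 6, 2, 3, 5, 2, 4, 1, 2, 6, 0, 4, 6, 3, 2, 6, 5, 3, 0, 5, 6, 3, 2, 3, 1, 2, 1, 3, 2, 3, 1, 2, 3, 4, 2, 3, 1, 2, 3, 2, 6, 4, 3, 5, 6, 2, 3, 5, 2] [.done 67],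
  .sub [4, 1, 2, 6, 0, 4, 6, 3, 2, 6, 5, 3, 0, 5, 6, 3, 2, 3, 1, 2, 1, 3, 2, 3, 1, 2, 3, 4, 2, 3, 1, 2, 3, 2, 4, 1, 2, 6, 0, 4, 6, 3, 2, 6, 5, 3, 0, 5, 6, 3, 2, 3, 1, 2, 1, 3, 2, 3, 1, 2, 3, 4, 2, 3, 1, 2, 3, 2, 6, 4, 3, 5, 6, 2, 3, 5, 2] [.out 715],
  .sub [2, 3, 6, 2, 3, 5, 4, 3, 6, 4, 0, 4, 1, 2, 6, 0, 4, 6, 3, 2, 6, 5, 3, 0, 5, 6, 3, 2, 3, 1, 2, 1, 3, 2, 3, 1, 2, 3, 4, 2, 3, 1, 2, 3, 2, 6, 4, 3, 5, 6, 2, 3, 5, 2] [.out 70],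
  .sub [4, 1, 2, 6, 0, 4, 6, 3, 2, 6, 5, 3, 0, 5, 6, 3, 2, 3, 1, 2, 1, 3, 2, 3, 1, 2, 3, 4, 2, 3, 1, 2, 3, 2, 6, 4, 3, 5, 6, 2, 3, 5, 2, 4, 1, 2, 6, 0, 4, 6, 3, 2, 6, 5, 3, 0, 5, 6, 3, 2, 3, 1, 2, 1, 3, 2, 3, 1, 2, 3, 4, 2, 3, 1, 2, 3, 2] [.out 793],
  .sub [6, 4, 3, 5, 6, 2, 3, 5, 2, 4, 1, 2, 6, 0, 4, 6, 3, 2, 6, 5, 3, 0, 5, 6, 3, 2, 3, 1, 2, 1, 3, 2, 3, 1, 2, 3, 4, 2, 3, 1, 2, 3, 2, 4, 1, 2, 6, 0, 4, 6, 3, 2, 6, 5, 3, 0, 5, 6, 3, 2, 3, 1, 2, 1, 3, 2, 3, 1, 2, 3, 4, 2, 3, 1, 2, 3, 2] [.out 1802],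
  .sub [4, 1, 2, 6, 0, 4, 6, 3, 2, 6, 5, 3, 0, 5, 6, 3, 2, 3, 1, 2, 1, 3, 2, 3, 1, 2, 3, 4, 2, 3, 1, 2, 3, 2, 4, 1, 2, 6, 0, 4, 6, 3, 2, 6, 5, 3, 0, 5, 6, 3, 2, 3, 1, 2, 1, 3, 2, 3, 1, 2, 3, 4, 2, 3, 1, 2, 3, 2, 4, 1, 2, 6, 0, 4, 6, 3, 2, 6, 5, 3, 0, 5, 6, 3, 2, 3, 1, 2, 1, 3, 2, 3, 1, 2, 3, 4, 2, 3, 1, 2, 3, 2] [.out 116],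
  .sub [2, 3, 6, 2, 3, 5, 4, 3, 6, 4, 0, 4, 1, 2, 6, 0, 4, 6, 3, 2, 6, 5, 3, 0, 5, 6, 3, 2, 3, 1, 2, 1, 3, 2, 3, 1, 2, 3, 4, 2, 3, 1, 2, 3, 2, 4, 1, 2, 6, 0, 4, 6, 3, 2, 6, 5, 3, 0, 5, 6, 3, 2, 3, 1, 2, 1, 3, 2, 3, 1, 2, 3, 4, 2, 3, 1, 2, 3, 2] [.out 1668],
  .sub [4, 1, 2, 6, 0, 4, 6, 3, 2, 6, 5, 3, 0, 5, 6, 3, 2, 3, 1, 2, 1, 3, 2, 3, 1, 2, 3, 4, 2, 3, 1, 2, 3, 2, 2, 3, 6, 2, 3, 5, 4, 3, 6, 4, 0, 4, 1, 2, 6, 0, 4, 6, 3, 2, 6, 5, 3, 0, 5, 6, 3, 2, 3, 1, 2, 1, 3, 2, 3, 1, 2, 3, 4, 2, 3, 1, 2, 3, 2] [.out 1777],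
  .sub [4, 1, 2, 6, 0, 4, 6, 3, 2, 6, 5, 3, 0, 5, 6, 3, 2, 3, 1, 2, 1, 3, 2, 3, 1, 2, 3, 4, 2, 3, 1, 2, 3, 2, 2, 3, 1, 0, 1, 2, 2, 3, 6, 2, 3, 5, 4, 3, 6, 4, 0] [.out 182],
  .sub [4, 1, 2, 6, 0, 4, 6, 3, 2, 6, 5, 3, 0, 5, 6, 3, 2, 3, 1, 2, 1, 3, 2, 3, 1, 2, 3, 4, 2, 3, 1, 2, 3, 2, 6, 4, 3, 5, 6, 2, 3, 5, 2, 2, 3, 6, 2, 3, 5, 4, 3, 6, 4, 0] [.out 1370],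
  .sub [6, 4, 3, 5, 6, 2, 3, 5, 2, 4, 1, 2, 6, 0, 4, 6, 3, 2, 6, 5, 3, 0, 5, 6, 3, 2, 3, 1, 2, 1, 3, 2, 3, 1, 2, 3, 4, 2, 3, 1, 2, 3, 2, 2, 3, 6, 2, 3, 5, 4, 3, 6, 4, 0] [.out 1378],
  .sub [4, 1, 2, 6, 0, 4, 6, 3, 2, 6, 5, 3, 0, 5, 6, 3, 2, 3, 1, 2, 1, 3, 2, 3, 1, 2, 3, 4, 2, 3, 1, 2, 3, 2, 4, 1, 2, 6, 0, 4, 6, 3, 2, 6, 5, 3, 0, 5, 6, 3, 2, 3, 1, 2, 1, 3, 2, 3, 1, 2, 3, 4, 2, 3, 1, 2, 3, 2, 2, 3, 6, 2, 3, 5, 4, 3, 6, 4, 0] [.out 1689],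
  .sub [2, 3, 6, 2, 3, 5, 4, 3, 6, 4, 0, 4, 1, 2, 6, 0, 4, 6, 3, 2, 6, 5, 3, 0, 5, 6, 3, 2, 3, 1, 2, 1, 3, 2, 3, 1, 2, 3, 4, 2, 3, 1, 2, 3, 2, 2, 3, 6, 2, 3, 5, 4, 3, 6, 4, 0] [.out 1777],
  .sub [4, 1, 2, 6, 0, 4, 6, 3, 2, 6, 5, 3, 0, 5, 6, 3, 2, 3, 1, 2, 1, 3, 2, 3, 1, 2, 3, 4, 2, 3, 1, 2, 3, 2, 2, 3, 6, 2, 3, 5, 4, 3, 6, 4, 0, 2, 3, 6, 2, 3, 5, 4, 3, 6, 4, 0] [.done 68],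
  .sub [6, 4, 3, 5, 6, 2, 3, 5, 2, 4, 1, 2, 6, 0, 4, 6, 3, 2, 6, 5, 3, 0, 5, 6, 3, 2, 3, 1, 2, 1, 3, 2, 3, 1, 2, 3, 4, 2, 3, 1, 2, 3, 2, 2, 3, 1, 0, 1, 2, 6, 4, 3, 5, 6, 2, 3, 5, 2] [.out 382],
  .sub [4, 1, 2, 6, 0, 4, 6, 3, 2, 6, 5, 3, 0, 5, 6, 3, 2, 3, 1, 2, 1, 3, 2, 3, 1, 2, 3, 4, 2, 3, 1, 2, 3, 2, 4, 1, 2, 6, 0, 4, 6, 3, 2, 6, 5, 3, 0, 5, 6, 3, 2, 3, 1, 2, 1, 3, 2, 3, 1, 2, 3, 4, 2, 3, 1, 2, 3, 2, 2, 3, 1, 0, 1, 2, 6, 4, 3, 5, 6, 2, 3, 5, 2] [.out 724],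
  .sub [2, 3, 6, 2, 3, 5, 4, 3, 6, 4, 0, 4, 1, 2, 6, 0, 4, 6, 3, 2, 6, 5, 3, 0, 5, 6, 3, 2, 3, 1, 2, 1, 3, 2, 3, 1, 2, 3, 4, 2, 3, 1, 2, 3, 2, 2, 3, 1, 0, 1, 2, 6, 4, 3, 5, 6, 2, 3, 5, 2] [.done 69],
  .sub [4, 1, 2, 6, 0, 4, 6, 3, 2, 6, 5, 3, 0, 5, 6, 3, 2, 3, 1, 2, 1, 3, 2, 3, 1, 2, 3, 4, 2, 3, 1, 2, 3, 2, 2, 3, 6, 2, 3, 5, 4, 3, 6, 4, 0, 2, 3, 1, 0, 1, 2, 6, 4, 3, 5, 6, 2, 3, 5, 2] [.out 2051],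
  .sub [6, 4, 3, 5, 6, 2, 3, 5, 2, 4, 1, 2, 6, 0, 4, 6, 3, 2, 6, 5, 3, 0, 5, 6, 3, 2, 3, 1, 2, 1, 3, 2, 3, 1, 2, 3, 4, 2, 3, 1, 2, 3, 2, 6, 4, 3, 5, 6, 2, 3, 5, 2, 6, 4, 3, 5, 6, 2, 3, 5, 2] [.out 1620],
  .sub [4, 1, 2, 6, 0, 4, 6, 3, 2, 6, 5, 3, 0, 5, 6, 3, 2, 3, 1, 2, 1, 3, 2, 3, 1, 2, 3, 4, 2, 3, 1, 2, 3, 2, 4, 1, 2, 6, 0, 4, 6, 3, 2, 6, 5, 3, 0, 5, 6, 3, 2, 3, 1, 2, 1, 3, 2, 3, 1, 2, 3, 4, 2, 3, 1, 2, 3, 2, 6, 4, 3, 5, 6, 2, 3, 5, 2, 6, 4, 3, 5, 6, 2, 3, 5, 2] [.out 793],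
  .sub [2, 3, 6, 2, 3, 5, 4, 3, 6, 4, 0, 4, 1, 2, 6, 0, 4, 6, 3, 2, 6, 5, 3, 0, 5, 6, 3, 2, 3, 1, 2, 1, 3, 2, 3, 1, 2, 3, 4, 2, 3, 1, 2, 3, 2, 6, 4, 3, 5, 6, 2, 3, 5, 2, 6, 4, 3, 5, 6, 2, 3, 5, 2] [.out 2051],
  .sub [2, 3, 1, 0, 1, 2, 6, 4, 3, 5, 6, 2, 3, 5, 2, 4, 1, 2, 6, 0, 4, 6, 3, 2, 6, 5, 3, 0, 5, 6, 3, 2, 3, 1, 2, 1, 3, 2, 3, 1, 2, 3, 4, 2, 3, 1, 2, 3, 2, 6, 4, 3, 5, 6, 2, 3, 5, 2] [.done 70],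
  .sub [6, 4, 3, 5, 6, 2, 3, 5, 2, 6, 4, 3, 5, 6, 2, 3, 5, 2, 4, 1, 2, 6, 0, 4, 6, 3, 2, 6, 5, 3, 0, 5, 6, 3, 2, 3, 1, 2, 1, 3, 2, 3, 1, 2, 3, 4, 2, 3, 1, 2, 3, 2, 6, 4, 3, 5, 6, 2, 3, 5, 2] [.out 1159],
  .sub [4, 1, 2, 6, 0, 4, 6, 3, 2, 6, 5, 3, 0, 5, 6, 3, 2, 3, 1, 2, 1, 3, 2, 3, 1, 2, 3, 4, 2, 3, 1, 2, 3, 2, 6, 4, 3, 5, 6, 2, 3, 5, 2, 4, 1, 2, 6, 0, 4, 6, 3, 2, 6, 5, 3, 0, 5, 6, 3, 2, 3, 1, 2, 1, 3, 2, 3, 1, 2, 3, 4, 2, 3, 1, 2, 3, 2, 6, 4, 3, 5, 6, 2, 3, 5, 2] [.done 71],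
  .sub [2, 3, 6, 2, 3, 5, 4, 3, 6, 4, 0, 6, 4, 3, 5, 6, 2, 3, 5, 2, 4, 1, 2, 6, 0, 4, 6, 3, 2, 6, 5, 3, 0, 5, 6, 3, 2, 3, 1, 2, 1, 3, 2, 3, 1, 2, 3, 4, 2, 3, 1, 2, 3, 2, 6, 4, 3, 5, 6, 2, 3, 5, 2] [.out 1083],
  .sub [6, 4, 3, 5, 6, 2, 3, 5, 2, 4, 1, 2, 6, 0, 4, 6, 3, 2, 6, 5, 3, 0, 5, 6, 3, 2, 3, 1, 2, 1, 3, 2, 3, 1, 2, 3, 4, 2, 3, 1, 2, 3, 2, 4, 1, 2, 6, 0, 4, 6, 3, 2, 6, 5, 3, 0, 5, 6, 3, 2, 3, 1, 2, 1, 3, 2, 3, 1, 2, 3, 4, 2, 3, 1, 2, 3, 2, 6, 4, 3, 5, 6, 2, 3, 5, 2] [.out 797],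
  .sub [4, 1, 2, 6, 0, 4, 6, 3, 2, 6, 5, 3, 0, 5, 6, 3, 2, 3, 1, 2, 1, 3, 2, 3, 1, 2, 3, 4, 2, 3, 1, 2, 3, 2, 4, 1, 2, 6, 0, 4, 6, 3, 2, 6, 5, 3, 0, 5, 6, 3, 2, 3, 1, 2, 1, 3, 2, 3, 1, 2, 3, 4, 2, 3, 1, 2, 3, 2, 4, 1, 2, 6, 0, 4, 6, 3, 2, 6, 5, 3, 0, 5, 6, 3, 2, 3, 1, 2, 1, 3, 2, 3, 1, 2, 3, 4, 2, 3, 1, 2, 3, 2, 6, 4, 3, 5, 6, 2, 3, 5, 2] [.out 281],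
  .sub [2, 3, 1, 0, 1, 2, 2, 3, 6, 2, 3, 5, 4, 3, 6, 4, 0, 4, 1, 2, 6, 0, 4, 6, 3, 2, 6, 5, 3, 0, 5, 6, 3, 2, 3, 1, 2, 1, 3, 2, 3, 1, 2, 3, 4, 2, 3, 1, 2, 3, 2, 6, 4, 3, 5, 6, 2, 3, 5, 2] [.out 116],
  .sub [6, 4, 3, 5, 6, 2, 3, 5, 2, 2, 3, 6, 2, 3, 5, 4, 3, 6, 4, 0, 4, 1, 2, 6, 0, 4, 6, 3, 2, 6, 5, 3, 0, 5, 6, 3, 2, 3, 1, 2, 1, 3, 2, 3, 1, 2, 3, 4, 2, 3, 1, 2, 3, 2, 6, 4, 3, 5, 6, 2, 3, 5, 2] [.out 1237],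
  .sub [4, 1, 2, 6, 0, 4, 6, 3, 2, 6, 5, 3, 0, 5, 6, 3, 2, 3, 1, 2, 1, 3, 2, 3, 1, 2, 3, 4, 2, 3, 1, 2, 3, 2, 2, 3, 6, 2, 3, 5, 4, 3, 6, 4, 0, 4, 1, 2, 6, 0, 4, 6, 3, 2, 6, 5, 3, 0, 5, 6, 3, 2, 3, 1, 2, 1, 3, 2, 3, 1, 2, 3, 4, 2, 3, 1, 2, 3, 2, 6, 4, 3, 5, 6, 2, 3, 5, 2] [.done 72],
  .sub [2, 3, 6, 2, 3, 5, 4, 3, 6, 4, 0, 2, 3, 6, 2, 3, 5, 4, 3, 6, 4, 0, 4, 1, 2, 6, 0, 4, 6, 3, 2, 6, 5, 3, 0, 5, 6, 3, 2, 3, 1, 2, 1, 3, 2, 3, 1, 2, 3, 4, 2, 3, 1, 2, 3, 2, 6, 4, 3, 5, 6, 2, 3, 5, 2] [.out 448],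
  .sub [6, 4, 3, 5, 6, 2, 3, 5, 2, 4, 1, 2, 6, 0, 4, 6, 3, 2, 6, 5, 3, 0, 5, 6, 3, 2, 3, 1, 2, 1, 3, 2, 3, 1, 2, 3, 4, 2, 3, 1, 2, 3, 2, 6, 4, 3, 5, 6, 2, 3, 5, 2, 4, 1, 2, 6, 0, 4, 6, 3, 2, 6, 5, 3, 0, 5, 6, 3, 2, 3, 1, 2, 1, 3, 2, 3, 1, 2, 3, 4, 2, 3, 1, 2, 3, 2] [.out 433],
  .sub [4, 1, 2, 6, 0, 4, 6, 3, 2, 6, 5, 3, 0, 5, 6, 3, 2, 3, 1, 2, 1, 3, 2, 3, 1, 2, 3, 4, 2, 3, 1, 2, 3, 2, 4, 1, 2, 6, 0, 4, 6, 3, 2, 6, 5, 3, 0, 5, 6, 3, 2, 3, 1, 2, 1, 3, 2, 3, 1, 2, 3, 4, 2, 3, 1, 2, 3, 2, 6, 4, 3, 5, 6, 2, 3, 5, 2, 4, 1, 2, 6, 0, 4, 6, 3, 2, 6, 5, 3, 0, 5, 6, 3, 2, 3, 1, 2, 1, 3, 2, 3, 1, 2, 3, 4, 2, 3, 1, 2, 3, 2]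 [.out 555],
  .sub [2, 3, 6, 2, 3, 5, 4, 3, 6, 4, 0, 4, 1, 2, 6, 0, 4, 6, 3, 2, 6, 5, 3, 0, 5, 6, 3, 2, 3, 1, 2, 1, 3, 2, 3, 1, 2, 3, 4, 2, 3, 1, 2, 3, 2, 6, 4, 3, 5, 6, 2, 3, 5, 2, 4, 1, 2, 6, 0, 4, 6, 3, 2, 6, 5, 3, 0, 5, 6, 3, 2, 3, 1, 2, 1, 3, 2, 3, 1, 2, 3, 4, 2, 3, 1, 2, 3, 2] [.done 73],
  .sub [2, 3, 1, 0, 1, 2, 6, 4, 3, 5, 6, 2, 3, 5, 2, 4, 1, 2, 6, 0, 4, 6, 3, 2, 6, 5, 3, 0, 5, 6, 3, 2, 3, 1, 2, 1, 3, 2, 3, 1, 2, 3, 4, 2, 3, 1, 2, 3, 2, 4, 1, 2, 6, 0, 4, 6, 3, 2, 6, 5, 3, 0, 5, 6, 3, 2, 3, 1, 2, 1, 3, 2, 3, 1, 2, 3, 4, 2, 3, 1, 2, 3, 2] [.out 1304],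
  .sub [6, 4, 3, 5, 6, 2, 3, 5, 2, 6, 4, 3, 5, 6, 2, 3, 5, 2, 4, 1, 2, 6, 0, 4, 6, 3, 2, 6, 5, 3, 0, 5, 6, 3, 2, 3, 1, 2, 1, 3, 2, 3, 1, 2, 3, 4, 2, 3, 1, 2, 3, 2, 4, 1, 2, 6, 0, 4, 6, 3, 2, 6, 5, 3, 0, 5, 6, 3, 2, 3, 1, 2, 1, 3, 2, 3, 1, 2, 3, 4, 2, 3, 1, 2, 3, 2] [.out 182],
  .sub [4, 1, 2, 6, 0, 4, 6, 3, 2, 6, 5, 3, 0, 5, 6, 3, 2, 3, 1, 2, 1, 3, 2, 3, 1, 2, 3, 4, 2, 3, 1, 2, 3, 2, 6, 4, 3, 5, 6, 2, 3, 5, 2, 4, 1, 2, 6, 0, 4, 6, 3, 2, 6, 5, 3, 0, 5, 6, 3, 2, 3, 1, 2, 1, 3, 2, 3, 1, 2, 3, 4, 2, 3, 1, 2, 3, 2, 4, 1, 2, 6, 0, 4, 6, 3, 2, 6, 5, 3, 0, 5, 6, 3, 2, 3, 1, 2, 1, 3, 2, 3, 1, 2, 3, 4, 2, 3, 1, 2, 3, 2]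 [.out 1777],
  .sub [2, 3, 6, 2, 3, 5, 4, 3, 6, 4, 0, 6, 4, 3, 5, 6, 2, 3, 5, 2, 4, 1, 2, 6, 0, 4, 6, 3, 2, 6, 5, 3, 0, 5, 6, 3, 2, 3, 1, 2, 1, 3, 2, 3, 1, 2, 3, 4, 2, 3, 1, 2, 3, 2, 4, 1, 2, 6, 0, 4, 6, 3, 2, 6, 5, 3, 0, 5, 6, 3, 2, 3, 1, 2, 1, 3, 2, 3, 1, 2, 3, 4, 2, 3, 1, 2, 3, 2] [.out 110],
  .sub [6, 4, 3, 5, 6, 2, 3, 5, 2, 4, 1, 2, 6, 0, 4, 6, 3, 2, 6, 5, 3, 0, 5, 6, 3, 2, 3, 1, 2, 1, 3, 2, 3, 1, 2, 3, 4, 2, 3, 1, 2, 3, 2, 4, 1, 2, 6, 0, 4, 6, 3, 2, 6, 5, 3, 0, 5, 6, 3, 2, 3, 1, 2, 1, 3, 2, 3, 1, 2, 3, 4, 2, 3, 1, 2, 3, 2, 4, 1, 2, 6, 0, 4, 6, 3, 2, 6, 5, 3, 0, 5, 6, 3, 2, 3, 1, 2, 1, 3, 2, 3, 1, 2, 3, 4,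 2, 3, 1, 2, 3, 2] [.out 1083],
  .sub [6, 4, 3, 5, 6, 2, 3, 5, 2, 2, 3, 6, 2, 3, 5, 4, 3, 6, 4, 0, 4, 1, 2, 6, 0, 4, 6, 3, 2, 6, 5, 3, 0, 5, 6, 3, 2, 3, 1, 2, 1, 3, 2, 3, 1, 2, 3, 4, 2, 3, 1, 2, 3, 2, 4, 1, 2, 6, 0, 4, 6, 3, 2, 6, 5, 3, 0, 5, 6, 3, 2, 3, 1, 2, 1, 3, 2, 3, 1, 2, 3, 4, 2, 3, 1, 2, 3, 2] [.done 74],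
  .sub [4, 1, 2, 6, 0, 4, 6, 3, 2, 6, 5, 3, 0, 5, 6, 3, 2, 3, 1, 2, 1, 3, 2, 3, 1, 2, 3, 4, 2, 3, 1, 2, 3, 2, 2, 3, 6, 2, 3, 5, 4, 3, 6, 4, 0, 4, 1, 2, 6, 0, 4, 6, 3, 2, 6, 5, 3, 0, 5, 6, 3, 2, 3, 1, 2, 1, 3, 2, 3, 1, 2, 3, 4, 2, 3, 1, 2, 3, 2, 4, 1, 2, 6, 0, 4, 6, 3, 2, 6, 5, 3, 0, 5, 6, 3, 2, 3, 1, 2, 1, 3, 2, 3, 1, 2, 3, 4, 2, 3, 1, 2, 3, 2] [.out 797],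
  .sub [2, 3, 6, 2, 3, 5, 4, 3, 6, 4, 0, 2, 3, 6, 2, 3, 5, 4, 3, 6, 4, 0, 4, 1, 2, 6, 0, 4, 6, 3, 2, 6, 5, 3, 0, 5, 6, 3, 2, 3, 1, 2, 1, 3, 2, 3, 1, 2, 3, 4, 2, 3, 1, 2, 3, 2, 4, 1, 2, 6, 0, 4, 6, 3, 2, 6, 5, 3, 0, 5, 6, 3, 2, 3, 1, 2, 1, 3, 2, 3, 1, 2, 3, 4, 2, 3, 1, 2, 3, 2] [.out 2013],
  .sub [6, 4, 3, 5, 6, 2, 3, 5, 2, 4, 1, 2, 6, 0, 4, 6, 3, 2, 6, 5, 3, 0, 5, 6, 3, 2, 3, 1, 2, 1, 3, 2, 3, 1, 2, 3, 4, 2, 3, 1, 2, 3, 2, 2, 3, 6, 2, 3, 5, 4, 3, 6, 4, 0, 4, 1, 2, 6, 0, 4, 6, 3, 2, 6, 5, 3, 0, 5, 6, 3, 2, 3, 1, 2, 1, 3, 2, 3, 1, 2, 3, 4, 2, 3, 1, 2, 3, 2] [.out 1580],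
  .sub [2, 3, 6, 2, 3, 5, 4, 3, 6, 4, 0, 4, 1, 2, 6, 0, 4, 6, 3, 2, 6, 5, 3, 0, 5, 6, 3, 2, 3, 1, 2, 1, 3, 2, 3, 1, 2, 3, 4, 2, 3, 1, 2, 3, 2, 2, 3, 6, 2, 3, 5, 4, 3, 6, 4, 0, 4, 1, 2, 6, 0, 4, 6, 3, 2, 6, 5, 3, 0, 5, 6, 3, 2, 3, 1, 2, 1, 3, 2, 3, 1, 2, 3, 4, 2, 3, 1, 2, 3, 2] [.out 797],
  .sub [6, 4, 3, 5, 6, 2, 3, 5, 2, 4, 1, 2, 6, 0, 4, 6, 3, 2, 6, 5, 3, 0, 5, 6, 3, 2, 3, 1, 2, 1, 3, 2, 3, 1, 2, 3, 4, 2, 3, 1, 2, 3, 2, 2, 3, 1, 0, 1, 2, 2, 3, 6, 2, 3, 5, 4, 3, 6, 4, 0] [.out 127],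
  .sub [4, 1, 2, 6, 0, 4, 6, 3, 2, 6, 5, 3, 0, 5, 6, 3, 2, 3, 1, 2, 1, 3, 2, 3, 1, 2, 3, 4, 2, 3, 1, 2, 3, 2, 4, 1, 2, 6, 0, 4, 6, 3, 2, 6, 5, 3, 0, 5, 6, 3, 2, 3, 1, 2, 1, 3, 2, 3, 1, 2, 3, 4, 2, 3, 1, 2, 3, 2, 2, 3, 1, 0, 1, 2, 2, 3, 6, 2, 3, 5, 4, 3, 6, 4, 0] [.out 841],
  .sub [6, 4, 3, 5, 6, 2, 3, 5, 2, 4, 1, 2, 6, 0, 4, 6, 3, 2, 6, 5, 3, 0, 5, 6, 3, 2, 3, 1, 2, 1, 3, 2, 3, 1, 2, 3, 4, 2, 3, 1, 2, 3, 2, 6, 4, 3, 5, 6, 2, 3, 5, 2, 2, 3, 6, 2, 3, 5, 4, 3, 6, 4, 0] [.out 837],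
  .sub [4, 1, 2, 6, 0, 4, 6, 3, 2, 6, 5, 3, 0, 5, 6, 3, 2, 3, 1, 2, 1, 3, 2, 3, 1, 2, 3, 4, 2, 3, 1, 2, 3, 2, 4, 1, 2, 6, 0, 4, 6, 3, 2, 6, 5, 3, 0, 5, 6, 3, 2, 3, 1, 2, 1, 3, 2, 3, 1, 2, 3, 4, 2, 3, 1, 2, 3, 2, 6, 4, 3, 5, 6, 2, 3, 5, 2, 2, 3, 6, 2, 3, 5, 4, 3, 6, 4, 0] [.done 75],
  .sub [2, 3, 6, 2, 3, 5, 4, 3, 6, 4, 0, 4, 1, 2, 6, 0, 4, 6, 3, 2, 6, 5, 3, 0, 5, 6, 3, 2, 3, 1, 2, 1, 3, 2, 3, 1, 2, 3, 4, 2, 3, 1, 2, 3, 2, 6, 4, 3, 5, 6, 2, 3, 5, 2, 2, 3, 6, 2, 3, 5, 4, 3, 6, 4, 0] [.out 793],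
  .sub [2, 3, 1, 0, 1, 2, 6, 4, 3, 5, 6, 2, 3, 5, 2, 4, 1, 2, 6, 0, 4, 6, 3, 2, 6, 5, 3, 0, 5, 6, 3, 2, 3, 1, 2, 1, 3, 2, 3, 1, 2, 3, 4, 2, 3, 1, 2, 3, 2, 2, 3, 6, 2, 3, 5, 4, 3, 6, 4, 0] [.out 717],
  .sub [6, 4, 3, 5, 6, 2, 3, 5, 2, 6, 4, 3, 5, 6, 2, 3, 5, 2, 4, 1, 2, 6, 0, 4, 6, 3, 2, 6, 5, 3, 0, 5, 6, 3, 2, 3, 1, 2, 1, 3, 2, 3, 1, 2, 3, 4, 2, 3, 1, 2, 3, 2, 2, 3, 6, 2, 3, 5, 4, 3, 6, 4, 0] [.done 76],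
  .sub [4, 1, 2, 6, 0, 4, 6, 3, 2, 6, 5, 3, 0, 5, 6, 3, 2, 3, 1, 2, 1, 3, 2, 3, 1, 2, 3, 4, 2, 3, 1, 2, 3, 2, 6, 4, 3, 5, 6, 2, 3, 5, 2, 4, 1, 2, 6, 0, 4, 6, 3, 2, 6, 5, 3, 0, 5, 6, 3, 2, 3, 1, 2, 1, 3, 2, 3, 1, 2, 3, 4, 2, 3, 1, 2, 3, 2, 2, 3, 6, 2, 3, 5, 4, 3, 6, 4, 0] [.out 1018],
  .sub [2, 3, 6, 2, 3, 5, 4, 3, 6, 4, 0, 6, 4, 3, 5, 6, 2, 3, 5, 2, 4, 1, 2, 6, 0, 4, 6, 3, 2, 6, 5, 3, 0, 5, 6, 3, 2, 3, 1, 2, 1, 3, 2, 3, 1, 2, 3, 4, 2, 3, 1, 2, 3, 2, 2, 3, 6, 2, 3, 5, 4, 3, 6, 4, 0] [.out 537],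
  .sub [6, 4, 3, 5, 6, 2, 3, 5, 2, 4, 1, 2, 6, 0, 4, 6, 3, 2, 6, 5, 3, 0, 5, 6, 3, 2, 3, 1, 2, 1, 3, 2, 3, 1, 2, 3, 4, 2, 3, 1, 2, 3, 2, 4, 1, 2, 6, 0, 4, 6, 3, 2, 6, 5, 3, 0, 5, 6, 3, 2, 3, 1, 2, 1, 3, 2, 3, 1, 2, 3, 4, 2, 3, 1, 2, 3, 2, 2, 3, 6, 2, 3, 5, 4, 3, 6, 4, 0] [.out 1449],
  .sub [2, 3, 1, 0, 1, 2, 2, 3, 6, 2, 3, 5, 4, 3, 6, 4, 0, 4, 1, 2, 6, 0, 4, 6, 3, 2, 6, 5, 3, 0, 5, 6, 3, 2, 3, 1, 2, 1, 3, 2, 3, 1, 2, 3, 4, 2, 3, 1, 2, 3, 2, 2, 3, 6, 2, 3, 5, 4, 3, 6, 4, 0] [.out 281],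
  .sub [4, 1, 2, 6, 0, 4, 6, 3, 2, 6, 5, 3, 0, 5, 6, 3, 2, 3, 1, 2, 1, 3, 2, 3, 1, 2, 3, 4, 2, 3, 1, 2, 3, 2, 2, 3, 6, 2, 3, 5, 4, 3, 6, 4, 0, 4, 1, 2, 6, 0, 4, 6, 3, 2, 6, 5, 3, 0, 5, 6, 3, 2, 3, 1, 2, 1, 3, 2, 3, 1, 2, 3, 4, 2, 3, 1, 2, 3, 2, 2, 3, 6, 2, 3, 5, 4, 3, 6, 4, 0] [.out 1668],
  .sub [6, 4, 3, 5, 6, 2, 3, 5, 2, 4, 1, 2, 6, 0, 4, 6, 3, 2, 6, 5, 3, 0, 5, 6, 3, 2, 3, 1, 2, 1, 3, 2, 3, 1, 2, 3, 4, 2, 3, 1, 2, 3, 2, 2, 3, 6, 2, 3, 5, 4, 3, 6, 4, 0, 2, 3, 6, 2, 3, 5, 4, 3, 6, 4, 0] [.out 555],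
  .sub [2, 3, 6, 2, 3, 5, 4, 3, 6, 4, 0, 4, 1, 2, 6, 0, 4, 6, 3, 2, 6, 5, 3, 0, 5, 6, 3, 2, 3, 1, 2, 1, 3, 2, 3, 1, 2, 3, 4, 2, 3, 1, 2, 3, 2, 2, 3, 6, 2, 3, 5, 4, 3, 6, 4, 0, 2, 3, 6, 2, 3, 5, 4, 3, 6, 4, 0] [.out 1668],
  .sub [2, 3, 1, 0, 1, 2, 6, 4, 3, 5, 6, 2, 3, 5, 2, 4, 1, 2, 6, 0, 4, 6, 3, 2, 6, 5, 3, 0, 5, 6, 3, 2, 3, 1, 2, 1, 3, 2, 3, 1, 2, 3, 4, 2, 3, 1, 2, 3, 2, 2, 3, 1, 0, 1, 2, 6, 4, 3, 5, 6, 2, 3, 5, 2] [.out 365],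
  .sub [6, 4, 3, 5, 6, 2, 3, 5, 2, 6, 4, 3, 5, 6, 2, 3, 5, 2, 4, 1, 2, 6, 0, 4, 6, 3, 2, 6, 5, 3, 0, 5, 6, 3, 2, 3, 1, 2, 1, 3, 2, 3, 1, 2, 3, 4, 2, 3, 1, 2, 3, 2, 2, 3, 1, 0, 1, 2, 6, 4, 3, 5, 6, 2, 3, 5, 2] [.out 1668],
  .sub [4, 1, 2, 6, 0, 4, 6, 3, 2, 6, 5, 3, 0, 5, 6, 3, 2, 3, 1, 2, 1, 3, 2, 3, 1, 2, 3, 4, 2, 3, 1, 2, 3, 2, 6, 4, 3, 5, 6, 2, 3, 5, 2, 4, 1, 2, 6, 0, 4, 6, 3, 2, 6, 5, 3, 0, 5, 6, 3, 2, 3, 1, 2, 1, 3, 2, 3, 1, 2, 3, 4, 2, 3, 1, 2, 3, 2, 2, 3, 1, 0, 1, 2, 6, 4, 3, 5, 6, 2, 3, 5, 2] [.out 2038],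
  .sub [2, 3, 6, 2, 3, 5, 4, 3, 6, 4, 0, 6, 4, 3, 5, 6, 2, 3, 5, 2, 4, 1, 2, 6, 0, 4, 6, 3, 2, 6, 5, 3, 0, 5, 6, 3, 2, 3, 1, 2, 1, 3, 2, 3, 1, 2, 3, 4, 2, 3, 1, 2, 3, 2, 2, 3, 1, 0, 1, 2, 6, 4, 3, 5, 6, 2, 3, 5, 2] [.out 555],
  .sub [6, 4, 3, 5, 6, 2, 3, 5, 2, 4, 1, 2, 6, 0, 4, 6, 3, 2, 6, 5, 3, 0, 5, 6, 3, 2, 3, 1, 2, 1, 3, 2, 3, 1, 2, 3, 4, 2, 3, 1, 2, 3, 2, 4, 1, 2, 6, 0, 4, 6, 3, 2, 6, 5, 3, 0, 5, 6, 3, 2, 3, 1, 2, 1, 3, 2, 3, 1, 2, 3, 4, 2, 3, 1, 2, 3, 2, 2, 3, 1, 0, 1, 2, 6, 4, 3, 5, 6, 2, 3, 5, 2] [.out 299],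
  .sub [4, 1, 2, 6, 0, 4, 6, 3, 2, 6, 5, 3, 0, 5, 6, 3, 2, 3, 1, 2, 1, 3, 2, 3, 1, 2, 3, 4, 2, 3, 1, 2, 3, 2, 4, 1, 2, 6, 0, 4, 6, 3, 2, 6, 5, 3, 0, 5, 6, 3, 2, 3, 1, 2, 1, 3, 2, 3, 1, 2, 3, 4, 2, 3, 1, 2, 3, 2, 4, 1, 2, 6, 0, 4, 6, 3, 2, 6, 5, 3, 0, 5, 6, 3, 2, 3, 1, 2, 1, 3, 2, 3, 1, 2, 3, 4, 2, 3, 1, 2, 3, 2, 2, 3, 1, 0, 1, 2, 6, 4, 3, 5, 6, 2, 3, 5, 2] [.out 2051],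
  .sub [2, 3, 6, 2, 3, 5, 4, 3, 6, 4, 0, 4, 1, 2, 6, 0, 4, 6, 3, 2, 6, 5, 3, 0, 5, 6, 3, 2, 3, 1, 2, 1, 3, 2, 3, 1, 2, 3, 4, 2, 3, 1, 2, 3, 2, 4, 1, 2, 6, 0, 4, 6, 3, 2, 6, 5, 3, 0, 5, 6, 3, 2, 3, 1, 2, 1, 3, 2, 3, 1, 2, 3, 4, 2, 3, 1, 2, 3, 2, 2, 3, 1, 0, 1, 2, 6, 4, 3, 5, 6, 2, 3, 5, 2] [.out 1018],
  .sub [2, 3, 1, 0, 1, 2, 2, 3, 6, 2, 3, 5, 4, 3, 6, 4, 0, 4, 1, 2, 6, 0, 4, 6, 3, 2, 6, 5, 3, 0, 5, 6, 3, 2, 3, 1, 2, 1, 3, 2, 3, 1, 2, 3, 4, 2, 3, 1, 2, 3, 2, 2, 3, 1, 0, 1, 2, 6, 4, 3, 5, 6, 2, 3, 5, 2] [.done 77],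
  .sub [6, 4, 3, 5, 6, 2, 3, 5, 2, 2, 3, 6, 2, 3, 5, 4, 3, 6, 4, 0, 4, 1, 2, 6, 0, 4, 6, 3, 2, 6, 5, 3, 0, 5, 6, 3, 2, 3, 1, 2, 1, 3, 2, 3, 1, 2, 3, 4, 2, 3, 1, 2, 3, 2, 2, 3, 1, 0, 1, 2, 6, 4, 3, 5, 6, 2, 3, 5, 2] [.out 819],
  .sub [4, 1, 2, 6, 0, 4, 6, 3, 2, 6, 5, 3, 0, 5, 6, 3, 2, 3, 1, 2, 1, 3, 2, 3, 1, 2, 3, 4, 2, 3, 1, 2, 3, 2, 2, 3, 6, 2, 3, 5, 4, 3, 6, 4, 0, 4, 1, 2, 6, 0, 4, 6, 3, 2, 6, 5, 3, 0, 5, 6, 3, 2, 3, 1, 2, 1, 3, 2, 3, 1, 2, 3, 4, 2, 3, 1, 2, 3, 2, 2, 3, 1, 0, 1, 2, 6, 4, 3, 5, 6, 2, 3, 5, 2] [.out 632],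
  .sub [2, 3, 6, 2, 3, 5, 4, 3, 6, 4, 0, 2, 3, 6, 2, 3, 5, 4, 3, 6, 4, 0, 4, 1, 2, 6, 0, 4, 6, 3, 2, 6, 5, 3, 0, 5, 6, 3, 2, 3, 1, 2, 1, 3, 2, 3, 1, 2, 3, 4, 2, 3, 1, 2, 3, 2, 2, 3, 1, 0, 1, 2, 6, 4, 3, 5, 6, 2, 3, 5, 2] [.out 1777],
  .sub [6, 4, 3, 5, 6, 2, 3, 5, 2, 4, 1, 2, 6, 0, 4, 6, 3, 2, 6, 5, 3, 0, 5, 6, 3, 2, 3, 1, 2, 1, 3, 2, 3, 1, 2, 3, 4, 2, 3, 1, 2, 3, 2, 2, 3, 6, 2, 3, 5, 4, 3, 6, 4, 0, 2, 3, 1, 0, 1, 2, 6, 4, 3, 5, 6, 2, 3, 5, 2] [.done 78],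
  .sub [2, 3, 6, 2, 3, 5, 4, 3, 6, 4, 0, 4, 1, 2, 6, 0, 4, 6, 3, 2, 6, 5, 3, 0, 5, 6, 3, 2, 3, 1, 2, 1, 3, 2, 3, 1, 2, 3, 4, 2, 3, 1, 2, 3, 2, 2, 3, 6, 2, 3, 5, 4, 3, 6, 4, 0, 2, 3, 1, 0, 1, 2, 6, 4, 3, 5, 6, 2, 3, 5, 2] [.out 632],
  .sub [2, 3, 1, 0, 1, 2, 6, 4, 3, 5, 6, 2, 3, 5, 2, 4, 1, 2, 6, 0, 4, 6, 3, 2, 6, 5, 3, 0, 5, 6, 3, 2, 3, 1, 2, 1, 3, 2, 3, 1, 2, 3, 4, 2, 3, 1, 2, 3, 2, 6, 4, 3, 5, 6, 2, 3, 5, 2, 6, 4, 3, 5, 6, 2, 3, 5, 2] [.out 1022],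
  .sub [6, 4, 3, 5, 6, 2, 3, 5, 2, 6, 4, 3, 5, 6, 2, 3, 5, 2, 4, 1, 2, 6, 0, 4, 6, 3, 2, 6, 5, 3, 0, 5, 6, 3, 2, 3, 1, 2, 1, 3, 2, 3, 1, 2, 3, 4, 2, 3, 1, 2, 3, 2, 6, 4, 3, 5, 6, 2, 3, 5, 2, 6, 4, 3, 5, 6, 2, 3, 5, 2] [.done 79],
  .sub [4, 1, 2, 6, 0, 4, 6, 3, 2, 6, 5, 3, 0, 5, 6, 3, 2, 3, 1, 2, 1, 3, 2, 3, 1, 2, 3, 4, 2, 3, 1, 2, 3, 2, 6, 4, 3, 5, 6, 2, 3, 5, 2, 4, 1, 2, 6, 0, 4, 6, 3, 2, 6, 5, 3, 0, 5, 6, 3, 2, 3, 1, 2, 1, 3, 2, 3, 1, 2, 3, 4, 2, 3, 1, 2, 3, 2, 6, 4, 3, 5, 6, 2, 3, 5, 2, 6, 4, 3, 5, 6, 2, 3, 5, 2] [.out 715],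
  .sub [2, 3, 6, 2, 3, 5, 4, 3, 6, 4, 0, 6, 4, 3, 5, 6, 2, 3, 5, 2, 4, 1, 2, 6, 0, 4, 6, 3, 2, 6, 5, 3, 0, 5, 6, 3, 2, 3, 1, 2, 1, 3, 2, 3, 1, 2, 3, 4, 2, 3, 1, 2, 3, 2, 6, 4, 3, 5, 6, 2, 3, 5, 2, 6, 4, 3, 5, 6, 2, 3, 5, 2] [.out 382],
  .sub [6, 4, 3, 5, 6, 2, 3, 5, 2, 4, 1, 2, 6, 0, 4, 6, 3, 2, 6, 5, 3, 0, 5, 6, 3, 2, 3, 1, 2, 1, 3, 2, 3, 1, 2, 3, 4, 2, 3, 1, 2, 3, 2, 4, 1, 2, 6, 0, 4, 6, 3, 2, 6, 5, 3, 0, 5, 6, 3, 2, 3, 1, 2, 1, 3, 2, 3, 1, 2, 3, 4, 2, 3, 1, 2, 3, 2, 6, 4, 3, 5, 6, 2, 3, 5, 2, 6, 4, 3, 5, 6, 2, 3, 5, 2] [.out 2038],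
  .sub [4, 1, 2, 6, 0, 4, 6, 3, 2, 6, 5, 3, 0, 5, 6, 3, 2, 3, 1, 2, 1, 3, 2, 3, 1, 2, 3, 4, 2, 3, 1, 2, 3, 2, 4, 1, 2, 6, 0, 4, 6, 3, 2, 6, 5, 3, 0, 5, 6, 3, 2, 3, 1, 2, 1, 3, 2, 3, 1, 2, 3, 4, 2, 3, 1, 2, 3, 2, 4, 1, 2, 6, 0, 4, 6, 3, 2, 6, 5, 3, 0, 5, 6, 3, 2, 3, 1, 2, 1, 3, 2, 3, 1, 2, 3, 4, 2, 3, 1, 2, 3, 2, 6, 4, 3, 5, 6, 2, 3, 5, 2, 6, 4, 3, 5, 6, 2, 3, 5, 2] [.out 1668],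
  .sub [2, 3, 1, 0, 1, 2, 2, 3, 6, 2, 3, 5, 4, 3, 6, 4, 0, 4, 1, 2, 6, 0, 4, 6, 3, 2, 6, 5, 3, 0, 5, 6, 3, 2, 3, 1, 2, 1, 3, 2, 3, 1, 2, 3, 4, 2, 3, 1, 2, 3, 2, 6, 4, 3, 5, 6, 2, 3, 5, 2, 6, 4, 3, 5, 6, 2, 3, 5, 2] [.out 281],
  .sub [6, 4, 3, 5, 6, 2, 3, 5, 2, 2, 3, 6, 2, 3, 5, 4, 3, 6, 4, 0, 4, 1, 2, 6, 0, 4, 6, 3, 2, 6, 5, 3, 0, 5, 6, 3, 2, 3, 1, 2, 1, 3, 2, 3, 1, 2, 3, 4, 2, 3, 1, 2, 3, 2, 6, 4, 3, 5, 6, 2, 3, 5, 2, 6, 4, 3, 5, 6, 2, 3, 5, 2] [.out 1436],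
  .sub [2, 3, 6, 2, 3, 5, 4, 3, 6, 4, 0, 2, 3, 6, 2, 3, 5, 4, 3, 6, 4, 0, 4, 1, 2, 6, 0, 4, 6, 3, 2, 6, 5, 3, 0, 5, 6, 3, 2, 3, 1, 2, 1, 3, 2, 3, 1, 2, 3, 4, 2, 3, 1, 2, 3, 2, 6, 4, 3, 5, 6, 2, 3, 5, 2, 6, 4, 3, 5, 6, 2, 3, 5, 2] [.out 1159],
  .sub [6, 4, 3, 5, 6, 2, 3, 5, 2, 2, 3, 1, 0, 1, 2, 6, 4, 3, 5, 6, 2, 3, 5, 2, 4, 1, 2, 6, 0, 4, 6, 3, 2, 6, 5, 3, 0, 5, 6, 3, 2, 3, 1, 2, 1, 3, 2, 3, 1, 2, 3, 4, 2, 3, 1, 2, 3, 2, 6, 4, 3, 5, 6, 2, 3, 5, 2] [.out 1689],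
  .sub [4, 1, 2, 6, 0, 4, 6, 3, 2, 6, 5, 3, 0, 5, 6, 3, 2, 3, 1, 2, 1, 3, 2, 3, 1, 2, 3, 4, 2, 3, 1, 2, 3, 2, 2, 3, 1, 0, 1, 2, 6, 4, 3, 5, 6, 2, 3, 5, 2, 4, 1, 2, 6, 0, 4, 6, 3, 2, 6, 5, 3, 0, 5, 6, 3, 2, 3, 1, 2, 1, 3, 2, 3, 1, 2, 3, 4, 2, 3, 1, 2, 3, 2, 6, 4, 3, 5, 6, 2, 3, 5, 2] [.done 80],
  .sub [2, 3, 6, 2, 3, 5, 4, 3, 6, 4, 0, 2, 3, 1, 0, 1, 2, 6, 4, 3, 5, 6, 2, 3, 5, 2, 4, 1, 2, 6, 0, 4, 6, 3, 2, 6, 5, 3, 0, 5, 6, 3, 2, 3, 1, 2, 1, 3, 2, 3, 1, 2, 3, 4, 2, 3, 1, 2, 3, 2, 6, 4, 3, 5, 6, 2, 3, 5, 2] [.out 1023],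
  .sub [2, 3, 1, 0, 1, 2, 6, 4, 3, 5, 6, 2, 3, 5, 2, 6, 4, 3, 5, 6, 2, 3, 5, 2, 4, 1, 2, 6, 0, 4, 6, 3, 2, 6, 5, 3, 0, 5, 6, 3, 2, 3, 1, 2, 1, 3, 2, 3, 1, 2, 3, 4, 2, 3, 1, 2, 3, 2, 6, 4, 3, 5, 6, 2, 3, 5, 2] [.out 841],
  .sub [4, 1, 2, 6, 0, 4, 6, 3, 2, 6, 5, 3, 0, 5, 6, 3, 2, 3, 1, 2, 1, 3, 2, 3, 1, 2, 3, 4, 2, 3, 1, 2, 3, 2, 6, 4, 3, 5, 6, 2, 3, 5, 2, 6, 4, 3, 5, 6, 2, 3, 5, 2, 4, 1, 2, 6, 0, 4, 6, 3, 2, 6, 5, 3, 0, 5, 6, 3, 2, 3, 1, 2, 1, 3, 2, 3, 1, 2, 3, 4, 2, 3, 1, 2, 3, 2, 6, 4, 3, 5, 6, 2, 3, 5, 2] [.out 1464],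
  .sub [2, 3, 6, 2, 3, 5, 4, 3, 6, 4, 0, 6, 4, 3, 5, 6, 2, 3, 5, 2, 6, 4, 3, 5, 6, 2, 3, 5, 2, 4, 1, 2, 6, 0, 4, 6, 3, 2, 6, 5, 3, 0, 5, 6, 3, 2, 3, 1, 2, 1, 3, 2, 3, 1, 2, 3, 4, 2, 3, 1, 2, 3, 2, 6, 4, 3, 5, 6, 2, 3, 5, 2] [.out 1620],
  .sub [6, 4, 3, 5, 6, 2, 3, 5, 2, 4, 1, 2, 6, 0, 4, 6, 3, 2, 6, 5, 3, 0, 5, 6, 3, 2, 3, 1, 2, 1, 3, 2, 3, 1, 2, 3, 4, 2, 3, 1, 2, 3, 2, 6, 4, 3, 5, 6, 2, 3, 5, 2, 4, 1, 2, 6, 0, 4, 6, 3, 2, 6, 5, 3, 0, 5, 6, 3, 2, 3, 1, 2, 1, 3, 2, 3, 1, 2, 3, 4, 2, 3, 1, 2, 3, 2, 6, 4, 3, 5, 6, 2, 3, 5, 2] [.out 1689],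
  .sub [4, 1, 2, 6, 0, 4, 6, 3, 2, 6, 5, 3, 0, 5, 6, 3, 2, 3, 1, 2, 1, 3, 2, 3, 1, 2, 3, 4, 2, 3, 1, 2, 3, 2, 4, 1, 2, 6, 0, 4, 6, 3, 2, 6, 5, 3, 0, 5, 6, 3, 2, 3, 1, 2, 1, 3, 2, 3, 1, 2, 3, 4, 2, 3, 1, 2, 3, 2, 6, 4, 3, 5, 6, 2, 3, 5, 2, 4, 1, 2, 6, 0, 4, 6, 3, 2, 6, 5, 3, 0, 5, 6, 3, 2, 3, 1, 2, 1, 3, 2, 3, 1, 2, 3, 4, 2, 3, 1, 2, 3, 2, 6, 4, 3, 5, 6, 2, 3, 5, 2] [.done 81],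
  .sub [2, 3, 6, 2, 3, 5, 4, 3, 6, 4, 0, 4, 1, 2, 6, 0, 4, 6, 3, 2, 6, 5, 3, 0, 5, 6, 3, 2, 3, 1, 2, 1, 3, 2, 3, 1, 2, 3, 4, 2, 3, 1, 2, 3, 2, 6, 4, 3, 5, 6, 2, 3, 5, 2, 4, 1, 2, 6, 0, 4, 6, 3, 2, 6, 5, 3, 0, 5, 6, 3, 2, 3, 1, 2, 1, 3, 2, 3, 1, 2, 3, 4, 2, 3, 1, 2, 3, 2, 6, 4, 3, 5, 6, 2, 3, 5, 2] [.out 715],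
  .sub [4, 1, 2, 6, 0, 4, 6, 3, 2, 6, 5, 3, 0, 5, 6, 3, 2, 3, 1, 2, 1, 3, 2, 3, 1, 2, 3, 4, 2, 3, 1, 2, 3, 2, 2, 3, 6, 2, 3, 5, 4, 3, 6, 4, 0, 6, 4, 3, 5, 6, 2, 3, 5, 2, 4, 1, 2, 6, 0, 4, 6, 3, 2, 6, 5, 3, 0, 5, 6, 3, 2, 3, 1, 2, 1, 3, 2, 3, 1, 2, 3, 4, 2, 3, 1, 2, 3, 2, 6, 4, 3, 5, 6, 2, 3, 5, 2] [.out 448],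
  .sub [2, 3, 6, 2, 3, 5, 4, 3, 6, 4, 0, 2, 3, 6, 2, 3, 5, 4, 3, 6, 4, 0, 6, 4, 3, 5, 6, 2, 3, 5, 2, 4, 1, 2, 6, 0, 4, 6, 3, 2, 6, 5, 3, 0, 5, 6, 3, 2, 3, 1, 2, 1, 3, 2, 3, 1, 2, 3, 4, 2, 3, 1, 2, 3, 2, 6, 4, 3, 5, 6, 2, 3, 5, 2] [.out 382],
  .sub [2, 3, 1, 0, 1, 2, 6, 4, 3, 5, 6, 2, 3, 5, 2, 4, 1, 2, 6, 0, 4, 6, 3, 2, 6, 5, 3, 0, 5, 6, 3, 2, 3, 1, 2, 1, 3, 2, 3, 1, 2, 3, 4, 2, 3, 1, 2, 3, 2, 4, 1, 2, 6, 0, 4, 6, 3, 2, 6, 5, 3, 0, 5, 6, 3, 2, 3, 1, 2, 1, 3, 2, 3, 1, 2, 3, 4, 2, 3, 1, 2, 3, 2, 6, 4, 3, 5, 6, 2, 3, 5, 2] [.out 182],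
  .sub [6, 4, 3, 5, 6, 2, 3, 5, 2, 6, 4, 3, 5, 6, 2, 3, 5, 2, 4, 1, 2, 6, 0, 4, 6, 3, 2, 6, 5, 3, 0, 5, 6, 3, 2, 3, 1, 2, 1, 3, 2, 3, 1, 2, 3, 4, 2, 3, 1, 2, 3, 2, 4, 1, 2, 6, 0, 4, 6, 3, 2, 6, 5, 3, 0, 5, 6, 3, 2, 3, 1, 2, 1, 3, 2, 3, 1, 2, 3, 4, 2, 3, 1, 2, 3, 2, 6, 4, 3, 5, 6, 2, 3, 5, 2] [.out 2013],
  .sub [4, 1, 2, 6, 0, 4, 6, 3, 2, 6, 5, 3, 0, 5, 6, 3, 2, 3, 1, 2, 1, 3, 2, 3, 1, 2, 3, 4, 2, 3, 1, 2, 3, 2, 6, 4, 3, 5, 6, 2, 3, 5, 2, 4, 1, 2, 6, 0, 4, 6, 3, 2, 6, 5, 3, 0, 5, 6, 3, 2, 3, 1, 2, 1, 3, 2, 3, 1, 2, 3, 4, 2, 3, 1, 2, 3, 2, 4, 1, 2, 6, 0, 4, 6, 3, 2, 6, 5, 3, 0, 5, 6, 3, 2, 3, 1, 2, 1, 3, 2, 3, 1,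 2, 3, 4, 2, 3, 1, 2, 3, 2, 6, 4, 3, 5, 6, 2, 3, 5, 2] [.out 841],
  .sub [2, 3, 6, 2, 3, 5, 4, 3, 6, 4, 0, 6, 4, 3, 5, 6, 2, 3, 5, 2, 4, 1, 2, 6, 0, 4, 6, 3, 2, 6, 5, 3, 0, 5, 6, 3, 2, 3, 1, 2, 1, 3, 2, 3, 1, 2, 3, 4, 2, 3, 1, 2, 3, 2, 4, 1, 2, 6, 0, 4, 6, 3, 2, 6, 5, 3, 0, 5, 6, 3, 2, 3, 1, 2, 1, 3, 2, 3, 1, 2, 3, 4, 2, 3, 1, 2, 3, 2, 6, 4, 3, 5, 6, 2, 3, 5, 2] [.done 82],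
  .sub [6, 4, 3, 5, 6, 2, 3, 5, 2, 4, 1, 2, 6, 0, 4, 6, 3, 2, 6, 5, 3, 0, 5, 6, 3, 2, 3, 1, 2, 1, 3, 2, 3, 1, 2, 3, 4, 2, 3, 1, 2, 3, 2, 4, 1, 2, 6, 0, 4, 6, 3, 2, 6, 5, 3, 0, 5, 6, 3, 2, 3, 1, 2, 1, 3, 2, 3, 1, 2, 3, 4, 2, 3, 1, 2, 3, 2, 4, 1, 2, 6, 0, 4, 6, 3, 2, 6, 5, 3, 0, 5, 6, 3, 2, 3, 1, 2, 1, 3, 2, 3, 1, 2, 3, 4, 2, 3, 1, 2, 3, 2, 6, 4, 3, 5, 6, 2, 3, 5, 2] [.out 382],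
  .sub [6, 4, 3, 5, 6, 2, 3, 5, 2, 2, 3, 1, 0, 1, 2, 2, 3, 6, 2, 3, 5, 4, 3, 6, 4, 0, 4, 1, 2, 6, 0, 4, 6, 3, 2, 6, 5, 3, 0, 5, 6, 3, 2, 3, 1, 2, 1, 3, 2, 3, 1, 2, 3, 4, 2, 3, 1, 2, 3, 2, 6, 4, 3, 5, 6, 2, 3, 5, 2] [.out 1620],
  .sub [4, 1, 2, 6, 0, 4, 6, 3, 2, 6, 5, 3, 0, 5, 6, 3, 2, 3, 1, 2, 1, 3, 2, 3, 1, 2, 3, 4, 2, 3, 1, 2, 3, 2, 2, 3, 1, 0, 1, 2, 2, 3, 6, 2, 3, 5, 4, 3, 6, 4, 0, 4, 1, 2, 6, 0, 4, 6, 3, 2, 6, 5, 3, 0, 5, 6, 3, 2, 3, 1, 2, 1, 3, 2, 3, 1, 2, 3, 4, 2, 3, 1, 2, 3, 2, 6, 4, 3, 5, 6, 2, 3, 5, 2] [.done 83],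
  .sub [6, 4, 3, 5, 6, 2, 3, 5, 2, 6, 4, 3, 5, 6, 2, 3, 5, 2, 2, 3, 6, 2, 3, 5, 4, 3, 6, 4, 0, 4, 1, 2, 6, 0, 4, 6, 3, 2, 6, 5, 3, 0, 5, 6, 3, 2, 3, 1, 2, 1, 3, 2, 3, 1, 2, 3, 4, 2, 3, 1, 2, 3, 2, 6, 4, 3, 5, 6, 2, 3, 5, 2] [.out 1436],
  .sub [4, 1, 2, 6, 0, 4, 6, 3, 2, 6, 5, 3, 0, 5, 6, 3, 2, 3, 1, 2, 1, 3, 2, 3, 1, 2, 3, 4, 2, 3, 1, 2, 3, 2, 6, 4, 3, 5, 6, 2, 3, 5, 2, 2, 3, 6, 2, 3, 5, 4, 3, 6, 4, 0, 4, 1, 2, 6, 0, 4, 6, 3, 2, 6, 5, 3, 0, 5, 6, 3, 2, 3, 1, 2, 1, 3, 2, 3, 1, 2, 3, 4, 2, 3, 1, 2, 3, 2, 6, 4, 3, 5, 6, 2, 3, 5, 2] [.out 1580],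
  .sub [6, 4, 3, 5, 6, 2, 3, 5, 2, 4, 1, 2, 6, 0, 4, 6, 3, 2, 6, 5, 3, 0, 5, 6, 3, 2, 3, 1, 2, 1, 3, 2, 3, 1, 2, 3, 4, 2, 3, 1, 2, 3, 2, 2, 3, 6, 2, 3, 5, 4, 3, 6, 4, 0, 4, 1, 2, 6, 0, 4, 6, 3, 2, 6, 5, 3, 0, 5, 6, 3, 2, 3, 1, 2, 1, 3, 2, 3, 1, 2, 3, 4, 2, 3, 1, 2, 3, 2, 6, 4, 3, 5, 6, 2, 3, 5, 2] [.out 127],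
  .sub [2, 3, 6, 2, 3, 5, 4, 3, 6, 4, 0, 4, 1, 2, 6, 0, 4, 6, 3, 2, 6, 5, 3, 0, 5, 6, 3, 2, 3, 1, 2, 1, 3, 2, 3, 1, 2, 3, 4, 2, 3, 1, 2, 3, 2, 2, 3, 6, 2, 3, 5, 4, 3, 6, 4, 0, 4, 1, 2, 6, 0, 4, 6, 3, 2, 6, 5, 3, 0, 5, 6, 3, 2, 3, 1, 2, 1, 3, 2, 3, 1, 2, 3, 4, 2, 3, 1, 2, 3, 2, 6, 4, 3, 5, 6, 2, 3, 5, 2] [.out 2051],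
  .sub [4, 1, 2, 6, 0, 4, 6, 3, 2, 6, 5, 3, 0, 5, 6, 3, 2, 3, 1, 2, 1, 3, 2, 3, 1, 2, 3, 4, 2, 3, 1, 2, 3, 2, 2, 3, 6, 2, 3, 5, 4, 3, 6, 4, 0, 2, 3, 6, 2, 3, 5, 4, 3, 6, 4, 0, 4, 1, 2, 6, 0, 4, 6, 3, 2, 6, 5, 3, 0, 5, 6, 3, 2, 3, 1, 2, 1, 3, 2, 3, 1, 2, 3, 4, 2, 3, 1, 2, 3, 2, 6, 4, 3, 5, 6, 2, 3, 5, 2] [.out 1802],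
  .sub [2, 3, 1, 0, 1, 2, 6, 4, 3, 5, 6, 2, 3, 5, 2, 4, 1, 2, 6, 0, 4, 6, 3, 2, 6, 5, 3, 0, 5, 6, 3, 2, 3, 1, 2, 1, 3, 2, 3, 1, 2, 3, 4, 2, 3, 1, 2, 3, 2, 6, 4, 3, 5, 6, 2, 3, 5, 2, 4, 1, 2, 6, 0, 4, 6, 3, 2, 6, 5, 3, 0, 5, 6, 3, 2, 3, 1, 2, 1, 3, 2, 3, 1, 2, 3, 4, 2, 3, 1, 2, 3, 2] [.out 1449],
  .sub [6, 4, 3, 5, 6, 2, 3, 5, 2, 6, 4, 3, 5, 6, 2, 3, 5, 2, 4, 1, 2, 6, 0, 4, 6, 3, 2, 6, 5, 3, 0, 5, 6, 3, 2, 3, 1, 2, 1, 3, 2, 3, 1, 2, 3, 4, 2, 3, 1, 2, 3, 2, 6, 4, 3, 5, 6, 2, 3, 5, 2, 4, 1, 2, 6, 0, 4, 6, 3, 2, 6, 5, 3, 0, 5, 6, 3, 2, 3, 1, 2, 1, 3, 2, 3, 1, 2, 3, 4, 2, 3, 1, 2, 3, 2] [.out 841],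
  .sub [4, 1, 2, 6, 0, 4, 6, 3, 2, 6, 5, 3, 0, 5, 6, 3, 2, 3, 1, 2, 1, 3, 2, 3, 1, 2, 3, 4, 2, 3, 1, 2, 3, 2, 6, 4, 3, 5, 6, 2, 3, 5, 2, 4, 1, 2, 6, 0, 4, 6, 3, 2, 6, 5, 3, 0, 5, 6, 3, 2, 3, 1, 2, 1, 3, 2, 3, 1, 2, 3, 4, 2, 3, 1, 2, 3, 2, 6, 4, 3, 5, 6, 2, 3, 5, 2, 4, 1, 2, 6, 0, 4, 6, 3, 2, 6, 5, 3, 0, 5, 6, 3, 2, 3, 1, 2, 1, 3, 2, 3, 1, 2, 3, 4, 2, 3, 1, 2, 3, 2] [.out 116],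
  .sub [2, 3, 6, 2, 3, 5, 4, 3, 6, 4, 0, 6, 4, 3, 5, 6, 2, 3, 5, 2, 4, 1, 2, 6, 0, 4, 6, 3, 2, 6, 5, 3, 0, 5, 6, 3, 2, 3, 1, 2, 1, 3, 2, 3, 1, 2, 3, 4, 2, 3, 1, 2, 3, 2, 6, 4, 3, 5, 6, 2, 3, 5, 2, 4, 1, 2, 6, 0, 4, 6, 3, 2, 6, 5, 3, 0, 5, 6, 3, 2, 3, 1, 2, 1, 3, 2, 3, 1, 2, 3, 4, 2, 3, 1, 2, 3, 2] [.out 724],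
  .sub [4, 1, 2, 6, 0, 4, 6, 3, 2, 6, 5, 3, 0, 5, 6, 3, 2, 3, 1, 2, 1, 3, 2, 3, 1, 2, 3, 4, 2, 3, 1, 2, 3, 2, 4, 1, 2, 6, 0, 4, 6, 3, 2, 6, 5, 3, 0, 5, 6, 3, 2, 3, 1, 2, 1, 3, 2, 3, 1, 2, 3, 4, 2, 3, 1, 2, 3, 2, 4, 1, 2, 6, 0, 4, 6, 3, 2, 6, 5, 3, 0, 5, 6, 3, 2, 3, 1, 2, 1, 3, 2, 3, 1, 2, 3, 4, 2, 3, 1, 2, 3, 2, 6, 4, 3, 5, 6, 2, 3, 5, 2, 4, 1, 2, 6, 0, 4, 6, 3, 2, 6, 5, 3, 0, 5, 6, 3, 2, 3, 1, 2, 1, 3, 2, 3, 1, 2, 3, 4, 2, 3, 1, 2, 3, 2] [.out 299],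
  .sub [2, 3, 1, 0, 1, 2, 2, 3, 6, 2, 3, 5, 4, 3, 6, 4, 0, 4, 1, 2, 6, 0, 4, 6, 3, 2, 6, 5, 3, 0, 5, 6, 3, 2, 3, 1, 2, 1, 3, 2, 3, 1, 2, 3, 4, 2, 3, 1, 2, 3, 2, 6, 4, 3, 5, 6, 2, 3, 5, 2, 4, 1, 2, 6, 0, 4, 6, 3, 2, 6, 5, 3, 0, 5, 6, 3, 2, 3, 1, 2, 1, 3, 2, 3, 1, 2, 3, 4, 2, 3, 1, 2, 3, 2] [.done 84],
  .sub [6, 4, 3, 5, 6, 2, 3, 5, 2, 2, 3, 6, 2, 3, 5, 4, 3, 6, 4, 0, 4, 1, 2, 6, 0, 4, 6, 3, 2, 6, 5, 3, 0, 5, 6, 3, 2, 3, 1, 2, 1, 3, 2, 3, 1, 2, 3, 4, 2, 3, 1, 2, 3, 2, 6, 4, 3, 5, 6, 2, 3, 5, 2, 4, 1, 2, 6, 0, 4, 6, 3, 2, 6, 5, 3, 0, 5, 6, 3, 2, 3, 1, 2, 1, 3, 2, 3, 1, 2, 3, 4, 2, 3, 1, 2, 3, 2] [.out 1464],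
  .sub [4, 1, 2, 6, 0, 4, 6, 3, 2, 6, 5, 3, 0, 5, 6, 3, 2, 3, 1, 2, 1, 3, 2, 3, 1, 2, 3, 4, 2, 3, 1, 2, 3, 2, 2, 3, 6, 2, 3, 5, 4, 3, 6, 4, 0, 4, 1, 2, 6, 0, 4, 6, 3, 2, 6, 5, 3, 0, 5, 6, 3, 2, 3, 1, 2, 1, 3, 2, 3, 1, 2, 3, 4, 2, 3, 1, 2, 3, 2, 6, 4, 3, 5, 6, 2, 3, 5, 2, 4, 1, 2, 6, 0, 4, 6, 3, 2, 6, 5, 3, 0, 5, 6, 3, 2, 3, 1, 2, 1, 3, 2, 3, 1, 2, 3, 4, 2, 3, 1, 2, 3, 2] [.out 207],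
  .sub [2, 3, 6, 2, 3, 5, 4, 3, 6, 4, 0, 2, 3, 6, 2, 3, 5, 4, 3, 6, 4, 0, 4, 1, 2, 6, 0, 4, 6, 3, 2, 6, 5, 3, 0, 5, 6, 3, 2, 3, 1, 2, 1, 3, 2, 3, 1, 2, 3, 4, 2, 3, 1, 2, 3, 2, 6, 4, 3, 5, 6, 2, 3, 5, 2, 4, 1, 2, 6, 0, 4, 6, 3, 2, 6, 5, 3, 0, 5, 6, 3, 2, 3, 1, 2, 1, 3, 2, 3, 1, 2, 3, 4, 2, 3, 1, 2, 3, 2] [.out 182],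
  .sub [6, 4, 3, 5, 6, 2, 3, 5, 2, 2, 3, 1, 0, 1, 2, 6, 4, 3, 5, 6, 2, 3, 5, 2, 4, 1, 2, 6, 0, 4, 6, 3, 2, 6, 5, 3, 0, 5, 6, 3, 2, 3, 1, 2, 1, 3, 2, 3, 1, 2, 3, 4, 2, 3, 1, 2, 3, 2, 4, 1, 2, 6, 0, 4, 6, 3, 2, 6, 5, 3, 0, 5, 6, 3, 2, 3, 1, 2, 1, 3, 2, 3, 1, 2, 3, 4, 2, 3, 1, 2, 3, 2] [.out 793],
  .sub [4, 1, 2, 6, 0, 4, 6, 3, 2, 6, 5, 3, 0, 5, 6, 3, 2, 3, 1, 2, 1, 3, 2, 3, 1, 2, 3, 4, 2, 3, 1, 2, 3, 2, 2, 3, 1, 0, 1, 2, 6, 4, 3, 5, 6, 2, 3, 5, 2, 4, 1, 2, 6, 0, 4, 6, 3, 2, 6, 5, 3, 0, 5, 6, 3, 2, 3, 1, 2, 1, 3, 2, 3, 1, 2, 3, 4, 2, 3, 1, 2, 3, 2, 4, 1, 2, 6, 0, 4, 6, 3, 2, 6, 5, 3, 0, 5, 6, 3, 2, 3, 1, 2, 1, 3,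 2, 3, 1, 2, 3, 4, 2, 3, 1, 2, 3, 2] [.out 448],
  .sub [2, 3, 6, 2, 3, 5, 4, 3, 6, 4, 0, 2, 3, 1, 0, 1, 2, 6, 4, 3, 5, 6, 2, 3, 5, 2, 4, 1, 2, 6, 0, 4, 6, 3, 2, 6, 5, 3, 0, 5, 6, 3, 2, 3, 1, 2, 1, 3, 2, 3, 1, 2, 3, 4, 2, 3, 1, 2, 3, 2, 4, 1, 2, 6, 0, 4, 6, 3, 2, 6, 5, 3, 0, 5, 6, 3, 2, 3, 1, 2, 1, 3, 2, 3, 1, 2, 3, 4, 2, 3, 1, 2, 3, 2] [.out 1374],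
  .sub [2, 3, 1, 0, 1, 2, 6, 4, 3, 5, 6, 2, 3, 5, 2, 6, 4, 3, 5, 6, 2, 3, 5, 2, 4, 1, 2, 6, 0, 4, 6, 3, 2, 6, 5, 3, 0, 5, 6, 3, 2, 3, 1, 2, 1, 3, 2, 3, 1, 2, 3, 4, 2, 3, 1, 2, 3, 2, 4, 1, 2, 6, 0, 4, 6, 3, 2, 6, 5, 3, 0, 5, 6, 3, 2, 3, 1, 2, 1, 3, 2, 3, 1, 2, 3, 4, 2, 3, 1, 2, 3, 2] [.out 797],
  .sub [4, 1, 2, 6, 0, 4, 6, 3, 2, 6, 5, 3, 0, 5, 6, 3, 2, 3, 1, 2, 1, 3, 2, 3, 1, 2, 3, 4, 2, 3, 1, 2, 3, 2, 6, 4, 3, 5, 6, 2, 3, 5, 2, 6, 4, 3, 5, 6, 2, 3, 5, 2, 4, 1, 2, 6, 0, 4, 6, 3, 2, 6, 5, 3, 0, 5, 6, 3, 2, 3, 1, 2, 1, 3, 2, 3, 1, 2, 3, 4, 2, 3, 1, 2, 3, 2, 4, 1, 2, 6, 0, 4, 6, 3, 2, 6, 5, 3, 0, 5, 6, 3, 2, 3, 1,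 2, 1, 3, 2, 3, 1, 2, 3, 4, 2, 3, 1, 2, 3, 2] [.out 1159],
  .sub [6, 4, 3, 5, 6, 2, 3, 5, 2, 4, 1, 2, 6, 0, 4, 6, 3, 2, 6, 5, 3, 0, 5, 6, 3, 2, 3, 1, 2, 1, 3, 2, 3, 1, 2, 3, 4, 2, 3, 1, 2, 3, 2, 6, 4, 3, 5, 6, 2, 3, 5, 2, 4, 1, 2, 6, 0, 4, 6, 3, 2, 6, 5, 3, 0, 5, 6, 3, 2, 3, 1, 2, 1, 3, 2, 3, 1, 2, 3, 4, 2, 3, 1, 2, 3, 2, 4, 1, 2, 6, 0, 4, 6, 3, 2, 6, 5, 3, 0, 5, 6, 3, 2, 3, 1, 2, 1, 3, 2, 3, 1, 2, 3, 4, 2, 3, 1, 2, 3, 2] [.done 85],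
  .sub [4, 1, 2, 6, 0, 4, 6, 3, 2, 6, 5, 3, 0, 5, 6, 3, 2, 3, 1, 2, 1, 3, 2, 3, 1, 2, 3, 4, 2, 3, 1, 2, 3, 2, 4, 1, 2, 6, 0, 4, 6, 3, 2, 6, 5, 3, 0, 5, 6, 3, 2, 3, 1, 2, 1, 3, 2, 3, 1, 2, 3, 4, 2, 3, 1, 2, 3, 2, 6, 4, 3, 5, 6, 2, 3, 5, 2, 4, 1, 2, 6, 0, 4, 6, 3, 2, 6, 5, 3, 0, 5, 6, 3, 2, 3, 1, 2, 1, 3, 2, 3, 1, 2, 3, 4, 2, 3, 1, 2, 3, 2, 4, 1, 2, 6, 0, 4, 6, 3, 2, 6, 5, 3, 0, 5, 6, 3, 2, 3, 1, 2, 1, 3, 2, 3, 1, 2, 3, 4, 2, 3, 1, 2, 3, 2] [.out 1304],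
  .sub [2, 3, 6, 2, 3, 5, 4, 3, 6, 4, 0, 4, 1, 2, 6, 0, 4, 6, 3, 2, 6, 5, 3, 0, 5, 6, 3, 2, 3, 1, 2, 1, 3, 2, 3, 1, 2, 3, 4, 2, 3, 1, 2, 3, 2, 6, 4, 3, 5, 6, 2, 3, 5, 2, 4, 1, 2, 6, 0, 4, 6, 3, 2, 6, 5, 3, 0, 5, 6, 3, 2, 3, 1, 2, 1, 3, 2, 3, 1, 2, 3, 4, 2, 3, 1, 2, 3, 2, 4, 1, 2, 6, 0, 4, 6, 3, 2, 6, 5, 3, 0, 5, 6, 3, 2, 3, 1, 2, 1, 3, 2, 3, 1, 2, 3, 4, 2, 3, 1, 2, 3, 2] [.out 116],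
  .sub [2, 3, 1, 0, 1, 2, 2, 3, 6, 2, 3, 5, 4, 3, 6, 4, 0, 6, 4, 3, 5, 6, 2, 3, 5, 2, 4, 1, 2, 6, 0, 4, 6, 3, 2, 6, 5, 3, 0, 5, 6, 3, 2, 3, 1, 2, 1, 3, 2, 3, 1, 2, 3, 4, 2, 3, 1, 2, 3, 2, 4, 1, 2, 6, 0, 4, 6, 3, 2, 6, 5, 3, 0, 5, 6, 3, 2, 3, 1, 2, 1, 3, 2, 3, 1, 2, 3, 4, 2, 3, 1, 2, 3, 2] [.out 1464],
  .sub [4, 1, 2, 6, 0, 4, 6, 3, 2, 6, 5, 3, 0, 5, 6, 3, 2, 3, 1, 2, 1, 3, 2, 3, 1, 2, 3, 4, 2, 3, 1, 2, 3, 2, 2, 3, 6, 2, 3, 5, 4, 3, 6, 4, 0, 6, 4, 3, 5, 6, 2, 3, 5, 2, 4, 1, 2, 6, 0, 4, 6, 3, 2, 6, 5, 3, 0, 5, 6, 3, 2, 3, 1, 2, 1, 3, 2, 3, 1, 2, 3, 4, 2, 3, 1, 2, 3, 2, 4, 1, 2, 6, 0, 4, 6, 3, 2, 6, 5, 3, 0, 5, 6,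 3, 2, 3, 1, 2, 1, 3, 2, 3, 1, 2, 3, 4, 2, 3, 1, 2, 3, 2] [.out 448],
  .sub [2, 3, 6, 2, 3, 5, 4, 3, 6, 4, 0, 2, 3, 6, 2, 3, 5, 4, 3, 6, 4, 0, 6, 4, 3, 5, 6, 2, 3, 5, 2, 4, 1, 2, 6, 0, 4, 6, 3, 2, 6, 5, 3, 0, 5, 6, 3, 2, 3, 1, 2, 1, 3, 2, 3, 1, 2, 3, 4, 2, 3, 1, 2, 3, 2, 4, 1, 2, 6, 0, 4, 6, 3, 2, 6, 5, 3, 0, 5, 6, 3, 2, 3, 1, 2, 1, 3, 2, 3, 1, 2, 3, 4, 2, 3, 1, 2, 3, 2] [.out 724],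
  .sub [4, 1, 2, 6, 0, 4, 6, 3, 2, 6, 5, 3, 0, 5, 6, 3, 2, 3, 1, 2, 1, 3, 2, 3, 1, 2, 3, 4, 2, 3, 1, 2, 3, 2, 6, 4, 3, 5, 6, 2, 3, 5, 2, 4, 1, 2, 6, 0, 4, 6, 3, 2, 6, 5, 3, 0, 5, 6, 3, 2, 3, 1, 2, 1, 3, 2, 3, 1, 2, 3, 4, 2, 3, 1, 2, 3, 2, 4, 1, 2, 6, 0, 4, 6, 3, 2, 6, 5, 3, 0, 5, 6, 3, 2, 3, 1, 2, 1, 3, 2, 3, 1, 2, 3, 4, 2, 3, 1, 2, 3, 2, 4, 1, 2, 6, 0, 4, 6, 3, 2, 6, 5, 3, 0, 5, 6, 3, 2, 3, 1, 2, 1, 3, 2, 3, 1, 2, 3, 4, 2, 3, 1, 2, 3, 2] [.out 797],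
  .sub [4, 1, 2, 6, 0, 4, 6, 3, 2, 6, 5, 3, 0, 5, 6, 3, 2, 3, 1, 2, 1, 3, 2, 3, 1, 2, 3, 4, 2, 3, 1, 2, 3, 2, 6, 4, 3, 5, 6, 2, 3, 5, 2, 2, 3, 6, 2, 3, 5, 4, 3, 6, 4, 0, 4, 1, 2, 6, 0, 4, 6, 3, 2, 6, 5, 3, 0, 5, 6, 3, 2, 3, 1, 2, 1, 3, 2, 3, 1, 2, 3, 4, 2, 3, 1, 2, 3, 2, 4, 1, 2, 6, 0, 4, 6, 3, 2, 6, 5, 3, 0, 5, 6, 3, 2, 3, 1, 2, 1, 3, 2, 3, 1, 2, 3, 4, 2, 3, 1, 2, 3, 2] [.out 632],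
  .sub [6, 4, 3, 5, 6, 2, 3, 5, 2, 4, 1, 2, 6, 0, 4, 6, 3, 2, 6, 5, 3, 0, 5, 6, 3, 2, 3, 1, 2, 1, 3, 2, 3, 1, 2, 3, 4, 2, 3, 1, 2, 3, 2, 2, 3, 6, 2, 3, 5, 4, 3, 6, 4, 0, 4, 1, 2, 6, 0, 4, 6, 3, 2, 6, 5, 3, 0, 5, 6, 3, 2, 3, 1, 2, 1, 3, 2, 3, 1, 2, 3, 4, 2, 3, 1, 2, 3, 2, 4, 1, 2, 6, 0, 4, 6, 3, 2, 6, 5, 3, 0, 5, 6, 3, 2, 3, 1, 2, 1, 3, 2, 3, 1, 2, 3, 4, 2, 3, 1, 2, 3, 2] [.out 352],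
  .sub [2, 3, 6, 2, 3, 5, 4, 3, 6, 4, 0, 4, 1, 2, 6, 0, 4, 6, 3, 2, 6, 5, 3, 0, 5, 6, 3, 2, 3, 1, 2, 1, 3, 2, 3, 1, 2, 3, 4, 2, 3, 1, 2, 3, 2, 2, 3, 6, 2, 3, 5, 4, 3, 6, 4, 0, 4, 1, 2, 6, 0, 4, 6, 3, 2, 6, 5, 3, 0, 5, 6, 3, 2, 3, 1, 2, 1, 3, 2, 3, 1, 2, 3, 4, 2, 3, 1, 2, 3, 2, 4, 1, 2, 6, 0, 4, 6, 3, 2, 6, 5, 3, 0, 5, 6, 3, 2, 3, 1, 2, 1, 3, 2, 3, 1, 2, 3, 4, 2, 3, 1, 2, 3, 2] [.out 2051],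
  .sub [4, 1, 2, 6, 0, 4, 6, 3, 2, 6, 5, 3, 0, 5, 6, 3, 2, 3, 1, 2, 1, 3, 2, 3, 1, 2, 3, 4, 2, 3, 1, 2, 3, 2, 2, 3, 6, 2, 3, 5, 4, 3, 6, 4, 0, 2, 3, 6, 2, 3, 5, 4, 3, 6, 4, 0, 4, 1, 2, 6, 0, 4, 6, 3, 2, 6, 5, 3, 0, 5, 6, 3, 2, 3, 1, 2, 1, 3, 2, 3, 1, 2, 3, 4, 2, 3, 1, 2, 3, 2, 4, 1, 2, 6, 0, 4, 6, 3, 2, 6, 5, 3, 0, 5, 6, 3, 2, 3, 1, 2, 1, 3, 2, 3, 1, 2, 3, 4, 2, 3, 1, 2, 3, 2] [.done 86],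
  .sub [2, 3, 1, 0, 1, 2, 6, 4, 3, 5, 6, 2, 3, 5, 2, 4, 1, 2, 6, 0, 4, 6, 3, 2, 6, 5, 3, 0, 5, 6, 3, 2, 3, 1, 2, 1, 3, 2, 3, 1, 2, 3, 4, 2, 3, 1, 2, 3, 2, 2, 3, 6, 2, 3, 5, 4, 3, 6, 4, 0, 4, 1, 2, 6, 0, 4, 6, 3, 2, 6, 5, 3, 0, 5, 6, 3, 2, 3, 1, 2, 1, 3, 2, 3, 1, 2, 3, 4, 2, 3, 1, 2, 3, 2] [.out 868],
  .sub [6, 4, 3, 5, 6, 2, 3, 5, 2, 6, 4, 3, 5, 6, 2, 3, 5, 2, 4, 1, 2, 6, 0, 4, 6, 3, 2, 6, 5, 3, 0, 5, 6, 3, 2, 3, 1, 2, 1, 3, 2, 3, 1, 2, 3, 4, 2, 3, 1, 2, 3, 2, 2, 3, 6, 2, 3, 5, 4, 3, 6, 4, 0, 4, 1, 2, 6, 0, 4, 6, 3, 2, 6, 5, 3, 0, 5, 6, 3, 2, 3, 1, 2, 1, 3, 2, 3, 1, 2, 3, 4, 2, 3, 1, 2, 3, 2] [.out 207],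
  .sub [4, 1, 2, 6, 0, 4, 6, 3, 2, 6, 5, 3, 0, 5, 6, 3, 2, 3, 1, 2, 1, 3, 2, 3, 1, 2, 3, 4, 2, 3, 1, 2, 3, 2, 6, 4, 3, 5, 6, 2, 3, 5, 2, 4, 1, 2, 6, 0, 4, 6, 3, 2, 6, 5, 3, 0, 5, 6, 3, 2, 3, 1, 2, 1, 3, 2, 3, 1, 2, 3, 4, 2, 3, 1, 2, 3, 2, 2, 3, 6, 2, 3, 5, 4, 3, 6, 4, 0, 4, 1, 2, 6, 0, 4, 6, 3, 2, 6, 5, 3, 0, 5, 6, 3, 2, 3, 1, 2, 1, 3, 2, 3, 1, 2, 3, 4, 2, 3, 1, 2, 3, 2] [.out 819],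
  .sub [2, 3, 6, 2, 3, 5, 4, 3, 6, 4, 0, 6, 4, 3, 5, 6, 2, 3, 5, 2, 4, 1, 2, 6, 0, 4, 6, 3, 2, 6, 5, 3, 0, 5, 6, 3, 2, 3, 1, 2, 1, 3, 2, 3, 1, 2, 3, 4, 2, 3, 1, 2, 3, 2, 2, 3, 6, 2, 3, 5, 4, 3, 6, 4, 0, 4, 1, 2, 6, 0, 4, 6, 3, 2, 6, 5, 3, 0, 5, 6, 3, 2, 3, 1, 2, 1, 3, 2, 3, 1, 2, 3, 4, 2, 3, 1, 2, 3, 2] [.done 87],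
  .sub [2, 3, 1, 0, 1, 2, 2, 3, 6, 2, 3, 5, 4, 3, 6, 4, 0, 4, 1, 2, 6, 0, 4, 6, 3, 2, 6, 5, 3, 0, 5, 6, 3, 2, 3, 1, 2, 1, 3, 2, 3, 1, 2, 3, 4, 2, 3, 1, 2, 3, 2, 2, 3, 6, 2, 3, 5, 4, 3, 6, 4, 0, 4, 1, 2, 6, 0, 4, 6, 3, 2, 6, 5, 3, 0, 5, 6, 3, 2, 3, 1, 2, 1, 3, 2, 3, 1, 2, 3, 4, 2, 3, 1, 2, 3, 2] [.out 299],
  .sub [6, 4, 3, 5, 6, 2, 3, 5, 2, 2, 3, 6, 2, 3, 5, 4, 3, 6, 4, 0, 4, 1, 2, 6, 0, 4, 6, 3, 2, 6, 5, 3, 0, 5, 6, 3, 2, 3, 1, 2, 1, 3, 2, 3, 1, 2, 3, 4, 2, 3, 1, 2, 3, 2, 2, 3, 6, 2, 3, 5, 4, 3, 6, 4, 0, 4, 1, 2, 6, 0, 4, 6, 3, 2, 6, 5, 3, 0, 5, 6, 3, 2, 3, 1, 2, 1, 3, 2, 3, 1, 2, 3, 4, 2, 3, 1, 2, 3, 2] [.out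 352],
  .sub [4, 1, 2, 6, 0, 4, 6, 3, 2, 6, 5, 3, 0, 5, 6, 3, 2, 3, 1, 2, 1, 3, 2, 3, 1, 2, 3, 4, 2, 3, 1, 2, 3, 2, 2, 3, 6, 2, 3, 5, 4, 3, 6, 4, 0, 4, 1, 2, 6, 0, 4, 6, 3, 2, 6, 5, 3, 0, 5, 6, 3, 2, 3, 1, 2, 1, 3, 2, 3, 1, 2, 3, 4, 2, 3, 1, 2, 3, 2, 2, 3, 6, 2, 3, 5, 4, 3, 6, 4, 0, 4, 1, 2, 6, 0, 4, 6, 3, 2, 6, 5, 3, 0, 5, 6, 3, 2, 3, 1, 2, 1, 3, 2, 3, 1, 2, 3, 4, 2, 3, 1, 2, 3, 2] [.out 1159],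
  .sub [2, 3, 6, 2, 3, 5, 4, 3, 6, 4, 0, 2, 3, 6, 2, 3, 5, 4, 3, 6, 4, 0, 4, 1, 2, 6, 0, 4, 6, 3, 2, 6, 5, 3, 0, 5, 6, 3, 2, 3, 1, 2, 1, 3, 2, 3, 1, 2, 3, 4, 2, 3, 1, 2, 3, 2, 2, 3, 6, 2, 3, 5, 4, 3, 6, 4, 0, 4, 1, 2, 6, 0, 4, 6, 3, 2, 6, 5, 3, 0, 5, 6, 3, 2, 3, 1, 2, 1, 3, 2, 3, 1, 2, 3, 4, 2, 3, 1, 2, 3, 2] [.out 2051],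
  .sub [2, 3, 1, 0, 1, 2, 6, 4, 3, 5, 6, 2, 3, 5, 2, 4, 1, 2, 6, 0, 4, 6, 3, 2, 6, 5, 3, 0, 5, 6, 3, 2, 3, 1, 2, 1, 3, 2, 3, 1, 2, 3, 4, 2, 3, 1, 2, 3, 2, 2, 3, 1, 0, 1, 2, 2, 3, 6, 2, 3, 5, 4, 3, 6, 4, 0] [.out 352],
  .sub [2, 3, 6, 2, 3, 5, 4, 3, 6, 4, 0, 6, 4, 3, 5, 6, 2, 3, 5, 2, 4, 1, 2, 6, 0, 4, 6, 3, 2, 6, 5, 3, 0, 5, 6, 3, 2, 3, 1, 2, 1, 3, 2, 3, 1, 2, 3, 4, 2, 3, 1, 2, 3, 2, 2, 3, 1, 0, 1, 2, 2, 3, 6, 2, 3, 5, 4, 3, 6, 4, 0] [.done 88],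
  .sub [6, 4, 3, 5, 6, 2, 3, 5, 2, 4, 1, 2, 6, 0, 4, 6, 3, 2, 6, 5, 3, 0, 5, 6, 3, 2, 3, 1, 2, 1, 3, 2, 3, 1, 2, 3, 4, 2, 3, 1, 2, 3, 2, 4, 1, 2, 6, 0, 4, 6, 3, 2, 6, 5, 3, 0, 5, 6, 3, 2, 3, 1, 2, 1, 3, 2, 3, 1, 2, 3, 4, 2, 3, 1, 2, 3, 2, 2, 3, 1, 0, 1, 2, 2, 3, 6, 2, 3, 5, 4, 3, 6, 4, 0] [.done 89],
  .sub [2, 3, 1, 0, 1, 2, 6, 4, 3, 5, 6, 2, 3, 5, 2, 4, 1, 2, 6, 0, 4, 6, 3, 2, 6, 5, 3, 0, 5, 6, 3, 2, 3, 1, 2, 1, 3, 2, 3, 1, 2, 3, 4, 2, 3, 1, 2, 3, 2, 6, 4, 3, 5, 6, 2, 3, 5, 2, 2, 3, 6, 2, 3, 5, 4, 3, 6, 4, 0] [.out 922],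
  .sub [6, 4, 3, 5, 6, 2, 3, 5, 2, 6, 4, 3, 5, 6, 2, 3, 5, 2, 4, 1, 2, 6, 0, 4, 6, 3, 2, 6, 5, 3, 0, 5, 6, 3, 2, 3, 1, 2, 1, 3, 2, 3, 1, 2, 3, 4, 2, 3, 1, 2, 3, 2, 6, 4, 3, 5, 6, 2, 3, 5, 2, 2, 3, 6, 2, 3, 5, 4, 3, 6, 4, 0] [.out 448],
  .sub [4, 1, 2, 6, 0, 4, 6, 3, 2, 6, 5, 3, 0, 5, 6, 3, 2, 3, 1, 2, 1, 3, 2, 3, 1, 2, 3, 4, 2, 3, 1, 2, 3, 2, 6, 4, 3, 5, 6, 2, 3, 5, 2, 4, 1, 2, 6, 0, 4, 6, 3, 2, 6, 5, 3, 0, 5, 6, 3, 2, 3, 1, 2, 1, 3, 2, 3, 1, 2, 3, 4, 2, 3, 1, 2, 3, 2, 6, 4, 3, 5, 6, 2, 3, 5, 2, 2, 3, 6, 2, 3, 5, 4, 3, 6, 4, 0] [.out 1689],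
  .sub [4, 1, 2, 6, 0, 4, 6, 3, 2, 6, 5, 3, 0, 5, 6, 3, 2, 3, 1, 2, 1, 3, 2, 3, 1, 2, 3, 4, 2, 3, 1, 2, 3, 2, 4, 1, 2, 6, 0, 4, 6, 3, 2, 6, 5, 3, 0, 5, 6, 3, 2, 3, 1, 2, 1, 3, 2, 3, 1, 2, 3, 4, 2, 3, 1, 2, 3, 2, 4, 1, 2, 6, 0, 4, 6, 3, 2, 6, 5, 3, 0, 5, 6, 3, 2, 3, 1, 2, 1, 3, 2, 3, 1, 2, 3, 4, 2, 3, 1, 2, 3, 2, 6, 4, 3, 5, 6, 2, 3, 5, 2, 2, 3, 6, 2, 3, 5, 4, 3, 6, 4, 0] [.out 632],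
  .sub [2, 3, 1, 0, 1, 2, 2, 3, 6, 2, 3, 5, 4, 3, 6, 4, 0, 4, 1, 2, 6, 0, 4, 6, 3, 2, 6, 5, 3, 0, 5, 6, 3, 2, 3, 1, 2, 1, 3, 2, 3, 1, 2, 3, 4, 2, 3, 1, 2, 3, 2, 6, 4, 3, 5, 6, 2, 3, 5, 2, 2, 3, 6, 2, 3, 5, 4, 3, 6, 4, 0] [.out 182],
  .sub [6, 4, 3, 5, 6, 2, 3, 5, 2, 2, 3, 6, 2, 3, 5, 4, 3, 6, 4, 0, 4, 1, 2, 6, 0, 4, 6, 3, 2, 6, 5, 3, 0, 5, 6, 3, 2, 3, 1, 2, 1, 3, 2, 3, 1, 2, 3, 4, 2, 3, 1, 2, 3, 2, 6, 4, 3, 5, 6, 2, 3, 5, 2, 2, 3, 6, 2, 3, 5, 4, 3, 6, 4, 0] [.out 207],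
  .sub [2, 3, 6, 2, 3, 5, 4, 3, 6, 4, 0, 2, 3, 6, 2, 3, 5, 4, 3, 6, 4, 0, 4, 1, 2, 6, 0, 4, 6, 3, 2, 6, 5, 3, 0, 5, 6, 3, 2, 3, 1, 2, 1, 3, 2, 3, 1, 2, 3, 4, 2, 3, 1, 2, 3, 2, 6, 4, 3, 5, 6, 2, 3, 5, 2, 2, 3, 6, 2, 3, 5, 4, 3, 6, 4, 0] [.done 90],
  .sub [4, 1, 2, 6, 0, 4, 6, 3, 2, 6, 5, 3, 0, 5, 6, 3, 2, 3, 1, 2, 1, 3, 2, 3, 1, 2, 3, 4, 2, 3, 1, 2, 3, 2, 2, 3, 1, 0, 1, 2, 6, 4, 3, 5, 6, 2, 3, 5, 2, 4, 1, 2, 6, 0, 4, 6, 3, 2, 6, 5, 3, 0, 5, 6, 3, 2, 3, 1, 2, 1, 3, 2, 3, 1, 2, 3, 4, 2, 3, 1, 2, 3, 2, 2, 3, 6, 2, 3, 5, 4, 3, 6, 4, 0] [.out 1374],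
  .sub [2, 3, 1, 0, 1, 2, 6, 4, 3, 5, 6, 2, 3, 5, 2, 6, 4, 3, 5, 6, 2, 3, 5, 2, 4, 1, 2, 6, 0, 4, 6, 3, 2, 6, 5, 3, 0, 5, 6, 3, 2, 3, 1, 2, 1, 3, 2, 3, 1, 2, 3, 4, 2, 3, 1, 2, 3, 2, 2, 3, 6, 2, 3, 5, 4, 3, 6, 4, 0] [.done 91],
  .sub [6, 4, 3, 5, 6, 2, 3, 5, 2, 4, 1, 2, 6, 0, 4, 6, 3, 2, 6, 5, 3, 0, 5, 6, 3, 2, 3, 1, 2, 1, 3, 2, 3, 1, 2, 3, 4, 2, 3, 1, 2, 3, 2, 6, 4, 3, 5, 6, 2, 3, 5, 2, 4, 1, 2, 6, 0, 4, 6, 3, 2, 6, 5, 3, 0, 5, 6, 3, 2, 3, 1, 2, 1, 3, 2, 3, 1, 2, 3, 4, 2, 3, 1, 2, 3, 2, 2, 3, 6, 2, 3, 5, 4, 3, 6, 4, 0] [.out 724],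
  .sub [4, 1, 2, 6, 0, 4, 6, 3, 2, 6, 5, 3, 0, 5, 6, 3, 2, 3, 1, 2, 1, 3, 2, 3, 1, 2, 3, 4, 2, 3, 1, 2, 3, 2, 4, 1, 2, 6, 0, 4, 6, 3, 2, 6, 5, 3, 0, 5, 6, 3, 2, 3, 1, 2, 1, 3, 2, 3, 1, 2, 3, 4, 2, 3, 1, 2, 3, 2, 6, 4, 3, 5, 6, 2, 3, 5, 2, 4, 1, 2, 6, 0, 4, 6, 3, 2, 6, 5, 3, 0, 5, 6, 3, 2, 3, 1, 2, 1, 3, 2, 3, 1, 2, 3, 4, 2, 3, 1, 2, 3, 2, 2, 3, 6, 2, 3, 5, 4, 3, 6, 4, 0] [.out 717],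
  .sub [2, 3, 6, 2, 3, 5, 4, 3, 6, 4, 0, 4, 1, 2, 6, 0, 4, 6, 3, 2, 6, 5, 3, 0, 5, 6, 3, 2, 3, 1, 2, 1, 3, 2, 3, 1, 2, 3, 4, 2, 3, 1, 2, 3, 2, 6, 4, 3, 5, 6, 2, 3, 5, 2, 4, 1, 2, 6, 0, 4, 6, 3, 2, 6, 5, 3, 0, 5, 6, 3, 2, 3, 1, 2, 1, 3, 2, 3, 1, 2, 3, 4, 2, 3, 1, 2, 3, 2, 2, 3, 6, 2, 3, 5, 4, 3, 6, 4, 0] [.out 1689],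
  .sub [4, 1, 2, 6, 0, 4, 6, 3, 2, 6, 5, 3, 0, 5, 6, 3, 2, 3, 1, 2, 1, 3, 2, 3, 1, 2, 3, 4, 2, 3, 1, 2, 3, 2, 2, 3, 6, 2, 3, 5, 4, 3, 6, 4, 0, 6, 4, 3, 5, 6, 2, 3, 5, 2, 4, 1, 2, 6, 0, 4, 6, 3, 2, 6, 5, 3, 0, 5, 6, 3, 2, 3, 1, 2, 1, 3, 2, 3, 1, 2, 3, 4, 2, 3, 1, 2, 3, 2, 2, 3, 6, 2, 3, 5, 4, 3, 6, 4, 0] [.out 70],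
  .sub [2, 3, 6, 2, 3, 5, 4, 3, 6, 4, 0, 2, 3, 6, 2, 3, 5, 4, 3, 6, 4, 0, 6, 4, 3, 5, 6, 2, 3, 5, 2, 4, 1, 2, 6, 0, 4, 6, 3, 2, 6, 5, 3, 0, 5, 6, 3, 2, 3, 1, 2, 1, 3, 2, 3, 1, 2, 3, 4, 2, 3, 1, 2, 3, 2, 2, 3, 6, 2, 3, 5, 4, 3, 6, 4, 0] [.out 127],
  .sub [6, 4, 3, 5, 6, 2, 3, 5, 2, 6, 4, 3, 5, 6, 2, 3, 5, 2, 4, 1, 2, 6, 0, 4, 6, 3, 2, 6, 5, 3, 0, 5, 6, 3, 2, 3, 1, 2, 1, 3, 2, 3, 1, 2, 3, 4, 2, 3, 1, 2, 3, 2, 4, 1, 2, 6, 0, 4, 6, 3, 2, 6, 5, 3, 0, 5, 6, 3, 2, 3, 1, 2, 1, 3, 2, 3, 1, 2, 3, 4, 2, 3, 1, 2, 3, 2, 2, 3, 6, 2, 3, 5, 4, 3, 6, 4, 0] [.out 110],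
  .sub [2, 3, 1, 0, 1, 2, 6, 4, 3, 5, 6, 2, 3, 5, 2, 4, 1, 2, 6, 0, 4, 6, 3, 2, 6, 5, 3, 0, 5, 6, 3, 2, 3, 1, 2, 1, 3, 2, 3, 1, 2, 3, 4, 2, 3, 1, 2, 3, 2, 2, 3, 6, 2, 3, 5, 4, 3, 6, 4, 0, 2, 3, 6, 2, 3, 5, 4, 3, 6, 4, 0] [.out 1023],
  .sub [6, 4, 3, 5, 6, 2, 3, 5, 2, 6, 4, 3, 5, 6, 2, 3, 5, 2, 4, 1, 2, 6, 0, 4, 6, 3, 2, 6, 5, 3, 0, 5, 6, 3, 2, 3, 1, 2, 1, 3, 2, 3, 1, 2, 3, 4, 2, 3, 1, 2, 3, 2, 2, 3, 6, 2, 3, 5, 4, 3, 6, 4, 0, 2, 3, 6, 2, 3, 5, 4, 3, 6, 4, 0] [.out 2051],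
  .sub [4, 1, 2, 6, 0, 4, 6, 3, 2, 6, 5, 3, 0, 5, 6, 3, 2, 3, 1, 2, 1, 3, 2, 3, 1, 2, 3, 4, 2, 3, 1, 2, 3, 2, 6, 4, 3, 5, 6, 2, 3, 5, 2, 4, 1, 2, 6, 0, 4, 6, 3, 2, 6, 5, 3, 0, 5, 6, 3, 2, 3, 1, 2, 1, 3, 2, 3, 1, 2, 3, 4, 2, 3, 1, 2, 3, 2, 2, 3, 6, 2, 3, 5, 4, 3, 6, 4, 0, 2, 3, 6, 2, 3, 5, 4, 3, 6, 4, 0] [.out 299],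
  .sub [2, 3, 6, 2, 3, 5, 4, 3, 6, 4, 0, 6, 4, 3, 5, 6, 2, 3, 5, 2, 4, 1, 2, 6, 0, 4, 6, 3, 2, 6, 5, 3, 0, 5, 6, 3, 2, 3, 1, 2, 1, 3, 2, 3, 1, 2, 3, 4, 2, 3, 1, 2, 3, 2, 2, 3, 6, 2, 3, 5, 4, 3, 6, 4, 0, 2, 3, 6, 2, 3, 5, 4, 3, 6, 4, 0] [.out 1620],
  .sub [2, 3, 1, 0, 1, 2, 2, 3, 6, 2, 3, 5, 4, 3, 6, 4, 0, 4, 1, 2, 6, 0, 4, 6, 3, 2, 6, 5, 3, 0, 5, 6, 3, 2, 3, 1, 2, 1, 3, 2, 3, 1, 2, 3, 4, 2, 3, 1, 2, 3, 2, 2, 3, 6, 2, 3, 5, 4, 3, 6, 4, 0, 2, 3, 6, 2, 3, 5, 4, 3, 6, 4, 0] [.out 1689],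
  .sub [6, 4, 3, 5, 6, 2, 3, 5, 2, 2, 3, 6, 2, 3, 5, 4, 3, 6, 4, 0, 4, 1, 2, 6, 0, 4, 6, 3, 2, 6, 5, 3, 0, 5, 6, 3, 2, 3, 1, 2, 1, 3, 2, 3, 1, 2, 3, 4, 2, 3, 1, 2, 3, 2, 2, 3, 6, 2, 3, 5, 4, 3, 6, 4, 0, 2, 3, 6, 2, 3, 5, 4, 3, 6, 4, 0] [.done 92],
  .sub [2, 3, 6, 2, 3, 5, 4, 3, 6, 4, 0, 2, 3, 6, 2, 3, 5, 4, 3, 6, 4, 0, 4, 1, 2, 6, 0, 4, 6, 3, 2, 6, 5, 3, 0, 5, 6, 3, 2, 3, 1, 2, 1, 3, 2, 3, 1, 2, 3, 4, 2, 3, 1, 2, 3, 2, 2, 3, 6, 2, 3, 5, 4, 3, 6, 4, 0, 2, 3, 6, 2, 3, 5, 4, 3, 6, 4, 0] [.out 116],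
  .sub [6, 4, 3, 5, 6, 2, 3, 5, 2, 2, 3, 1, 0, 1, 2, 6, 4, 3, 5, 6, 2, 3, 5, 2, 4, 1, 2, 6, 0, 4, 6, 3, 2, 6, 5, 3, 0, 5, 6, 3, 2, 3, 1, 2, 1, 3, 2, 3, 1, 2, 3, 4, 2, 3, 1, 2, 3, 2, 2, 3, 1, 0, 1, 2, 6, 4, 3, 5, 6, 2, 3, 5, 2] [.out 841],
  .sub [4, 1, 2, 6, 0, 4, 6, 3, 2, 6, 5, 3, 0, 5, 6, 3, 2, 3, 1, 2, 1, 3, 2, 3, 1, 2, 3, 4, 2, 3, 1, 2, 3, 2, 2, 3, 1, 0, 1, 2, 6, 4, 3, 5, 6, 2, 3, 5, 2, 4, 1, 2, 6, 0, 4, 6, 3, 2, 6, 5, 3, 0, 5, 6, 3, 2, 3, 1, 2, 1, 3, 2, 3, 1, 2, 3, 4, 2, 3, 1, 2, 3, 2, 2, 3, 1, 0, 1, 2, 6, 4, 3, 5, 6, 2, 3, 5, 2] [.out 2013],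
  .sub [2, 3, 1, 0, 1, 2, 6, 4, 3, 5, 6, 2, 3, 5, 2, 6, 4, 3, 5, 6, 2, 3, 5, 2, 4, 1, 2, 6, 0, 4, 6, 3, 2, 6, 5, 3, 0, 5, 6, 3, 2, 3, 1, 2, 1, 3, 2, 3, 1, 2, 3, 4, 2, 3, 1, 2, 3, 2, 2, 3, 1, 0, 1, 2, 6, 4, 3, 5, 6, 2, 3, 5, 2] [.out 1689],
  .sub [4, 1, 2, 6, 0, 4, 6, 3, 2, 6, 5, 3, 0, 5, 6, 3, 2, 3, 1, 2, 1, 3, 2, 3, 1, 2, 3, 4, 2, 3, 1, 2, 3, 2, 6, 4, 3, 5, 6, 2, 3, 5, 2, 6, 4, 3, 5, 6, 2, 3, 5, 2, 4, 1, 2, 6, 0, 4, 6, 3, 2, 6, 5, 3, 0, 5, 6, 3, 2, 3, 1, 2, 1, 3, 2, 3, 1, 2, 3, 4, 2, 3, 1, 2, 3, 2, 2, 3, 1, 0, 1, 2, 6, 4, 3, 5, 6, 2, 3, 5, 2] [.out 1018],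
  .sub [4, 1, 2, 6, 0, 4, 6, 3, 2, 6, 5, 3, 0, 5, 6, 3, 2, 3, 1, 2, 1, 3, 2, 3, 1, 2, 3, 4, 2, 3, 1, 2, 3, 2, 4, 1, 2, 6, 0, 4, 6, 3, 2, 6, 5, 3, 0, 5, 6, 3, 2, 3, 1, 2, 1, 3, 2, 3, 1, 2, 3, 4, 2, 3, 1, 2, 3, 2, 6, 4, 3, 5, 6, 2, 3, 5, 2, 4, 1, 2, 6, 0, 4, 6, 3, 2, 6, 5, 3, 0, 5, 6, 3, 2, 3, 1, 2, 1, 3, 2, 3, 1, 2, 3, 4, 2, 3, 1, 2, 3, 2, 2, 3, 1, 0, 1, 2, 6, 4, 3, 5, 6, 2, 3, 5, 2] [.out 365],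
  .sub [2, 3, 6, 2, 3, 5, 4, 3, 6, 4, 0, 4, 1, 2, 6, 0, 4, 6, 3, 2, 6, 5, 3, 0, 5, 6, 3, 2, 3, 1, 2, 1, 3, 2, 3, 1, 2, 3, 4, 2, 3, 1, 2, 3, 2, 6, 4, 3, 5, 6, 2, 3, 5, 2, 4, 1, 2, 6, 0, 4, 6, 3, 2, 6, 5, 3, 0, 5, 6, 3, 2, 3, 1, 2, 1, 3, 2, 3, 1, 2, 3, 4, 2, 3, 1, 2, 3, 2, 2, 3, 1, 0, 1, 2, 6, 4, 3, 5, 6, 2, 3, 5, 2] [.out 724],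
  .sub [2, 3, 1, 0, 1, 2, 2, 3, 6, 2, 3, 5, 4, 3, 6, 4, 0, 6, 4, 3, 5, 6, 2, 3, 5, 2, 4, 1, 2, 6, 0, 4, 6, 3, 2, 6, 5, 3, 0, 5, 6, 3, 2, 3, 1, 2, 1, 3, 2, 3, 1, 2, 3, 4, 2, 3, 1, 2, 3, 2, 2, 3, 1, 0, 1, 2, 6, 4, 3, 5, 6, 2, 3, 5, 2] [.out 1023],
  .sub [4, 1, 2, 6, 0, 4, 6, 3, 2, 6, 5, 3, 0, 5, 6, 3, 2, 3, 1, 2, 1, 3, 2, 3, 1, 2, 3, 4, 2, 3, 1, 2, 3, 2, 2, 3, 6, 2, 3, 5, 4, 3, 6, 4, 0, 6, 4, 3, 5, 6, 2, 3, 5, 2, 4, 1, 2, 6, 0, 4, 6, 3, 2, 6, 5, 3, 0, 5, 6, 3, 2, 3, 1, 2, 1, 3, 2, 3, 1, 2, 3, 4, 2, 3, 1, 2, 3, 2, 2, 3, 1, 0, 1, 2, 6, 4, 3, 5, 6, 2, 3, 5, 2] [.out 1777],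
  .sub [2, 3, 6, 2, 3, 5, 4, 3, 6, 4, 0, 2, 3, 6, 2, 3, 5, 4, 3, 6, 4, 0, 6, 4, 3, 5, 6, 2, 3, 5, 2, 4, 1, 2, 6, 0, 4, 6, 3, 2, 6, 5, 3, 0, 5, 6, 3, 2, 3, 1, 2, 1, 3, 2, 3, 1, 2, 3, 4, 2, 3, 1, 2, 3, 2, 2, 3, 1, 0, 1, 2, 6, 4, 3, 5, 6, 2, 3, 5, 2] [.done 93],
  .sub [2, 3, 1, 0, 1, 2, 6, 4, 3, 5, 6, 2, 3, 5, 2, 4, 1, 2, 6, 0, 4, 6, 3, 2, 6, 5, 3, 0, 5, 6, 3, 2, 3, 1, 2, 1, 3, 2, 3, 1, 2, 3, 4, 2, 3, 1, 2, 3, 2, 4, 1, 2, 6, 0, 4, 6, 3, 2, 6, 5, 3, 0, 5, 6, 3, 2, 3, 1, 2, 1, 3, 2, 3, 1, 2, 3, 4, 2, 3, 1, 2, 3, 2, 2, 3, 1, 0, 1, 2, 6, 4, 3, 5, 6, 2, 3, 5, 2] [.out 793],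
  .sub [6, 4, 3, 5, 6, 2, 3, 5, 2, 6, 4, 3, 5, 6, 2, 3, 5, 2, 4, 1, 2, 6, 0, 4, 6, 3, 2, 6, 5, 3, 0, 5, 6, 3, 2, 3, 1, 2, 1, 3, 2, 3, 1, 2, 3, 4, 2, 3, 1, 2, 3, 2, 4, 1, 2, 6, 0, 4, 6, 3, 2, 6, 5, 3, 0, 5, 6, 3, 2, 3, 1, 2, 1, 3, 2, 3, 1, 2, 3, 4, 2, 3, 1, 2, 3, 2, 2, 3, 1, 0, 1, 2, 6, 4, 3, 5, 6, 2, 3, 5, 2] [.done 94],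
  .sub [4, 1, 2, 6, 0, 4, 6, 3, 2, 6, 5, 3, 0, 5, 6, 3, 2, 3, 1, 2, 1, 3, 2, 3, 1, 2, 3, 4, 2, 3, 1, 2, 3, 2, 6, 4, 3, 5, 6, 2, 3, 5, 2, 4, 1, 2, 6, 0, 4, 6, 3, 2, 6, 5, 3, 0, 5, 6, 3, 2, 3, 1, 2, 1, 3, 2, 3, 1, 2, 3, 4, 2, 3, 1, 2, 3, 2, 4, 1, 2, 6, 0, 4, 6, 3, 2, 6, 5, 3, 0, 5, 6, 3, 2, 3, 1, 2, 1, 3, 2, 3, 1, 2, 3, 4, 2, 3, 1, 2, 3, 2, 2, 3, 1, 0, 1, 2, 6, 4, 3, 5, 6, 2, 3, 5, 2] [.out 1689],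
  .sub [6, 4, 3, 5, 6, 2, 3, 5, 2, 4, 1, 2, 6, 0, 4, 6, 3, 2, 6, 5, 3, 0, 5, 6, 3, 2, 3, 1, 2, 1, 3, 2, 3, 1, 2, 3, 4, 2, 3, 1, 2, 3, 2, 4, 1, 2, 6, 0, 4, 6, 3, 2, 6, 5, 3, 0, 5, 6, 3, 2, 3, 1, 2, 1, 3, 2, 3, 1, 2, 3, 4, 2, 3, 1, 2, 3, 2, 4, 1, 2, 6, 0, 4, 6, 3, 2, 6, 5, 3, 0, 5, 6, 3, 2, 3, 1, 2, 1, 3, 2, 3, 1, 2, 3, 4, 2, 3, 1, 2, 3, 2, 2, 3, 1, 0, 1, 2, 6, 4, 3, 5, 6, 2, 3, 5, 2] [.done 95],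
  .sub [4, 1, 2, 6, 0, 4, 6, 3, 2, 6, 5, 3, 0, 5, 6, 3, 2, 3, 1, 2, 1, 3, 2, 3, 1, 2, 3, 4, 2, 3, 1, 2, 3, 2, 2, 3, 6, 2, 3, 5, 4, 3, 6, 4, 0, 4, 1, 2, 6, 0, 4, 6, 3, 2, 6, 5, 3, 0, 5, 6, 3, 2, 3, 1, 2, 1, 3, 2, 3, 1, 2, 3, 4, 2, 3, 1, 2, 3, 2, 4, 1, 2, 6, 0, 4, 6, 3, 2, 6, 5, 3, 0, 5, 6, 3, 2, 3, 1, 2, 1, 3, 2, 3, 1, 2, 3, 4, 2, 3, 1, 2, 3, 2, 2, 3, 1, 0, 1, 2, 6, 4, 3, 5, 6, 2, 3, 5, 2] [.out 281]]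

/-- Branches. -/
def kidsZPart17 : List Branch := [
  .sub [6, 4, 3, 5, 6, 2, 3, 5, 2, 2, 3, 1, 0, 1, 2, 2, 3, 6, 2, 3, 5, 4, 3, 6, 4, 0, 4, 1, 2, 6, 0, 4, 6, 3, 2, 6, 5, 3, 0, 5, 6, 3, 2, 3, 1, 2, 1, 3, 2, 3, 1, 2, 3, 4, 2, 3, 1, 2, 3, 2, 2, 3, 1, 0, 1, 2, 6, 4, 3, 5, 6, 2, 3, 5, 2] [.out 1022],
  .sub [4, 1, 2, 6, 0, 4, 6, 3, 2, 6, 5, 3, 0, 5, 6, 3, 2, 3, 1, 2, 1, 3, 2, 3, 1, 2, 3, 4, 2, 3, 1, 2, 3, 2, 2, 3, 1, 0, 1, 2, 2, 3, 6, 2, 3, 5, 4, 3, 6, 4, 0, 4, 1, 2, 6, 0, 4, 6, 3, 2, 6, 5, 3, 0, 5, 6, 3, 2, 3, 1, 2, 1, 3, 2, 3, 1, 2, 3, 4, 2, 3, 1, 2, 3, 2, 2, 3, 1, 0, 1, 2, 6, 4, 3, 5, 6, 2, 3, 5, 2] [.out 1370],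
  .sub [4, 1, 2, 6, 0, 4, 6, 3, 2, 6, 5, 3, 0, 5, 6, 3, 2, 3, 1, 2, 1, 3, 2, 3, 1, 2, 3, 4, 2, 3, 1, 2, 3, 2, 6, 4, 3, 5, 6, 2, 3, 5, 2, 2, 3, 6, 2, 3, 5, 4, 3, 6, 4, 0, 4, 1, 2, 6, 0, 4, 6, 3, 2, 6, 5, 3, 0, 5, 6, 3, 2, 3, 1, 2, 1, 3, 2, 3, 1, 2, 3, 4, 2, 3, 1, 2, 3, 2, 2, 3, 1, 0, 1, 2, 6, 4, 3, 5, 6, 2, 3, 5, 2] [.out 868],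
  .sub [6, 4, 3, 5, 6, 2, 3, 5, 2, 4, 1, 2, 6, 0, 4, 6, 3, 2, 6, 5, 3, 0, 5, 6, 3, 2, 3, 1, 2, 1, 3, 2, 3, 1, 2, 3, 4, 2, 3, 1, 2, 3, 2, 2, 3, 6, 2, 3, 5, 4, 3, 6, 4, 0, 4, 1, 2, 6, 0, 4, 6, 3, 2, 6, 5, 3, 0, 5, 6, 3, 2, 3, 1, 2, 1, 3, 2, 3, 1, 2, 3, 4, 2, 3, 1, 2, 3, 2, 2, 3, 1, 0, 1, 2, 6, 4, 3, 5, 6, 2, 3, 5, 2] [.out 1378],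
  .sub [4, 1, 2, 6, 0, 4, 6, 3, 2, 6, 5, 3, 0, 5, 6, 3, 2, 3, 1, 2, 1, 3, 2, 3, 1, 2, 3, 4, 2, 3, 1, 2, 3, 2, 2, 3, 6, 2, 3, 5, 4, 3, 6, 4, 0, 2, 3, 6, 2, 3, 5, 4, 3, 6, 4, 0, 4, 1, 2, 6, 0, 4, 6, 3, 2, 6, 5, 3, 0, 5, 6, 3, 2, 3, 1, 2, 1, 3, 2, 3, 1, 2, 3, 4, 2, 3, 1, 2, 3, 2, 2, 3, 1, 0, 1, 2, 6, 4, 3, 5, 6, 2, 3, 5, 2] [.out 1304],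
  .sub [2, 3, 1, 0, 1, 2, 6, 4, 3, 5, 6, 2, 3, 5, 2, 4, 1, 2, 6, 0, 4, 6, 3, 2, 6, 5, 3, 0, 5, 6, 3, 2, 3, 1, 2, 1, 3, 2, 3, 1, 2, 3, 4, 2, 3, 1, 2, 3, 2, 2, 3, 6, 2, 3, 5, 4, 3, 6, 4, 0, 2, 3, 1, 0, 1, 2, 6, 4, 3, 5, 6, 2, 3, 5, 2] [.done 96],
  .sub [6, 4, 3, 5, 6, 2, 3, 5, 2, 6, 4, 3, 5, 6, 2, 3, 5, 2, 4, 1, 2, 6, 0, 4, 6, 3, 2, 6, 5, 3, 0, 5, 6, 3, 2, 3, 1, 2, 1, 3, 2, 3, 1, 2, 3, 4, 2, 3, 1, 2, 3, 2, 2, 3, 6, 2, 3, 5, 4, 3, 6, 4, 0, 2, 3, 1, 0, 1, 2, 6, 4, 3, 5, 6, 2, 3, 5, 2] [.out 793],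
  .sub [4, 1, 2, 6, 0, 4, 6, 3, 2, 6, 5, 3, 0, 5, 6, 3, 2, 3, 1, 2, 1, 3, 2, 3, 1, 2, 3, 4, 2, 3, 1, 2, 3, 2, 6, 4, 3, 5, 6, 2, 3, 5, 2, 4, 1, 2, 6, 0, 4, 6, 3, 2, 6, 5, 3, 0, 5, 6, 3, 2, 3, 1, 2, 1, 3, 2, 3, 1, 2, 3, 4, 2, 3, 1, 2, 3, 2, 2, 3, 6, 2, 3, 5, 4, 3, 6, 4, 0, 2, 3, 1, 0, 1, 2, 6, 4, 3, 5, 6, 2, 3, 5, 2] [.done 97],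
  .sub [2, 3, 6, 2, 3, 5, 4, 3, 6, 4, 0, 6, 4, 3, 5, 6, 2, 3, 5, 2, 4, 1, 2, 6, 0, 4, 6, 3, 2, 6, 5, 3, 0, 5, 6, 3, 2, 3, 1, 2, 1, 3, 2, 3, 1, 2, 3, 4, 2, 3, 1, 2, 3, 2, 2, 3, 6, 2, 3, 5, 4, 3, 6, 4, 0, 2, 3, 1, 0, 1, 2, 6, 4, 3, 5, 6, 2, 3, 5, 2] [.out 837],
  .sub [2, 3, 1, 0, 1, 2, 2, 3, 6, 2, 3, 5, 4, 3, 6, 4, 0, 4, 1, 2, 6, 0, 4, 6, 3, 2, 6, 5, 3, 0, 5, 6, 3, 2, 3, 1, 2, 1, 3, 2, 3, 1, 2, 3, 4, 2, 3, 1, 2, 3, 2, 2, 3, 6, 2, 3, 5, 4, 3, 6, 4, 0, 2, 3, 1, 0, 1, 2, 6, 4, 3, 5, 6, 2, 3, 5, 2] [.out 1370],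
  .sub [6, 4, 3, 5, 6, 2, 3, 5, 2, 2, 3, 6, 2, 3, 5, 4, 3, 6, 4, 0, 4, 1, 2, 6, 0, 4, 6, 3, 2, 6, 5, 3, 0, 5, 6, 3, 2, 3, 1, 2, 1, 3, 2, 3, 1, 2, 3, 4, 2, 3, 1, 2, 3, 2, 2, 3, 6, 2, 3, 5, 4, 3, 6, 4, 0, 2, 3, 1, 0, 1, 2, 6, 4, 3, 5, 6, 2, 3, 5, 2] [.out 1378],
  .sub [4, 1, 2, 6, 0, 4, 6, 3, 2, 6, 5, 3, 0, 5, 6, 3, 2, 3, 1, 2, 1, 3, 2, 3, 1, 2, 3, 4, 2, 3, 1, 2, 3, 2, 2, 3, 6, 2, 3, 5, 4, 3, 6, 4, 0, 4, 1, 2, 6, 0, 4, 6, 3, 2, 6, 5, 3, 0, 5, 6, 3, 2, 3, 1, 2, 1, 3, 2, 3, 1, 2, 3, 4, 2, 3, 1, 2, 3, 2, 2, 3, 6, 2, 3, 5, 4, 3, 6, 4, 0, 2, 3, 1, 0, 1, 2, 6, 4, 3, 5, 6, 2, 3, 5, 2] [.done 98],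
  .sub [2, 3, 6, 2, 3, 5, 4, 3, 6, 4, 0, 2, 3, 6, 2, 3, 5, 4, 3, 6, 4, 0, 4, 1, 2, 6, 0, 4, 6, 3, 2, 6, 5, 3, 0, 5, 6, 3, 2, 3, 1, 2, 1, 3, 2, 3, 1, 2, 3, 4, 2, 3, 1, 2, 3, 2, 2, 3, 6, 2, 3, 5, 4, 3, 6, 4, 0, 2, 3, 1, 0, 1, 2, 6, 4, 3, 5, 6, 2, 3, 5, 2] [.out 281],
  .sub [6, 4, 3, 5, 6, 2, 3, 5, 2, 2, 3, 1, 0, 1, 2, 6, 4, 3, 5, 6, 2, 3, 5, 2, 4, 1, 2, 6, 0, 4, 6, 3, 2, 6, 5, 3, 0, 5, 6, 3, 2, 3, 1, 2, 1, 3, 2, 3, 1, 2, 3, 4, 2, 3, 1, 2, 3, 2, 6, 4, 3, 5, 6, 2, 3, 5, 2, 6, 4, 3, 5, 6, 2, 3, 5, 2] [.out 70],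
  .sub [4, 1, 2, 6, 0, 4, 6, 3, 2, 6, 5, 3, 0, 5, 6, 3, 2, 3, 1, 2, 1, 3, 2, 3, 1, 2, 3, 4, 2, 3, 1, 2, 3, 2, 2, 3, 1, 0, 1, 2, 6, 4, 3, 5, 6, 2, 3, 5, 2, 4, 1, 2, 6, 0, 4, 6, 3, 2, 6, 5, 3, 0, 5, 6, 3, 2, 3, 1, 2, 1, 3, 2, 3, 1, 2, 3, 4, 2, 3, 1, 2, 3, 2, 6, 4, 3, 5, 6, 2, 3, 5, 2, 6, 4, 3, 5, 6, 2, 3, 5, 2] [.out 724],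
  .sub [2, 3, 6, 2, 3, 5, 4, 3, 6, 4, 0, 2, 3, 1, 0, 1, 2, 6, 4, 3, 5, 6, 2, 3, 5, 2, 4, 1, 2, 6, 0, 4, 6, 3, 2, 6, 5, 3, 0, 5, 6, 3, 2, 3, 1, 2, 1, 3, 2, 3, 1, 2, 3, 4, 2, 3, 1, 2, 3, 2, 6, 4, 3, 5, 6, 2, 3, 5, 2, 6, 4, 3, 5, 6, 2, 3, 5, 2] [.done 99],
  .sub [6, 4, 3, 5, 6, 2, 3, 5, 2, 4, 1, 2, 6, 0, 4, 6, 3, 2, 6, 5, 3, 0, 5, 6, 3, 2, 3, 1, 2, 1, 3, 2, 3, 1, 2, 3, 4, 2, 3, 1, 2, 3, 2, 6, 4, 3, 5, 6, 2, 3, 5, 2, 4, 1, 2, 6, 0, 4, 6, 3, 2, 6, 5, 3, 0, 5, 6, 3, 2, 3, 1, 2, 1, 3, 2, 3, 1, 2, 3, 4, 2, 3, 1, 2, 3, 2, 6, 4, 3, 5, 6, 2, 3, 5, 2, 6, 4, 3, 5, 6, 2, 3, 5, 2] [.out 1374],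
  .sub [4, 1, 2, 6, 0, 4, 6, 3, 2, 6, 5, 3, 0, 5, 6, 3, 2, 3, 1, 2, 1, 3, 2, 3, 1, 2, 3, 4, 2, 3, 1, 2, 3, 2, 4, 1, 2, 6, 0, 4, 6, 3, 2, 6, 5, 3, 0, 5, 6, 3, 2, 3, 1, 2, 1, 3, 2, 3, 1, 2, 3, 4, 2, 3, 1, 2, 3, 2, 6, 4, 3, 5, 6, 2, 3, 5, 2, 4, 1, 2, 6, 0, 4, 6, 3, 2, 6, 5, 3, 0, 5, 6, 3, 2, 3, 1, 2, 1, 3, 2, 3, 1, 2, 3, 4, 2, 3, 1, 2, 3, 2, 6, 4, 3, 5, 6, 2, 3, 5, 2, 6, 4, 3, 5, 6, 2, 3, 5, 2] [.out 1022],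
  .sub [2, 3, 6, 2, 3, 5, 4, 3, 6, 4, 0, 4, 1, 2, 6, 0, 4, 6, 3, 2, 6, 5, 3, 0, 5, 6, 3, 2, 3, 1, 2, 1, 3, 2, 3, 1, 2, 3, 4, 2, 3, 1, 2, 3, 2, 6, 4, 3, 5, 6, 2, 3, 5, 2, 4, 1, 2, 6, 0, 4, 6, 3, 2, 6, 5, 3, 0, 5, 6, 3, 2, 3, 1, 2, 1, 3, 2, 3, 1, 2, 3, 4, 2, 3, 1, 2, 3, 2, 6, 4, 3, 5, 6, 2, 3, 5, 2, 6, 4, 3, 5, 6, 2, 3, 5, 2] [.out 793],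
  .sub [4, 1, 2, 6, 0, 4, 6, 3, 2, 6, 5, 3, 0, 5, 6, 3, 2, 3, 1, 2, 1, 3, 2, 3, 1, 2, 3, 4, 2, 3, 1, 2, 3, 2, 2, 3, 6, 2, 3, 5, 4, 3, 6, 4, 0, 6, 4, 3, 5, 6, 2, 3, 5, 2, 4, 1, 2, 6, 0, 4, 6, 3, 2, 6, 5, 3, 0, 5, 6, 3, 2, 3, 1, 2, 1, 3, 2, 3, 1, 2, 3, 4, 2, 3, 1, 2, 3, 2, 6, 4, 3, 5, 6, 2, 3, 5, 2, 6, 4, 3, 5, 6, 2, 3, 5, 2] [.out 1370],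
  .sub [2, 3, 6, 2, 3, 5, 4, 3, 6, 4, 0, 2, 3, 6, 2, 3, 5, 4, 3, 6, 4, 0, 6, 4, 3, 5, 6, 2, 3, 5, 2, 4, 1, 2, 6, 0, 4, 6, 3, 2, 6, 5, 3, 0, 5, 6, 3, 2, 3, 1, 2, 1, 3, 2, 3, 1, 2, 3, 4, 2, 3, 1, 2, 3, 2, 6, 4, 3, 5, 6, 2, 3, 5, 2, 6, 4, 3, 5, 6, 2, 3, 5, 2] [.out 819],
  .sub [6, 4, 3, 5, 6, 2, 3, 5, 2, 2, 3, 1, 0, 1, 2, 2, 3, 6, 2, 3, 5, 4, 3, 6, 4, 0, 4, 1, 2, 6, 0, 4, 6, 3, 2, 6, 5, 3, 0, 5, 6, 3, 2, 3, 1, 2, 1, 3, 2, 3, 1, 2, 3, 4, 2, 3, 1, 2, 3, 2, 6, 4, 3, 5, 6, 2, 3, 5, 2, 6, 4, 3, 5, 6, 2, 3, 5, 2] [.out 1023],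
  .sub [6, 4, 3, 5, 6, 2, 3, 5, 2, 6, 4, 3, 5, 6, 2, 3, 5, 2, 2, 3, 6, 2, 3, 5, 4, 3, 6, 4, 0, 4, 1, 2, 6, 0, 4, 6, 3, 2, 6, 5, 3, 0, 5, 6, 3, 2, 3, 1, 2, 1, 3, 2, 3, 1, 2, 3, 4, 2, 3, 1, 2, 3, 2, 6, 4, 3, 5, 6, 2, 3, 5, 2, 6, 4, 3, 5, 6, 2, 3, 5, 2] [.out 365],
  .sub [4, 1, 2, 6, 0, 4, 6, 3, 2, 6, 5, 3, 0, 5, 6, 3, 2, 3, 1, 2, 1, 3, 2, 3, 1, 2, 3, 4, 2, 3, 1, 2, 3, 2, 6, 4, 3, 5, 6, 2, 3, 5, 2, 2, 3, 6, 2, 3, 5, 4, 3, 6, 4, 0, 4, 1, 2, 6, 0, 4, 6, 3, 2, 6, 5, 3, 0, 5, 6, 3, 2, 3, 1, 2, 1, 3, 2, 3, 1, 2, 3, 4, 2, 3, 1, 2, 3, 2, 6, 4, 3, 5, 6, 2, 3, 5, 2, 6, 4, 3, 5, 6, 2, 3, 5, 2] [.out 127],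
  .sub [4, 1, 2, 6, 0, 4, 6, 3, 2, 6, 5, 3, 0, 5, 6, 3, 2, 3, 1, 2, 1, 3, 2, 3, 1, 2, 3, 4, 2, 3, 1, 2, 3, 2, 6, 4, 3, 5, 6, 2, 3, 5, 2, 2, 3, 1, 0, 1, 2, 6, 4, 3, 5, 6, 2, 3, 5, 2, 4, 1, 2, 6, 0, 4, 6, 3, 2, 6, 5, 3, 0, 5, 6, 3, 2, 3, 1, 2, 1, 3, 2, 3, 1, 2, 3, 4, 2, 3, 1, 2, 3, 2, 6, 4, 3, 5, 6, 2, 3, 5, 2] [.out 1374],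
  .sub [2, 3, 6, 2, 3, 5, 4, 3, 6, 4, 0, 6, 4, 3, 5, 6, 2, 3, 5, 2, 2, 3, 1, 0, 1, 2, 6, 4, 3, 5, 6, 2, 3, 5, 2, 4, 1, 2, 6, 0, 4, 6, 3, 2, 6, 5, 3, 0, 5, 6, 3, 2, 3, 1, 2, 1, 3, 2, 3, 1, 2, 3, 4, 2, 3, 1, 2, 3, 2, 6, 4, 3, 5, 6, 2, 3, 5, 2] [.out 1237],
  .sub [6, 4, 3, 5, 6, 2, 3, 5, 2, 4, 1, 2, 6, 0, 4, 6, 3, 2, 6, 5, 3, 0, 5, 6, 3, 2, 3, 1, 2, 1, 3, 2, 3, 1, 2, 3, 4, 2, 3, 1, 2, 3, 2, 2, 3, 1, 0, 1, 2, 6, 4, 3, 5, 6, 2, 3, 5, 2, 4, 1, 2, 6, 0, 4, 6, 3, 2, 6, 5, 3, 0, 5, 6, 3, 2, 3, 1, 2, 1, 3, 2, 3, 1, 2, 3, 4, 2, 3, 1, 2, 3, 2, 6, 4, 3, 5, 6, 2, 3, 5, 2] [.out 1159],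
  .sub [2, 3, 6, 2, 3, 5, 4, 3, 6, 4, 0, 4, 1, 2, 6, 0, 4, 6, 3, 2, 6, 5, 3, 0, 5, 6, 3, 2, 3, 1, 2, 1, 3, 2, 3, 1, 2, 3, 4, 2, 3, 1, 2, 3, 2, 2, 3, 1, 0, 1, 2, 6, 4, 3, 5, 6, 2, 3, 5, 2, 4, 1, 2, 6, 0, 4, 6, 3, 2, 6, 5, 3, 0, 5, 6, 3, 2, 3, 1, 2, 1, 3, 2, 3, 1, 2, 3, 4, 2, 3, 1, 2, 3, 2, 6, 4, 3, 5, 6, 2, 3, 5, 2] [.out 1304],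
  .sub [2, 3, 1, 0, 1, 2, 2, 3, 6, 2, 3, 5, 4, 3, 6, 4, 0, 2, 3, 1, 0, 1, 2, 6, 4, 3, 5, 6, 2, 3, 5, 2, 4, 1, 2, 6, 0, 4, 6, 3, 2, 6, 5, 3, 0, 5, 6, 3, 2, 3, 1, 2, 1, 3, 2, 3, 1, 2, 3, 4, 2, 3, 1, 2, 3, 2, 6, 4, 3, 5, 6, 2, 3, 5, 2] [.out 555],
  .sub [4, 1, 2, 6, 0, 4, 6, 3, 2, 6, 5, 3, 0, 5, 6, 3, 2, 3, 1, 2, 1, 3, 2, 3, 1, 2, 3, 4, 2, 3, 1, 2, 3, 2, 2, 3, 6, 2, 3, 5, 4, 3, 6, 4, 0, 2, 3, 1, 0, 1, 2, 6, 4, 3, 5, 6, 2, 3, 5, 2, 4, 1, 2, 6, 0, 4, 6, 3, 2, 6, 5, 3, 0, 5, 6, 3, 2, 3, 1, 2, 1, 3, 2, 3, 1, 2, 3, 4, 2, 3, 1, 2, 3, 2, 6, 4, 3, 5, 6, 2, 3, 5, 2] [.out 281],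
  .sub [6, 4, 3, 5, 6, 2, 3, 5, 2, 4, 1, 2, 6, 0, 4, 6, 3, 2, 6, 5, 3, 0, 5, 6, 3, 2, 3, 1, 2, 1, 3, 2, 3, 1, 2, 3, 4, 2, 3, 1, 2, 3, 2, 6, 4, 3, 5, 6, 2, 3, 5, 2, 6, 4, 3, 5, 6, 2, 3, 5, 2, 4, 1, 2, 6, 0, 4, 6, 3, 2, 6, 5, 3, 0, 5, 6, 3, 2, 3, 1, 2, 1, 3, 2, 3, 1, 2, 3, 4, 2, 3, 1, 2, 3, 2, 6, 4, 3, 5, 6, 2, 3, 5, 2] [.out 433],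
  .sub [4, 1, 2, 6, 0, 4, 6, 3, 2, 6, 5, 3, 0, 5, 6, 3, 2, 3, 1, 2, 1, 3, 2, 3, 1, 2, 3, 4, 2, 3, 1, 2, 3, 2, 4, 1, 2, 6, 0, 4, 6, 3, 2, 6, 5, 3, 0, 5, 6, 3, 2, 3, 1, 2, 1, 3, 2, 3, 1, 2, 3, 4, 2, 3, 1, 2, 3, 2, 6, 4, 3, 5, 6, 2, 3, 5, 2, 6, 4, 3, 5, 6, 2, 3, 5, 2, 4, 1, 2, 6, 0, 4, 6, 3, 2, 6, 5, 3, 0, 5, 6, 3, 2, 3, 1, 2, 1, 3, 2, 3, 1, 2, 3, 4, 2, 3, 1, 2, 3, 2, 6, 4, 3, 5, 6, 2, 3, 5, 2] [.out 841],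
  .sub [2, 3, 1, 0, 1, 2, 6, 4, 3, 5, 6, 2, 3, 5, 2, 4, 1, 2, 6, 0, 4, 6, 3, 2, 6, 5, 3, 0, 5, 6, 3, 2, 3, 1, 2, 1, 3, 2, 3, 1, 2, 3, 4, 2, 3, 1, 2, 3, 2, 6, 4, 3, 5, 6, 2, 3, 5, 2, 4, 1, 2, 6, 0, 4, 6, 3, 2, 6, 5, 3, 0, 5, 6, 3, 2, 3, 1, 2, 1, 3, 2, 3, 1, 2, 3, 4, 2, 3, 1, 2, 3, 2, 6, 4, 3, 5, 6, 2, 3, 5, 2] [.out 841],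
  .sub [6, 4, 3, 5, 6, 2, 3, 5, 2, 4, 1, 2, 6, 0, 4, 6, 3, 2, 6, 5, 3, 0, 5, 6, 3, 2, 3, 1, 2, 1, 3, 2, 3, 1, 2, 3, 4, 2, 3, 1, 2, 3, 2, 4, 1, 2, 6, 0, 4, 6, 3, 2, 6, 5, 3, 0, 5, 6, 3, 2, 3, 1, 2, 1, 3, 2, 3, 1, 2, 3, 4, 2, 3, 1, 2, 3, 2, 6, 4, 3, 5, 6, 2, 3, 5, 2, 4, 1, 2, 6, 0, 4, 6, 3, 2, 6, 5, 3, 0, 5, 6, 3, 2, 3, 1, 2, 1, 3, 2, 3, 1, 2, 3, 4, 2, 3, 1, 2, 3, 2, 6, 4, 3, 5, 6, 2, 3, 5, 2] [.out 1689],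
  .sub [2, 3, 6, 2, 3, 5, 4, 3, 6, 4, 0, 4, 1, 2, 6, 0, 4, 6, 3, 2, 6, 5, 3, 0, 5, 6, 3, 2, 3, 1, 2, 1, 3, 2, 3, 1, 2, 3, 4, 2, 3, 1, 2, 3, 2, 4, 1, 2, 6, 0, 4, 6, 3, 2, 6, 5, 3, 0, 5, 6, 3, 2, 3, 1, 2, 1, 3, 2, 3, 1, 2, 3, 4, 2, 3, 1, 2, 3, 2, 6, 4, 3, 5, 6, 2, 3, 5, 2, 4, 1, 2, 6, 0, 4, 6, 3, 2, 6, 5, 3, 0, 5, 6, 3, 2, 3, 1, 2, 1, 3, 2, 3, 1, 2, 3, 4, 2, 3, 1, 2, 3, 2, 6, 4, 3, 5, 6, 2, 3, 5, 2] [.out 1023],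
  .sub [2, 3, 1, 0, 1, 2, 2, 3, 6, 2, 3, 5, 4, 3, 6, 4, 0, 4, 1, 2, 6, 0, 4, 6, 3, 2, 6, 5, 3, 0, 5, 6, 3, 2, 3, 1, 2, 1, 3, 2, 3, 1, 2, 3, 4, 2, 3, 1, 2, 3, 2, 6, 4, 3, 5, 6, 2, 3, 5, 2, 4, 1, 2, 6, 0, 4, 6, 3, 2, 6, 5, 3, 0, 5, 6, 3, 2, 3, 1, 2, 1, 3, 2, 3, 1, 2, 3, 4, 2, 3, 1, 2, 3, 2, 6, 4, 3, 5, 6, 2, 3, 5, 2] [.out 724],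
  .sub [2, 3, 6, 2, 3, 5, 4, 3, 6, 4, 0, 2, 3, 6, 2, 3, 5, 4, 3, 6, 4, 0, 4, 1, 2, 6, 0, 4, 6, 3, 2, 6, 5, 3, 0, 5, 6, 3, 2, 3, 1, 2, 1, 3, 2, 3, 1, 2, 3, 4, 2, 3, 1, 2, 3, 2, 6, 4, 3, 5, 6, 2, 3, 5, 2, 4, 1, 2, 6, 0, 4, 6, 3, 2, 6, 5, 3, 0, 5, 6, 3, 2, 3, 1, 2, 1, 3, 2, 3, 1, 2, 3, 4, 2, 3, 1, 2, 3, 2, 6, 4, 3, 5, 6, 2, 3, 5, 2] [.out 2013],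
  .sub [6, 4, 3, 5, 6, 2, 3, 5, 2, 4, 1, 2, 6, 0, 4, 6, 3, 2, 6, 5, 3, 0, 5, 6, 3, 2, 3, 1, 2, 1, 3, 2, 3, 1, 2, 3, 4, 2, 3, 1, 2, 3, 2, 2, 3, 6, 2, 3, 5, 4, 3, 6, 4, 0, 6, 4, 3, 5, 6, 2, 3, 5, 2, 4, 1, 2, 6, 0, 4, 6, 3, 2, 6, 5, 3, 0, 5, 6, 3, 2, 3, 1, 2, 1, 3, 2, 3, 1, 2, 3, 4, 2, 3, 1, 2, 3, 2, 6, 4, 3, 5, 6, 2, 3, 5, 2] [.out 182],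
  .sub [2, 3, 6, 2, 3, 5, 4, 3, 6, 4, 0, 4, 1, 2, 6, 0, 4, 6, 3, 2, 6, 5, 3, 0, 5, 6, 3, 2, 3, 1, 2, 1, 3, 2, 3, 1, 2, 3, 4, 2, 3, 1, 2, 3, 2, 2, 3, 6, 2, 3, 5, 4, 3, 6, 4, 0, 6, 4, 3, 5, 6, 2, 3, 5, 2, 4, 1, 2, 6, 0, 4, 6, 3, 2, 6, 5, 3, 0, 5, 6, 3, 2, 3, 1, 2, 1, 3, 2, 3, 1, 2, 3, 4, 2, 3, 1, 2, 3, 2, 6, 4, 3, 5, 6, 2, 3, 5, 2] [.out 837],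
  .sub [4, 1, 2, 6, 0, 4, 6, 3, 2, 6, 5, 3, 0, 5, 6, 3, 2, 3, 1, 2, 1, 3, 2, 3, 1, 2, 3, 4, 2, 3, 1, 2, 3, 2, 2, 3, 1, 0, 1, 2, 6, 4, 3, 5, 6, 2, 3, 5, 2, 4, 1, 2, 6, 0, 4, 6, 3, 2, 6, 5, 3, 0, 5, 6, 3, 2, 3, 1, 2, 1, 3, 2, 3, 1, 2, 3, 4, 2, 3, 1, 2, 3, 2, 4, 1, 2, 6, 0, 4, 6, 3, 2, 6, 5, 3, 0, 5, 6, 3, 2, 3, 1, 2, 1, 3, 2, 3, 1, 2, 3, 4, 2, 3, 1, 2, 3, 2, 6, 4, 3, 5, 6, 2, 3, 5, 2] [.out 1159],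
  .sub [6, 4, 3, 5, 6, 2, 3, 5, 2, 4, 1, 2, 6, 0, 4, 6, 3, 2, 6, 5, 3, 0, 5, 6, 3, 2, 3, 1, 2, 1, 3, 2, 3, 1, 2, 3, 4, 2, 3, 1, 2, 3, 2, 6, 4, 3, 5, 6, 2, 3, 5, 2, 4, 1, 2, 6, 0, 4, 6, 3, 2, 6, 5, 3, 0, 5, 6, 3, 2, 3, 1, 2, 1, 3, 2, 3, 1, 2, 3, 4, 2, 3, 1, 2, 3, 2, 4, 1, 2, 6, 0, 4, 6, 3, 2, 6, 5, 3, 0, 5, 6, 3, 2, 3, 1, 2, 1, 3, 2, 3, 1, 2, 3, 4, 2, 3, 1, 2, 3, 2, 6, 4, 3, 5, 6, 2, 3, 5, 2] [.out 1022],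
  .sub [2, 3, 6, 2, 3, 5, 4, 3, 6, 4, 0, 4, 1, 2, 6, 0, 4, 6, 3, 2, 6, 5, 3, 0, 5, 6, 3, 2, 3, 1, 2, 1, 3, 2, 3, 1, 2, 3, 4, 2, 3, 1, 2, 3, 2, 6, 4, 3, 5, 6, 2, 3, 5, 2, 4, 1, 2, 6, 0, 4, 6, 3, 2, 6, 5, 3, 0, 5, 6, 3, 2, 3, 1, 2, 1, 3, 2, 3, 1, 2, 3, 4, 2, 3, 1, 2, 3, 2, 4, 1, 2, 6, 0, 4, 6, 3, 2, 6, 5, 3, 0, 5, 6, 3, 2, 3, 1, 2, 1, 3, 2, 3, 1, 2, 3, 4, 2, 3, 1, 2, 3, 2, 6, 4, 3, 5, 6, 2, 3, 5, 2] [.out 281],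
  .sub [4, 1, 2, 6, 0, 4, 6, 3, 2, 6, 5, 3, 0, 5, 6, 3, 2, 3, 1, 2, 1, 3, 2, 3, 1, 2, 3, 4, 2, 3, 1, 2, 3, 2, 2, 3, 6, 2, 3, 5, 4, 3, 6, 4, 0, 6, 4, 3, 5, 6, 2, 3, 5, 2, 4, 1, 2, 6, 0, 4, 6, 3, 2, 6, 5, 3, 0, 5, 6, 3, 2, 3, 1, 2, 1, 3, 2, 3, 1, 2, 3, 4, 2, 3, 1, 2, 3, 2, 4, 1, 2, 6, 0, 4, 6, 3, 2, 6, 5, 3, 0, 5, 6, 3, 2, 3, 1, 2, 1, 3, 2, 3, 1, 2, 3, 4, 2, 3, 1, 2, 3, 2, 6, 4, 3, 5, 6, 2, 3, 5, 2] [.out 1370],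
  .sub [6, 4, 3, 5, 6, 2, 3, 5, 2, 4, 1, 2, 6, 0, 4, 6, 3, 2, 6, 5, 3, 0, 5, 6, 3, 2, 3, 1, 2, 1, 3, 2, 3, 1, 2, 3, 4, 2, 3, 1, 2, 3, 2, 2, 3, 1, 0, 1, 2, 2, 3, 6, 2, 3, 5, 4, 3, 6, 4, 0, 4, 1, 2, 6, 0, 4, 6, 3, 2, 6, 5, 3, 0, 5, 6, 3, 2, 3, 1, 2, 1, 3, 2, 3, 1, 2, 3, 4, 2, 3, 1, 2, 3, 2, 6, 4, 3, 5, 6, 2, 3, 5, 2] [.out 717],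
  .sub [2, 3, 1, 0, 1, 2, 6, 4, 3, 5, 6, 2, 3, 5, 2, 6, 4, 3, 5, 6, 2, 3, 5, 2, 2, 3, 6, 2, 3, 5, 4, 3, 6, 4, 0, 4, 1, 2, 6, 0, 4, 6, 3, 2, 6, 5, 3, 0, 5, 6, 3, 2, 3, 1, 2, 1, 3, 2, 3, 1, 2, 3, 4, 2, 3, 1, 2, 3, 2, 6, 4, 3, 5, 6, 2, 3, 5, 2] [.out 1083],
  .sub [4, 1, 2, 6, 0, 4, 6, 3, 2, 6, 5, 3, 0, 5, 6, 3, 2, 3, 1, 2, 1, 3, 2, 3, 1, 2, 3, 4, 2, 3, 1, 2, 3, 2, 6, 4, 3, 5, 6, 2, 3, 5, 2, 6, 4, 3, 5, 6, 2, 3, 5, 2, 2, 3, 6, 2, 3, 5, 4, 3, 6, 4, 0, 4, 1, 2, 6, 0, 4, 6, 3, 2, 6, 5, 3, 0, 5, 6, 3, 2, 3, 1, 2, 1, 3, 2, 3, 1, 2, 3, 4, 2, 3, 1, 2, 3, 2, 6, 4, 3, 5, 6, 2, 3, 5, 2] [.out 2051],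
  .sub [6, 4, 3, 5, 6, 2, 3, 5, 2, 4, 1, 2, 6, 0, 4, 6, 3, 2, 6, 5, 3, 0, 5, 6, 3, 2, 3, 1, 2, 1, 3, 2, 3, 1, 2, 3, 4, 2, 3, 1, 2, 3, 2, 6, 4, 3, 5, 6, 2, 3, 5, 2, 2, 3, 6, 2, 3, 5, 4, 3, 6, 4, 0, 4, 1, 2, 6, 0, 4, 6, 3, 2, 6, 5, 3, 0, 5, 6, 3, 2, 3, 1, 2, 1, 3, 2, 3, 1, 2, 3, 4, 2, 3, 1, 2, 3, 2, 6, 4, 3, 5, 6, 2, 3, 5, 2] [.out 207],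
  .sub [4, 1, 2, 6, 0, 4, 6, 3, 2, 6, 5, 3, 0, 5, 6, 3, 2, 3, 1, 2, 1, 3, 2, 3, 1, 2, 3, 4, 2, 3, 1, 2, 3, 2, 4, 1, 2, 6, 0, 4, 6, 3, 2, 6, 5, 3, 0, 5, 6, 3, 2, 3, 1, 2, 1, 3, 2, 3, 1, 2, 3, 4, 2, 3, 1, 2, 3, 2, 6, 4, 3, 5, 6, 2, 3, 5, 2, 2, 3, 6, 2, 3, 5, 4, 3, 6, 4, 0, 4, 1, 2, 6, 0, 4, 6, 3, 2, 6, 5, 3, 0, 5, 6, 3, 2, 3, 1, 2, 1, 3, 2, 3, 1, 2, 3, 4, 2, 3, 1, 2, 3, 2, 6, 4, 3, 5, 6, 2, 3, 5, 2] [.out 819],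
  .sub [2, 3, 6, 2, 3, 5, 4, 3, 6, 4, 0, 4, 1, 2, 6, 0, 4, 6, 3, 2, 6, 5, 3, 0, 5, 6, 3, 2, 3, 1, 2, 1, 3, 2, 3, 1, 2, 3, 4, 2, 3, 1, 2, 3, 2, 6, 4, 3, 5, 6, 2, 3, 5, 2, 2, 3, 6, 2, 3, 5, 4, 3, 6, 4, 0, 4, 1, 2, 6, 0, 4, 6, 3, 2, 6, 5, 3, 0, 5, 6, 3, 2, 3, 1, 2, 1, 3, 2, 3, 1, 2, 3, 4, 2, 3, 1, 2, 3, 2, 6, 4, 3, 5, 6, 2, 3, 5, 2] [.done 100],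
  .sub [4, 1, 2, 6, 0, 4, 6, 3, 2, 6, 5, 3, 0, 5, 6, 3, 2, 3, 1, 2, 1, 3, 2, 3, 1, 2, 3, 4, 2, 3, 1, 2, 3, 2, 6, 4, 3, 5, 6, 2, 3, 5, 2, 4, 1, 2, 6, 0, 4, 6, 3, 2, 6, 5, 3, 0, 5, 6, 3, 2, 3, 1, 2, 1, 3, 2, 3, 1, 2, 3, 4, 2, 3, 1, 2, 3, 2, 2, 3, 6, 2, 3, 5, 4, 3, 6, 4, 0, 4, 1, 2, 6, 0, 4, 6, 3, 2, 6, 5, 3, 0, 5, 6, 3, 2, 3, 1, 2, 1, 3, 2, 3, 1, 2, 3, 4, 2, 3, 1, 2, 3, 2, 6, 4, 3, 5, 6, 2, 3, 5, 2] [.out 1083],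
  .sub [2, 3, 1, 0, 1, 2, 2, 3, 6, 2, 3, 5, 4, 3, 6, 4, 0, 4, 1, 2, 6, 0, 4, 6, 3, 2, 6, 5, 3, 0, 5, 6, 3, 2, 3, 1, 2, 1, 3, 2, 3, 1, 2, 3, 4, 2, 3, 1, 2, 3, 2, 2, 3, 6, 2, 3, 5, 4, 3, 6, 4, 0, 4, 1, 2, 6, 0, 4, 6, 3, 2, 6, 5, 3, 0, 5, 6, 3, 2, 3, 1, 2, 1, 3, 2, 3, 1, 2, 3, 4, 2, 3, 1, 2, 3, 2, 6, 4, 3, 5, 6, 2, 3, 5, 2] [.out 448],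
  .sub [4, 1, 2, 6, 0, 4, 6, 3, 2, 6, 5, 3, 0, 5, 6, 3, 2, 3, 1, 2, 1, 3, 2, 3, 1, 2, 3, 4, 2, 3, 1, 2, 3, 2, 2, 3, 6, 2, 3, 5, 4, 3, 6, 4, 0, 4, 1, 2, 6, 0, 4, 6, 3, 2, 6, 5, 3, 0, 5, 6, 3, 2, 3, 1, 2, 1, 3, 2, 3, 1, 2, 3, 4, 2, 3, 1, 2, 3, 2, 2, 3, 6, 2, 3, 5, 4, 3, 6, 4, 0, 4, 1, 2, 6, 0, 4, 6, 3, 2, 6, 5, 3, 0, 5, 6, 3, 2, 3, 1, 2, 1, 3, 2, 3, 1, 2, 3, 4, 2, 3, 1, 2, 3, 2, 6, 4, 3, 5, 6, 2, 3, 5, 2] [.out 110],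
  .sub [6, 4, 3, 5, 6, 2, 3, 5, 2, 2, 3, 1, 0, 1, 2, 6, 4, 3, 5, 6, 2, 3, 5, 2, 4, 1, 2, 6, 0, 4, 6, 3, 2, 6, 5, 3, 0, 5, 6, 3, 2, 3, 1, 2, 1, 3, 2, 3, 1, 2, 3, 4, 2, 3, 1, 2, 3, 2, 6, 4, 3, 5, 6, 2, 3, 5, 2, 4, 1, 2, 6, 0, 4, 6, 3, 2, 6, 5, 3, 0, 5, 6, 3, 2, 3, 1, 2, 1, 3, 2, 3, 1, 2, 3, 4, 2, 3, 1, 2, 3, 2] [.out 1668],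
  .sub [2, 3, 6, 2, 3, 5, 4, 3, 6, 4, 0, 2, 3, 1, 0, 1, 2, 6, 4, 3, 5, 6, 2, 3, 5, 2, 4, 1, 2, 6, 0, 4, 6, 3, 2, 6, 5, 3, 0, 5, 6, 3, 2, 3, 1, 2, 1, 3, 2, 3, 1, 2, 3, 4, 2, 3, 1, 2, 3, 2, 6, 4, 3, 5, 6, 2, 3, 5, 2, 4, 1, 2, 6, 0, 4, 6, 3, 2, 6, 5, 3, 0, 5, 6, 3, 2, 3, 1, 2, 1, 3, 2, 3, 1, 2, 3, 4, 2, 3, 1, 2, 3, 2] [.out 1802],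
  .sub [2, 3, 1, 0, 1, 2, 6, 4, 3, 5, 6, 2, 3, 5, 2, 6, 4, 3, 5, 6, 2, 3, 5, 2, 4, 1, 2, 6, 0, 4, 6, 3, 2, 6, 5, 3, 0, 5, 6, 3, 2, 3, 1, 2, 1, 3, 2, 3, 1, 2, 3, 4, 2, 3, 1, 2, 3, 2, 6, 4, 3, 5, 6, 2, 3, 5, 2, 4, 1, 2, 6, 0, 4, 6, 3, 2, 6, 5, 3, 0, 5, 6, 3, 2, 3, 1, 2, 1, 3, 2, 3, 1, 2, 3, 4, 2, 3, 1, 2, 3, 2] [.out 1689],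
  .sub [4, 1, 2, 6, 0, 4, 6, 3, 2, 6, 5, 3, 0, 5, 6, 3, 2, 3, 1, 2, 1, 3, 2, 3, 1, 2, 3, 4, 2, 3, 1, 2, 3, 2, 6, 4, 3, 5, 6, 2, 3, 5, 2, 6, 4, 3, 5, 6, 2, 3, 5, 2, 4, 1, 2, 6, 0, 4, 6, 3, 2, 6, 5, 3, 0, 5, 6, 3, 2, 3, 1, 2, 1, 3, 2, 3, 1, 2, 3, 4, 2, 3, 1, 2, 3, 2, 6, 4, 3, 5, 6, 2, 3, 5, 2, 4, 1, 2, 6, 0, 4, 6, 3, 2, 6, 5, 3, 0, 5, 6, 3, 2, 3, 1, 2, 1, 3, 2, 3, 1, 2, 3, 4, 2, 3, 1, 2, 3, 2] [.out 1620],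
  .sub [2, 3, 6, 2, 3, 5, 4, 3, 6, 4, 0, 6, 4, 3, 5, 6, 2, 3, 5, 2, 6, 4, 3, 5, 6, 2, 3, 5, 2, 4, 1, 2, 6, 0, 4, 6, 3, 2, 6, 5, 3, 0, 5, 6, 3, 2, 3, 1, 2, 1, 3, 2, 3, 1, 2, 3, 4, 2, 3, 1, 2, 3, 2, 6, 4, 3, 5, 6, 2, 3, 5, 2, 4, 1, 2, 6, 0, 4, 6, 3, 2, 6, 5, 3, 0, 5, 6, 3, 2, 3, 1, 2, 1, 3, 2, 3, 1, 2, 3, 4, 2, 3, 1, 2, 3, 2] [.out 1374],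
  .sub [4, 1, 2, 6, 0, 4, 6, 3, 2, 6, 5, 3, 0, 5, 6, 3, 2, 3, 1, 2, 1, 3, 2, 3, 1, 2, 3, 4, 2, 3, 1, 2, 3, 2, 4, 1, 2, 6, 0, 4, 6, 3, 2, 6, 5, 3, 0, 5, 6, 3, 2, 3, 1, 2, 1, 3, 2, 3, 1, 2, 3, 4, 2, 3, 1, 2, 3, 2, 6, 4, 3, 5, 6, 2, 3, 5, 2, 4, 1, 2, 6, 0, 4, 6, 3, 2, 6, 5, 3, 0, 5, 6, 3, 2, 3, 1, 2, 1, 3, 2, 3, 1, 2, 3, 4, 2, 3, 1, 2, 3, 2, 6, 4, 3, 5, 6, 2, 3, 5, 2, 4, 1, 2, 6, 0, 4, 6, 3, 2, 6, 5, 3, 0, 5, 6, 3, 2, 3, 1, 2, 1, 3, 2, 3, 1, 2, 3, 4, 2, 3, 1, 2, 3, 2] [.out 1449],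
  .sub [2, 3, 1, 0, 1, 2, 2, 3, 6, 2, 3, 5, 4, 3, 6, 4, 0, 6, 4, 3, 5, 6, 2, 3, 5, 2, 4, 1, 2, 6, 0, 4, 6, 3, 2, 6, 5, 3, 0, 5, 6, 3, 2, 3, 1, 2, 1, 3, 2, 3, 1, 2, 3, 4, 2, 3, 1, 2, 3, 2, 6, 4, 3, 5, 6, 2, 3, 5, 2, 4, 1, 2, 6, 0, 4, 6, 3, 2, 6, 5, 3, 0, 5, 6, 3, 2, 3, 1, 2, 1, 3, 2, 3, 1, 2, 3, 4, 2, 3, 1, 2, 3, 2] [.out 715],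
  .sub [2, 3, 6, 2, 3, 5, 4, 3, 6, 4, 0, 2, 3, 6, 2, 3, 5, 4, 3, 6, 4, 0, 6, 4, 3, 5, 6, 2, 3, 5, 2, 4, 1, 2, 6, 0, 4, 6, 3, 2, 6, 5, 3, 0, 5, 6, 3, 2, 3, 1, 2, 1, 3, 2, 3, 1, 2, 3, 4, 2, 3, 1, 2, 3, 2, 6, 4, 3, 5, 6, 2, 3, 5, 2, 4, 1, 2, 6, 0, 4, 6, 3, 2, 6, 5, 3, 0, 5, 6, 3, 2, 3, 1, 2, 1, 3, 2, 3, 1, 2, 3, 4, 2, 3, 1, 2, 3, 2] [.done 101],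
  .sub [6, 4, 3, 5, 6, 2, 3, 5, 2, 4, 1, 2, 6, 0, 4, 6, 3, 2, 6, 5, 3, 0, 5, 6, 3, 2, 3, 1, 2, 1, 3, 2, 3, 1, 2, 3, 4, 2, 3, 1, 2, 3, 2, 4, 1, 2, 6, 0, 4, 6, 3, 2, 6, 5, 3, 0, 5, 6, 3, 2, 3, 1, 2, 1, 3, 2, 3, 1, 2, 3, 4, 2, 3, 1, 2, 3, 2, 4, 1, 2, 6, 0, 4, 6, 3, 2, 6, 5, 3, 0, 5, 6, 3, 2, 3, 1, 2, 1, 3, 2, 3, 1, 2, 3, 4, 2, 3, 1, 2, 3, 2, 6, 4, 3, 5, 6, 2, 3, 5, 2, 4, 1, 2, 6, 0, 4, 6, 3, 2, 6, 5, 3, 0, 5, 6, 3, 2, 3, 1, 2, 1, 3, 2, 3, 1, 2, 3, 4, 2, 3, 1, 2, 3, 2] [.done 102],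
  .sub [6, 4, 3, 5, 6, 2, 3, 5, 2, 2, 3, 1, 0, 1, 2, 2, 3, 6, 2, 3, 5, 4, 3, 6, 4, 0, 4, 1, 2, 6, 0, 4, 6, 3, 2, 6, 5, 3, 0, 5, 6, 3, 2, 3, 1, 2, 1, 3, 2, 3, 1, 2, 3, 4, 2, 3, 1, 2, 3, 2, 6, 4, 3, 5, 6, 2, 3, 5, 2, 4, 1, 2, 6, 0, 4, 6, 3, 2, 6, 5, 3, 0, 5, 6, 3, 2, 3, 1, 2, 1, 3, 2, 3, 1, 2, 3, 4, 2, 3, 1, 2, 3, 2] [.out 1374],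
  .sub [6, 4, 3, 5, 6, 2, 3, 5, 2, 6, 4, 3, 5, 6, 2, 3, 5, 2, 2, 3, 6, 2, 3, 5, 4, 3, 6, 4, 0, 4, 1, 2, 6, 0, 4, 6, 3, 2, 6, 5, 3, 0, 5, 6, 3, 2, 3, 1, 2, 1, 3, 2, 3, 1, 2, 3, 4, 2, 3, 1, 2, 3, 2, 6, 4, 3, 5, 6, 2, 3, 5, 2, 4, 1, 2, 6, 0, 4, 6, 3, 2, 6, 5, 3, 0, 5, 6, 3, 2, 3, 1, 2, 1, 3, 2, 3, 1, 2, 3, 4, 2, 3, 1, 2, 3, 2] [.out 715],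
  .sub [2, 3, 1, 0, 1, 2, 6, 4, 3, 5, 6, 2, 3, 5, 2, 2, 3, 1, 0, 1, 2, 6, 4, 3, 5, 6, 2, 3, 5, 2, 4, 1, 2, 6, 0, 4, 6, 3, 2, 6, 5, 3, 0, 5, 6, 3, 2, 3, 1, 2, 1, 3, 2, 3, 1, 2, 3, 4, 2, 3, 1, 2, 3, 2, 4, 1, 2, 6, 0, 4, 6, 3, 2, 6, 5, 3, 0, 5, 6, 3, 2, 3, 1, 2, 1, 3, 2, 3, 1, 2, 3, 4, 2, 3, 1, 2, 3, 2] [.out 299],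
  .sub [4, 1, 2, 6, 0, 4, 6, 3, 2, 6, 5, 3, 0, 5, 6, 3, 2, 3, 1, 2, 1, 3, 2, 3, 1, 2, 3, 4, 2, 3, 1, 2, 3, 2, 6, 4, 3, 5, 6, 2, 3, 5, 2, 2, 3, 1, 0, 1, 2, 6, 4, 3, 5, 6, 2, 3, 5, 2, 4, 1, 2, 6, 0, 4, 6, 3, 2, 6, 5, 3, 0, 5, 6, 3, 2, 3, 1, 2, 1, 3, 2, 3, 1, 2, 3, 4, 2, 3, 1, 2, 3, 2, 4, 1, 2, 6, 0, 4, 6, 3, 2, 6, 5, 3, 0, 5, 6, 3, 2, 3, 1, 2, 1, 3, 2, 3, 1, 2, 3, 4, 2, 3, 1, 2, 3, 2] [.out 1668],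
  .sub [6, 4, 3, 5, 6, 2, 3, 5, 2, 4, 1, 2, 6, 0, 4, 6, 3, 2, 6, 5, 3, 0, 5, 6, 3, 2, 3, 1, 2, 1, 3, 2, 3, 1, 2, 3, 4, 2, 3, 1, 2, 3, 2, 2, 3, 1, 0, 1, 2, 6, 4, 3, 5, 6, 2, 3, 5, 2, 4, 1, 2, 6, 0, 4, 6, 3, 2, 6, 5, 3, 0, 5, 6, 3, 2, 3, 1, 2, 1, 3, 2, 3, 1, 2, 3, 4, 2, 3, 1, 2, 3, 2, 4, 1, 2, 6, 0, 4, 6, 3, 2, 6, 5, 3, 0, 5, 6, 3, 2, 3, 1, 2, 1, 3, 2, 3, 1, 2, 3, 4, 2, 3, 1, 2, 3, 2] [.out 365],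
  .sub [4, 1, 2, 6, 0, 4, 6, 3, 2, 6, 5, 3, 0, 5, 6, 3, 2, 3, 1, 2, 1, 3, 2, 3, 1, 2, 3, 4, 2, 3, 1, 2, 3, 2, 4, 1, 2, 6, 0, 4, 6, 3, 2, 6, 5, 3, 0, 5, 6, 3, 2, 3, 1, 2, 1, 3, 2, 3, 1, 2, 3, 4, 2, 3, 1, 2, 3, 2, 2, 3, 1, 0, 1, 2, 6, 4, 3, 5, 6, 2, 3, 5, 2, 4, 1, 2, 6, 0, 4, 6, 3, 2, 6, 5, 3, 0, 5, 6, 3, 2, 3, 1, 2, 1, 3, 2, 3, 1, 2, 3, 4, 2, 3, 1, 2, 3, 2, 4, 1, 2, 6, 0, 4, 6, 3, 2, 6, 5, 3, 0, 5, 6, 3, 2, 3, 1, 2, 1, 3, 2, 3, 1, 2, 3, 4, 2, 3, 1, 2, 3, 2] [.out 1802],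
  .sub [2, 3, 6, 2, 3, 5, 4, 3, 6, 4, 0, 4, 1, 2, 6, 0, 4, 6, 3, 2, 6, 5, 3, 0, 5, 6, 3, 2, 3, 1, 2, 1, 3, 2, 3, 1, 2, 3, 4, 2, 3, 1, 2, 3, 2, 2, 3, 1, 0, 1, 2, 6, 4, 3, 5, 6, 2, 3, 5, 2, 4, 1, 2, 6, 0, 4, 6, 3, 2, 6, 5, 3, 0, 5, 6, 3, 2, 3, 1, 2, 1, 3, 2, 3, 1, 2, 3, 4, 2, 3, 1, 2, 3, 2, 4, 1, 2, 6, 0, 4, 6, 3, 2, 6, 5, 3, 0, 5, 6, 3, 2, 3, 1, 2, 1, 3, 2, 3, 1, 2, 3, 4, 2, 3, 1, 2, 3, 2] [.done 103],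
  .sub [4, 1, 2, 6, 0, 4, 6, 3, 2, 6, 5, 3, 0, 5, 6, 3, 2, 3, 1, 2, 1, 3, 2, 3, 1, 2, 3, 4, 2, 3, 1, 2, 3, 2, 2, 3, 1, 0, 1, 2, 6, 4, 3, 5, 6, 2, 3, 5, 2, 6, 4, 3, 5, 6, 2, 3, 5, 2, 4, 1, 2, 6, 0, 4, 6, 3, 2, 6, 5, 3, 0, 5, 6, 3, 2, 3, 1, 2, 1, 3, 2, 3, 1, 2, 3, 4, 2, 3, 1, 2, 3, 2, 4, 1, 2, 6, 0, 4, 6, 3, 2, 6, 5, 3, 0, 5, 6, 3, 2, 3, 1, 2, 1, 3, 2, 3, 1, 2, 3, 4, 2, 3, 1, 2, 3, 2] [.out 841],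
  .sub [6, 4, 3, 5, 6, 2, 3, 5, 2, 4, 1, 2, 6, 0, 4, 6, 3, 2, 6, 5, 3, 0, 5, 6, 3, 2, 3, 1, 2, 1, 3, 2, 3, 1, 2, 3, 4, 2, 3, 1, 2, 3, 2, 6, 4, 3, 5, 6, 2, 3, 5, 2, 6, 4, 3, 5, 6, 2, 3, 5, 2, 4, 1, 2, 6, 0, 4, 6, 3, 2, 6, 5, 3, 0, 5, 6, 3, 2, 3, 1, 2, 1, 3, 2, 3, 1, 2, 3, 4, 2, 3, 1, 2, 3, 2, 4, 1, 2, 6, 0, 4, 6, 3, 2, 6, 5, 3, 0, 5, 6, 3, 2, 3, 1, 2, 1, 3, 2, 3, 1, 2, 3, 4, 2, 3, 1, 2, 3, 2] [.out 1237],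
  .sub [4, 1, 2, 6, 0, 4, 6, 3, 2, 6, 5, 3, 0, 5, 6, 3, 2, 3, 1, 2, 1, 3, 2, 3, 1, 2, 3, 4, 2, 3, 1, 2, 3, 2, 4, 1, 2, 6, 0, 4, 6, 3, 2, 6, 5, 3, 0, 5, 6, 3, 2, 3, 1, 2, 1, 3, 2, 3, 1, 2, 3, 4, 2, 3, 1, 2, 3, 2, 6, 4, 3, 5, 6, 2, 3, 5, 2, 6, 4, 3, 5, 6, 2, 3, 5, 2, 4, 1, 2, 6, 0, 4, 6, 3, 2, 6, 5, 3, 0, 5, 6, 3, 2, 3, 1, 2, 1, 3, 2, 3, 1, 2, 3, 4, 2, 3, 1, 2, 3, 2, 4, 1, 2, 6, 0, 4, 6, 3, 2, 6, 5, 3, 0, 5, 6, 3, 2, 3, 1, 2, 1, 3, 2, 3, 1, 2, 3, 4, 2, 3, 1, 2, 3, 2] [.out 797],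
  .sub [2, 3, 6, 2, 3, 5, 4, 3, 6, 4, 0, 6, 4, 3, 5, 6, 2, 3, 5, 2, 4, 1, 2, 6, 0, 4, 6, 3, 2, 6, 5, 3, 0, 5, 6, 3, 2, 3, 1, 2, 1, 3, 2, 3, 1, 2, 3, 4, 2, 3, 1, 2, 3, 2, 6, 4, 3, 5, 6, 2, 3, 5, 2, 4, 1, 2, 6, 0, 4, 6, 3, 2, 6, 5, 3, 0, 5, 6, 3, 2, 3, 1, 2, 1, 3, 2, 3, 1, 2, 3, 4, 2, 3, 1, 2, 3, 2, 4, 1, 2, 6, 0, 4, 6, 3, 2, 6, 5, 3, 0, 5, 6, 3, 2, 3, 1, 2, 1, 3, 2, 3, 1, 2, 3, 4, 2, 3, 1, 2, 3, 2] [.out 1023],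
  .sub [4, 1, 2, 6, 0, 4, 6, 3, 2, 6, 5, 3, 0, 5, 6, 3, 2, 3, 1, 2, 1, 3, 2, 3, 1, 2, 3, 4, 2, 3, 1, 2, 3, 2, 4, 1, 2, 6, 0, 4, 6, 3, 2, 6, 5, 3, 0, 5, 6, 3, 2, 3, 1, 2, 1, 3, 2, 3, 1, 2, 3, 4, 2, 3, 1, 2, 3, 2, 4, 1, 2, 6, 0, 4, 6, 3, 2, 6, 5, 3, 0, 5, 6, 3, 2, 3, 1, 2, 1, 3, 2, 3, 1, 2, 3, 4, 2, 3, 1, 2, 3, 2, 6, 4, 3, 5, 6, 2, 3, 5, 2, 4, 1, 2, 6, 0, 4, 6, 3, 2, 6, 5, 3, 0, 5, 6, 3, 2, 3, 1, 2, 1, 3, 2, 3, 1, 2, 3, 4, 2, 3, 1, 2, 3, 2, 4, 1, 2, 6, 0, 4, 6, 3, 2, 6, 5, 3, 0, 5, 6, 3, 2, 3, 1, 2, 1, 3, 2, 3, 1, 2, 3, 4, 2, 3, 1, 2, 3, 2] [.out 448],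
  .sub [2, 3, 1, 0, 1, 2, 2, 3, 6, 2, 3, 5, 4, 3, 6, 4, 0, 4, 1, 2, 6, 0, 4, 6, 3, 2, 6, 5, 3, 0, 5, 6, 3, 2, 3, 1, 2, 1, 3, 2, 3, 1, 2, 3, 4, 2, 3, 1, 2, 3, 2, 6, 4, 3, 5, 6, 2, 3, 5, 2, 4, 1, 2, 6, 0, 4, 6, 3, 2, 6, 5, 3, 0, 5, 6, 3, 2, 3, 1, 2, 1, 3, 2, 3, 1, 2, 3, 4, 2, 3, 1, 2, 3, 2, 4, 1, 2, 6, 0, 4, 6, 3, 2, 6, 5, 3, 0, 5, 6, 3, 2, 3, 1, 2, 1, 3, 2, 3, 1, 2, 3, 4, 2, 3, 1, 2, 3, 2] [.out 70],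
  .sub [4, 1, 2, 6, 0, 4, 6, 3, 2, 6, 5, 3, 0, 5, 6, 3, 2, 3, 1, 2, 1, 3, 2, 3, 1, 2, 3, 4, 2, 3, 1, 2, 3, 2, 2, 3, 6, 2, 3, 5, 4, 3, 6, 4, 0, 4, 1, 2, 6, 0, 4, 6, 3, 2, 6, 5, 3, 0, 5, 6, 3, 2, 3, 1, 2, 1, 3, 2, 3, 1, 2, 3, 4, 2, 3, 1, 2, 3, 2, 6, 4, 3, 5, 6, 2, 3, 5, 2, 4, 1, 2, 6, 0, 4, 6, 3, 2, 6, 5, 3, 0, 5, 6, 3, 2, 3, 1, 2, 1, 3, 2, 3, 1, 2, 3, 4, 2, 3, 1, 2, 3, 2, 4, 1, 2, 6, 0, 4, 6, 3, 2, 6, 5, 3, 0, 5, 6, 3, 2, 3, 1, 2, 1, 3, 2, 3, 1, 2, 3, 4, 2, 3, 1, 2, 3, 2] [.done 104],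
  .sub [4, 1, 2, 6, 0, 4, 6, 3, 2, 6, 5, 3, 0, 5, 6, 3, 2, 3, 1, 2, 1, 3, 2, 3, 1, 2, 3, 4, 2, 3, 1, 2, 3, 2, 2, 3, 1, 0, 1, 2, 2, 3, 6, 2, 3, 5, 4, 3, 6, 4, 0, 6, 4, 3, 5, 6, 2, 3, 5, 2, 4, 1, 2, 6, 0, 4, 6, 3, 2, 6, 5, 3, 0, 5, 6, 3, 2, 3, 1, 2, 1, 3, 2, 3, 1, 2, 3, 4, 2, 3, 1, 2, 3, 2, 4, 1, 2, 6, 0, 4, 6, 3, 2, 6, 5, 3, 0, 5, 6, 3, 2, 3, 1, 2, 1, 3, 2, 3, 1, 2, 3, 4, 2, 3, 1, 2, 3, 2] [.out 2051],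
  .sub [2, 3, 6, 2, 3, 5, 4, 3, 6, 4, 0, 4, 1, 2, 6, 0, 4, 6, 3, 2, 6, 5, 3, 0, 5, 6, 3, 2, 3, 1, 2, 1, 3, 2, 3, 1, 2, 3, 4, 2, 3, 1, 2, 3, 2, 2, 3, 6, 2, 3, 5, 4, 3, 6, 4, 0, 6, 4, 3, 5, 6, 2, 3, 5, 2, 4, 1, 2, 6, 0, 4, 6, 3, 2, 6, 5, 3, 0, 5, 6, 3, 2, 3, 1, 2, 1, 3, 2, 3, 1, 2, 3, 4, 2, 3, 1, 2, 3, 2, 4, 1, 2, 6, 0, 4, 6, 3, 2, 6, 5, 3, 0, 5, 6, 3, 2, 3, 1, 2, 1, 3, 2, 3, 1, 2, 3, 4, 2, 3, 1, 2, 3, 2] [.done 105],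
  .sub [4, 1, 2, 6, 0, 4, 6, 3, 2, 6, 5, 3, 0, 5, 6, 3, 2, 3, 1, 2, 1, 3, 2, 3, 1, 2, 3, 4, 2, 3, 1, 2, 3, 2, 2, 3, 6, 2, 3, 5, 4, 3, 6, 4, 0, 2, 3, 6, 2, 3, 5, 4, 3, 6, 4, 0, 6, 4, 3, 5, 6, 2, 3, 5, 2, 4, 1, 2, 6, 0, 4, 6, 3, 2, 6, 5, 3, 0, 5, 6, 3, 2, 3, 1, 2, 1, 3, 2, 3, 1, 2, 3, 4, 2, 3, 1, 2, 3, 2, 4, 1, 2, 6, 0, 4, 6, 3, 2, 6, 5, 3, 0, 5, 6, 3, 2, 3, 1, 2, 1, 3, 2, 3, 1, 2, 3, 4, 2, 3, 1, 2, 3, 2] [.out 2051],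
  .sub [4, 1, 2, 6, 0, 4, 6, 3, 2, 6, 5, 3, 0, 5, 6, 3, 2, 3, 1, 2, 1, 3, 2, 3, 1, 2, 3, 4, 2, 3, 1, 2, 3, 2, 4, 1, 2, 6, 0, 4, 6, 3, 2, 6, 5, 3, 0, 5, 6, 3, 2, 3, 1, 2, 1, 3, 2, 3, 1, 2, 3, 4, 2, 3, 1, 2, 3, 2, 6, 4, 3, 5, 6, 2, 3, 5, 2, 4, 1, 2, 6, 0, 4, 6, 3, 2, 6, 5, 3, 0, 5, 6, 3, 2, 3, 1, 2, 1, 3, 2, 3, 1, 2, 3, 4, 2, 3, 1, 2, 3, 2, 4, 1, 2, 6, 0, 4, 6, 3, 2, 6, 5, 3, 0, 5, 6, 3, 2, 3, 1, 2, 1, 3, 2, 3, 1, 2, 3, 4, 2, 3, 1, 2, 3, 2, 4, 1, 2, 6, 0, 4, 6, 3, 2, 6, 5, 3, 0, 5, 6, 3, 2, 3, 1, 2, 1, 3, 2, 3, 1, 2, 3, 4, 2, 3, 1, 2, 3, 2] [.out 1436],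
  .sub [2, 3, 6, 2, 3, 5, 4, 3, 6, 4, 0, 4, 1, 2, 6, 0, 4, 6, 3, 2, 6, 5, 3, 0, 5, 6, 3, 2, 3, 1, 2, 1, 3, 2, 3, 1, 2, 3, 4, 2, 3, 1, 2, 3, 2, 6, 4, 3, 5, 6, 2, 3, 5, 2, 4, 1, 2, 6, 0, 4, 6, 3, 2, 6, 5, 3, 0, 5, 6, 3, 2, 3, 1, 2, 1, 3, 2, 3, 1, 2, 3, 4, 2, 3, 1, 2, 3, 2, 4, 1, 2, 6, 0, 4, 6, 3, 2, 6, 5, 3, 0, 5, 6, 3, 2, 3, 1, 2, 1, 3, 2, 3, 1, 2, 3, 4, 2, 3, 1, 2, 3, 2, 4, 1, 2, 6, 0, 4, 6, 3, 2, 6, 5, 3, 0, 5, 6, 3, 2, 3, 1, 2, 1, 3, 2, 3, 1, 2, 3, 4, 2, 3, 1, 2, 3, 2] [.done 106],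
  .sub [4, 1, 2, 6, 0, 4, 6, 3, 2, 6, 5, 3, 0, 5, 6, 3, 2, 3, 1, 2, 1, 3, 2, 3, 1, 2, 3, 4, 2, 3, 1, 2, 3, 2, 4, 1, 2, 6, 0, 4, 6, 3, 2, 6, 5, 3, 0, 5, 6, 3, 2, 3, 1, 2, 1, 3, 2, 3, 1, 2, 3, 4, 2, 3, 1, 2, 3, 2, 6, 4, 3, 5, 6, 2, 3, 5, 2, 2, 3, 6, 2, 3, 5, 4, 3, 6, 4, 0, 4, 1, 2, 6, 0, 4, 6, 3, 2, 6, 5, 3, 0, 5, 6, 3, 2, 3, 1, 2, 1, 3, 2, 3, 1, 2, 3, 4, 2, 3, 1, 2, 3, 2, 4, 1, 2, 6, 0, 4, 6, 3, 2, 6, 5, 3, 0, 5, 6, 3, 2, 3, 1, 2, 1, 3, 2, 3, 1, 2, 3, 4, 2, 3, 1, 2, 3, 2] [.done 107],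
  .sub [2, 3, 1, 0, 1, 2, 2, 3, 6, 2, 3, 5, 4, 3, 6, 4, 0, 4, 1, 2, 6, 0, 4, 6, 3, 2, 6, 5, 3, 0, 5, 6, 3, 2, 3, 1, 2, 1, 3, 2, 3, 1, 2, 3, 4, 2, 3, 1, 2, 3, 2, 2, 3, 6, 2, 3, 5, 4, 3, 6, 4, 0, 4, 1, 2, 6, 0, 4, 6, 3, 2, 6, 5, 3, 0, 5, 6, 3, 2, 3, 1, 2, 1, 3, 2, 3, 1, 2, 3, 4, 2, 3, 1, 2, 3, 2, 4, 1, 2, 6, 0, 4, 6, 3, 2, 6, 5, 3, 0, 5, 6, 3, 2, 3, 1, 2, 1, 3, 2, 3, 1, 2, 3, 4, 2, 3, 1, 2, 3, 2] [.out 448],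
  .sub [6, 4, 3, 5, 6, 2, 3, 5, 2, 2, 3, 1, 0, 1, 2, 6, 4, 3, 5, 6, 2, 3, 5, 2, 4, 1, 2, 6, 0, 4, 6, 3, 2, 6, 5, 3, 0, 5, 6, 3, 2, 3, 1, 2, 1, 3, 2, 3, 1, 2, 3, 4, 2, 3, 1, 2, 3, 2, 2, 3, 6, 2, 3, 5, 4, 3, 6, 4, 0, 4, 1, 2, 6, 0, 4, 6, 3, 2, 6, 5, 3, 0, 5, 6, 3, 2, 3, 1, 2, 1, 3, 2, 3, 1, 2, 3, 4, 2, 3, 1, 2, 3, 2] [.done 108],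
  .sub [4, 1, 2, 6, 0, 4, 6, 3, 2, 6, 5, 3, 0, 5, 6, 3, 2, 3, 1, 2, 1, 3, 2, 3, 1, 2, 3, 4, 2, 3, 1, 2, 3, 2, 2, 3, 1, 0, 1, 2, 6, 4, 3, 5, 6, 2, 3, 5, 2, 4, 1, 2, 6, 0, 4, 6, 3, 2, 6, 5, 3, 0, 5, 6, 3, 2, 3, 1, 2, 1, 3, 2, 3, 1, 2, 3, 4, 2, 3, 1, 2, 3, 2, 2, 3, 6, 2, 3, 5, 4, 3, 6, 4, 0, 4, 1, 2, 6, 0, 4, 6, 3, 2, 6, 5, 3, 0, 5, 6, 3, 2, 3, 1, 2, 1, 3, 2, 3, 1, 2, 3, 4, 2, 3, 1, 2, 3, 2] [.out 1237],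
  .sub [4, 1, 2, 6, 0, 4, 6, 3, 2, 6, 5, 3, 0, 5, 6, 3, 2, 3, 1, 2, 1, 3, 2, 3, 1, 2, 3, 4, 2, 3, 1, 2, 3, 2, 6, 4, 3, 5, 6, 2, 3, 5, 2, 6, 4, 3, 5, 6, 2, 3, 5, 2, 4, 1, 2, 6, 0, 4, 6, 3, 2, 6, 5, 3, 0, 5, 6, 3, 2, 3, 1, 2, 1, 3, 2, 3, 1, 2, 3, 4, 2, 3, 1, 2, 3, 2, 2, 3, 6, 2, 3, 5, 4, 3, 6, 4, 0, 4, 1, 2, 6, 0, 4, 6, 3, 2, 6, 5, 3, 0, 5, 6, 3, 2, 3, 1, 2, 1, 3, 2, 3, 1, 2, 3, 4, 2, 3, 1, 2, 3, 2] [.out 116],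
  .sub [2, 3, 6, 2, 3, 5, 4, 3, 6, 4, 0, 4, 1, 2, 6, 0, 4, 6, 3, 2, 6, 5, 3, 0, 5, 6, 3, 2, 3, 1, 2, 1, 3, 2, 3, 1, 2, 3, 4, 2, 3, 1, 2, 3, 2, 6, 4, 3, 5, 6, 2, 3, 5, 2, 4, 1, 2, 6, 0, 4, 6, 3, 2, 6, 5, 3, 0, 5, 6, 3, 2, 3, 1, 2, 1, 3, 2, 3, 1, 2, 3, 4, 2, 3, 1, 2, 3, 2, 2, 3, 6, 2, 3, 5, 4, 3, 6, 4, 0, 4, 1, 2, 6, 0, 4, 6, 3, 2, 6, 5, 3, 0, 5, 6, 3, 2, 3, 1, 2, 1, 3, 2, 3, 1, 2, 3, 4, 2, 3, 1, 2, 3, 2] [.out 1668],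
  .sub [4, 1, 2, 6, 0, 4, 6, 3, 2, 6, 5, 3, 0, 5, 6, 3, 2, 3, 1, 2, 1, 3, 2, 3, 1, 2, 3, 4, 2, 3, 1, 2, 3, 2, 2, 3, 1, 0, 1, 2, 2, 3, 6, 2, 3, 5, 4, 3, 6, 4, 0, 4, 1, 2, 6, 0, 4, 6, 3, 2, 6, 5, 3, 0, 5, 6, 3, 2, 3, 1, 2, 1, 3, 2, 3, 1, 2, 3, 4, 2, 3, 1, 2, 3, 2, 2, 3, 6, 2, 3, 5, 4, 3, 6, 4, 0, 4, 1, 2, 6, 0, 4, 6, 3, 2, 6, 5, 3, 0, 5, 6, 3, 2, 3, 1, 2, 1, 3, 2, 3, 1, 2, 3, 4, 2, 3, 1, 2, 3, 2] [.out 1668],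
  .sub [2, 3, 6, 2, 3, 5, 4, 3, 6, 4, 0, 4, 1, 2, 6, 0, 4, 6, 3, 2, 6, 5, 3, 0, 5, 6, 3, 2, 3, 1, 2, 1, 3, 2, 3, 1, 2, 3, 4, 2, 3, 1, 2, 3, 2, 2, 3, 6, 2, 3, 5, 4, 3, 6, 4, 0, 4, 1, 2, 6, 0, 4, 6, 3, 2, 6, 5, 3, 0, 5, 6, 3, 2, 3, 1, 2, 1, 3, 2, 3, 1, 2, 3, 4, 2, 3, 1, 2, 3, 2, 2, 3, 6, 2, 3, 5, 4, 3, 6, 4, 0, 4, 1, 2, 6, 0, 4, 6, 3, 2, 6, 5, 3, 0, 5, 6, 3, 2, 3, 1, 2, 1, 3, 2, 3, 1, 2, 3, 4, 2, 3, 1, 2, 3, 2] [.done 109],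
  .sub [2, 3, 1, 0, 1, 2, 2, 3, 6, 2, 3, 5, 4, 3, 6, 4, 0, 6, 4, 3, 5, 6, 2, 3, 5, 2, 4, 1, 2, 6, 0, 4, 6, 3, 2, 6, 5, 3, 0, 5, 6, 3, 2, 3, 1, 2, 1, 3, 2, 3, 1, 2, 3, 4, 2, 3, 1, 2, 3, 2, 2, 3, 1, 0, 1, 2, 2, 3, 6, 2, 3, 5, 4, 3, 6, 4, 0] [.done 110],
  .sub [4, 1, 2, 6, 0, 4, 6, 3, 2, 6, 5, 3, 0, 5, 6, 3, 2, 3, 1, 2, 1, 3, 2, 3, 1, 2, 3, 4, 2, 3, 1, 2, 3, 2, 6, 4, 3, 5, 6, 2, 3, 5, 2, 4, 1, 2, 6, 0, 4, 6, 3, 2, 6, 5, 3, 0, 5, 6, 3, 2, 3, 1, 2, 1, 3, 2, 3, 1, 2, 3, 4, 2, 3, 1, 2, 3, 2, 4, 1, 2, 6, 0, 4, 6, 3, 2, 6, 5, 3, 0, 5, 6, 3, 2, 3, 1, 2, 1, 3, 2, 3, 1, 2, 3, 4, 2, 3, 1, 2, 3, 2, 2, 3, 1, 0, 1, 2, 2, 3, 6,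 2, 3, 5, 4, 3, 6, 4, 0] [.out 1370],
  .sub [4, 1, 2, 6, 0, 4, 6, 3, 2, 6, 5, 3, 0, 5, 6, 3, 2, 3, 1, 2, 1, 3, 2, 3, 1, 2, 3, 4, 2, 3, 1, 2, 3, 2, 2, 3, 1, 0, 1, 2, 6, 4, 3, 5, 6, 2, 3, 5, 2, 4, 1, 2, 6, 0, 4, 6, 3, 2, 6, 5, 3, 0, 5, 6, 3, 2, 3, 1, 2, 1, 3, 2, 3, 1, 2, 3, 4, 2, 3, 1, 2, 3, 2, 6, 4, 3, 5, 6, 2, 3, 5, 2, 2, 3, 6, 2, 3, 5, 4, 3, 6, 4, 0] [.out 841],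
  .sub [6, 4, 3, 5, 6, 2, 3, 5, 2, 4, 1, 2, 6, 0, 4, 6, 3, 2, 6, 5, 3, 0, 5, 6, 3, 2, 3, 1, 2, 1, 3, 2, 3, 1, 2, 3, 4, 2, 3, 1, 2, 3, 2, 6, 4, 3, 5, 6, 2, 3, 5, 2, 4, 1, 2, 6, 0, 4, 6, 3, 2, 6, 5, 3, 0, 5, 6, 3, 2, 3, 1, 2, 1, 3, 2, 3, 1, 2, 3, 4, 2, 3, 1, 2, 3, 2, 6, 4, 3, 5, 6, 2, 3, 5, 2, 2, 3, 6, 2, 3, 5, 4, 3, 6, 4, 0] [.out 2013],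
  .sub [4, 1, 2, 6, 0, 4, 6, 3, 2, 6, 5, 3, 0, 5, 6, 3, 2, 3, 1, 2, 1, 3, 2, 3, 1, 2, 3, 4, 2, 3, 1, 2, 3, 2, 4, 1, 2, 6, 0, 4, 6, 3, 2, 6, 5, 3, 0, 5, 6, 3, 2, 3, 1, 2, 1, 3, 2, 3, 1, 2, 3, 4, 2, 3, 1, 2, 3, 2, 6, 4, 3, 5, 6, 2, 3, 5, 2, 4, 1, 2, 6, 0, 4, 6, 3, 2, 6, 5, 3, 0, 5, 6, 3, 2, 3, 1, 2, 1, 3, 2, 3, 1, 2, 3, 4, 2, 3, 1, 2, 3, 2, 6, 4, 3, 5, 6, 2, 3, 5, 2, 2, 3, 6, 2, 3, 5, 4, 3, 6, 4, 0] [.out 922],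
  .sub [2, 3, 6, 2, 3, 5, 4, 3, 6, 4, 0, 4, 1, 2, 6, 0, 4, 6, 3, 2, 6, 5, 3, 0, 5, 6, 3, 2, 3, 1, 2, 1, 3, 2, 3, 1, 2, 3, 4, 2, 3, 1, 2, 3, 2, 6, 4, 3, 5, 6, 2, 3, 5, 2, 4, 1, 2, 6, 0, 4, 6, 3, 2, 6, 5, 3, 0, 5, 6, 3, 2, 3, 1, 2, 1, 3, 2, 3, 1, 2, 3, 4, 2, 3, 1, 2, 3, 2, 6, 4, 3, 5, 6, 2, 3, 5, 2, 2, 3, 6, 2, 3, 5, 4, 3, 6, 4, 0] [.done 111],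
  .sub [6, 4, 3, 5, 6, 2, 3, 5, 2, 4, 1, 2, 6, 0, 4, 6, 3, 2, 6, 5, 3, 0, 5, 6, 3, 2, 3, 1, 2, 1, 3, 2, 3, 1, 2, 3, 4, 2, 3, 1, 2, 3, 2, 4, 1, 2, 6, 0, 4, 6, 3, 2, 6, 5, 3, 0, 5, 6, 3, 2, 3, 1, 2, 1, 3, 2, 3, 1, 2, 3, 4, 2, 3, 1, 2, 3, 2, 4, 1, 2, 6, 0, 4, 6, 3, 2, 6, 5, 3, 0, 5, 6, 3, 2, 3, 1, 2, 1, 3, 2, 3, 1, 2, 3, 4, 2, 3, 1, 2, 3, 2, 6, 4, 3, 5, 6, 2, 3, 5, 2, 2, 3, 6, 2, 3, 5, 4, 3, 6, 4, 0] [.out 868],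
  .sub [6, 4, 3, 5, 6, 2, 3, 5, 2, 4, 1, 2, 6, 0, 4, 6, 3, 2, 6, 5, 3, 0, 5, 6, 3, 2, 3, 1, 2, 1, 3, 2, 3, 1, 2, 3, 4, 2, 3, 1, 2, 3, 2, 2, 3, 1, 0, 1, 2, 6, 4, 3, 5, 6, 2, 3, 5, 2, 4, 1, 2, 6, 0, 4, 6, 3, 2, 6, 5, 3, 0, 5, 6, 3, 2, 3, 1, 2, 1, 3, 2, 3, 1, 2, 3, 4, 2, 3, 1, 2, 3, 2, 2, 3, 6, 2, 3, 5, 4, 3, 6, 4, 0] [.out 1304],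
  .sub [4, 1, 2, 6, 0, 4, 6, 3, 2, 6, 5, 3, 0, 5, 6, 3, 2, 3, 1, 2, 1, 3, 2, 3, 1, 2, 3, 4, 2, 3, 1, 2, 3, 2, 4, 1, 2, 6, 0, 4, 6, 3, 2, 6, 5, 3, 0, 5, 6, 3, 2, 3, 1, 2, 1, 3, 2, 3, 1, 2, 3, 4, 2, 3, 1, 2, 3, 2, 2, 3, 1, 0, 1, 2, 6, 4, 3, 5, 6, 2, 3, 5, 2, 4, 1, 2, 6, 0, 4, 6, 3, 2, 6, 5, 3, 0, 5, 6, 3, 2, 3, 1, 2, 1, 3, 2, 3, 1, 2, 3, 4, 2, 3, 1, 2, 3, 2, 2, 3, 6, 2, 3, 5, 4, 3, 6, 4, 0] [.out 1378],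
  .sub [6, 4, 3, 5, 6, 2, 3, 5, 2, 6, 4, 3, 5, 6, 2, 3, 5, 2, 4, 1, 2, 6, 0, 4, 6, 3, 2, 6, 5, 3, 0, 5, 6, 3, 2, 3, 1, 2, 1, 3, 2, 3, 1, 2, 3, 4, 2, 3, 1, 2, 3, 2, 6, 4, 3, 5, 6, 2, 3, 5, 2, 4, 1, 2, 6, 0, 4, 6, 3, 2, 6, 5, 3, 0, 5, 6, 3, 2, 3, 1, 2, 1, 3, 2, 3, 1, 2, 3, 4, 2, 3, 1, 2, 3, 2, 2, 3, 6, 2, 3, 5, 4, 3, 6, 4, 0] [.out 2038],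
  .sub [4, 1, 2, 6, 0, 4, 6, 3, 2, 6, 5, 3, 0, 5, 6, 3, 2, 3, 1, 2, 1, 3, 2, 3, 1, 2, 3, 4, 2, 3, 1, 2, 3, 2, 6, 4, 3, 5, 6, 2, 3, 5, 2, 4, 1, 2, 6, 0, 4, 6, 3, 2, 6, 5, 3, 0, 5, 6, 3, 2, 3, 1, 2, 1, 3, 2, 3, 1, 2, 3, 4, 2, 3, 1, 2, 3, 2, 6, 4, 3, 5, 6, 2, 3, 5, 2, 4, 1, 2, 6, 0, 4, 6, 3, 2, 6, 5, 3, 0, 5, 6, 3, 2, 3, 1, 2, 1, 3, 2, 3, 1, 2, 3, 4, 2, 3, 1, 2, 3, 2, 2, 3, 6, 2, 3, 5, 4, 3, 6, 4, 0] [.out 182],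
  .sub [2, 3, 6, 2, 3, 5, 4, 3, 6, 4, 0, 4, 1, 2, 6, 0, 4, 6, 3, 2, 6, 5, 3, 0, 5, 6, 3, 2, 3, 1, 2, 1, 3, 2, 3, 1, 2, 3, 4, 2, 3, 1, 2, 3, 2, 4, 1, 2, 6, 0, 4, 6, 3, 2, 6, 5, 3, 0, 5, 6, 3, 2, 3, 1, 2, 1, 3, 2, 3, 1, 2, 3, 4, 2, 3, 1, 2, 3, 2, 6, 4, 3, 5, 6, 2, 3, 5, 2, 4, 1, 2, 6, 0, 4, 6, 3, 2, 6, 5, 3, 0, 5, 6, 3, 2, 3, 1, 2, 1, 3, 2, 3, 1, 2, 3, 4, 2, 3, 1, 2, 3, 2, 2, 3, 6, 2, 3, 5, 4, 3, 6, 4, 0] [.done 112],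
  .sub [2, 3, 1, 0, 1, 2, 2, 3, 6, 2, 3, 5, 4, 3, 6, 4, 0, 4, 1, 2, 6, 0, 4, 6, 3, 2, 6, 5, 3, 0, 5, 6, 3, 2, 3, 1, 2, 1, 3, 2, 3, 1, 2, 3, 4, 2, 3, 1, 2, 3, 2, 6, 4, 3, 5, 6, 2, 3, 5, 2, 4, 1, 2, 6, 0, 4, 6, 3, 2, 6, 5, 3, 0, 5, 6, 3, 2, 3, 1, 2, 1, 3, 2, 3, 1, 2, 3, 4, 2, 3, 1, 2, 3, 2, 2, 3, 6, 2, 3, 5, 4, 3, 6, 4, 0] [.out 841],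
  .sub [2, 3, 6, 2, 3, 5, 4, 3, 6, 4, 0, 2, 3, 6, 2, 3, 5, 4, 3, 6, 4, 0, 4, 1, 2, 6, 0, 4, 6, 3, 2, 6, 5, 3, 0, 5, 6, 3, 2, 3, 1, 2, 1, 3, 2, 3, 1, 2, 3, 4, 2, 3, 1, 2, 3, 2, 6, 4, 3, 5, 6, 2, 3, 5, 2, 4, 1, 2, 6, 0, 4, 6, 3, 2, 6, 5, 3, 0, 5, 6, 3, 2, 3, 1, 2, 1, 3, 2, 3, 1, 2, 3, 4, 2, 3, 1, 2, 3, 2, 2, 3, 6, 2, 3, 5, 4, 3, 6, 4, 0] [.out 110],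
  .sub [6, 4, 3, 5, 6, 2, 3, 5, 2, 4, 1, 2, 6, 0, 4, 6, 3, 2, 6, 5, 3, 0, 5, 6, 3, 2, 3, 1, 2, 1, 3, 2, 3, 1, 2, 3, 4, 2, 3, 1, 2, 3, 2, 2, 3, 6, 2, 3, 5, 4, 3, 6, 4, 0, 6, 4, 3, 5, 6, 2, 3, 5, 2, 4, 1, 2, 6, 0, 4, 6, 3, 2, 6, 5, 3, 0, 5, 6, 3, 2, 3, 1, 2, 1, 3, 2, 3, 1, 2, 3, 4, 2, 3, 1, 2, 3, 2, 2, 3, 6, 2, 3, 5, 4, 3, 6, 4, 0] [.out 2051],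
  .sub [4, 1, 2, 6, 0, 4, 6, 3, 2, 6, 5, 3, 0, 5, 6, 3, 2, 3, 1, 2, 1, 3, 2, 3, 1, 2, 3, 4, 2, 3, 1, 2, 3, 2, 4, 1, 2, 6, 0, 4, 6, 3, 2, 6, 5, 3, 0, 5, 6, 3, 2, 3, 1, 2, 1, 3, 2, 3, 1, 2, 3, 4, 2, 3, 1, 2, 3, 2, 2, 3, 6, 2, 3, 5, 4, 3, 6, 4, 0, 6, 4, 3, 5, 6, 2, 3, 5, 2, 4, 1, 2, 6, 0, 4, 6, 3, 2, 6, 5, 3, 0, 5, 6, 3, 2, 3, 1, 2, 1, 3, 2, 3, 1, 2, 3, 4, 2, 3, 1, 2, 3, 2, 2, 3, 6, 2, 3, 5, 4, 3, 6, 4, 0] [.out 207],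
  .sub [2, 3, 6, 2, 3, 5, 4, 3, 6, 4, 0, 4, 1, 2, 6, 0, 4, 6, 3, 2, 6, 5, 3, 0, 5, 6, 3, 2, 3, 1, 2, 1, 3, 2, 3, 1, 2, 3, 4, 2, 3, 1, 2, 3, 2, 2, 3, 6, 2, 3, 5, 4, 3, 6, 4, 0, 6, 4, 3, 5, 6, 2, 3, 5, 2, 4, 1, 2, 6, 0, 4, 6, 3, 2, 6, 5, 3, 0, 5, 6, 3, 2, 3, 1, 2, 1, 3, 2, 3, 1, 2, 3, 4, 2, 3, 1, 2, 3, 2, 2, 3, 6, 2, 3, 5, 4, 3, 6, 4, 0] [.out 1022],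
  .sub [4, 1, 2, 6, 0, 4, 6, 3, 2, 6, 5, 3, 0, 5, 6, 3, 2, 3, 1, 2, 1, 3, 2, 3, 1, 2, 3, 4, 2, 3, 1, 2, 3, 2, 6, 4, 3, 5, 6, 2, 3, 5, 2, 6, 4, 3, 5, 6, 2, 3, 5, 2, 4, 1, 2, 6, 0, 4, 6, 3, 2, 6, 5, 3, 0, 5, 6, 3, 2, 3, 1, 2, 1, 3, 2, 3, 1, 2, 3, 4, 2, 3, 1, 2, 3, 2, 4, 1, 2, 6, 0, 4, 6, 3, 2, 6, 5, 3, 0, 5, 6, 3, 2, 3, 1, 2, 1, 3, 2, 3, 1, 2, 3, 4, 2, 3, 1, 2, 3, 2, 2, 3, 6, 2, 3, 5, 4, 3, 6, 4, 0] [.out 448],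
  .sub [6, 4, 3, 5, 6, 2, 3, 5, 2, 2, 3, 1, 0, 1, 2, 6, 4, 3, 5, 6, 2, 3, 5, 2, 4, 1, 2, 6, 0, 4, 6, 3, 2, 6, 5, 3, 0, 5, 6, 3, 2, 3, 1, 2, 1, 3, 2, 3, 1, 2, 3, 4, 2, 3, 1, 2, 3, 2, 2, 3, 6, 2, 3, 5, 4, 3, 6, 4, 0, 2, 3, 6, 2, 3, 5, 4, 3, 6, 4, 0] [.out 448],
  .sub [4, 1, 2, 6, 0, 4, 6, 3, 2, 6, 5, 3, 0, 5, 6, 3, 2, 3, 1, 2, 1, 3, 2, 3, 1, 2, 3, 4, 2, 3, 1, 2, 3, 2, 2, 3, 1, 0, 1, 2, 6, 4, 3, 5, 6, 2, 3, 5, 2, 4, 1, 2, 6, 0, 4, 6, 3, 2, 6, 5, 3, 0, 5, 6, 3, 2, 3, 1, 2, 1, 3, 2, 3, 1, 2, 3, 4, 2, 3, 1, 2, 3, 2, 2, 3, 6, 2, 3, 5, 4, 3, 6, 4, 0, 2, 3, 6, 2, 3, 5, 4, 3, 6, 4, 0] [.out 793],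
  .sub [2, 3, 1, 0, 1, 2, 6, 4, 3, 5, 6, 2, 3, 5, 2, 6, 4, 3, 5, 6, 2, 3, 5, 2, 4, 1, 2, 6, 0, 4, 6, 3, 2, 6, 5, 3, 0, 5, 6, 3, 2, 3, 1, 2, 1, 3, 2, 3, 1, 2, 3, 4, 2, 3, 1, 2, 3, 2, 2, 3, 6, 2, 3, 5, 4, 3, 6, 4, 0, 2, 3, 6, 2, 3, 5, 4, 3, 6, 4, 0] [.out 281],
  .sub [4, 1, 2, 6, 0, 4, 6, 3, 2, 6, 5, 3, 0, 5, 6, 3, 2, 3, 1, 2, 1, 3, 2, 3, 1, 2, 3, 4, 2, 3, 1, 2, 3, 2, 6, 4, 3, 5, 6, 2, 3, 5, 2, 6, 4, 3, 5, 6, 2, 3, 5, 2, 4, 1, 2, 6, 0, 4, 6, 3, 2, 6, 5, 3, 0, 5, 6, 3, 2, 3, 1, 2, 1, 3, 2, 3, 1, 2, 3, 4, 2, 3, 1, 2, 3, 2, 2, 3, 6, 2, 3, 5, 4, 3, 6, 4, 0, 2, 3, 6, 2, 3, 5, 4, 3, 6, 4, 0] [.out 1689],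
  .sub [6, 4, 3, 5, 6, 2, 3, 5, 2, 4, 1, 2, 6, 0, 4, 6, 3, 2, 6, 5, 3, 0, 5, 6, 3, 2, 3, 1, 2, 1, 3, 2, 3, 1, 2, 3, 4, 2, 3, 1, 2, 3, 2, 6, 4, 3, 5, 6, 2, 3, 5, 2, 4, 1, 2, 6, 0, 4, 6, 3, 2, 6, 5, 3, 0, 5, 6, 3, 2, 3, 1, 2, 1, 3, 2, 3, 1, 2, 3, 4, 2, 3, 1, 2, 3, 2, 2, 3, 6, 2, 3, 5, 4, 3, 6, 4, 0, 2, 3, 6, 2, 3, 5, 4, 3, 6, 4, 0] [.done 113],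
  .sub [4, 1, 2, 6, 0, 4, 6, 3, 2, 6, 5, 3, 0, 5, 6, 3, 2, 3, 1, 2, 1, 3, 2, 3, 1, 2, 3, 4, 2, 3, 1, 2, 3, 2, 2, 3, 6, 2, 3, 5, 4, 3, 6, 4, 0, 6, 4, 3, 5, 6, 2, 3, 5, 2, 4, 1, 2, 6, 0, 4, 6, 3, 2, 6, 5, 3, 0, 5, 6, 3, 2, 3, 1, 2, 1, 3, 2, 3, 1, 2, 3, 4, 2, 3, 1, 2, 3, 2, 2, 3, 6, 2, 3, 5, 4, 3, 6, 4, 0, 2, 3, 6, 2, 3, 5, 4, 3, 6, 4, 0] [.out 793],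
  .sub [2, 3, 6, 2, 3, 5, 4, 3, 6, 4, 0, 2, 3, 6, 2, 3, 5, 4, 3, 6, 4, 0, 6, 4, 3, 5, 6, 2, 3, 5, 2, 4, 1, 2, 6, 0, 4, 6, 3, 2, 6, 5, 3, 0, 5, 6, 3, 2, 3, 1, 2, 1, 3, 2, 3, 1, 2, 3, 4, 2, 3, 1, 2, 3, 2, 2, 3, 6, 2, 3, 5, 4, 3, 6, 4, 0, 2, 3, 6, 2, 3, 5, 4, 3, 6, 4, 0] [.out 1436],
  .sub [6, 4, 3, 5, 6, 2, 3, 5, 2, 2, 3, 1, 0, 1, 2, 2, 3, 6, 2, 3, 5, 4, 3, 6, 4, 0, 4, 1, 2, 6, 0, 4, 6, 3, 2, 6, 5, 3, 0, 5, 6, 3, 2, 3, 1, 2, 1, 3, 2, 3, 1, 2, 3, 4, 2, 3, 1, 2, 3, 2, 2, 3, 6, 2, 3, 5, 4, 3, 6, 4, 0, 2, 3, 6, 2, 3, 5, 4, 3, 6, 4, 0] [.out 365],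
  .sub [4, 1, 2, 6, 0, 4, 6, 3, 2, 6, 5, 3, 0, 5, 6, 3, 2, 3, 1, 2, 1, 3, 2, 3, 1, 2, 3, 4, 2, 3, 1, 2, 3, 2, 6, 4, 3, 5, 6, 2, 3, 5, 2, 2, 3, 6, 2, 3, 5, 4, 3, 6, 4, 0, 4, 1, 2, 6, 0, 4, 6, 3, 2, 6, 5, 3, 0, 5, 6, 3, 2, 3, 1, 2, 1, 3, 2, 3, 1, 2, 3, 4, 2, 3, 1, 2, 3, 2, 2, 3, 6, 2, 3, 5, 4, 3, 6, 4, 0, 2, 3, 6, 2, 3, 5, 4, 3, 6, 4, 0] [.out 537],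
  .sub [2, 3, 1, 0, 1, 2, 6, 4, 3, 5, 6, 2, 3, 5, 2, 2, 3, 1, 0, 1, 2, 6, 4, 3, 5, 6, 2, 3, 5, 2, 4, 1, 2, 6, 0, 4, 6, 3, 2, 6, 5, 3, 0, 5, 6, 3, 2, 3, 1, 2, 1, 3, 2, 3, 1, 2, 3, 4, 2, 3, 1, 2, 3, 2, 2, 3, 1, 0, 1, 2, 6, 4, 3, 5, 6, 2, 3, 5, 2] [.out 1159],
  .sub [4, 1, 2, 6, 0, 4, 6, 3, 2, 6, 5, 3, 0, 5, 6, 3, 2, 3, 1, 2, 1, 3, 2, 3, 1, 2, 3, 4, 2, 3, 1, 2, 3, 2, 6, 4, 3, 5, 6, 2, 3, 5, 2, 2, 3, 1, 0, 1, 2, 6, 4, 3, 5, 6, 2, 3, 5, 2, 4, 1, 2, 6, 0, 4, 6, 3, 2, 6, 5, 3, 0, 5, 6, 3, 2, 3, 1, 2, 1, 3, 2, 3, 1, 2, 3, 4, 2, 3, 1, 2, 3, 2, 2, 3, 1, 0, 1, 2, 6, 4, 3, 5, 6, 2, 3, 5, 2] [.out 110],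
  .sub [6, 4, 3, 5, 6, 2, 3, 5, 2, 4, 1, 2, 6, 0, 4, 6, 3, 2, 6, 5, 3, 0, 5, 6, 3, 2, 3, 1, 2, 1, 3, 2, 3, 1, 2, 3, 4, 2, 3, 1, 2, 3, 2, 6, 4, 3, 5, 6, 2, 3, 5, 2, 6, 4, 3, 5, 6, 2, 3, 5, 2, 4, 1, 2, 6, 0, 4, 6, 3, 2, 6, 5, 3, 0, 5, 6, 3, 2, 3, 1, 2, 1, 3, 2, 3, 1, 2, 3, 4, 2, 3, 1, 2, 3, 2, 2, 3, 1, 0, 1, 2, 6, 4, 3, 5, 6, 2, 3, 5, 2] [.done 114],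
  .sub [4, 1, 2, 6, 0, 4, 6, 3, 2, 6, 5, 3, 0, 5, 6, 3, 2, 3, 1, 2, 1, 3, 2, 3, 1, 2, 3, 4, 2, 3, 1, 2, 3, 2, 4, 1, 2, 6, 0, 4, 6, 3, 2, 6, 5, 3, 0, 5, 6, 3, 2, 3, 1, 2, 1, 3, 2, 3, 1, 2, 3, 4, 2, 3, 1, 2, 3, 2, 6, 4, 3, 5, 6, 2, 3, 5, 2, 6, 4, 3, 5, 6, 2, 3, 5, 2, 4, 1, 2, 6, 0, 4, 6, 3, 2, 6, 5, 3, 0, 5, 6, 3, 2, 3, 1, 2, 1, 3, 2, 3, 1, 2, 3, 4, 2, 3, 1, 2, 3, 2, 2, 3, 1, 0, 1, 2, 6, 4, 3, 5, 6, 2, 3, 5, 2] [.out 1689],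
  .sub [4, 1, 2, 6, 0, 4, 6, 3, 2, 6, 5, 3, 0, 5, 6, 3, 2, 3, 1, 2, 1, 3, 2, 3, 1, 2, 3, 4, 2, 3, 1, 2, 3, 2, 4, 1, 2, 6, 0, 4, 6, 3, 2, 6, 5, 3, 0, 5, 6, 3, 2, 3, 1, 2, 1, 3, 2, 3, 1, 2, 3, 4, 2, 3, 1, 2, 3, 2, 4, 1, 2, 6, 0, 4, 6, 3, 2, 6, 5, 3, 0, 5, 6, 3, 2, 3, 1, 2, 1, 3, 2, 3, 1, 2, 3, 4, 2, 3, 1, 2, 3, 2, 6, 4, 3, 5, 6, 2, 3, 5, 2, 4, 1, 2, 6, 0, 4, 6, 3, 2, 6, 5, 3, 0, 5, 6, 3, 2, 3, 1, 2, 1, 3, 2, 3, 1, 2, 3, 4, 2, 3, 1, 2, 3, 2, 2, 3, 1, 0, 1, 2, 6, 4, 3, 5, 6, 2, 3, 5, 2] [.out 2013],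
  .sub [4, 1, 2, 6, 0, 4, 6, 3, 2, 6, 5, 3, 0, 5, 6, 3, 2, 3, 1, 2, 1, 3, 2, 3, 1, 2, 3, 4, 2, 3, 1, 2, 3, 2, 2, 3, 6, 2, 3, 5, 4, 3, 6, 4, 0, 4, 1, 2, 6, 0, 4, 6, 3, 2, 6, 5, 3, 0, 5, 6, 3, 2, 3, 1, 2, 1, 3, 2, 3, 1, 2, 3, 4, 2, 3, 1, 2, 3, 2, 6, 4, 3, 5, 6, 2, 3, 5, 2, 4, 1, 2, 6, 0, 4, 6, 3, 2, 6, 5, 3, 0, 5, 6, 3, 2, 3, 1, 2, 1, 3, 2, 3, 1, 2, 3, 4, 2, 3, 1, 2, 3, 2, 2, 3, 1, 0, 1, 2, 6, 4, 3, 5, 6, 2, 3, 5, 2] [.out 922],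
  .sub [4, 1, 2, 6, 0, 4, 6, 3, 2, 6, 5, 3, 0, 5, 6, 3, 2, 3, 1, 2, 1, 3, 2, 3, 1, 2, 3, 4, 2, 3, 1, 2, 3, 2, 2, 3, 1, 0, 1, 2, 6, 4, 3, 5, 6, 2, 3, 5, 2, 4, 1, 2, 6, 0, 4, 6, 3, 2, 6, 5, 3, 0, 5, 6, 3, 2, 3, 1, 2, 1, 3, 2, 3, 1, 2, 3, 4, 2, 3, 1, 2, 3, 2, 4, 1, 2, 6, 0, 4, 6, 3, 2, 6, 5, 3, 0, 5, 6, 3, 2, 3, 1, 2, 1, 3, 2, 3, 1, 2, 3, 4, 2, 3, 1, 2, 3, 2, 2, 3, 1, 0, 1, 2, 6, 4, 3, 5, 6, 2, 3, 5, 2] [.out 1668],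
  .sub [6, 4, 3, 5, 6, 2, 3, 5, 2, 4, 1, 2, 6, 0, 4, 6, 3, 2, 6, 5, 3, 0, 5, 6, 3, 2, 3, 1, 2, 1, 3, 2, 3, 1, 2, 3, 4, 2, 3, 1, 2, 3, 2, 6, 4, 3, 5, 6, 2, 3, 5, 2, 4, 1, 2, 6, 0, 4, 6, 3, 2, 6, 5, 3, 0, 5, 6, 3, 2, 3, 1, 2, 1, 3, 2, 3, 1, 2, 3, 4, 2, 3, 1, 2, 3, 2, 4, 1, 2, 6, 0, 4, 6, 3, 2, 6, 5, 3, 0, 5, 6, 3, 2, 3, 1, 2, 1, 3, 2, 3, 1, 2, 3, 4, 2, 3, 1, 2, 3, 2, 2, 3, 1, 0, 1, 2, 6, 4, 3, 5, 6, 2, 3, 5, 2] [.out 1620],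
  .sub [4, 1, 2, 6, 0, 4, 6, 3, 2, 6, 5, 3, 0, 5, 6, 3, 2, 3, 1, 2, 1, 3, 2, 3, 1, 2, 3, 4, 2, 3, 1, 2, 3, 2, 6, 4, 3, 5, 6, 2, 3, 5, 2, 4, 1, 2, 6, 0, 4, 6, 3, 2, 6, 5, 3, 0, 5, 6, 3, 2, 3, 1, 2, 1, 3, 2, 3, 1, 2, 3, 4, 2, 3, 1, 2, 3, 2, 4, 1, 2, 6, 0, 4, 6, 3, 2, 6, 5, 3, 0, 5, 6, 3, 2, 3, 1, 2, 1, 3, 2, 3, 1, 2, 3, 4, 2, 3, 1, 2, 3, 2, 4, 1, 2, 6, 0, 4, 6, 3, 2, 6, 5, 3, 0, 5, 6, 3, 2, 3, 1, 2, 1, 3, 2, 3, 1, 2, 3, 4, 2, 3, 1, 2, 3, 2, 2, 3, 1, 0, 1, 2, 6, 4, 3, 5, 6, 2, 3, 5, 2] [.done 115],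
  .sub [6, 4, 3, 5, 6, 2, 3, 5, 2, 4, 1, 2, 6, 0, 4, 6, 3, 2, 6, 5, 3, 0, 5, 6, 3, 2, 3, 1, 2, 1, 3, 2, 3, 1, 2, 3, 4, 2, 3, 1, 2, 3, 2, 2, 3, 6, 2, 3, 5, 4, 3, 6, 4, 0, 4, 1, 2, 6, 0, 4, 6, 3, 2, 6, 5, 3, 0, 5, 6, 3, 2, 3, 1, 2, 1, 3, 2, 3, 1, 2, 3, 4, 2, 3, 1, 2, 3, 2, 4, 1, 2, 6, 0, 4, 6, 3, 2, 6, 5, 3, 0, 5, 6, 3, 2, 3, 1, 2, 1, 3, 2, 3, 1, 2, 3, 4, 2, 3, 1, 2, 3, 2, 2, 3, 1, 0, 1, 2, 6, 4, 3, 5, 6, 2, 3, 5, 2] [.out 537],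
  .sub [6, 4, 3, 5, 6, 2, 3, 5, 2, 4, 1, 2, 6, 0, 4, 6, 3, 2, 6, 5, 3, 0, 5, 6, 3, 2, 3, 1, 2, 1, 3, 2, 3, 1, 2, 3, 4, 2, 3, 1, 2, 3, 2, 6, 4, 3, 5, 6, 2, 3, 5, 2, 2, 3, 6, 2, 3, 5, 4, 3, 6, 4, 0, 4, 1, 2, 6, 0, 4, 6, 3, 2, 6, 5, 3, 0, 5, 6, 3, 2, 3, 1, 2, 1, 3, 2, 3, 1, 2, 3, 4, 2, 3, 1, 2, 3, 2, 2, 3, 1, 0, 1, 2, 6, 4, 3, 5, 6, 2, 3, 5, 2] [.done 116],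
  .sub [4, 1, 2, 6, 0, 4, 6, 3, 2, 6, 5, 3, 0, 5, 6, 3, 2, 3, 1, 2, 1, 3, 2, 3, 1, 2, 3, 4, 2, 3, 1, 2, 3, 2, 4, 1, 2, 6, 0, 4, 6, 3, 2, 6, 5, 3, 0, 5, 6, 3, 2, 3, 1, 2, 1, 3, 2, 3, 1, 2, 3, 4, 2, 3, 1, 2, 3, 2, 6, 4, 3, 5, 6, 2, 3, 5, 2, 2, 3, 6, 2, 3, 5, 4, 3, 6, 4, 0, 4, 1, 2, 6, 0, 4, 6, 3, 2, 6, 5, 3, 0, 5, 6, 3, 2, 3, 1, 2, 1, 3, 2, 3, 1, 2, 3, 4, 2, 3, 1, 2, 3, 2, 2, 3, 1, 0, 1, 2, 6, 4, 3, 5, 6, 2, 3, 5, 2] [.out 1237],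
  .sub [6, 4, 3, 5, 6, 2, 3, 5, 2, 6, 4, 3, 5, 6, 2, 3, 5, 2, 4, 1, 2, 6, 0, 4, 6, 3, 2, 6, 5, 3, 0, 5, 6, 3, 2, 3, 1, 2, 1, 3, 2, 3, 1, 2, 3, 4, 2, 3, 1, 2, 3, 2, 2, 3, 6, 2, 3, 5, 4, 3, 6, 4, 0, 4, 1, 2, 6, 0, 4, 6, 3, 2, 6, 5, 3, 0, 5, 6, 3, 2, 3, 1, 2, 1, 3, 2, 3, 1, 2, 3, 4, 2, 3, 1, 2, 3, 2, 2, 3, 1, 0, 1, 2, 6, 4, 3, 5, 6, 2, 3, 5, 2] [.out 922],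
  .sub [4, 1, 2, 6, 0, 4, 6, 3, 2, 6, 5, 3, 0, 5, 6, 3, 2, 3, 1, 2, 1, 3, 2, 3, 1, 2, 3, 4, 2, 3, 1, 2, 3, 2, 4, 1, 2, 6, 0, 4, 6, 3, 2, 6, 5, 3, 0, 5, 6, 3, 2, 3, 1, 2, 1, 3, 2, 3, 1, 2, 3, 4, 2, 3, 1, 2, 3, 2, 6, 4, 3, 5, 6, 2, 3, 5, 2, 4, 1, 2, 6, 0, 4, 6, 3, 2, 6, 5, 3, 0, 5, 6, 3, 2, 3, 1, 2, 1, 3, 2, 3, 1, 2, 3, 4, 2, 3, 1, 2, 3, 2, 2, 3, 6, 2, 3, 5, 4, 3, 6, 4, 0, 2, 3, 1, 0, 1, 2, 6, 4, 3, 5, 6, 2, 3, 5, 2] [.done 117],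
  .sub [2, 3, 1, 0, 1, 2, 2, 3, 6, 2, 3, 5, 4, 3, 6, 4, 0, 6, 4, 3, 5, 6, 2, 3, 5, 2, 4, 1, 2, 6, 0, 4, 6, 3, 2, 6, 5, 3, 0, 5, 6, 3, 2, 3, 1, 2, 1, 3, 2, 3, 1, 2, 3, 4, 2, 3, 1, 2, 3, 2, 2, 3, 6, 2, 3, 5, 4, 3, 6, 4, 0, 2, 3, 1, 0, 1, 2, 6, 4, 3, 5, 6, 2, 3, 5, 2] [.out 922],
  .sub [4, 1, 2, 6, 0, 4, 6, 3, 2, 6, 5, 3, 0, 5, 6, 3, 2, 3, 1, 2, 1, 3, 2, 3, 1, 2, 3, 4, 2, 3, 1, 2, 3, 2, 2, 3, 6, 2, 3, 5, 4, 3, 6, 4, 0, 6, 4, 3, 5, 6, 2, 3, 5, 2, 4, 1, 2, 6, 0, 4, 6, 3, 2, 6, 5, 3, 0, 5, 6, 3, 2, 3, 1, 2, 1, 3, 2, 3, 1, 2, 3, 4, 2, 3, 1, 2, 3, 2, 2, 3, 6, 2, 3, 5, 4, 3, 6, 4, 0, 2, 3, 1, 0, 1, 2, 6, 4, 3, 5, 6, 2,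 3, 5, 2] [.out 281],
  .sub [6, 4, 3, 5, 6, 2, 3, 5, 2, 2, 3, 1, 0, 1, 2, 2, 3, 6, 2, 3, 5, 4, 3, 6, 4, 0, 4, 1, 2, 6, 0, 4, 6, 3, 2, 6, 5, 3, 0, 5, 6, 3, 2, 3, 1, 2, 1, 3, 2, 3, 1, 2, 3, 4, 2, 3, 1, 2, 3, 2, 2, 3, 6, 2, 3, 5, 4, 3, 6, 4, 0, 2, 3, 1, 0, 1, 2, 6, 4, 3, 5, 6, 2, 3, 5, 2] [.out 352],
  .sub [4, 1, 2, 6, 0, 4, 6, 3, 2, 6, 5, 3, 0, 5, 6, 3, 2, 3, 1, 2, 1, 3, 2, 3, 1, 2, 3, 4, 2, 3, 1, 2, 3, 2, 6, 4, 3, 5, 6, 2, 3, 5, 2, 2, 3, 1, 0, 1, 2, 6, 4, 3, 5, 6, 2, 3, 5, 2, 4, 1, 2, 6, 0, 4, 6, 3, 2, 6, 5, 3, 0, 5, 6, 3, 2, 3, 1, 2, 1, 3, 2, 3, 1, 2, 3, 4, 2, 3, 1, 2, 3, 2, 6, 4, 3, 5, 6, 2, 3, 5, 2, 6, 4, 3,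 5, 6, 2, 3, 5, 2] [.out 433],
  .sub [2, 3, 6, 2, 3, 5, 4, 3, 6, 4, 0, 4, 1, 2, 6, 0, 4, 6, 3, 2, 6, 5, 3, 0, 5, 6, 3, 2, 3, 1, 2, 1, 3, 2, 3, 1, 2, 3, 4, 2, 3, 1, 2, 3, 2, 2, 3, 1, 0, 1, 2, 6, 4, 3, 5, 6, 2, 3, 5, 2, 4, 1, 2, 6, 0, 4, 6, 3, 2, 6, 5, 3, 0, 5, 6, 3, 2, 3, 1, 2, 1, 3, 2, 3, 1, 2, 3, 4, 2, 3, 1, 2, 3, 2, 6, 4, 3, 5, 6, 2, 3, 5, 2, 6, 4, 3, 5, 6, 2, 3, 5, 2] [.out 182],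
  .sub [2, 3, 1, 0, 1, 2, 6, 4, 3, 5, 6, 2, 3, 5, 2, 4, 1, 2, 6, 0, 4, 6, 3, 2, 6, 5, 3, 0, 5, 6, 3, 2, 3, 1, 2, 1, 3, 2, 3, 1, 2, 3, 4, 2, 3, 1, 2, 3, 2, 6, 4, 3, 5, 6, 2, 3, 5, 2, 4, 1, 2, 6, 0, 4, 6, 3, 2, 6, 5, 3, 0, 5, 6, 3, 2, 3, 1, 2, 1, 3, 2, 3, 1, 2, 3, 4, 2, 3, 1, 2, 3, 2, 6, 4, 3, 5, 6, 2, 3, 5, 2, 6, 4, 3, 5, 6, 2, 3, 5, 2] [.out 1018],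
  .sub [2, 3, 6, 2, 3, 5, 4, 3, 6, 4, 0, 6, 4, 3, 5, 6, 2, 3, 5, 2, 4, 1, 2, 6, 0, 4, 6, 3, 2, 6, 5, 3, 0, 5, 6, 3, 2, 3, 1, 2, 1, 3, 2, 3, 1, 2, 3, 4, 2, 3, 1, 2, 3, 2, 6, 4, 3, 5, 6, 2, 3, 5, 2, 4, 1, 2, 6, 0, 4, 6, 3, 2, 6, 5, 3, 0, 5, 6, 3, 2, 3, 1, 2, 1, 3, 2, 3, 1, 2, 3, 4, 2, 3, 1, 2, 3, 2, 6, 4, 3, 5, 6, 2, 3, 5, 2, 6, 4, 3, 5, 6, 2, 3, 5, 2] [.done 118],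
  .sub [6, 4, 3, 5, 6, 2, 3, 5, 2, 4, 1, 2, 6, 0, 4, 6, 3, 2, 6, 5, 3, 0, 5, 6, 3, 2, 3, 1, 2, 1, 3, 2, 3, 1, 2, 3, 4, 2, 3, 1, 2, 3, 2, 4, 1, 2, 6, 0, 4, 6, 3, 2, 6, 5, 3, 0, 5, 6, 3, 2, 3, 1, 2, 1, 3, 2, 3, 1, 2, 3, 4, 2, 3, 1, 2, 3, 2, 6, 4, 3, 5, 6, 2, 3, 5, 2, 4, 1, 2, 6, 0, 4, 6, 3, 2, 6, 5, 3, 0, 5, 6, 3, 2, 3, 1, 2, 1, 3, 2, 3, 1, 2, 3, 4, 2, 3, 1, 2, 3, 2, 6, 4, 3, 5, 6, 2, 3, 5, 2, 6, 4, 3, 5, 6, 2, 3, 5, 2] [.out 70],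
  .sub [2, 3, 1, 0, 1, 2, 2, 3, 6, 2, 3, 5, 4, 3, 6, 4, 0, 4, 1, 2, 6, 0, 4, 6, 3, 2, 6, 5, 3, 0, 5, 6, 3, 2, 3, 1, 2, 1, 3, 2, 3, 1, 2, 3, 4, 2, 3, 1, 2, 3, 2, 6, 4, 3, 5, 6, 2, 3, 5, 2, 4, 1, 2, 6, 0, 4, 6, 3, 2, 6, 5, 3, 0, 5, 6, 3, 2, 3, 1, 2, 1, 3, 2, 3, 1, 2, 3, 4, 2, 3, 1, 2, 3, 2, 6, 4, 3, 5, 6, 2, 3, 5, 2, 6, 4, 3, 5, 6, 2, 3, 5, 2] [.out 299],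
  .sub [2, 3, 6, 2, 3, 5, 4, 3, 6, 4, 0, 2, 3, 6, 2, 3, 5, 4, 3, 6, 4, 0, 4, 1, 2, 6, 0, 4, 6, 3, 2, 6, 5, 3, 0, 5, 6, 3, 2, 3, 1, 2, 1, 3, 2, 3, 1, 2, 3, 4, 2, 3, 1, 2, 3, 2, 6, 4, 3, 5, 6, 2, 3, 5, 2, 4, 1, 2, 6, 0, 4, 6, 3, 2, 6, 5, 3, 0, 5, 6, 3, 2, 3, 1, 2, 1, 3, 2, 3, 1, 2, 3, 4, 2, 3, 1, 2, 3, 2, 6, 4, 3, 5, 6, 2, 3, 5, 2, 6, 4, 3, 5, 6, 2, 3, 5, 2] [.out 1304],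
  .sub [4, 1, 2, 6, 0, 4, 6, 3, 2, 6, 5, 3, 0, 5, 6, 3, 2, 3, 1, 2, 1, 3, 2, 3, 1, 2, 3, 4, 2, 3, 1, 2, 3, 2, 4, 1, 2, 6, 0, 4, 6, 3, 2, 6, 5, 3, 0, 5, 6, 3, 2, 3, 1, 2, 1, 3, 2, 3, 1, 2, 3, 4, 2, 3, 1, 2, 3, 2, 2, 3, 6, 2, 3, 5, 4, 3, 6, 4, 0, 6, 4, 3, 5, 6, 2, 3, 5, 2, 4, 1, 2, 6, 0, 4, 6, 3, 2, 6, 5, 3, 0, 5, 6, 3, 2, 3, 1, 2, 1, 3, 2, 3, 1, 2, 3, 4, 2, 3, 1, 2, 3, 2, 6, 4, 3, 5, 6, 2, 3, 5, 2, 6, 4, 3, 5, 6, 2, 3, 5, 2] [.out 365],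
  .sub [4, 1, 2, 6, 0, 4, 6, 3, 2, 6, 5, 3, 0, 5, 6, 3, 2, 3, 1, 2, 1, 3, 2, 3, 1, 2, 3, 4, 2, 3, 1, 2, 3, 2, 6, 4, 3, 5, 6, 2, 3, 5, 2, 6, 4, 3, 5, 6, 2, 3, 5, 2, 2, 3, 6, 2, 3, 5, 4, 3, 6, 4, 0, 4, 1, 2, 6, 0, 4, 6, 3, 2, 6, 5, 3, 0, 5, 6, 3, 2, 3, 1, 2, 1, 3, 2, 3, 1, 2, 3, 4, 2, 3, 1, 2, 3, 2, 6, 4, 3, 5, 6, 2, 3, 5, 2, 6, 4, 3, 5, 6, 2, 3, 5, 2] [.out 632],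
  .sub [4, 1, 2, 6, 0, 4, 6, 3, 2, 6, 5, 3, 0, 5, 6, 3, 2, 3, 1, 2, 1, 3, 2, 3, 1, 2, 3, 4, 2, 3, 1, 2, 3, 2, 4, 1, 2, 6, 0, 4, 6, 3, 2, 6, 5, 3, 0, 5, 6, 3, 2, 3, 1, 2, 1, 3, 2, 3, 1, 2, 3, 4, 2, 3, 1, 2, 3, 2, 6, 4, 3, 5, 6, 2, 3, 5, 2, 2, 3, 6, 2, 3, 5, 4, 3, 6, 4, 0, 4, 1, 2, 6, 0, 4, 6, 3, 2, 6, 5, 3, 0, 5, 6, 3, 2, 3, 1, 2, 1, 3, 2, 3, 1, 2, 3, 4, 2, 3, 1, 2, 3, 2, 6, 4, 3, 5, 6, 2, 3, 5, 2, 6, 4, 3, 5, 6, 2, 3, 5, 2] [.out 1083],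
  .sub [6, 4, 3, 5, 6, 2, 3, 5, 2, 4, 1, 2, 6, 0, 4, 6, 3, 2, 6, 5, 3, 0, 5, 6, 3, 2, 3, 1, 2, 1, 3, 2, 3, 1, 2, 3, 4, 2, 3, 1, 2, 3, 2, 6, 4, 3, 5, 6, 2, 3, 5, 2, 2, 3, 1, 0, 1, 2, 6, 4, 3, 5, 6, 2, 3, 5, 2, 4, 1, 2, 6, 0, 4, 6, 3, 2, 6, 5, 3, 0, 5, 6, 3, 2, 3, 1, 2, 1, 3, 2, 3, 1, 2, 3, 4, 2, 3, 1, 2, 3, 2, 6, 4, 3, 5, 6, 2, 3, 5, 2] [.out 1449],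
  .sub [4, 1, 2, 6, 0, 4, 6, 3, 2, 6, 5, 3, 0, 5, 6, 3, 2, 3, 1, 2, 1, 3, 2, 3, 1, 2, 3, 4, 2, 3, 1, 2, 3, 2, 4, 1, 2, 6, 0, 4, 6, 3, 2, 6, 5, 3, 0, 5, 6, 3, 2, 3, 1, 2, 1, 3, 2, 3, 1, 2, 3, 4, 2, 3, 1, 2, 3, 2, 6, 4, 3, 5, 6, 2, 3, 5, 2, 2, 3, 1, 0, 1, 2, 6, 4, 3, 5, 6, 2, 3, 5, 2, 4, 1, 2, 6, 0, 4, 6, 3, 2, 6, 5, 3, 0, 5, 6, 3, 2, 3, 1, 2, 1, 3, 2, 3, 1, 2, 3, 4, 2, 3, 1, 2, 3, 2, 6, 4, 3, 5, 6, 2, 3, 5, 2] [.out 1668],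
  .sub [4, 1, 2, 6, 0, 4, 6, 3, 2, 6, 5, 3, 0, 5, 6, 3, 2, 3, 1, 2, 1, 3, 2, 3, 1, 2, 3, 4, 2, 3, 1, 2, 3, 2, 2, 3, 6, 2, 3, 5, 4, 3, 6, 4, 0, 6, 4, 3, 5, 6, 2, 3, 5, 2, 2, 3, 1, 0, 1, 2, 6, 4, 3, 5, 6, 2, 3, 5, 2, 4, 1, 2, 6, 0, 4, 6, 3, 2, 6, 5, 3, 0, 5, 6, 3, 2, 3, 1, 2, 1, 3, 2, 3, 1, 2, 3, 4, 2, 3, 1, 2, 3, 2, 6, 4, 3, 5, 6, 2, 3, 5, 2] [.out 1580],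
  .sub [4, 1, 2, 6, 0, 4, 6, 3, 2, 6, 5, 3, 0, 5, 6, 3, 2, 3, 1, 2, 1, 3, 2, 3, 1, 2, 3, 4, 2, 3, 1, 2, 3, 2, 6, 4, 3, 5, 6, 2, 3, 5, 2, 4, 1, 2, 6, 0, 4, 6, 3, 2, 6, 5, 3, 0, 5, 6, 3, 2, 3, 1, 2, 1, 3, 2, 3, 1, 2, 3, 4, 2, 3, 1, 2, 3, 2, 2, 3, 1, 0, 1, 2, 6, 4, 3, 5, 6, 2, 3, 5, 2, 4, 1, 2, 6, 0, 4, 6, 3, 2, 6, 5, 3, 0, 5, 6, 3, 2, 3, 1, 2, 1, 3, 2, 3, 1, 2, 3, 4, 2, 3, 1, 2, 3, 2, 6, 4, 3, 5, 6, 2, 3, 5, 2] [.out 448],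
  .sub [2, 3, 6, 2, 3, 5, 4, 3, 6, 4, 0, 6, 4, 3, 5, 6, 2, 3, 5, 2, 4, 1, 2, 6, 0, 4, 6, 3, 2, 6, 5, 3, 0, 5, 6, 3, 2, 3, 1, 2, 1, 3, 2, 3, 1, 2, 3, 4, 2, 3, 1, 2, 3, 2, 2, 3, 1, 0, 1, 2, 6, 4, 3, 5, 6, 2, 3, 5, 2, 4, 1, 2, 6, 0, 4, 6, 3, 2, 6, 5, 3, 0, 5, 6, 3, 2, 3, 1, 2, 1, 3, 2, 3, 1, 2, 3, 4, 2, 3, 1, 2, 3, 2, 6, 4, 3, 5, 6, 2, 3, 5, 2] [.out 182],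
  .sub [4, 1, 2, 6, 0, 4, 6, 3, 2, 6, 5, 3, 0, 5, 6, 3, 2, 3, 1, 2, 1, 3, 2, 3, 1, 2, 3, 4, 2, 3, 1, 2, 3, 2, 4, 1, 2, 6, 0, 4, 6, 3, 2, 6, 5, 3, 0, 5, 6, 3, 2, 3, 1, 2, 1, 3, 2, 3, 1, 2, 3, 4, 2, 3, 1, 2, 3, 2, 2, 3, 6, 2, 3, 5, 4, 3, 6, 4, 0, 2, 3, 1, 0, 1, 2, 6, 4, 3, 5, 6, 2, 3, 5, 2, 4, 1, 2, 6, 0, 4, 6, 3, 2, 6, 5, 3, 0, 5, 6, 3, 2, 3, 1, 2, 1, 3, 2, 3, 1, 2, 3, 4, 2, 3, 1, 2, 3, 2, 6, 4, 3, 5, 6, 2, 3, 5, 2] [.out 555],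
  .sub [6, 4, 3, 5, 6, 2, 3, 5, 2, 4, 1, 2, 6, 0, 4, 6, 3, 2, 6, 5, 3, 0, 5, 6, 3, 2, 3, 1, 2, 1, 3, 2, 3, 1, 2, 3, 4, 2, 3, 1, 2, 3, 2, 4, 1, 2, 6, 0, 4, 6, 3, 2, 6, 5, 3, 0, 5, 6, 3, 2, 3, 1, 2, 1, 3, 2, 3, 1, 2, 3, 4, 2, 3, 1, 2, 3, 2, 6, 4, 3, 5, 6, 2, 3, 5, 2, 6, 4, 3, 5, 6, 2, 3, 5, 2, 4, 1, 2, 6, 0, 4, 6, 3, 2, 6, 5, 3, 0, 5, 6, 3, 2, 3, 1, 2, 1, 3, 2, 3, 1, 2, 3, 4, 2, 3, 1, 2, 3, 2, 6, 4, 3, 5, 6, 2, 3, 5, 2] [.out 448],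
  .sub [2, 3, 6, 2, 3, 5, 4, 3, 6, 4, 0, 4, 1, 2, 6, 0, 4, 6, 3, 2, 6, 5, 3, 0, 5, 6, 3, 2, 3, 1, 2, 1, 3, 2, 3, 1, 2, 3, 4, 2, 3, 1, 2, 3, 2, 4, 1, 2, 6, 0, 4, 6, 3, 2, 6, 5, 3, 0, 5, 6, 3, 2, 3, 1, 2, 1, 3, 2, 3, 1, 2, 3, 4, 2, 3, 1, 2, 3, 2, 6, 4, 3, 5, 6, 2, 3, 5, 2, 6, 4, 3, 5, 6, 2, 3, 5, 2, 4, 1, 2, 6, 0, 4, 6, 3, 2, 6, 5, 3, 0, 5, 6, 3, 2, 3, 1, 2, 1, 3, 2, 3, 1, 2, 3, 4, 2, 3, 1, 2, 3, 2, 6, 4, 3, 5, 6, 2, 3, 5, 2] [.out 819],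
  .sub [4, 1, 2, 6, 0, 4, 6, 3, 2, 6, 5, 3, 0, 5, 6, 3, 2, 3, 1, 2, 1, 3, 2, 3, 1, 2, 3, 4, 2, 3, 1, 2, 3, 2, 2, 3, 6, 2, 3, 5, 4, 3, 6, 4, 0, 4, 1, 2, 6, 0, 4, 6, 3, 2, 6, 5, 3, 0, 5, 6, 3, 2, 3, 1, 2, 1, 3, 2, 3, 1, 2, 3, 4, 2, 3, 1, 2, 3, 2, 4, 1, 2, 6, 0, 4, 6, 3, 2, 6, 5, 3, 0, 5, 6, 3, 2, 3, 1, 2, 1, 3, 2, 3, 1, 2, 3, 4, 2, 3, 1, 2, 3, 2, 6, 4, 3, 5, 6, 2, 3, 5, 2, 4, 1, 2, 6, 0, 4, 6, 3, 2, 6, 5, 3, 0, 5, 6, 3, 2, 3, 1, 2, 1, 3, 2, 3, 1, 2, 3, 4, 2, 3, 1, 2, 3, 2, 6, 4, 3, 5, 6, 2, 3, 5, 2] [.out 281],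
  .sub [2, 3, 6, 2, 3, 5, 4, 3, 6, 4, 0, 6, 4, 3, 5, 6, 2, 3, 5, 2, 4, 1, 2, 6, 0, 4, 6, 3, 2, 6, 5, 3, 0, 5, 6, 3, 2, 3, 1, 2, 1, 3, 2, 3, 1, 2, 3, 4, 2, 3, 1, 2, 3, 2, 2, 3, 6, 2, 3, 5, 4, 3, 6, 4, 0, 6, 4, 3, 5, 6, 2, 3, 5, 2, 4, 1, 2, 6, 0, 4, 6, 3, 2, 6, 5, 3, 0, 5, 6, 3, 2, 3, 1, 2, 1, 3, 2, 3, 1, 2, 3, 4, 2, 3, 1, 2, 3, 2, 6, 4, 3, 5, 6, 2, 3, 5, 2] [.out 537],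
  .sub [6, 4, 3, 5, 6, 2, 3, 5, 2, 2, 3, 6, 2, 3, 5, 4, 3, 6, 4, 0, 4, 1, 2, 6, 0, 4, 6, 3, 2, 6, 5, 3, 0, 5, 6, 3, 2, 3, 1, 2, 1, 3, 2, 3, 1, 2, 3, 4, 2, 3, 1, 2, 3, 2, 2, 3, 6, 2, 3, 5, 4, 3, 6, 4, 0, 6, 4, 3, 5, 6, 2, 3, 5, 2, 4, 1, 2, 6, 0, 4, 6, 3, 2, 6, 5, 3, 0, 5, 6, 3, 2, 3, 1, 2, 1, 3, 2, 3, 1, 2, 3, 4, 2, 3, 1, 2, 3, 2, 6, 4, 3, 5, 6, 2, 3, 5, 2] [.out 717],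
  .sub [4, 1, 2, 6, 0, 4, 6, 3, 2, 6, 5, 3, 0, 5, 6, 3, 2, 3, 1, 2, 1, 3, 2, 3, 1, 2, 3, 4, 2, 3, 1, 2, 3, 2, 2, 3, 6, 2, 3, 5, 4, 3, 6, 4, 0, 4, 1, 2, 6, 0, 4, 6, 3, 2, 6, 5, 3, 0, 5, 6, 3, 2, 3, 1, 2, 1, 3, 2, 3, 1, 2, 3, 4, 2, 3, 1, 2, 3, 2, 2, 3, 6, 2, 3, 5, 4, 3, 6, 4, 0, 6, 4, 3, 5, 6, 2, 3, 5, 2, 4, 1, 2, 6, 0, 4, 6, 3, 2, 6, 5, 3, 0, 5, 6, 3, 2, 3, 1, 2, 1, 3, 2, 3, 1, 2, 3, 4, 2, 3, 1, 2, 3, 2, 6, 4, 3, 5, 6, 2, 3, 5, 2] [.out 724],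
  .sub [6, 4, 3, 5, 6, 2, 3, 5, 2, 6, 4, 3, 5, 6, 2, 3, 5, 2, 4, 1, 2, 6, 0, 4, 6, 3, 2, 6, 5, 3, 0, 5, 6, 3, 2, 3, 1, 2, 1, 3, 2, 3, 1, 2, 3, 4, 2, 3, 1, 2, 3, 2, 6, 4, 3, 5, 6, 2, 3, 5, 2, 4, 1, 2, 6, 0, 4, 6, 3, 2, 6, 5, 3, 0, 5, 6, 3, 2, 3, 1, 2, 1, 3, 2, 3, 1, 2, 3, 4, 2, 3, 1, 2, 3, 2, 4, 1, 2, 6, 0, 4, 6, 3, 2, 6, 5, 3, 0, 5, 6, 3, 2, 3, 1, 2, 1, 3, 2, 3, 1, 2, 3, 4, 2, 3, 1, 2, 3, 2, 6, 4, 3, 5, 6, 2, 3, 5, 2] [.out 70],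
  .sub [4, 1, 2, 6, 0, 4, 6, 3, 2, 6, 5, 3, 0, 5, 6, 3, 2, 3, 1, 2, 1, 3, 2, 3, 1, 2, 3, 4, 2, 3, 1, 2, 3, 2, 6, 4, 3, 5, 6, 2, 3, 5, 2, 4, 1, 2, 6, 0, 4, 6, 3, 2, 6, 5, 3, 0, 5, 6, 3, 2, 3, 1, 2, 1, 3, 2, 3, 1, 2, 3, 4, 2, 3, 1, 2, 3, 2, 6, 4, 3, 5, 6, 2, 3, 5, 2, 4, 1, 2, 6, 0, 4, 6, 3, 2, 6, 5, 3, 0, 5, 6, 3, 2, 3, 1, 2, 1, 3, 2, 3, 1, 2, 3, 4, 2, 3, 1, 2, 3, 2, 4, 1, 2, 6, 0, 4, 6, 3, 2, 6, 5, 3, 0, 5, 6, 3, 2, 3, 1, 2, 1, 3, 2, 3, 1, 2, 3, 4, 2, 3, 1, 2, 3, 2, 6, 4, 3, 5, 6, 2, 3, 5, 2] [.out 724],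
  .sub [6, 4, 3, 5, 6, 2, 3, 5, 2, 2, 3, 6, 2, 3, 5, 4, 3, 6, 4, 0, 4, 1, 2, 6, 0, 4, 6, 3, 2, 6, 5, 3, 0, 5, 6, 3, 2, 3, 1, 2, 1, 3, 2, 3, 1, 2, 3, 4, 2, 3, 1, 2, 3, 2, 6, 4, 3, 5, 6, 2, 3, 5, 2, 4, 1, 2, 6, 0, 4, 6, 3, 2, 6, 5, 3, 0, 5, 6, 3, 2, 3, 1, 2, 1, 3, 2, 3, 1, 2, 3, 4, 2, 3, 1, 2, 3, 2, 4, 1, 2, 6, 0, 4, 6, 3, 2, 6, 5, 3, 0, 5, 6, 3, 2, 3, 1, 2, 1, 3, 2, 3, 1, 2, 3, 4, 2, 3, 1, 2, 3, 2, 6, 4, 3, 5, 6, 2, 3, 5, 2] [.out 1023],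
  .sub [4, 1, 2, 6, 0, 4, 6, 3, 2, 6, 5, 3, 0, 5, 6, 3, 2, 3, 1, 2, 1, 3, 2, 3, 1, 2, 3, 4, 2, 3, 1, 2, 3, 2, 4, 1, 2, 6, 0, 4, 6, 3, 2, 6, 5, 3, 0, 5, 6, 3, 2, 3, 1, 2, 1, 3, 2, 3, 1, 2, 3, 4, 2, 3, 1, 2, 3, 2, 2, 3, 6, 2, 3, 5, 4, 3, 6, 4, 0, 6, 4, 3, 5, 6, 2, 3, 5, 2, 4, 1, 2, 6, 0, 4, 6, 3, 2, 6, 5, 3, 0, 5, 6, 3, 2, 3, 1, 2, 1, 3, 2, 3, 1, 2, 3, 4, 2, 3, 1, 2, 3, 2, 4, 1, 2, 6, 0, 4, 6, 3, 2, 6, 5, 3, 0, 5, 6, 3, 2, 3, 1, 2, 1, 3, 2, 3, 1, 2, 3, 4, 2, 3, 1, 2, 3, 2, 6, 4, 3, 5, 6, 2, 3, 5, 2] [.done 119],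
  .sub [2, 3, 6, 2, 3, 5, 4, 3, 6, 4, 0, 4, 1, 2, 6, 0, 4, 6, 3, 2, 6, 5, 3, 0, 5, 6, 3, 2, 3, 1, 2, 1, 3, 2, 3, 1, 2, 3, 4, 2, 3, 1, 2, 3, 2, 6, 4, 3, 5, 6, 2, 3, 5, 2, 6, 4, 3, 5, 6, 2, 3, 5, 2, 2, 3, 6, 2, 3, 5, 4, 3, 6, 4, 0, 4, 1, 2, 6, 0, 4, 6, 3, 2, 6, 5, 3, 0, 5, 6, 3, 2, 3, 1, 2, 1, 3, 2, 3, 1, 2, 3, 4, 2, 3, 1, 2, 3, 2, 6, 4, 3, 5, 6, 2, 3, 5, 2] [.out 1580],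
  .sub [6, 4, 3, 5, 6, 2, 3, 5, 2, 6, 4, 3, 5, 6, 2, 3, 5, 2, 4, 1, 2, 6, 0, 4, 6, 3, 2, 6, 5, 3, 0, 5, 6, 3, 2, 3, 1, 2, 1, 3, 2, 3, 1, 2, 3, 4, 2, 3, 1, 2, 3, 2, 6, 4, 3, 5, 6, 2, 3, 5, 2, 2, 3, 6, 2, 3, 5, 4, 3, 6, 4, 0, 4, 1, 2, 6, 0, 4, 6, 3, 2, 6, 5, 3, 0, 5, 6, 3, 2, 3, 1, 2, 1, 3, 2, 3, 1, 2, 3, 4, 2, 3, 1, 2, 3, 2, 6, 4, 3, 5, 6, 2, 3, 5, 2] [.out 1777],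
  .sub [6, 4, 3, 5, 6, 2, 3, 5, 2, 4, 1, 2, 6, 0, 4, 6, 3, 2, 6, 5, 3, 0, 5, 6, 3, 2, 3, 1, 2, 1, 3, 2, 3, 1, 2, 3, 4, 2, 3, 1, 2, 3, 2, 4, 1, 2, 6, 0, 4, 6, 3, 2, 6, 5, 3, 0, 5, 6, 3, 2, 3, 1, 2, 1, 3, 2, 3, 1, 2, 3, 4, 2, 3, 1, 2, 3, 2, 6, 4, 3, 5, 6, 2, 3, 5, 2, 2, 3, 6, 2, 3, 5, 4, 3, 6, 4, 0, 4, 1, 2, 6, 0, 4, 6, 3, 2, 6, 5, 3, 0, 5, 6, 3, 2, 3, 1, 2, 1, 3, 2, 3, 1, 2, 3, 4, 2, 3, 1, 2, 3, 2, 6, 4, 3, 5, 6, 2, 3, 5, 2] [.out 1023],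
  .sub [6, 4, 3, 5, 6, 2, 3, 5, 2, 2, 3, 6, 2, 3, 5, 4, 3, 6, 4, 0, 4, 1, 2, 6, 0, 4, 6, 3, 2, 6, 5, 3, 0, 5, 6, 3, 2, 3, 1, 2, 1, 3, 2, 3, 1, 2, 3, 4, 2, 3, 1, 2, 3, 2, 6, 4, 3, 5, 6, 2, 3, 5, 2, 2, 3, 6, 2, 3, 5, 4, 3, 6, 4, 0, 4, 1, 2, 6, 0, 4, 6, 3, 2, 6, 5, 3, 0, 5, 6, 3, 2, 3, 1, 2, 1, 3, 2, 3, 1, 2, 3, 4, 2, 3, 1, 2, 3, 2, 6, 4, 3, 5, 6, 2, 3, 5, 2] [.out 793],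
  .sub [4, 1, 2, 6, 0, 4, 6, 3, 2, 6, 5, 3, 0, 5, 6, 3, 2, 3, 1, 2, 1, 3, 2, 3, 1, 2, 3, 4, 2, 3, 1, 2, 3, 2, 4, 1, 2, 6, 0, 4, 6, 3, 2, 6, 5, 3, 0, 5, 6, 3, 2, 3, 1, 2, 1, 3, 2, 3, 1, 2, 3, 4, 2, 3, 1, 2, 3, 2, 6, 4, 3, 5, 6, 2, 3, 5, 2, 4, 1, 2, 6, 0, 4, 6, 3, 2, 6, 5, 3, 0, 5, 6, 3, 2, 3, 1, 2, 1, 3, 2, 3, 1, 2, 3, 4, 2, 3, 1, 2, 3, 2, 2, 3, 6, 2, 3, 5, 4, 3, 6, 4, 0, 4, 1, 2, 6, 0, 4, 6, 3, 2, 6, 5, 3, 0, 5, 6, 3, 2, 3, 1, 2, 1, 3, 2, 3, 1, 2, 3, 4, 2, 3, 1, 2, 3, 2, 6, 4, 3, 5, 6, 2, 3, 5, 2] [.out 352],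
  .sub [4, 1, 2, 6, 0, 4, 6, 3, 2, 6, 5, 3, 0, 5, 6, 3, 2, 3, 1, 2, 1, 3, 2, 3, 1, 2, 3, 4, 2, 3, 1, 2, 3, 2, 2, 3, 1, 0, 1, 2, 2, 3, 6, 2, 3, 5, 4, 3, 6, 4, 0, 4, 1, 2, 6, 0, 4, 6, 3, 2, 6, 5, 3, 0, 5, 6, 3, 2, 3, 1, 2, 1, 3, 2, 3, 1, 2, 3, 4, 2, 3, 1, 2, 3, 2, 2, 3, 6, 2, 3, 5, 4, 3, 6, 4, 0, 4, 1, 2, 6, 0, 4, 6, 3, 2, 6, 5, 3, 0, 5, 6, 3, 2, 3, 1, 2, 1, 3, 2, 3, 1, 2, 3, 4, 2, 3, 1, 2, 3, 2, 6, 4, 3, 5, 6, 2, 3, 5, 2] [.out 1464],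
  .sub [2, 3, 1, 0, 1, 2, 6, 4, 3, 5, 6, 2, 3, 5, 2, 2, 3, 1, 0, 1, 2, 6, 4, 3, 5, 6, 2, 3, 5, 2, 4, 1, 2, 6, 0, 4, 6, 3, 2, 6, 5, 3, 0, 5, 6, 3, 2, 3, 1, 2, 1, 3, 2, 3, 1, 2, 3, 4, 2, 3, 1, 2, 3, 2, 6, 4, 3, 5, 6, 2, 3, 5, 2, 4, 1, 2, 6, 0, 4, 6, 3, 2, 6, 5, 3, 0, 5, 6, 3, 2, 3, 1, 2, 1, 3, 2, 3, 1, 2, 3, 4, 2, 3, 1, 2, 3, 2] [.out 1159],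
  .sub [4, 1, 2, 6, 0, 4, 6, 3, 2, 6, 5, 3, 0, 5, 6, 3, 2, 3, 1, 2, 1, 3, 2, 3, 1, 2, 3, 4, 2, 3, 1, 2, 3, 2, 2, 3, 1, 0, 1, 2, 6, 4, 3, 5, 6, 2, 3, 5, 2, 6, 4, 3, 5, 6, 2, 3, 5, 2, 4, 1, 2, 6, 0, 4, 6, 3, 2, 6, 5, 3, 0, 5, 6, 3, 2, 3, 1, 2, 1, 3, 2, 3, 1, 2, 3, 4, 2, 3, 1, 2, 3, 2, 6, 4, 3, 5, 6, 2, 3, 5, 2, 4, 1, 2, 6, 0, 4, 6, 3, 2, 6, 5, 3, 0, 5, 6, 3, 2, 3, 1, 2, 1, 3, 2, 3, 1, 2, 3, 4, 2, 3, 1, 2, 3, 2] [.out 1022],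
  .sub [6, 4, 3, 5, 6, 2, 3, 5, 2, 4, 1, 2, 6, 0, 4, 6, 3, 2, 6, 5, 3, 0, 5, 6, 3, 2, 3, 1, 2, 1, 3, 2, 3, 1, 2, 3, 4, 2, 3, 1, 2, 3, 2, 4, 1, 2, 6, 0, 4, 6, 3, 2, 6, 5, 3, 0, 5, 6, 3, 2, 3, 1, 2, 1, 3, 2, 3, 1, 2, 3, 4, 2, 3, 1, 2, 3, 2, 6, 4, 3, 5, 6, 2, 3, 5, 2, 4, 1, 2, 6, 0, 4, 6, 3, 2, 6, 5, 3, 0, 5, 6, 3, 2, 3, 1, 2, 1, 3, 2, 3, 1, 2, 3, 4, 2, 3, 1, 2, 3, 2, 6, 4, 3, 5, 6, 2, 3, 5, 2, 4, 1, 2, 6, 0, 4, 6, 3, 2, 6, 5, 3, 0, 5, 6, 3, 2, 3, 1, 2, 1, 3, 2, 3, 1, 2, 3, 4, 2, 3, 1, 2, 3, 2] [.out 1668],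
  .sub [2, 3, 6, 2, 3, 5, 4, 3, 6, 4, 0, 4, 1, 2, 6, 0, 4, 6, 3, 2, 6, 5, 3, 0, 5, 6, 3, 2, 3, 1, 2, 1, 3, 2, 3, 1, 2, 3, 4, 2, 3, 1, 2, 3, 2, 4, 1, 2, 6, 0, 4, 6, 3, 2, 6, 5, 3, 0, 5, 6, 3, 2, 3, 1, 2, 1, 3, 2, 3, 1, 2, 3, 4, 2, 3, 1, 2, 3, 2, 6, 4, 3, 5, 6, 2, 3, 5, 2, 4, 1, 2, 6, 0, 4, 6, 3, 2, 6, 5, 3, 0, 5, 6, 3, 2, 3, 1, 2, 1, 3, 2, 3, 1, 2, 3, 4, 2, 3, 1, 2, 3, 2, 6, 4, 3, 5, 6, 2, 3, 5, 2, 4, 1, 2, 6, 0, 4, 6, 3, 2, 6, 5, 3, 0, 5, 6, 3, 2, 3, 1, 2, 1, 3, 2, 3, 1, 2, 3, 4, 2, 3, 1, 2, 3, 2] [.out 1802],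
  .sub [4, 1, 2, 6, 0, 4, 6, 3, 2, 6, 5, 3, 0, 5, 6, 3, 2, 3, 1, 2, 1, 3, 2, 3, 1, 2, 3, 4, 2, 3, 1, 2, 3, 2, 2, 3, 6, 2, 3, 5, 4, 3, 6, 4, 0, 2, 3, 6, 2, 3, 5, 4, 3, 6, 4, 0, 6, 4, 3, 5, 6, 2, 3, 5, 2, 4, 1, 2, 6, 0, 4, 6, 3, 2, 6, 5, 3, 0, 5, 6, 3, 2, 3, 1, 2, 1, 3, 2, 3, 1, 2, 3, 4, 2, 3, 1, 2, 3, 2, 6, 4, 3, 5, 6, 2, 3, 5, 2, 4, 1, 2, 6, 0, 4, 6, 3, 2, 6, 5, 3, 0, 5, 6, 3, 2, 3, 1, 2, 1, 3, 2, 3, 1, 2, 3, 4, 2, 3, 1, 2, 3, 2] [.done 120],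
  .sub [4, 1, 2, 6, 0, 4, 6, 3, 2, 6, 5, 3, 0, 5, 6, 3, 2, 3, 1, 2, 1, 3, 2, 3, 1, 2, 3, 4, 2, 3, 1, 2, 3, 2, 4, 1, 2, 6, 0, 4, 6, 3, 2, 6, 5, 3, 0, 5, 6, 3, 2, 3, 1, 2, 1, 3, 2, 3, 1, 2, 3, 4, 2, 3, 1, 2, 3, 2, 6, 4, 3, 5, 6, 2, 3, 5, 2, 2, 3, 1, 0, 1, 2, 6, 4, 3, 5, 6, 2, 3, 5, 2, 4, 1, 2, 6, 0, 4, 6, 3, 2, 6, 5, 3, 0, 5, 6, 3, 2, 3, 1, 2, 1, 3, 2, 3, 1, 2, 3, 4, 2, 3, 1, 2, 3, 2, 4, 1, 2, 6, 0, 4, 6, 3, 2, 6, 5, 3, 0, 5, 6, 3, 2, 3, 1, 2, 1, 3, 2, 3, 1, 2, 3, 4, 2, 3, 1, 2, 3, 2] [.out 299],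
  .sub [4, 1, 2, 6, 0, 4, 6, 3, 2, 6, 5, 3, 0, 5, 6, 3, 2, 3, 1, 2, 1, 3, 2, 3, 1, 2, 3, 4, 2, 3, 1, 2, 3, 2, 4, 1, 2, 6, 0, 4, 6, 3, 2, 6, 5, 3, 0, 5, 6, 3, 2, 3, 1, 2, 1, 3, 2, 3, 1, 2, 3, 4, 2, 3, 1, 2, 3, 2, 4, 1, 2, 6, 0, 4, 6, 3, 2, 6, 5, 3, 0, 5, 6, 3, 2, 3, 1, 2, 1, 3, 2, 3, 1, 2, 3, 4, 2, 3, 1, 2, 3, 2, 2, 3, 1, 0, 1, 2, 6, 4, 3, 5, 6, 2, 3, 5, 2, 4, 1, 2, 6, 0, 4, 6, 3, 2, 6, 5, 3, 0, 5, 6, 3, 2, 3, 1, 2, 1, 3, 2, 3, 1, 2, 3, 4, 2, 3, 1, 2, 3, 2, 4, 1, 2, 6, 0, 4, 6, 3, 2, 6, 5, 3, 0, 5, 6, 3, 2, 3, 1, 2, 1, 3, 2, 3, 1, 2, 3, 4, 2, 3, 1, 2, 3, 2] [.out 1777],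
  .sub [4, 1, 2, 6, 0, 4, 6, 3, 2, 6, 5, 3, 0, 5, 6, 3, 2, 3, 1, 2, 1, 3, 2, 3, 1, 2, 3, 4, 2, 3, 1, 2, 3, 2, 2, 3, 6, 2, 3, 5, 4, 3, 6, 4, 0, 4, 1, 2, 6, 0, 4, 6, 3, 2, 6, 5, 3, 0, 5, 6, 3, 2, 3, 1, 2, 1, 3, 2, 3, 1, 2, 3, 4, 2, 3, 1, 2, 3, 2, 2, 3, 1, 0, 1, 2, 6, 4, 3, 5, 6, 2, 3, 5, 2, 4, 1, 2, 6, 0, 4, 6, 3, 2, 6, 5, 3, 0, 5, 6, 3, 2, 3, 1, 2, 1, 3, 2, 3, 1, 2, 3, 4, 2, 3, 1, 2, 3, 2, 4, 1, 2, 6, 0, 4, 6, 3, 2, 6, 5, 3, 0, 5, 6, 3, 2, 3, 1, 2, 1, 3, 2, 3, 1, 2, 3, 4, 2, 3, 1, 2, 3, 2] [.out 1370],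
  .sub [4, 1, 2, 6, 0, 4, 6, 3, 2, 6, 5, 3, 0, 5, 6, 3, 2, 3, 1, 2, 1, 3, 2, 3, 1, 2, 3, 4, 2, 3, 1, 2, 3, 2, 4, 1, 2, 6, 0, 4, 6, 3, 2, 6, 5, 3, 0, 5, 6, 3, 2, 3, 1, 2, 1, 3, 2, 3, 1, 2, 3, 4, 2, 3, 1, 2, 3, 2, 2, 3, 1, 0, 1, 2, 6, 4, 3, 5, 6, 2, 3, 5, 2, 6, 4, 3, 5, 6, 2, 3, 5, 2, 4, 1, 2, 6, 0, 4, 6, 3, 2, 6, 5, 3, 0, 5, 6, 3, 2, 3, 1, 2, 1, 3, 2, 3, 1, 2, 3, 4, 2, 3, 1, 2, 3, 2, 4, 1, 2, 6, 0, 4, 6, 3, 2, 6, 5, 3, 0, 5, 6, 3, 2, 3, 1, 2, 1, 3, 2, 3, 1, 2, 3, 4, 2, 3, 1, 2, 3, 2] [.out 182],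
  .sub [2, 3, 1, 0, 1, 2, 6, 4, 3, 5, 6, 2, 3, 5, 2, 4, 1, 2, 6, 0, 4, 6, 3, 2, 6, 5, 3, 0, 5, 6, 3, 2, 3, 1, 2, 1, 3, 2, 3, 1, 2, 3, 4, 2, 3, 1, 2, 3, 2, 6, 4, 3, 5, 6, 2, 3, 5, 2, 6, 4, 3, 5, 6, 2, 3, 5, 2, 4, 1, 2, 6, 0, 4, 6, 3, 2, 6, 5, 3, 0, 5, 6, 3, 2, 3, 1, 2, 1, 3, 2, 3, 1, 2, 3, 4, 2, 3, 1, 2, 3, 2, 4, 1, 2, 6, 0, 4, 6, 3, 2, 6, 5, 3, 0, 5, 6, 3, 2, 3, 1, 2, 1, 3, 2, 3, 1, 2, 3, 4, 2, 3, 1, 2, 3, 2] [.out 819],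
  .sub [2, 3, 6, 2, 3, 5, 4, 3, 6, 4, 0, 4, 1, 2, 6, 0, 4, 6, 3, 2, 6, 5, 3, 0, 5, 6, 3, 2, 3, 1, 2, 1, 3, 2, 3, 1, 2, 3, 4, 2, 3, 1, 2, 3, 2, 4, 1, 2, 6, 0, 4, 6, 3, 2, 6, 5, 3, 0, 5, 6, 3, 2, 3, 1, 2, 1, 3, 2, 3, 1, 2, 3, 4, 2, 3, 1, 2, 3, 2, 6, 4, 3, 5, 6, 2, 3, 5, 2, 6, 4, 3, 5, 6, 2, 3, 5, 2, 4, 1, 2, 6, 0, 4, 6, 3, 2, 6, 5, 3, 0, 5, 6, 3, 2, 3, 1, 2, 1, 3, 2, 3, 1, 2, 3, 4, 2, 3, 1, 2, 3, 2, 4, 1, 2, 6, 0, 4, 6, 3, 2, 6, 5, 3, 0, 5, 6, 3, 2, 3, 1, 2, 1, 3, 2, 3, 1, 2, 3, 4, 2, 3, 1, 2, 3, 2] [.done 121],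
  .sub [2, 3, 6, 2, 3, 5, 4, 3, 6, 4, 0, 4, 1, 2, 6, 0, 4, 6, 3, 2, 6, 5, 3, 0, 5, 6, 3, 2, 3, 1, 2, 1, 3, 2, 3, 1, 2, 3, 4, 2, 3, 1, 2, 3, 2, 4, 1, 2, 6, 0, 4, 6, 3, 2, 6, 5, 3, 0, 5, 6, 3, 2, 3, 1, 2, 1, 3, 2, 3, 1, 2, 3, 4, 2, 3, 1, 2, 3, 2, 4, 1, 2, 6, 0, 4, 6, 3, 2, 6, 5, 3, 0, 5, 6, 3, 2, 3, 1, 2, 1, 3, 2, 3, 1, 2, 3, 4, 2, 3, 1, 2, 3, 2, 6, 4, 3, 5, 6, 2, 3, 5, 2, 4, 1, 2, 6, 0, 4, 6, 3, 2, 6, 5, 3, 0, 5, 6, 3, 2, 3, 1, 2, 1, 3, 2, 3, 1, 2, 3, 4, 2, 3, 1, 2, 3, 2, 4, 1, 2, 6, 0, 4, 6, 3, 2, 6, 5, 3, 0, 5, 6, 3, 2, 3, 1, 2, 1, 3, 2, 3, 1, 2, 3, 4, 2, 3, 1, 2, 3, 2] [.done 122],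
  .sub [4, 1, 2, 6, 0, 4, 6, 3, 2, 6, 5, 3, 0, 5, 6, 3, 2, 3, 1, 2, 1, 3, 2, 3, 1, 2, 3, 4, 2, 3, 1, 2, 3, 2, 2, 3, 6, 2, 3, 5, 4, 3, 6, 4, 0, 4, 1, 2, 6, 0, 4, 6, 3, 2, 6, 5, 3, 0, 5, 6, 3, 2, 3, 1, 2, 1, 3, 2, 3, 1, 2, 3, 4, 2, 3, 1, 2, 3, 2, 2, 3, 6, 2, 3, 5, 4, 3, 6, 4, 0, 6, 4, 3, 5, 6, 2, 3, 5, 2, 4, 1, 2, 6, 0, 4, 6, 3, 2, 6, 5, 3, 0, 5, 6, 3, 2, 3, 1, 2, 1, 3, 2, 3, 1, 2, 3, 4, 2, 3, 1, 2, 3, 2, 4, 1, 2, 6, 0, 4, 6, 3, 2, 6, 5, 3, 0, 5, 6, 3, 2, 3, 1, 2, 1, 3, 2, 3, 1, 2, 3, 4, 2, 3, 1, 2, 3, 2] [.out 70],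
  .sub [6, 4, 3, 5, 6, 2, 3, 5, 2, 4, 1, 2, 6, 0, 4, 6, 3, 2, 6, 5, 3, 0, 5, 6, 3, 2, 3, 1, 2, 1, 3, 2, 3, 1, 2, 3, 4, 2, 3, 1, 2, 3, 2, 2, 3, 6, 2, 3, 5, 4, 3, 6, 4, 0, 2, 3, 6, 2, 3, 5, 4, 3, 6, 4, 0, 6, 4, 3, 5, 6, 2, 3, 5, 2, 4, 1, 2, 6, 0, 4, 6, 3, 2, 6, 5, 3, 0, 5, 6, 3, 2, 3, 1, 2, 1, 3, 2, 3, 1, 2, 3, 4, 2, 3, 1, 2, 3, 2, 4, 1, 2, 6, 0, 4, 6, 3, 2, 6, 5, 3, 0, 5, 6, 3, 2, 3, 1, 2, 1, 3, 2, 3, 1, 2, 3, 4, 2, 3, 1, 2, 3, 2] [.done 123],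
  .sub [2, 3, 6, 2, 3, 5, 4, 3, 6, 4, 0, 4, 1, 2, 6, 0, 4, 6, 3, 2, 6, 5, 3, 0, 5, 6, 3, 2, 3, 1, 2, 1, 3, 2, 3, 1, 2, 3, 4, 2, 3, 1, 2, 3, 2, 2, 3, 6, 2, 3, 5, 4, 3, 6, 4, 0, 2, 3, 6, 2, 3, 5, 4, 3, 6, 4, 0, 6, 4, 3, 5, 6, 2, 3, 5, 2, 4, 1, 2, 6, 0, 4, 6, 3, 2, 6, 5, 3, 0, 5, 6, 3, 2, 3, 1, 2, 1, 3, 2, 3, 1, 2, 3, 4, 2, 3, 1, 2, 3, 2, 4, 1, 2, 6, 0, 4, 6, 3, 2, 6, 5, 3, 0, 5, 6, 3, 2, 3, 1, 2, 1, 3, 2, 3, 1, 2, 3, 4, 2, 3, 1, 2, 3, 2] [.out 70],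
  .sub [4, 1, 2, 6, 0, 4, 6, 3, 2, 6, 5, 3, 0, 5, 6, 3, 2, 3, 1, 2, 1, 3, 2, 3, 1, 2, 3, 4, 2, 3, 1, 2, 3, 2, 4, 1, 2, 6, 0, 4, 6, 3, 2, 6, 5, 3, 0, 5, 6, 3, 2, 3, 1, 2, 1, 3, 2, 3, 1, 2, 3, 4, 2, 3, 1, 2, 3, 2, 4, 1, 2, 6, 0, 4, 6, 3, 2, 6, 5, 3, 0, 5, 6, 3, 2, 3, 1, 2, 1, 3, 2, 3, 1, 2, 3, 4, 2, 3, 1, 2, 3, 2, 6, 4, 3, 5, 6, 2, 3, 5, 2, 4, 1, 2, 6, 0, 4, 6, 3, 2, 6, 5, 3, 0, 5, 6, 3, 2, 3, 1, 2, 1, 3, 2, 3, 1, 2, 3, 4, 2, 3, 1, 2, 3, 2, 4, 1, 2, 6, 0, 4, 6, 3, 2, 6, 5, 3, 0, 5, 6, 3, 2, 3, 1, 2, 1, 3, 2, 3, 1, 2, 3, 4, 2, 3, 1, 2, 3, 2, 4, 1, 2, 6, 0, 4, 6, 3, 2, 6, 5, 3, 0, 5, 6, 3, 2, 3, 1, 2, 1, 3, 2, 3, 1,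 2, 3, 4, 2, 3, 1, 2, 3, 2] [.out 182],
  .sub [2, 3, 1, 0, 1, 2, 2, 3, 6, 2, 3, 5, 4, 3, 6, 4, 0, 4, 1, 2, 6, 0, 4, 6, 3, 2, 6, 5, 3, 0, 5, 6, 3, 2, 3, 1, 2, 1, 3, 2, 3, 1, 2, 3, 4, 2, 3, 1, 2, 3, 2, 6, 4, 3, 5, 6, 2, 3, 5, 2, 4, 1, 2, 6, 0, 4, 6, 3, 2, 6, 5, 3, 0, 5, 6, 3, 2, 3, 1, 2, 1, 3, 2, 3, 1, 2, 3, 4, 2, 3, 1, 2, 3, 2, 4, 1, 2, 6, 0, 4, 6, 3, 2, 6, 5, 3, 0, 5, 6, 3, 2, 3, 1, 2, 1, 3, 2, 3, 1, 2, 3, 4, 2, 3, 1, 2, 3, 2, 4, 1, 2, 6, 0, 4, 6, 3, 2, 6, 5, 3, 0, 5, 6, 3, 2, 3, 1, 2, 1, 3, 2, 3, 1, 2, 3, 4, 2, 3, 1, 2, 3, 2] [.done 124],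
  .sub [6, 4, 3, 5, 6, 2, 3, 5, 2, 4, 1, 2, 6, 0, 4, 6, 3, 2, 6, 5, 3, 0, 5, 6, 3, 2, 3, 1, 2, 1, 3, 2, 3, 1, 2, 3, 4, 2, 3, 1, 2, 3, 2, 6, 4, 3, 5, 6, 2, 3, 5, 2, 4, 1, 2, 6, 0, 4, 6, 3, 2, 6, 5, 3, 0, 5, 6, 3, 2, 3, 1, 2, 1, 3, 2, 3, 1, 2, 3, 4, 2, 3, 1, 2, 3, 2, 4, 1, 2, 6, 0, 4, 6, 3, 2, 6, 5, 3, 0, 5, 6, 3, 2, 3, 1, 2, 1, 3, 2, 3, 1, 2, 3, 4, 2, 3, 1, 2, 3, 2, 2, 3, 1, 0, 1, 2, 2, 3, 6, 2, 3, 5, 4, 3, 6, 4, 0] [.out 837],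
  .sub [2, 3, 1, 0, 1, 2, 6, 4, 3, 5, 6, 2, 3, 5, 2, 4, 1, 2, 6, 0, 4, 6, 3, 2, 6, 5, 3, 0, 5, 6, 3, 2, 3, 1, 2, 1, 3, 2, 3, 1, 2, 3, 4, 2, 3, 1, 2, 3, 2, 2, 3, 6, 2, 3, 5, 4, 3, 6, 4, 0, 6, 4, 3, 5, 6, 2, 3, 5, 2, 4, 1, 2, 6, 0, 4, 6, 3, 2, 6, 5, 3, 0, 5, 6, 3, 2, 3, 1, 2, 1, 3, 2, 3, 1, 2, 3, 4, 2, 3, 1, 2, 3, 2, 2, 3, 6, 2, 3, 5, 4, 3, 6, 4, 0] [.out 281],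
  .sub [4, 1, 2, 6, 0, 4, 6, 3, 2, 6, 5, 3, 0, 5, 6, 3, 2, 3, 1, 2, 1, 3, 2, 3, 1, 2, 3, 4, 2, 3, 1, 2, 3, 2, 6, 4, 3, 5, 6, 2, 3, 5, 2, 4, 1, 2, 6, 0, 4, 6, 3, 2, 6, 5, 3, 0, 5, 6, 3, 2, 3, 1, 2, 1, 3, 2, 3, 1, 2, 3, 4, 2, 3, 1, 2, 3, 2, 2, 3, 6, 2, 3, 5, 4, 3, 6, 4, 0, 6, 4, 3, 5, 6, 2, 3, 5, 2, 4, 1, 2, 6, 0, 4, 6, 3, 2, 6, 5, 3, 0, 5, 6, 3, 2, 3, 1, 2, 1, 3, 2, 3, 1, 2, 3, 4, 2, 3, 1, 2, 3, 2, 2, 3, 6, 2, 3, 5, 4, 3, 6, 4, 0] [.out 837],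
  .sub [2, 3, 6, 2, 3, 5, 4, 3, 6, 4, 0, 2, 3, 6, 2, 3, 5, 4, 3, 6, 4, 0, 4, 1, 2, 6, 0, 4, 6, 3, 2, 6, 5, 3, 0, 5, 6, 3, 2, 3, 1, 2, 1, 3, 2, 3, 1, 2, 3, 4, 2, 3, 1, 2, 3, 2, 2, 3, 6, 2, 3, 5, 4, 3, 6, 4, 0, 6, 4, 3, 5, 6, 2, 3, 5, 2, 4, 1, 2, 6, 0, 4, 6, 3, 2, 6, 5, 3, 0, 5, 6, 3, 2, 3, 1, 2, 1, 3, 2, 3, 1, 2, 3, 4, 2, 3, 1, 2, 3, 2, 2, 3, 6, 2, 3, 5, 4, 3, 6, 4, 0] [.done 125],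
  .sub [2, 3, 1, 0, 1, 2, 6, 4, 3, 5, 6, 2, 3, 5, 2, 2, 3, 1, 0, 1, 2, 6, 4, 3, 5, 6, 2, 3, 5, 2, 4, 1, 2, 6, 0, 4, 6, 3, 2, 6, 5, 3, 0, 5, 6, 3, 2, 3, 1, 2, 1, 3, 2, 3, 1, 2, 3, 4, 2, 3, 1, 2, 3, 2, 2, 3, 6, 2, 3, 5, 4, 3, 6, 4, 0, 2, 3, 6, 2, 3, 5, 4, 3, 6, 4, 0] [.out 1777],
  .sub [4, 1, 2, 6, 0, 4, 6, 3, 2, 6, 5, 3, 0, 5, 6, 3, 2, 3, 1, 2, 1, 3, 2, 3, 1, 2, 3, 4, 2, 3, 1, 2, 3, 2, 2, 3, 1, 0, 1, 2, 6, 4, 3, 5, 6, 2, 3, 5, 2, 6, 4, 3, 5, 6, 2, 3, 5, 2, 4, 1, 2, 6, 0, 4, 6, 3, 2, 6, 5, 3, 0, 5, 6, 3, 2, 3, 1, 2, 1, 3, 2, 3, 1, 2, 3, 4, 2, 3, 1, 2, 3, 2, 2, 3, 6, 2, 3, 5, 4, 3, 6, 4, 0, 2, 3, 6, 2, 3, 5, 4, 3,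 6, 4, 0] [.out 841],
  .sub [2, 3, 6, 2, 3, 5, 4, 3, 6, 4, 0, 4, 1, 2, 6, 0, 4, 6, 3, 2, 6, 5, 3, 0, 5, 6, 3, 2, 3, 1, 2, 1, 3, 2, 3, 1, 2, 3, 4, 2, 3, 1, 2, 3, 2, 2, 3, 6, 2, 3, 5, 4, 3, 6, 4, 0, 6, 4, 3, 5, 6, 2, 3, 5, 2, 4, 1, 2, 6, 0, 4, 6, 3, 2, 6, 5, 3, 0, 5, 6, 3, 2, 3, 1, 2, 1, 3, 2, 3, 1, 2, 3, 4, 2, 3, 1, 2, 3, 2, 2, 3, 6, 2, 3, 5, 4, 3, 6, 4, 0, 2, 3, 6, 2, 3, 5, 4, 3, 6, 4, 0] [.done 126],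
  .sub [4, 1, 2, 6, 0, 4, 6, 3, 2, 6, 5, 3, 0, 5, 6, 3, 2, 3, 1, 2, 1, 3, 2, 3, 1, 2, 3, 4, 2, 3, 1, 2, 3, 2, 2, 3, 6, 2, 3, 5, 4, 3, 6, 4, 0, 2, 3, 6, 2, 3, 5, 4, 3, 6, 4, 0, 6, 4, 3, 5, 6, 2, 3, 5, 2, 4, 1, 2, 6, 0, 4, 6, 3, 2, 6, 5, 3, 0, 5, 6, 3, 2, 3, 1, 2, 1, 3, 2, 3, 1, 2, 3, 4, 2, 3, 1, 2, 3, 2, 2, 3, 6, 2, 3, 5, 4, 3, 6, 4, 0, 2, 3, 6, 2, 3, 5, 4, 3, 6, 4, 0] [.out 182],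
  .sub [2, 3, 6, 2, 3, 5, 4, 3, 6, 4, 0, 4, 1, 2, 6, 0, 4, 6, 3, 2, 6, 5, 3, 0, 5, 6, 3, 2, 3, 1, 2, 1, 3, 2, 3, 1, 2, 3, 4, 2, 3, 1, 2, 3, 2, 4, 1, 2, 6, 0, 4, 6, 3, 2, 6, 5, 3, 0, 5, 6, 3, 2, 3, 1, 2, 1, 3, 2, 3, 1, 2, 3, 4, 2, 3, 1, 2, 3, 2, 6, 4, 3, 5, 6, 2, 3, 5, 2, 6, 4, 3, 5, 6, 2, 3, 5, 2, 4, 1, 2, 6, 0, 4, 6, 3, 2, 6, 5, 3, 0, 5, 6, 3, 2, 3, 1, 2, 1, 3, 2, 3, 1, 2, 3, 4, 2, 3, 1, 2, 3, 2, 2, 3, 1, 0, 1, 2, 6, 4, 3, 5, 6, 2, 3, 5, 2] [.out 1237],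
  .sub [4, 1, 2, 6, 0, 4, 6, 3, 2, 6, 5, 3, 0, 5, 6, 3, 2, 3, 1, 2, 1, 3, 2, 3, 1, 2, 3, 4, 2, 3, 1, 2, 3, 2, 4, 1, 2, 6, 0, 4, 6, 3, 2, 6, 5, 3, 0, 5, 6, 3, 2, 3, 1, 2, 1, 3, 2, 3, 1, 2, 3, 4, 2, 3, 1, 2, 3, 2, 6, 4, 3, 5, 6, 2, 3, 5, 2, 2, 3, 1, 0, 1, 2, 6, 4, 3, 5, 6, 2, 3, 5, 2, 4, 1, 2, 6, 0, 4, 6, 3, 2, 6, 5, 3, 0, 5, 6, 3, 2, 3, 1, 2, 1, 3, 2, 3, 1, 2, 3, 4, 2, 3, 1, 2, 3, 2, 6, 4, 3, 5, 6, 2, 3, 5, 2, 6, 4, 3, 5, 6, 2, 3, 5, 2] [.out 116],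
  .sub [2, 3, 6, 2, 3, 5, 4, 3, 6, 4, 0, 2, 3, 6, 2, 3, 5, 4, 3, 6, 4, 0, 4, 1, 2, 6, 0, 4, 6, 3, 2, 6, 5, 3, 0, 5, 6, 3, 2, 3, 1, 2, 1, 3, 2, 3, 1, 2, 3, 4, 2, 3, 1, 2, 3, 2, 4, 1, 2, 6, 0, 4, 6, 3, 2, 6, 5, 3, 0, 5, 6, 3, 2, 3, 1, 2, 1, 3, 2, 3, 1, 2, 3, 4, 2, 3, 1, 2, 3, 2, 6, 4, 3, 5, 6, 2, 3, 5, 2, 4, 1, 2, 6, 0, 4, 6, 3, 2, 6, 5, 3, 0, 5, 6, 3, 2, 3, 1, 2, 1, 3, 2, 3, 1, 2, 3, 4, 2, 3, 1, 2, 3, 2, 6, 4, 3, 5, 6, 2, 3, 5, 2, 4, 1, 2, 6, 0, 4, 6, 3, 2, 6, 5, 3, 0, 5, 6, 3, 2, 3, 1, 2, 1, 3, 2, 3, 1, 2, 3, 4, 2, 3, 1, 2, 3, 2] [.done 127]]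

/-- Branches. -/
def kidsZAll18 : List Branch :=
  ([kidsZPart16, kidsZPart17] : List (List Branch)).flatten

/-- All branches. -/
def kidsZ : List Branch := [.sub [] [.out 2, .sub [] kidsZAll15], .sub [19, 27, 23, 3] [.sub [23, 2, 6, 10, 2, 6, 10, 23, 28] kidsZAll18, .out 2]]

/-- How each base point is restricted. -/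
def modesZ : List Mode := [.fixd, .fixd, .free, .det 2 1]

/-- The fixed points. -/
def fixZ : List ℕ := [2, 1100]

end CfsgLib.Spor.HeldOut
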