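import Cfsg.Agent.Lib.Spor.HeldOut.CheckChainX
import Cfsg.Agent.Lib.Spor.HeldOut.CheckChainZ
import Cfsg.Agent.Lib.Spor.HeldOut.CheckX
import Cfsg.Agent.Lib.Spor.HeldOut.CheckZ
import Cfsg.Agent.Lib.Spor.HeldOut.CheckElts
import Cfsg.Agent.Lib.Spor.HeldOut.CheckCands
import Cfsg.Agent.Lib.Spor.Held.Order
import Cfsg.Agent.Lib.Spor.Held.Cox

/-!
The outer automorphism group of the Held group has order two.
-/

set_option autoImplicit false

namespace CfsgLib.Spor.HeldOut

open Cfsg CfsgLib.Spor.TC CfsgLib.Spor.ActCert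

instance neZero_points : NeZero CfsgLib.Spor.Held.ActH.act.n := ⟨Nat.succ_ne_zero 2057⟩

theorem exact_of {Ls : List WLevel}
    (h : chainW CfsgLib.Spor.Held.ActH.act [] Ls = true ∧ chainProd Ls = 4030387200) :
    Exact Held.ActH.valid Ls :=
  ⟨h.1, Held.rho_injective_held, by rw [Held.card_held, h.2], by rw [h.2]; norm_num⟩

theorem out_pres : Nat.card (Out (Pres CfsgLib.Spor.Held.ActH.act.k CfsgLib.Spor.Held.relsG)) = 2 := by
  haveI : Fact dat.p.Prime := ⟨by norm_num [dat]⟩
  refine out_two dat (exact_of chainZ_ok) ?_ (by decide) (by decide) ?_ elts_ok (exact_of chainX_ok) modesX_ok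
    searchX_ok (exact_of chainZ_ok) modesZ_ok searchZ_ok cands_ok
  · rw [Held.card_held, show dat.p = 17 from rfl, show (4030387200 : ℕ) = 17 ^ 1 * 237081600 by norm_num,
      Nat.factorization_mul (by norm_num) (by norm_num), Nat.factorization_pow, Finsupp.add_apply,
      Finsupp.smul_apply, Nat.Prime.factorization_self (by norm_num),
      Nat.factorization_eq_zero_of_not_dvd (by norm_num)]
    rfl
  · have h : ∀ k < 17, k ≠ 0 → ∃ i < 8, k * dat.r ^ i % dat.p ∈ dat.S := by decide
    intro k hk h0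
    obtain ⟨i, -, hi⟩ := h k hk h0
    exact ⟨i, hi⟩

theorem out_He : Nat.card (Out Cfsg.Spor.He) = 2 := by
  obtain ⟨e, -⟩ := Held.exists_equiv_gen
  exact (out_card_congr e).symm.trans out_pres

end CfsgLib.Spor.HeldOut
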