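import Cfsg.Agent.Lib.Spor.ActCert.Out

/-!
The named elements.
-/

set_option autoImplicit false
set_option maxRecDepth 100000
set_option maxHeartbeats 0

namespace CfsgLib.Spor.HeldOut

open CfsgLib.Spor.TC CfsgLib.Spor.ActCert

/-- The data. -/
def dat : OutData where
  p := 17
  r := 8
  d := 2
  xw := [2, 5, 1, 6, 4, 3, 5, 3, 5, 2, 6, 3, 2, 6, 5, 3, 2, 0, 6, 4, 3, 5, 1, 2, 3, 6, 1, 2, 3, 4, 3, 2]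
  yw := [2, 5, 2, 0, 6, 0, 3, 2, 3, 6, 3, 0, 5, 1, 2, 1, 3, 6, 3, 2, 1, 4, 3, 5, 6, 2, 3, 5, 4, 1, 2, 3, 2, 3, 1, 2]
  ww := [2, 6, 5, 0, 3, 2, 0, 3, 6, 0, 1, 0, 6, 2, 0, 6, 3, 1, 2, 3, 4, 2, 6, 3, 4, 3, 1, 2, 3, 1, 2, 3, 6, 3, 4, 3, 1, 2]
  S := [1, 3]
  forms := [([1, 16], 3), ([2, 6], 3)]
  gens := [[0, 0, 0, 0, 0, 0, 0, 0, 0, 0, 0, 0, 0, 0, 0, 1, 0, 1, 0, 0, 0, 0, 0, 0, 0, 0, 1, 0, 0, 0, 0, 0, 0, 0, 0, 0, 1, 0, 0, 0, 0, 0, 0, 1, 0, 0, 0, 0, 0, 0, 0, 0, 1, 0, 0, 0, 0, 1],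
    [1, 0, 0, 0, 0, 0, 1, 0, 0, 0, 0, 0, 0, 0, 0, 0, 1, 0, 0, 0, 0, 0, 0, 0, 0, 0, 0, 0, 0, 0, 0, 1, 0, 0, 0, 0, 0, 0, 1, 0, 0, 0, 0, 0, 0, 0, 0, 0, 1, 0, 1, 0, 0, 0, 0, 0, 0, 0, 0, 0, 0, 0, 0, 1, 0, 0, 1, 0, 0, 0, 1],
    [0, 1, 0, 0, 0, 0, 1, 0, 0, 0, 1, 0, 0, 0, 0, 0, 0, 0, 0, 0, 0, 0, 0, 1, 0, 0, 0, 0, 0, 0, 0, 1, 0, 0, 0, 0, 0, 0, 0, 0, 0, 0, 0, 0, 0, 0, 1, 0, 0, 0, 0, 0, 0, 0, 1, 0, 0, 0, 1, 0, 0, 0, 0, 0, 0, 1],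
    [0, 0, 0, 0, 1, 0, 0, 1, 0, 0, 0, 0, 0, 0, 0, 1, 0, 0, 0, 0, 0, 0, 0, 0, 0, 0, 0, 0, 0, 0, 0, 1, 0, 0, 0, 0, 0, 0, 1, 0, 0, 1, 0, 0, 0, 0, 0, 0, 0, 1, 0, 0, 1, 0],
    [0, 0, 0, 0, 0, 1, 0, 0, 0, 0, 1, 0, 0, 0, 1, 0, 0, 0, 0, 0, 0, 0, 0, 0, 0, 0, 1, 0, 0, 0, 0, 0, 0, 0, 0, 0, 0, 0, 0, 0, 0, 0, 1, 0, 1, 0, 0, 0, 0, 1, 0, 0, 0, 0, 0, 0, 1, 0, 1, 0, 1],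
    [0, 0, 0, 0, 0, 0, 0, 0, 0, 0, 0, 1, 1, 0, 0, 0, 0, 0, 1, 0, 0, 0, 0, 0, 1, 0, 0, 0, 0, 0, 0, 0, 0, 0, 0, 0, 0, 1, 0, 0, 0, 0, 0, 1, 0, 0, 0, 0, 0, 0, 0, 0, 0, 0, 0, 0, 1, 0],
    [0, 0, 0, 0, 0, 0, 0, 0, 0, 0, 0, 0, 1, 0, 0, 0, 0, 0, 0, 0, 0, 0, 0, 0, 0, 0, 0, 1, 0, 0, 0, 0, 0, 0, 1, 0, 0, 0, 0, 0, 0, 0, 0, 0, 0, 0, 0, 1, 0, 0, 0, 0, 0, 0, 0, 0, 0, 0, 0, 0, 1, 0, 0, 0, 0, 1, 0, 1, 0, 0, 0, 0, 0, 0, 1, 0, 0, 0, 0, 0, 0, 0, 0, 0, 0, 0, 0, 0, 0, 0, 0, 1, 0, 0, 0, 0, 0, 0, 0, 0, 0, 0, 0, 0, 0, 1, 0]]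
  s2 := 3
  w2 := [0, 6, 0, 5, 3, 1, 5, 0, 2, 6, 1, 5, 0, 4, 3, 6, 2, 3, 2, 3, 6, 3, 2, 3, 6, 3, 4, 1, 2, 3, 5, 6, 0]
  gens2 := [[0, 0, 0, 0, 0, 0, 0, 0, 0, 0, 0, 0, 0, 0, 0, 1, 0, 0, 1, 0, 0, 0, 0, 0, 0, 0, 0, 0, 0, 0, 0, 0, 0, 0, 1, 0, 0, 0, 0, 0, 0, 0, 0, 0, 0, 0, 0, 1, 0, 0, 0, 0, 0, 0, 0, 0, 0, 0, 0, 0, 0, 0, 1, 0, 0, 0, 0, 0, 0, 0, 0, 0, 0, 0, 0, 0, 0, 0, 0, 1, 0, 0, 0, 0, 1, 0, 0, 0, 0, 0, 0, 1],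
    [0, 0, 0, 0, 0, 0, 1, 0, 0, 0, 0, 0, 0, 0, 0, 0, 0, 0, 0, 0, 0, 0, 0, 1, 0, 0, 0, 0, 0, 1, 0, 0, 0, 0, 0, 1, 0, 0, 1, 0, 0, 1, 0, 0, 0, 0, 0, 0, 0, 0, 1, 0, 0, 0, 0, 0, 0, 0, 0, 0, 0, 1, 0, 0, 0, 1, 0, 0, 0, 0, 0],
    [1, 0, 0, 0, 0, 0, 0, 0, 0, 1, 0, 0, 0, 0, 0, 0, 0, 0, 0, 0, 0, 0, 1, 0, 0, 0, 0, 0, 0, 0, 0, 0, 0, 0, 0, 0, 1, 0, 0, 0, 0, 0, 0, 0, 0, 0, 0, 0, 0, 0, 1, 0, 0, 0, 0, 1, 0, 0, 0, 0, 0, 0, 0, 0, 0, 0, 1, 0, 0, 0, 1, 0, 0, 0, 0, 0, 0, 0, 0, 0, 0, 0, 0, 0, 0, 0, 0, 1, 0, 0, 0, 0, 0, 1, 0, 0, 0, 0],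
    [0, 1, 0, 0, 0, 0, 0, 1, 0, 1, 0, 0, 0, 0, 0, 0, 0, 0, 0, 0, 1, 0, 0, 0, 0, 0, 0, 0, 0, 0, 0, 1, 1, 0, 0, 0, 0, 0, 1, 0, 0, 0, 0, 0, 0, 0, 0, 0, 0, 0, 1, 0, 0, 0, 1, 0, 1, 0, 0, 0, 0],
    [0, 0, 0, 0, 0, 0, 1, 0, 0, 0, 1, 0, 0, 0, 0, 0, 0, 0, 0, 0, 0, 0, 1, 0, 0, 0, 0, 0, 0, 0, 0, 0, 0, 0, 0, 0, 0, 0, 0, 1, 0, 0, 0, 0, 0, 0, 0, 1, 0, 0, 0, 0, 0, 0, 0, 0, 0, 0, 0, 0, 0, 0, 0, 0, 1, 0, 0, 0, 0, 0, 0, 0, 0, 0, 0, 0, 1, 0, 0, 0, 1, 0, 0, 0, 0, 0, 0, 0, 0, 0, 0, 0],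
    [0, 0, 0, 0, 0, 1, 0, 1, 0, 0, 0, 0, 0, 0, 0, 0, 0, 0, 1, 0, 0, 0, 0, 0, 0, 0, 0, 0, 0, 1, 0, 0, 0, 0, 0, 1, 0, 0, 0, 0, 0, 0, 0, 0, 0, 0, 0, 0, 0, 0, 0, 0, 1, 0, 0, 0, 0, 0, 0, 1, 0, 0, 1, 0, 0, 0, 0, 1],
    [1, 0, 0, 0, 0, 0, 0, 0, 1, 0, 0, 0, 0, 0, 0, 0, 0, 0, 0, 1, 0, 0, 0, 0, 0, 0, 0, 0, 0, 0, 1, 0, 0, 0, 0, 0, 0, 0, 0, 0, 0, 0, 0, 0, 0, 1, 0, 0, 0, 0, 0, 0, 0, 1, 0, 0, 0, 0, 0, 0, 0, 1, 0, 0, 0, 1]]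
  sigma := [[1, 2, 3, 2, 4, 1, 6, 0, 4, 3, 5, 0, 3, 2, 3, 2, 3, 5, 1, 6, 3, 6, 3, 6, 1, 2, 3, 5, 2, 3, 4, 1, 2, 3, 2, 1],
    [0, 1, 3, 1, 3, 1, 2, 5, 4, 0, 1, 2, 3, 2, 3, 5, 4, 3, 2, 3, 5, 1, 2],
    [0, 6, 3, 6, 3, 0, 4, 0, 1, 3, 2, 1, 0, 3, 2, 0, 3, 0, 2, 0, 6, 3, 1, 2, 4, 3, 4, 0, 1, 0, 6, 4, 3, 2, 3, 2, 3, 1, 2, 3, 6, 4, 3, 0],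
    [3, 1, 6, 3, 5, 2, 3, 4, 2, 3, 2, 5, 2, 1, 2, 5, 3, 4, 5, 2, 5, 1, 3, 6, 2, 3, 5, 6, 3, 2, 3, 6, 4, 2, 3, 1],
    [4, 2, 4, 6, 1, 4, 6, 3, 4, 2, 1, 0, 5, 3, 6, 0, 2, 4, 5, 3, 4, 5, 3, 6, 2, 1, 3, 4, 3, 5, 2, 3, 4, 2, 3, 5, 2, 3, 1, 2, 1],
    [6, 2, 3, 1, 2, 3, 6, 2, 3, 2, 3, 6, 1, 2],
    [3, 5, 0, 1, 2, 6, 4, 3, 1, 2, 6, 0, 5, 3, 2, 3, 6, 1, 6, 5, 0, 5, 2, 6, 1, 5, 3, 6, 2, 3, 5, 2, 3, 1, 2, 3, 5, 1, 2, 0]]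

/-- The centralizer of the power of the normalizing element. -/
def allowed : List (List ℕ) := [
  [],
  [5, 3, 5, 2, 1, 6, 1, 0, 2, 6, 2, 4, 3, 6, 5, 4, 0, 1, 5, 3, 2, 3, 1, 2, 3, 5, 3, 2, 3, 6, 2],
  [3, 5, 4, 2, 3, 6, 4, 3, 5, 2, 3, 1, 0, 1],
  [5, 4, 3, 4, 2, 4, 6, 3, 0, 1, 0, 5, 4, 5, 4, 1, 6, 2, 1, 4, 3, 0, 6, 2, 3, 2, 3, 1, 2, 3, 4, 2, 3],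
  [6, 5, 0, 3, 1, 0, 2, 1, 3, 5, 0, 6, 2, 0, 3, 2, 5, 3, 5, 6, 3, 4, 2, 3, 6, 1, 2, 3, 5, 6],
  [6, 2, 3, 2, 3, 4, 1, 3, 6, 3, 5, 4, 3, 1, 3, 1, 2, 1, 2, 3, 4, 3, 6, 2, 3, 2, 3, 0, 1, 2, 3, 6, 2, 3, 4, 3],
  [0, 2, 6, 0, 5, 3, 2, 3, 6, 3, 4, 3, 5, 4, 5, 6, 1, 0, 5, 0, 1, 2, 3, 6, 1, 2, 3, 2, 3, 4, 1, 2, 3],
  [6, 3, 0, 3, 2, 4, 0, 6, 3, 2, 4, 5, 4, 3, 1, 6, 3, 2, 4, 6, 4, 6, 3, 4, 2, 3, 6, 2, 3, 1, 2, 3, 4, 2, 3, 6, 1, 2, 3, 1],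
  [3, 4, 0, 5, 0, 6, 3, 2, 6, 5, 3, 5, 4, 6, 3, 0, 5, 3, 1, 3, 2, 1, 4, 6, 3, 5, 3, 2, 3, 4, 1, 2, 3, 6, 3, 5, 3],
  [1, 2, 3, 0, 2, 6, 3, 2, 1, 3, 5, 2, 3, 6, 3, 0, 4, 3, 5, 4, 2, 3, 6, 4, 2, 3, 2, 3, 4, 1, 2],
  [5, 6, 1, 0, 3, 1, 4, 3, 0, 3, 6, 4, 6, 4, 3, 6, 2, 3, 1, 2, 3, 6, 1, 2, 3, 5, 6],
  [3, 5, 3, 4, 2, 3, 6, 2, 0, 3, 5, 2, 4, 5, 3, 6, 2, 4, 6, 3, 1, 2, 3, 5, 4, 3, 1, 2, 3, 6, 5, 3, 4],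
  [2, 4, 3, 6, 5, 2, 6, 4, 6, 0, 3, 0, 6, 4, 2, 4, 0, 1, 2, 3, 2, 1, 4, 2, 5, 3, 2, 3, 4, 1, 2, 3, 2, 3, 1, 2, 3, 5, 0],
  [5, 3, 6, 5, 3, 1, 4, 5, 2, 4, 3, 5, 4, 1, 2, 4, 5, 2, 2, 3, 4, 1, 2, 3, 6, 1, 2, 3, 2, 3, 5, 2],
  [5, 0, 6, 3, 2, 4, 6, 0, 3, 0, 5, 2, 5, 4, 6, 2, 1, 2, 4, 3, 5, 4, 2, 3, 5, 2, 3, 1, 2, 3, 6, 2, 3, 2, 1],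
  [5, 3, 1, 2, 1, 3, 0, 4, 2, 3, 4, 6, 4, 2, 3, 0, 1, 2, 3, 6, 3, 2, 3, 5, 0],
  [3, 6, 2, 3, 5, 6, 5, 2, 1, 4, 2, 3, 5, 0, 4, 3, 2, 5, 1, 3, 6, 0, 4, 3, 4, 2, 3, 2, 3, 5, 4, 3, 1, 2, 3, 0, 1, 0],
  [5, 0, 5, 1, 4, 1, 3, 2, 6, 0, 5, 6, 3, 2, 5, 3, 4, 1, 3, 4, 5, 2, 5, 3, 5, 1, 2, 3, 1, 2, 3, 6, 1, 2, 3, 2, 1],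
  [5, 3, 6, 3, 5, 2, 3, 1, 2, 3, 4, 3, 1, 2],
  [1, 0, 1, 0, 6, 3, 6, 1, 2, 4, 1, 0, 1, 0, 3, 2, 3, 2, 0, 6, 2, 3, 0, 1, 2, 3, 5, 1, 2, 3, 4, 1, 2, 1],
  [0, 6, 0, 2, 6, 1, 3, 2, 3, 0, 1, 2, 1, 6, 0, 3, 2, 6, 3, 5, 1, 2, 3, 2, 3, 5, 3, 4, 3, 1, 2],
  [6, 2, 1, 2, 0, 2, 3, 5, 3, 2, 3, 0, 2, 1, 0, 2, 3, 5, 0, 3, 6, 0, 5, 0, 3, 4, 2, 0, 6, 4, 3, 6, 4, 2, 3, 1, 2, 3, 2, 3, 1, 2, 3, 4],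
  [4, 1, 2, 5, 4, 6, 2, 4, 3, 0, 2, 0, 1, 4, 0, 2, 4, 3, 4, 5, 6, 4, 3, 2, 3, 6, 5, 3, 0, 1, 2, 3, 5, 6],
  [0, 4, 1, 6, 5, 1, 6, 3, 0, 2, 6, 3, 6, 0, 2, 3, 6, 1, 2, 3, 4, 2, 3, 1, 2, 3, 5, 1],
  [0, 3, 5, 0, 6, 5, 4, 1, 3, 0, 4, 2, 3, 0, 1, 5, 2, 1, 3, 0, 5, 2, 1, 3, 6, 2, 3, 2, 3, 6, 2, 3, 4, 1, 2, 3, 2],
  [6, 4, 3, 5, 1, 3, 0, 6, 1, 5, 3, 6, 3, 2, 3, 5, 1, 2, 3, 6, 1, 2, 3, 5, 6, 0],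
  [6, 1, 4, 5, 3, 0, 5, 4, 1, 2, 6, 1, 2, 3, 2, 1, 3, 2, 3, 6, 3, 2, 3, 1, 2, 3, 1, 2, 1, 0],
  [2, 4, 3, 0, 2, 4, 1, 2, 5, 3, 2, 6, 3, 6, 3, 4, 6, 4, 1, 5, 1, 2, 5, 2, 6, 0, 2, 3, 1, 2, 3, 2, 3, 1, 2, 3, 2, 3, 6, 4, 3],
  [1, 4, 1, 4, 5, 3, 4, 3, 6, 4, 3, 2, 0, 1, 4, 2, 3, 4, 6, 5, 6, 2, 3, 5, 2, 3, 6, 1, 2, 3, 5, 6, 0, 1],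
  [4, 5, 4, 5, 2, 6, 2, 5, 3, 2, 5, 1, 5, 1, 4, 6, 4, 3, 2, 5, 3, 2, 0, 6, 4, 1, 2, 3, 2, 3, 1, 2, 3, 4, 1, 2, 3],
  [4, 2, 3, 2, 3, 6, 3, 0, 1, 2, 3, 4, 2, 0],
  [4, 1, 0, 1, 2, 5, 3, 4, 2, 0, 3, 6, 0, 1, 3, 4, 3, 2, 3, 4, 1, 2, 3, 2, 3, 1, 2, 3],
  [2, 5, 4, 6, 3, 4, 5, 2, 4, 5, 3, 6, 5, 1, 3, 0, 5, 2, 3, 1, 4, 5, 0, 3, 0, 2, 3, 6, 3, 1, 2, 3, 2, 3, 4, 1, 2, 3],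
  [2, 1, 4, 3, 2, 3, 0, 5, 1, 2, 3, 2, 4, 0, 4, 1, 0, 1, 3, 6, 4, 0, 6, 1, 2, 3, 0, 1, 2, 3, 6, 1, 2, 3, 5, 0],
  [0, 2, 3, 1, 2, 4, 3, 5, 2, 3, 1, 2, 6, 3, 0, 6, 0, 4, 1, 5, 2, 5, 2, 1, 2, 5, 2, 5, 2, 3, 1, 2, 3, 5, 2, 3, 1, 2, 3, 6, 3, 5],
  [3, 5, 3, 2, 5, 6, 5, 6, 1, 2, 5, 0, 2, 3, 4, 2, 3, 2, 3, 1, 2, 3, 2, 3, 5, 4, 3, 2],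
  [3, 1, 0, 1, 6, 2, 0, 3, 1, 4, 1, 3, 1, 3, 2, 3, 5, 1, 2, 3, 1, 2, 3, 5, 2, 3, 6, 2],
  [2, 5, 1, 4, 3, 1, 5, 2, 1, 2, 3, 1, 5, 6, 2, 1, 3, 0, 3, 2, 4, 5, 4, 3, 6, 2, 3, 5, 0, 1, 2, 3, 1, 2, 0, 1],
  [3, 1, 3, 6, 2, 4, 6, 3, 6, 4, 0, 4, 2, 3, 5, 2, 1, 2, 5, 6, 3, 5, 4, 2, 3, 2, 3, 1, 2, 3, 6, 3, 1],
  [6, 3, 4, 1, 5, 1, 6, 2, 6, 4, 5, 3, 1, 5, 4, 3, 0, 4, 6, 2, 0, 1, 3, 6, 5, 3, 2, 3, 6, 1, 2, 3, 5, 2, 1, 0],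
  [0, 2, 3, 1, 4, 2, 1, 3, 2, 5, 4, 6, 1, 5, 4, 3, 4, 3, 4, 5, 2, 6, 3, 1, 2, 3, 5, 3, 2, 3, 1, 2, 3, 6, 3, 5],
  [1, 2, 3, 2, 1, 5, 2, 4, 3, 0, 5, 4, 6, 2, 4, 5, 3, 6, 1, 2, 3, 1, 2, 3, 5, 3, 4, 0, 1, 2],
  [4, 0, 4, 3, 1, 2, 1, 3, 0, 4, 2, 3, 2, 3, 1, 2, 3, 6, 4, 3, 2, 3, 5, 2],
  [0, 3, 1, 3, 6, 5, 3, 6, 5, 2, 3, 0, 4, 1, 3, 5, 6, 4, 6, 2, 3, 2, 3, 5, 3, 6, 1, 2, 3, 5, 6, 1],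
  [2, 5, 0, 3, 4, 5, 3, 0, 2, 4, 3, 4, 6, 4, 1, 2, 4, 6, 4, 3, 1, 2, 3, 4, 2, 3, 1, 2, 3, 5],
  [2, 4, 1, 3, 0, 6, 5, 1, 2, 4, 1, 3, 4, 5, 0, 2, 4, 6, 3, 5, 4, 3, 1, 2, 3, 6, 1, 2, 3, 5, 6, 0],
  [4, 2, 3, 4, 5, 1, 2, 1, 3, 2, 5, 0, 1, 3, 2, 0, 6, 3, 1, 2, 3, 4, 2, 3, 1, 2, 3, 5],
  [1, 2, 3, 1, 4, 3, 4, 6, 4, 6, 2, 3, 0, 6, 1, 2, 5, 1, 6, 3, 4, 6, 2, 1, 2, 3, 2, 3, 1, 2, 3, 4, 3, 1, 2, 3, 6, 2, 3],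
  [1, 5, 3, 1, 4, 1, 5, 2, 0, 3, 4, 2, 1, 5, 3, 2, 5, 4, 3, 1, 4, 0, 4, 2, 3, 6, 5, 3, 4, 2, 3, 1, 2, 3, 6, 1],
  [1, 6, 4, 2, 0, 1, 3, 2, 3, 6, 3, 1, 3, 4, 1, 4, 2, 3, 2, 5, 5, 3, 1, 2, 3, 6, 2, 3, 5, 1, 2, 3, 1, 2],
  [3, 2, 1, 6, 0, 2, 6, 0, 5, 4, 5, 2, 3, 6, 2, 6, 3, 6, 0, 2, 5, 4, 0, 1, 2, 3, 5, 4, 3, 2, 3, 6, 2, 3, 2, 3],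
  [0, 2, 3, 0, 5, 2, 1, 4, 2, 4, 2, 3, 4, 3, 2, 1, 5, 6, 0, 5, 2, 3, 4, 3, 2, 3, 1, 2, 3, 6, 1, 2, 3, 5, 0],
  [4, 2, 5, 0, 3, 4, 3, 0, 3, 2, 3, 4, 1, 6, 1, 4, 2, 3, 1, 2, 3, 4, 2, 3, 6, 1, 2, 3, 5],
  [0, 1, 2, 3, 2, 6, 1, 2, 0, 5, 1, 0, 4, 0, 1, 6, 4, 3, 2, 3, 6, 1, 2, 3, 2, 3, 6, 2, 3, 1],
  [0, 4, 0, 2, 1, 5, 3, 2, 3, 0, 5, 4, 3, 2, 3, 2, 3, 0, 4, 3, 2, 3, 1, 2, 3, 6, 3, 2, 3, 2, 0, 1],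
  [1, 4, 1, 6, 1, 4, 5, 3, 5, 2, 3, 2, 1, 2, 3, 2, 1, 2, 4, 0, 4, 6, 3, 0, 1, 2, 3, 1, 2, 3, 5, 3, 6, 1],
  [3, 2, 4, 6, 0, 6, 2, 6, 2, 3, 1, 2, 1, 3, 0, 6, 2, 0, 5, 1, 2, 3, 6, 2, 3, 2, 3, 5, 2, 3, 6, 2],
  [5, 4, 3, 6, 3, 4, 2, 3, 4, 1, 4, 6, 2, 4, 3, 2, 3, 6, 2, 3, 2, 3, 1, 2, 3, 5, 6, 1],
  [0, 1, 4, 2, 3, 4, 2, 0, 6, 3, 5, 2, 3, 1, 2, 3, 4, 5, 6, 3, 4, 2, 3, 5, 2, 3, 2, 3, 1, 2, 3, 6, 5, 0, 1],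
  [2, 3, 2, 3, 4, 3, 6, 3, 4, 6, 2, 0, 3, 0, 6, 4, 2, 6, 3, 1, 2, 3, 2, 3, 4, 1, 2, 3, 5, 3, 6, 3],
  [3, 2, 0, 5, 0, 6, 1, 5, 6, 3, 2, 6, 3, 1, 3, 6, 3, 2, 0, 1, 0, 1, 3, 6, 1, 2, 3, 5, 1, 2, 3, 6, 2, 3, 5, 6],
  [3, 4, 6, 1, 3, 5, 3, 0, 2, 1, 5, 0, 2, 3, 0, 6, 6, 5, 2, 3, 2, 3, 1, 2, 3, 5, 3, 4, 3],
  [3, 0, 6, 4, 6, 0, 2, 1, 3, 6, 3, 1, 3, 2, 6, 3, 1, 2, 3, 6, 2, 3, 1, 2, 3, 6, 3, 2, 3, 5, 4],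
  [4, 3, 2, 1, 4, 6, 1, 3, 0, 2, 3, 0, 5, 2, 1, 0, 4, 2, 5, 0, 4, 0, 3, 5, 2, 3, 6, 1, 2, 3, 5, 2, 3, 2, 3, 6],
  [0, 4, 2, 0, 3, 4, 2, 5, 0, 4, 3, 2, 3, 0, 4, 1, 6, 3, 2, 5, 3, 6, 2, 3, 2, 3, 4, 1, 2, 3, 5, 2, 3, 4, 2],
  [2, 3, 1, 3, 4, 1, 3, 2, 5, 3, 2, 1, 3, 2, 5, 1, 6, 1, 6, 5, 3, 0, 6, 2, 3, 2, 0, 5, 3, 6, 3, 4, 3, 1, 2, 3, 5, 2, 3, 4, 2],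
  [0, 4, 3, 1, 4, 1, 0, 5, 3, 1, 2, 4, 3, 1, 6, 5, 3, 5, 2, 6, 5, 6, 3, 5, 4, 1, 2, 3, 2, 3, 6, 4, 1, 2],
  [1, 0, 4, 5, 6, 5, 1, 0, 5, 0, 6, 1, 3, 1, 0, 6, 3, 1, 2, 1, 3, 2, 3, 6, 2, 3, 2, 3, 6, 4, 2, 3, 1, 2, 3, 5, 6],
  [1, 2, 3, 4, 2, 1, 6, 3, 5, 0, 3, 6, 3, 4, 2, 6, 3, 2, 3, 2, 5, 6, 2, 1, 5, 2, 1, 3, 2, 3, 5, 6, 1, 2, 3, 5, 6, 3, 0, 1],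
  [3, 1, 6, 3, 1, 6, 2, 3, 4, 0, 2, 3, 4, 2, 4, 5, 1, 0, 2, 3, 2, 3, 1, 2, 3, 5, 1, 2, 3, 6, 4, 3],
  [5, 0, 6, 1, 3, 0, 2, 4, 2, 0, 3, 1, 2, 3, 2, 3, 1, 2, 3, 2, 3, 6, 5, 3, 2],
  [1, 2, 1, 3, 4, 6, 5, 6, 2, 3, 5, 4, 3, 1, 4, 5, 4, 2, 1, 3, 4, 2, 0, 6, 3, 1, 6, 5, 2, 3, 2, 3, 0, 1, 2, 3, 6, 4, 3, 2],
  [0, 6, 1, 3, 0, 2, 0, 3, 6, 3, 0, 5, 6, 2, 1, 6, 5, 2, 3, 6, 5, 6, 2, 3, 5, 4, 1, 2, 3, 2, 3, 6, 3, 1, 0],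
  [5, 1, 6, 4, 2, 0, 4, 3, 1, 4, 6, 2, 3, 4, 2, 1, 3, 2, 6, 3, 2, 5, 4, 3, 2, 3, 1, 2, 3, 5, 4, 3, 0, 1, 0],
  [4, 3, 6, 1, 6, 2, 6, 3, 2, 4, 0, 1, 6, 3, 5, 4, 2, 6, 3, 1, 6, 0, 2, 3, 2, 3, 4, 3, 1, 2, 3, 6, 3, 2, 1],
  [4, 3, 2, 5, 6, 1, 3, 2, 0, 5, 3, 2, 5, 4, 1, 0, 3, 6, 2, 6, 3, 4, 2, 3, 6, 1, 3, 4, 2, 3, 6, 2, 3, 1, 2, 3, 5, 2, 1],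
  [1, 5, 6, 3, 5, 2, 4, 1, 2, 3, 2, 1, 3, 4, 2, 0, 3, 1, 4, 6, 0, 2, 5, 3, 6, 3, 2, 3, 5, 1, 2, 3, 6, 5, 3, 1],
  [1, 5, 3, 1, 5, 2, 6, 4, 5, 4, 6, 0, 3, 0, 2, 3, 1, 4, 6, 3, 4, 2, 3, 6, 2, 3, 4, 0, 1, 2, 3, 5],
  [5, 4, 6, 3, 2, 1, 2, 3, 6, 0, 5, 1, 3, 0, 0, 1, 2, 3, 4, 1, 2, 3, 6, 5, 2, 3, 2, 1],
  [3, 6, 0, 2, 3, 2, 3, 0, 2, 0, 2, 4, 3, 6, 2, 1, 3, 5, 6, 5, 2, 3, 6, 2, 3, 1, 2, 3, 1, 2, 3, 4],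
  [3, 0, 2, 5, 4, 3, 4, 2, 6, 2, 1, 2, 5, 3, 1, 6, 2, 1, 3, 1, 6, 2, 3, 2, 3, 4, 3, 1, 2, 3, 6, 2, 3, 1, 2, 3, 2, 3, 1],
  [5, 6, 3, 6, 3, 0, 6, 0, 2, 1, 0, 2, 5, 2, 4, 5, 3, 2, 3, 6, 4, 3, 2, 3, 6, 1, 2, 3, 5],
  [2, 3, 2, 6, 1, 3, 2, 4, 3, 0, 3, 0, 3, 1, 6, 2, 5, 6, 1, 6, 5, 4, 3, 2, 3, 0, 6, 3, 1, 2, 3, 6, 1, 2, 3, 1, 2, 3, 6, 4, 0, 1],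
  [3, 6, 0, 4, 3, 0, 3, 2, 0, 3, 1, 5, 2, 4, 0, 6, 1, 6, 3, 2, 0, 6, 3, 5, 6, 3, 4, 2, 3, 0, 1, 2, 3, 5, 0],
  [4, 0, 3, 5, 2, 4, 5, 6, 3, 2, 5, 0, 1, 5, 3, 5, 0, 2, 4, 5, 3, 6, 2, 3, 1, 4, 2, 3, 5, 3, 6, 3, 4, 1, 2, 3, 2, 1],
  [0, 6, 5, 3, 5, 2, 0, 4, 6, 1, 3, 2, 4, 5, 6, 2, 3, 2, 3, 4, 3, 0, 1, 2, 3, 5, 6],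
  [0, 1, 3, 2, 5, 3, 2, 5, 4, 0, 3, 5, 1, 6, 2, 3, 2, 6, 2, 5, 6, 5, 1, 3, 2, 5, 1, 3, 1, 2, 3, 4, 1, 2, 3, 5, 2, 1],
  [4, 2, 5, 3, 4, 2, 5, 3, 1, 2, 6, 4, 6, 3, 5, 0, 6, 1, 3, 1, 2, 3, 1, 2, 3, 6, 1, 2, 3, 5, 1, 2, 1],
  [6, 1, 3, 2, 3, 5, 3, 6, 2, 6, 4, 6, 0, 6, 3, 1, 6, 2, 3, 6, 3, 6, 0, 5, 2, 3, 0, 1, 2, 3, 1, 2, 3, 5, 1, 2, 3, 2],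
  [6, 5, 3, 4, 2, 5, 3, 5, 4, 0, 5, 0, 5, 1, 2, 5, 1, 2, 4, 3, 0, 5, 2, 3, 0, 5, 2, 3, 5, 4, 1, 2, 3, 2, 3, 1, 2, 3, 4, 0],
  [0, 3, 2, 6, 3, 2, 0, 6, 3, 6, 2, 6, 1, 3, 2, 4, 3, 2, 1, 3, 6, 3, 2, 3, 5, 4, 1, 2, 3, 2, 1, 0],
  [5, 4, 3, 0, 2, 5, 6, 3, 2, 0, 3, 5, 1, 2, 3, 5, 1, 2, 3, 5, 6, 2, 3, 5, 4, 1, 2, 3, 2, 3, 4],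
  [2, 6, 1, 3, 1, 5, 1, 6, 2, 3, 4, 2, 1, 3, 6, 2, 5, 3, 5, 0, 6, 4, 1, 3, 1, 6, 2, 3, 1, 2, 3, 5, 3, 2, 3, 6, 5, 2, 1],
  [6, 4, 5, 1, 4, 3, 5, 1, 6, 4, 5, 2, 3, 5, 6, 1, 2, 3, 6, 4, 3, 2, 3, 4, 1, 2, 3, 5, 6],
  [1, 3, 2, 3, 0, 1, 5, 1, 5, 1, 2, 1, 3, 5, 2, 1, 3, 2, 5, 2, 4, 0, 4, 3, 4, 2, 3, 2, 3, 6, 5, 3, 1, 2, 3, 2, 1],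
  [5, 3, 6, 1, 3, 6, 0, 4, 0, 1, 3, 2, 3, 6, 1, 2, 3, 4, 3, 1, 2, 3, 5, 6],
  [0, 6, 5, 0, 1, 3, 4, 6, 2, 5, 3, 5, 6, 3, 4, 0, 1, 2, 4, 3, 5, 6, 3, 2, 3, 1, 2, 3, 5, 6, 0],
  [2, 4, 3, 0, 6, 2, 6, 3, 2, 1, 0, 2, 5, 1, 5, 1, 6, 3, 4, 6, 0, 3, 5, 2, 3, 6, 2, 3, 0, 1, 2, 3, 1, 2, 3, 4],
  [2, 6, 3, 5, 2, 0, 1, 6, 3, 2, 5, 6, 4, 6, 0, 4, 3, 6, 5, 0, 6, 2, 3, 5, 0, 1, 2, 3, 6, 4, 3, 5, 1, 2, 3, 4, 1, 2],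
  [4, 6, 5, 2, 3, 4, 5, 1, 2, 3, 0, 2, 5, 0, 6, 0, 6, 2, 4, 1, 0, 3, 2, 3, 5, 2, 3, 1, 2, 3, 2, 3, 1, 2, 3, 5, 6, 3],
  [3, 0, 2, 6, 3, 2, 4, 3, 0, 1, 2, 5, 6, 5, 4, 0, 1, 6, 2, 6, 3, 0, 2, 3, 6, 2, 3, 1, 2, 3, 4, 1, 2, 3, 2, 3],
  [0, 6, 5, 3, 5, 0, 6, 2, 6, 1, 3, 4, 2, 3, 6, 5, 3, 4, 2, 3, 2, 3, 1, 2, 3, 5, 6],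
  [2, 4, 1, 5, 2, 1, 6, 2, 0, 3, 6, 4, 1, 2, 4, 0, 6, 1, 2, 3, 2, 3, 5, 6, 3, 2, 3, 0, 1, 2, 3, 5, 3, 6],
  [3, 0, 1, 4, 0, 5, 4, 3, 2, 5, 0, 3, 2, 1, 2, 6, 1, 0, 5, 4, 5, 3, 6, 2, 3, 2, 3, 1, 2, 3, 6, 2, 3, 5],
  [2, 3, 0, 4, 5, 2, 0, 3, 2, 1, 6, 4, 3, 2, 3, 6, 3, 1, 2, 3, 4, 1, 2, 3, 5],
  [6, 2, 3, 4, 2, 6, 5, 1, 2, 6, 2, 3, 2, 5, 0, 3, 1, 2, 3, 5, 2, 3, 4, 1, 2, 3, 6, 4, 2, 3],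
  [0, 2, 1, 5, 3, 4, 6, 1, 3, 5, 4, 2, 6, 1, 6, 2, 3, 2, 5, 3, 4, 2, 6, 0, 1, 5, 0, 2, 6, 3, 5, 2, 3, 4, 2, 3, 1, 2, 3, 1],
  [2, 1, 4, 3, 4, 5, 2, 1, 0, 3, 1, 4, 2, 3, 6, 4, 2, 3, 5, 6, 0, 1, 5, 2, 3, 1, 2, 3, 6, 4, 3, 5, 4, 2, 3, 1],
  [3, 4, 0, 2, 4, 3, 4, 2, 3, 2, 4, 5, 6, 1, 6, 2, 5, 4, 0, 5, 4, 3, 6, 2, 3, 5, 1, 2, 3, 0, 1, 2, 3, 4],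
  [1, 0, 3, 0, 5, 3, 2, 1, 3, 6, 0, 2, 3, 1, 0, 5, 4, 6, 5, 1, 2, 4, 3, 5, 1, 2, 3, 5, 2, 3, 4, 1, 2, 3, 6, 1, 2, 0],
  [0, 4, 2, 3, 2, 3, 2, 1, 2, 3, 2, 5, 6, 4, 3, 6, 3, 2, 5, 3, 5, 4, 3, 0, 1, 2, 3, 4, 1, 2, 3, 2, 3],
  [5, 3, 2, 0, 3, 4, 1, 0, 3, 4, 0, 2, 4, 3, 6, 0, 3, 6, 4, 5, 2, 5, 6, 3, 1, 4, 0, 3, 4, 2, 3, 2, 3, 5, 3, 1, 2, 3, 4, 0, 1, 2],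
  [1, 4, 5, 1, 6, 4, 0, 4, 5, 0, 3, 1, 6, 2, 3, 5, 2, 1, 2, 0, 3, 2, 3, 5, 2, 3, 1, 2, 3, 1, 2, 3, 5, 3, 4],
  [2, 1, 0, 1, 3, 5, 2, 0, 2, 6, 3, 2, 4, 3, 4, 2, 3, 6, 4, 3, 1, 2, 3, 2, 3, 6, 5, 3, 2],
  [1, 4, 1, 2, 1, 3, 2, 5, 3, 4, 6, 3, 5, 2, 3, 1, 5, 3, 2, 4, 3, 5, 2, 3, 0, 1, 2, 3, 6, 3, 1, 2, 0],
  [5, 4, 1, 5, 3, 2, 6, 0, 1, 5, 3, 2, 0, 1, 5, 3, 5, 4, 2, 3, 6, 4, 3, 5, 3, 6, 1, 2, 3, 1, 2, 3, 5, 4, 1, 0],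
  [0, 4, 3, 2, 3, 4, 1, 2, 0, 3, 1, 6, 3, 1, 3, 1, 6, 6, 2, 3, 5, 2, 3, 6, 4, 1, 2, 3, 2, 3, 4],
  [6, 5, 0, 3, 0, 6, 2, 6, 1, 5, 2, 6, 3, 2, 3, 6, 5, 3, 2, 3, 4, 0, 1, 2, 3, 5, 3, 6],
  [6, 3, 1, 0, 1, 3, 5, 1, 3, 1, 0, 1, 0, 4, 1, 0, 2, 3, 1, 2, 4, 3, 6, 4, 3, 5, 2, 3, 6, 1, 2, 3, 5, 6],
  [5, 6, 3, 2, 3, 1, 5, 0, 5, 6, 3, 2, 6, 3, 4, 2, 6, 3, 4, 0, 1, 2, 3, 5, 6, 4, 3, 2, 3, 1, 2, 3, 6, 2, 3, 4, 1, 2, 3, 2, 1],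
  [5, 3, 0, 5, 1, 3, 4, 1, 3, 2, 3, 5, 3, 6, 3, 1, 2, 4, 1, 3, 5, 2, 1, 4, 5, 6, 3, 1, 2, 3, 6, 0, 1, 2, 3, 2, 0, 1],
  [2, 1, 2, 0, 3, 4, 6, 2, 1, 3, 4, 5, 4, 1, 2, 1, 2, 5, 4, 3, 6, 5, 6, 2, 3, 1, 2, 3, 4, 2, 3, 0, 1, 2, 3],
  [5, 0, 3, 2, 3, 1, 4, 3, 5, 2, 1, 5, 6, 1, 6, 0, 4, 0, 4, 6, 3, 2, 3, 6, 4, 3, 0, 1, 2, 3, 4, 2, 3, 5, 0],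
  [2, 4, 6, 5, 0, 3, 2, 1, 4, 0, 3, 2, 3, 2, 6, 1, 5, 1, 4, 6, 1, 2, 3, 5, 3, 6, 3, 2, 3, 4, 0, 1, 2],
  [5, 0, 2, 3, 4, 2, 6, 4, 3, 2, 1, 0, 2, 6, 1, 3, 5, 0, 2, 0, 3, 4, 2, 3, 6, 3, 5, 1, 2, 3, 6, 2, 3, 0, 1, 2, 3, 5, 4],
  [0, 6, 1, 5, 0, 3, 1, 6, 4, 1, 2, 3, 1, 5, 4, 5, 6, 5, 3, 6, 2, 3, 5, 6, 3, 1, 2, 3, 5, 6, 1],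
  [2, 5, 4, 0, 5, 6, 3, 2, 6, 2, 4, 5, 3, 1, 2, 0, 3, 1, 2, 4, 6, 3, 2, 6, 3, 1, 2, 3, 5, 4, 3, 6, 2, 3, 4, 1, 2, 0],
  [0, 6, 5, 3, 4, 1, 6, 2, 6, 0, 5, 4, 2, 5, 6, 5, 2, 1, 2, 3, 2, 3, 5, 6, 3, 2, 3, 4, 3, 1, 2, 3, 5, 6]]

end CfsgLib.Spor.HeldOut
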